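import Mathlib

set_option autoImplicit false

namespace Cfsg.Agent.Helper9

open Subgroup

/-- An element of odd order normalizing a cyclic `2`-subgroup centralizes it. -/
theorem mem_centralizer_of_isCyclic_two_group {G : Type*} [Group G] [Finite G] (H : Subgroup G)
    (hc : IsCyclic H) (h2 : IsPGroup 2 H) (g : G) (hg : g ∈ normalizer (H : Set G))
    (hodd : Odd (orderOf g)) : g ∈ centralizer (H : Set G) := by
  set α := H.normalizerMonoidHom ⟨g, hg⟩ with hα
  have h1 : orderOf α ∣ orderOf g := by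
    have := orderOf_map_dvd H.normalizerMonoidHom (⟨g, hg⟩ : normalizer (H : Set G))
    rwa [Subgroup.orderOf_mk] at this
  have h2' : orderOf α ∣ Nat.card (MulAut H) := orderOf_dvd_natCard α
  rw [IsCyclic.card_mulAut] at h2'
  obtain ⟨a, ha⟩ := h2.exists_card_eq
  rw [ha] at h2'
  have h3 : ∃ b, Nat.totient (2 ^ a) = 2 ^ b := by
    rcases a with _ | a
    · exact ⟨0, by simp⟩
    · exact ⟨a, by rw [Nat.totient_prime_pow_succ Nat.prime_two]; simp⟩
  obtain ⟨b, hb⟩ := h3
  rw [hb] at h2'
  have hcop : Nat.Coprime (orderOf g) (2 ^ b) :=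
    Nat.Coprime.pow_right _ (Nat.coprime_two_right.mpr hodd)
  have h4 : orderOf α = 1 := Nat.eq_one_of_dvd_coprimes hcop h1 h2'
  rw [orderOf_eq_one_iff] at h4
  have h5 : (⟨g, hg⟩ : normalizer (H : Set G)) ∈ H.normalizerMonoidHom.ker := h4
  rw [normalizerMonoidHom_ker, mem_subgroupOf] at h5
  exact h5

/-- If `g` of odd order normalizes the `2`-group `Q` and centralizes a subgroup `H` of index at
most `2` in `Q`, then `g` centralizes `Q`. -/
theorem mem_centralizer_of_relIndex_dvd_two {G : Type*} [Group G] [Finite G] (Q H : Subgroup G)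
    (hHQ : H ≤ Q) (hQ2 : IsPGroup 2 Q) (hidx : H.relIndex Q ∣ 2) (g : G)
    (hgQ : g ∈ normalizer (Q : Set G)) (hgH : g ∈ centralizer (H : Set G))
    (hodd : Odd (orderOf g)) : g ∈ centralizer (Q : Set G) := by
  have hc : ∀ x ∈ Q, ∀ y ∈ Q, x ∉ H → y ∉ H → x⁻¹ * y ∈ H := by
    intro x hx y hy hxH hyH
    have h12 : H.relIndex Q = 1 ∨ H.relIndex Q = 2 := by
      have := (Nat.dvd_prime Nat.prime_two).mp hidx
      exact this
    rcases h12 with h1 | h2
    · exact absurd (Subgroup.relIndex_eq_one.mp h1 hx) hxH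
    · have key := Subgroup.mul_mem_iff_of_index_two (H := H.subgroupOf Q) h2
        (a := ⟨x⁻¹, Q.inv_mem hx⟩) (b := ⟨y, hy⟩)
      simp only [mem_subgroupOf, Subgroup.coe_mul] at key
      rw [key]
      constructor
      · intro h; exact absurd (by simpa using H.inv_mem h) hxH
      · intro h; exact absurd h hyH
  rw [mem_centralizer_iff]
  intro x hx
  rw [mem_centralizer_iff] at hgH
  by_cases hxH : x ∈ H
  · exact hgH x hxH
  have hyQ : g * x * g⁻¹ ∈ Q := (mem_normalizer_iff.mp hgQ x).mp hx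
  have hyH : g * x * g⁻¹ ∉ H := by
    intro hy
    apply hxH
    have h1 := hgH _ hy
    have h2 : x = g * x * g⁻¹ := by
      have : g * x * g⁻¹ * g = g * (g * x * g⁻¹) := h1
      have h3 : g * x = g * (g * x * g⁻¹) := by rw [← this]; group
      exact mul_left_cancel h3
    rw [h2]; exact hy
  have hcH : x⁻¹ * (g * x * g⁻¹) ∈ H := hc x hx _ hyQ hxH hyH
  set c := x⁻¹ * (g * x * g⁻¹) with hcdef
  have hgc : c * g = g * c := hgH c hcH
  have hy : g * x * g⁻¹ = x * c := by rw [hcdef]; group
  have hpow : ∀ j : ℕ, g ^ j * x * (g ^ j)⁻¹ = x * c ^ j := by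
    intro j
    induction j with
    | zero => simp
    | succ j ih =>
      have hgcj : g * c ^ j * g⁻¹ = c ^ j := by
        have : Commute g c := hgc.symm
        have h2 : Commute g (c ^ j) := this.pow_right j
        rw [h2.eq]; group
      calc g ^ (j + 1) * x * (g ^ (j + 1))⁻¹ = g * (g ^ j * x * (g ^ j)⁻¹) * g⁻¹ := by
            rw [pow_succ']; group
        _ = g * (x * c ^ j) * g⁻¹ := by rw [ih]
        _ = (g * x * g⁻¹) * (g * c ^ j * g⁻¹) := by group
        _ = x * c * c ^ j := by rw [hy, hgcj]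
        _ = x * c ^ (j + 1) := by rw [pow_succ', mul_assoc]
  have h1 := hpow (orderOf g)
  rw [pow_orderOf_eq_one] at h1
  have hcj : c ^ orderOf g = 1 := by
    have : x * 1 = x * c ^ orderOf g := by simpa using h1
    exact (mul_left_cancel this).symm
  have hd1 : orderOf c ∣ orderOf g := orderOf_dvd_of_pow_eq_one hcj
  obtain ⟨k, hk⟩ := hQ2 ⟨c, hHQ hcH⟩
  have hd2 : orderOf c ∣ 2 ^ k := by
    apply orderOf_dvd_of_pow_eq_one
    have := congrArg Subtype.val hk
    simpa using this
  have hcop : Nat.Coprime (orderOf g) (2 ^ k) :=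
    Nat.Coprime.pow_right _ (Nat.coprime_two_right.mpr hodd)
  have hc1 : orderOf c = 1 := Nat.eq_one_of_dvd_coprimes hcop hd1 hd2
  rw [orderOf_eq_one_iff] at hc1
  rw [hc1, mul_one] at hy
  calc x * g = (g * x * g⁻¹) * g := by rw [hy]
    _ = g * x := by group

/-- The "sign" homomorphism of a dihedral group, killing the rotations. -/
def dihedralSign (n : ℕ) : DihedralGroup n →* Multiplicative (ZMod 2) where
  toFun x := match x with
    | DihedralGroup.r _ => 1
    | DihedralGroup.sr _ => Multiplicative.ofAdd 1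
  map_one' := rfl
  map_mul' := by
    rintro (i | i) (j | j)
    · rfl
    · rfl
    · rfl
    · change (1 : Multiplicative (ZMod 2)) = Multiplicative.ofAdd 1 * Multiplicative.ofAdd 1
      decide

theorem dihedralSign_eq_one_iff {n : ℕ} (x : DihedralGroup n) :
    dihedralSign n x = 1 ↔ ∃ i, x = DihedralGroup.r i := by
  rcases x with i | i
  · exact ⟨fun _ => ⟨i, rfl⟩, fun _ => rfl⟩
  · constructor
    · intro h
      exfalso
      change Multiplicative.ofAdd (1 : ZMod 2) = 1 at h
      revert h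
      decide
    · rintro ⟨j, hj⟩
      cases hj

theorem dihedral_r_mem_zpowers {n : ℕ} (i : ZMod n) :
    (DihedralGroup.r i : DihedralGroup n) ∈ zpowers (DihedralGroup.r 1 : DihedralGroup n) := by
  refine ⟨(i.cast : ℤ), ?_⟩
  simp only
  rw [DihedralGroup.r_one_zpow]
  congr 1
  exact ZMod.intCast_zmod_cast i

theorem card_mul_relIndex_of_le {G : Type*} [Group G] {H Q : Subgroup G} (hHQ : H ≤ Q) :
    Nat.card H * H.relIndex Q = Nat.card Q := by
  have := Subgroup.relIndex_mul_relIndex ⊥ H Q bot_le hHQ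
  rwa [Subgroup.relIndex_bot_left, Subgroup.relIndex_bot_left] at this

/-- **Automorphisms of subgroups of dihedral groups.**  If the `2`-subgroup `Q` of `G` embeds in a
dihedral group, and `g` has odd order, normalizes `Q` and centralizes an involution `t ∈ Q`, then
`g` centralizes `Q`. -/
theorem mem_centralizer_of_embeds_dihedral {G : Type*} [Group G] [Finite G] {n : ℕ}
    (Q : Subgroup G) (hQ : IsPGroup 2 Q) (ψ : Q →* DihedralGroup n) (hψ : Function.Injective ψ)
    (g : G) (hgN : g ∈ normalizer (Q : Set G)) (hodd : Odd (orderOf g))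
    (t : G) (htQ : t ∈ Q) (ht : orderOf t = 2) (hgt : g * t = t * g) :
    g ∈ centralizer (Q : Set G) := by
  obtain ⟨H0, hH0⟩ : ∃ H0 : Subgroup Q, H0 = ((dihedralSign n).comp ψ).ker := ⟨_, rfl⟩
  obtain ⟨H, hH⟩ : ∃ H : Subgroup G, H = H0.map Q.subtype := ⟨_, rfl⟩
  have hHQ : H ≤ Q := by
    rw [hH]
    rintro _ ⟨y, _, rfl⟩; exact y.2
  have hmem0 : ∀ y : Q, y ∈ H0 ↔ ∃ i, ψ y = DihedralGroup.r i := by
    intro y
    rw [hH0, MonoidHom.mem_ker, MonoidHom.comp_apply, dihedralSign_eq_one_iff]
  have hmem : ∀ x (hx : x ∈ Q), x ∈ H ↔ ∃ i, ψ ⟨x, hx⟩ = DihedralGroup.r i := by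
    intro x hx
    rw [hH, Subgroup.mem_map]
    constructor
    · rintro ⟨y, hy, rfl⟩
      exact (hmem0 y).mp hy
    · intro h
      exact ⟨⟨x, hx⟩, (hmem0 _).mpr h, rfl⟩
  -- (a) H cyclic
  have hcyc0 : IsCyclic H0 := by
    let f : H0 →* zpowers (DihedralGroup.r 1 : DihedralGroup n) :=
      (ψ.comp H0.subtype).codRestrict _ (fun y => by
        obtain ⟨i, hi⟩ := (hmem0 y.1).mp y.2
        change ψ y.1 ∈ _
        rw [hi]
        exact dihedral_r_mem_zpowers i)
    have hf : Function.Injective f := by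
      intro a b hab
      have := congrArg Subtype.val hab
      change ψ a.1 = ψ b.1 at this
      exact Subtype.ext (hψ this)
    exact isCyclic_of_injective f hf
  have hcyc : IsCyclic H := by
    have e : H0 ≃* H := hH ▸ H0.equivMapOfInjective Q.subtype Q.subtype_injective
    exact isCyclic_of_surjective e e.surjective
  -- (b)
  have hb : ∀ x ∈ Q, x ∉ H → x * x = 1 := by
    intro x hx hxH
    rw [hmem x hx] at hxH
    push Not at hxH
    rcases hψx : ψ ⟨x, hx⟩ with i | i
    · exact absurd hψx (hxH i)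
    · have h1 : ψ (⟨x, hx⟩ * ⟨x, hx⟩) = 1 := by
        rw [map_mul, hψx, DihedralGroup.sr_mul_self]
      have h2 : (⟨x, hx⟩ * ⟨x, hx⟩ : Q) = 1 := hψ (by rw [h1, map_one])
      exact congrArg Subtype.val h2
  -- (c')
  have hidx : H.relIndex Q ∣ 2 := by
    have h1 : H.subgroupOf Q = H0 := by
      rw [hH]
      exact Subgroup.comap_map_eq_self_of_injective Q.subtype_injective H0
    rw [Subgroup.relIndex, h1, hH0, Subgroup.index_ker]
    have h2 := Subgroup.card_subgroup_dvd_card ((dihedralSign n).comp ψ).range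
    have h3 : Nat.card (Multiplicative (ZMod 2)) = 2 := by
      rw [Nat.card_eq_fintype_card]; rfl
    rwa [h3] at h2
  have hHp : IsPGroup 2 H := hQ.to_le hHQ
  by_cases hB : ∃ h ∈ H, h * h ≠ 1
  · -- Case B
    obtain ⟨c, hc⟩ := hcyc.exists_generator
    have hpowc : ∀ h ∈ H, ∃ k : ℤ, h = (c : G) ^ k := by
      intro h hh
      obtain ⟨k, hk⟩ := Subgroup.mem_zpowers_iff.mp (hc ⟨h, hh⟩)
      refine ⟨k, ?_⟩
      have := congrArg Subtype.val hk
      simpa using this.symm
    have hcc : (c : G) * c ≠ 1 := by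
      intro hcc
      obtain ⟨h', hh', hne⟩ := hB
      apply hne
      obtain ⟨k, hk⟩ := hpowc h' hh'
      rw [hk, ← zpow_add, ← two_mul, zpow_mul]
      have : (c : G) ^ (2 : ℤ) = 1 := by rw [zpow_two]; exact hcc
      rw [this, one_zpow]
    have hconj : ∀ g' ∈ normalizer (Q : Set G), ∀ h ∈ H, g' * h * g'⁻¹ ∈ H := by
      intro g' hg' h hh
      have hgc : g' * c * g'⁻¹ ∈ H := by
        by_contra hn
        have hQc : g' * c * g'⁻¹ ∈ Q := (mem_normalizer_iff.mp hg' c).mp (hHQ c.2)
        have h2 := hb _ hQc hn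
        apply hcc
        have h3 : g' * ((c : G) * c) * g'⁻¹ = 1 := by rw [← h2]; group
        have h4 : (c : G) * c = g'⁻¹ * (g' * ((c : G) * c) * g'⁻¹) * g' := by group
        rw [h4, h3]; group
      obtain ⟨k, hk⟩ := hpowc h hh
      rw [hk]
      have h5 : g' * (c : G) ^ k * g'⁻¹ = (g' * c * g'⁻¹) ^ k := (conj_zpow).symm
      rw [h5]
      exact H.zpow_mem hgc k
    have hgNH : g ∈ normalizer (H : Set G) := by
      rw [mem_normalizer_iff]
      intro h
      constructor
      · exact hconj g hgN h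
      · intro hh
        have h6 := hconj g⁻¹ (Subgroup.inv_mem _ hgN) _ hh
        have h7 : g⁻¹ * (g * h * g⁻¹) * g⁻¹⁻¹ = h := by group
        rwa [h7] at h6
    have hgCH := mem_centralizer_of_isCyclic_two_group H hcyc hHp g hgNH hodd
    exact mem_centralizer_of_relIndex_dvd_two Q H hHQ hQ hidx g hgN hgCH hodd
  · -- Case A
    push Not at hB
    have hcardH : Nat.card H ∣ 2 := by
      rw [← IsCyclic.exponent_eq_card]
      apply Monoid.exponent_dvd_of_forall_pow_eq_one
      intro h
      apply Subtype.ext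
      have := hB h.1 h.2
      simp [pow_two, this]
    have hcardQ : Nat.card Q ∣ 2 * 2 := by
      rw [← card_mul_relIndex_of_le hHQ]
      exact Nat.mul_dvd_mul hcardH hidx
    have hKQ : zpowers t ≤ Q := zpowers_le.mpr htQ
    have hKcard : Nat.card (zpowers t) = 2 := by rw [Nat.card_zpowers, ht]
    have hKidx : (zpowers t).relIndex Q ∣ 2 := by
      have h1 := card_mul_relIndex_of_le hKQ
      rw [hKcard] at h1
      rw [← h1] at hcardQ
      exact (Nat.mul_dvd_mul_iff_left (by norm_num)).mp hcardQ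
    have hgK : g ∈ centralizer ((zpowers t : Subgroup G) : Set G) := by
      rw [mem_centralizer_iff]
      intro k hk
      obtain ⟨j, rfl⟩ := Subgroup.mem_zpowers_iff.mp hk
      have hc : Commute g t := hgt
      exact (hc.zpow_right j).eq.symm
    exact mem_centralizer_of_relIndex_dvd_two Q (zpowers t) hKQ hQ hKidx g hgN hgK hodd

end Cfsg.Agent.Helper9
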