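import Mathlib
import Cfsg.Agent.Helper17.SylowKit

set_option autoImplicit false

namespace Cfsg.Agent.Helper9

open Subgroup

/-- The numerical conditions a Sylow count `np` must satisfy in a non-abelian simple group of
order `n = p ^ k * m`. -/
def npOK (n p k m np : ℕ) : Bool :=
  decide (np ∣ m) && (np % p == 1) && (np != 1) && decide (2 * n ∣ np.factorial) &&
    ((k != 1) || (List.range p).any fun d => decide (1 < d) && decide (d ∣ p - 1) &&
      decide (p * d ∣ n / np))

/-- No admissible Sylow count exists. -/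
def sieveDead (p k m : ℕ) : Bool :=
  (List.range (m + 1)).all fun np => !npOK (p ^ k * m) p k m np

theorem isCyclic_of_simple_of_comm {G : Type*} [Group G] [Finite G] [IsSimpleGroup G]
    (h : IsMulCommutative G) : IsCyclic G := by
  let : CommGroup G := { (inferInstance : Group G) with mul_comm := fun a b => h.is_comm.comm a b }
  exact IsSimpleGroup.isCyclic

theorem sylow_count_ok {G : Type*} [Group G] [Finite G] [IsSimpleGroup G]
    (hG : ¬ IsMulCommutative G) (p k m : ℕ) (hp : p.Prime)
    (hcard : Nat.card G = p ^ k * m) (hm : ¬ p ∣ m) (hk : k ≠ 0) (hm1 : m ≠ 1) :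
    npOK (p ^ k * m) p k m (Nat.card (Sylow p G)) = true := by
  have : Fact p.Prime := ⟨hp⟩
  obtain ⟨P⟩ : Nonempty (Sylow p G) := inferInstance
  have hdvd : Nat.card (Sylow p G) ∣ m := Helper17.card_sylow_dvd_of_card_eq hcard hm
  have hmod : Nat.card (Sylow p G) ≡ 1 [MOD p] := card_sylow_modEq_one p G
  have hne1 : Nat.card (Sylow p G) ≠ 1 := Helper17.card_sylow_ne_one_of_simple hcard hm hk hm1
  have hNtop : normalizer ((P : Subgroup G) : Set G) ≠ ⊤ := by
    intro h
    apply hne1
    rw [P.card_eq_index_normalizer]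
    exact (congrArg Subgroup.index h).trans Subgroup.index_top
  have hfact : 2 * (p ^ k * m) ∣ (Nat.card (Sylow p G)).factorial := by
    have := Helper17.two_mul_card_dvd_factorial_index hG _ hNtop
    rw [hcard] at this
    rw [P.card_eq_index_normalizer]
    exact this
  have hmod' : Nat.card (Sylow p G) % p = 1 := by
    have := hmod
    unfold Nat.ModEq at this
    rw [this]
    exact Nat.mod_eq_of_lt hp.one_lt
  unfold npOK
  simp only [Bool.and_eq_true, decide_eq_true_eq, beq_iff_eq, bne_iff_ne, ne_eq, Bool.or_eq_true,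
    List.any_eq_true, List.mem_range]
  refine ⟨⟨⟨⟨hdvd, hmod'⟩, hne1⟩, hfact⟩, ?_⟩
  by_cases hk1 : k = 1
  · right
    subst hk1
    have hPcard : Nat.card (P : Subgroup G) = p := by
      simpa using Helper17.card_sylow_subgroup_of_card_eq hcard hm P
    have hGp : Nat.card G ≠ p := by
      rw [hcard, pow_one]
      intro h
      have : p * m = p * 1 := by rw [mul_one]; exact h
      exact hm1 (Nat.eq_of_mul_eq_mul_left hp.pos this)
    obtain ⟨d, hd1, hd2, hd3⟩ := Helper17.exists_dvd_of_simple_sylow_prime P hPcard hGp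
    have hN : Nat.card (normalizer ((P : Subgroup G) : Set G)) = p ^ 1 * m / Nat.card (Sylow p G) := by
      have := Helper17.card_normalizer_mul_card_sylow P
      rw [hcard] at this
      rw [← this]
      have hpos : 0 < Nat.card (Sylow p G) := Nat.card_pos
      exact (Nat.mul_div_cancel _ hpos).symm
    refine ⟨d, ?_, ⟨hd1, hd2⟩, ?_⟩
    · have hp1 : 0 < p - 1 := by have := hp.one_lt; omega
      have := Nat.le_of_dvd hp1 hd2
      omega
    · rw [← hN]; exact hd3
  · left; exact hk1

theorem sieve_kill {G : Type*} [Group G] [Finite G] [IsSimpleGroup G]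
    (hG : ¬ IsMulCommutative G) (p k m : ℕ) (hp : p.Prime)
    (hcard : Nat.card G = p ^ k * m) (hm : ¬ p ∣ m) (hk : k ≠ 0) (hm1 : m ≠ 1)
    (hdead : sieveDead p k m = true) : False := by
  have h := sylow_count_ok hG p k m hp hcard hm hk hm1
  unfold sieveDead at hdead
  rw [List.all_eq_true] at hdead
  have hdvd : Nat.card (Sylow p G) ∣ m := by
    have : Fact p.Prime := ⟨hp⟩
    exact Helper17.card_sylow_dvd_of_card_eq hcard hm
  have hm0 : m ≠ 0 := fun h => hm (h ▸ dvd_zero p)
  have hle : Nat.card (Sylow p G) ≤ m := Nat.le_of_dvd (Nat.pos_of_ne_zero hm0) hdvd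
  have := hdead (Nat.card (Sylow p G)) (List.mem_range.mpr (by omega))
  rw [h] at this
  exact absurd this (by decide)

/-- A finite simple `p`-group is cyclic. -/
theorem isCyclic_of_simple_of_card_prime_pow {G : Type*} [Group G] [Finite G] [IsSimpleGroup G]
    (p k : ℕ) (hp : p.Prime) (hcard : Nat.card G = p ^ k) : IsCyclic G := by
  have : Fact p.Prime := ⟨hp⟩
  have hPG : IsPGroup p G := IsPGroup.of_card hcard
  have : Group.IsNilpotent G := hPG.isNilpotent
  have hsolv : Group.IsSolvable G := inferInstance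
  have hcomm := IsSimpleGroup.comm_iff_isSolvable.mpr hsolv
  exact isCyclic_of_simple_of_comm ⟨⟨hcomm⟩⟩

end Cfsg.Agent.Helper9
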