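import Mathlib
import Cfsg.Agent.Helper9.Sieve
import Cfsg.Agent.Helper17.SylowKit2

set_option autoImplicit false

namespace Cfsg.Agent.Helper9

open Subgroup

/-- A non-abelian simple group with a subgroup of index `n` and order `n!/2` is `A_n`. -/
theorem nonempty_mulEquiv_alternatingGroup_of_index {G : Type*} [Group G] [Finite G]
    [IsSimpleGroup G] (hG : ¬ IsMulCommutative G) (H : Subgroup G) (n : ℕ) (hn : H.index = n)
    (hn2 : 2 ≤ n) (hcard : 2 * Nat.card G = n.factorial) :
    Nonempty (G ≃* alternatingGroup (Fin n)) := by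
  subst hn
  have hH : H ≠ ⊤ := by
    intro h
    rw [h, Subgroup.index_top] at hn2
    omega
  obtain ⟨f, hf⟩ := Helper17.exists_embedding_alternating hG H hH
  have : Nontrivial (Fin H.index) := Fin.nontrivial_iff_two_le.mpr hn2
  have h2 : 2 * Nat.card ↥(alternatingGroup (Fin H.index)) = (H.index).factorial := by
    rw [two_mul_nat_card_alternatingGroup, Nat.card_perm, Nat.card_eq_fintype_card, Fintype.card_fin]
  have hle : Nat.card ↥(alternatingGroup (Fin H.index)) ≤ Nat.card G := by omega
  have hbij : Function.Bijective f := hf.bijective_of_nat_card_le hle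
  exact ⟨MulEquiv.ofBijective f hbij⟩

/-- A simple group of order 60 has a subgroup of index 5. -/
theorem exists_index_five {G : Type*} [Group G] [Finite G] [IsSimpleGroup G]
    (h : Nat.card G = 60) : ∃ H : Subgroup G, H.index = 5 := by
  have hG : ¬ IsMulCommutative G :=
    Helper17.not_comm_of_simple_of_not_prime (by rw [h]; norm_num)
  have : Fact (Nat.Prime 2) := ⟨Nat.prime_two⟩
  have hcard : Nat.card G = 2 ^ 2 * 15 := by rw [h]; norm_num
  have hm : ¬ 2 ∣ 15 := by norm_num
  have hok := sylow_count_ok hG 2 2 15 Nat.prime_two hcard hm (by norm_num) (by norm_num)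
  have hdvd : Nat.card (Sylow 2 G) ∣ 15 := Helper17.card_sylow_dvd_of_card_eq hcard hm
  have hmem : Nat.card (Sylow 2 G) ∈ Nat.divisors 15 := Nat.mem_divisors.mpr ⟨hdvd, by norm_num⟩
  have key : ∀ n ∈ Nat.divisors 15, npOK (2 ^ 2 * 15) 2 2 15 n = true → n = 5 ∨ n = 15 := by
    decide +kernel
  obtain ⟨P0⟩ : Nonempty (Sylow 2 G) := inferInstance
  rcases key _ hmem hok with h5 | h15
  · refine ⟨normalizer ((P0 : Subgroup G) : Set G), ?_⟩
    rw [← h5, P0.card_eq_index_normalizer]
    rfl
  · have hnot : ¬ Nat.card (Sylow 2 G) ≡ 1 [MOD 2 ^ 2] := by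
      rw [h15]; decide
    obtain ⟨P, R, hPR, hidx⟩ := Helper17.exists_sylow_pair_large_inter 2 2 hnot
    have hPcard : Nat.card (P : Subgroup G) = 2 ^ 2 :=
      Helper17.card_sylow_subgroup_of_card_eq hcard hm P
    have hRcard : Nat.card (R : Subgroup G) = 2 ^ 2 :=
      Helper17.card_sylow_subgroup_of_card_eq hcard hm R
    have h1 := Helper17.index_subgroupOf_mul_card_inf (P : Subgroup G) (R : Subgroup G)
    rw [hPcard] at h1
    have hlt : Nat.card ((P : Subgroup G) ⊓ (R : Subgroup G) : Subgroup G) < 2 ^ 2 := by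
      rw [← hPcard]
      exact Helper17.card_lt_of_lt' (Helper17.sylow_inf_lt_left hPR)
    have hDdvd : Nat.card ((P : Subgroup G) ⊓ (R : Subgroup G) : Subgroup G) ∣ 2 ^ 2 :=
      Dvd.intro_left _ h1
    have hD2 : Nat.card ((P : Subgroup G) ⊓ (R : Subgroup G) : Subgroup G) = 2 := by
      have hmem : Nat.card ((P : Subgroup G) ⊓ (R : Subgroup G) : Subgroup G) ∈ Nat.divisors (2 ^ 2) :=
        Nat.mem_divisors.mpr ⟨hDdvd, by norm_num⟩
      have hne1 : Nat.card ((P : Subgroup G) ⊓ (R : Subgroup G) : Subgroup G) ≠ 1 := by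
        intro h1'
        rw [h1', mul_one] at h1
        rw [h1] at hidx
        norm_num at hidx
      have key2 : ∀ n ∈ Nat.divisors (2 ^ 2), n < 2 ^ 2 → n ≠ 1 → n = 2 := by decide
      exact key2 _ hmem hlt hne1
    set D : Subgroup G := (P : Subgroup G) ⊓ (R : Subgroup G) with hD
    have hPc : ∀ a b : (P : Subgroup G), a * b = b * a :=
      fun a b => (IsPGroup.isMulCommutative_of_card_eq_prime_sq hPcard).is_comm.comm a b
    have hRc : ∀ a b : (R : Subgroup G), a * b = b * a :=
      fun a b => (IsPGroup.isMulCommutative_of_card_eq_prime_sq hRcard).is_comm.comm a b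
    have hPN : (P : Subgroup G) ≤ normalizer (D : Set G) :=
      Helper17.le_normalizer_of_comm inf_le_left hPc
    have hRN : (R : Subgroup G) ≤ normalizer (D : Set G) :=
      Helper17.le_normalizer_of_comm inf_le_right hRc
    obtain ⟨n, m, hn1, hn2, hNcard⟩ := Helper17.card_ge_of_two_sylow_le P R hPR hPN hRN
    rw [hPcard] at hNcard
    have hNtop : normalizer (D : Set G) ≠ ⊤ :=
      Helper17.normalizer_ne_top_of_simple D (by rw [hD2]; norm_num) (by rw [hD2, h]; norm_num)
    have hNidx := Subgroup.card_mul_index (normalizer (D : Set G))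
    rw [h] at hNidx
    have hfact := Helper17.two_mul_card_dvd_factorial_index hG _ hNtop
    rw [h] at hfact
    have hidx1 : (normalizer (D : Set G)).index ≠ 1 := fun h => hNtop (Subgroup.index_eq_one.mp h)
    refine ⟨normalizer (D : Set G), ?_⟩
    -- |N| = 4 * (n * m), n ≥ 3, |N| * index = 60, index ≠ 1, 120 ∣ index!
    generalize (normalizer (D : Set G)).index = i at hNidx hfact hidx1 ⊢
    generalize Nat.card (normalizer (D : Set G)) = c at hNcard hNidx
    subst hNcard
    have hi : i ∣ 15 := by
      have : 4 * (n * m * i) = 60 := by rw [← hNidx]; ring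
      have h15 : n * m * i = 15 := by omega
      exact Dvd.intro_left _ h15
    have himem : i ∈ Nat.divisors 15 := Nat.mem_divisors.mpr ⟨hi, by norm_num⟩
    have hnm : 3 ≤ n * m := by
      have hm0 : m ≠ 0 := by
        intro hm0
        subst hm0
        simp at hNidx
      have : n * 1 ≤ n * m := Nat.mul_le_mul_left n (Nat.one_le_iff_ne_zero.mpr hm0)
      omega
    have hi5 : i ≤ 5 := by
      by_contra hcon
      push Not at hcon
      have : 2 ^ 2 * (n * m) * i ≥ 4 * 3 * 6 := by
        have h1 : 4 * 3 ≤ 2 ^ 2 * (n * m) := by omega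
        exact Nat.mul_le_mul h1 hcon
      omega
    have key3 : ∀ j ∈ Nat.divisors 15, j ≤ 5 → j ≠ 1 → 2 * 60 ∣ j.factorial → j = 5 := by
      decide +kernel
    exact key3 i himem hi5 hidx1 hfact

/-- A simple group of order 60 is isomorphic to `A_5`. -/
theorem nonempty_mulEquiv_alternatingGroup_five {G : Type*} [Group G] [Finite G] [IsSimpleGroup G]
    (h : Nat.card G = 60) : Nonempty (G ≃* alternatingGroup (Fin 5)) := by
  have hG : ¬ IsMulCommutative G :=
    Helper17.not_comm_of_simple_of_not_prime (by rw [h]; norm_num)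
  obtain ⟨H, hH⟩ := exists_index_five h
  exact nonempty_mulEquiv_alternatingGroup_of_index hG H 5 hH (by norm_num) (by rw [h]; decide)

end Cfsg.Agent.Helper9
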