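import Mathlib

/-!
helper9: the alternating group of every finite type is generated by two elements
(written for the S2290 team: helper64 / helper1).

`S_n = ⟨σ, τ⟩` with `σ = finRotate n`, `τ = swap 0 1`; for `n` even `A_n = ⟨σ τ, τ σ⟩`, for `n` odd `A_n = ⟨σ, τ σ τ⟩`
(Reidemeister–Schreier for the index-2 subgroup, done by hand in `index_two_gen`).
-/

set_option autoImplicit false

namespace Cfsg.Agent.Helper9.AltTwoGen

open Equiv Equiv.Perm

/-- the index-two trick: if `G = ⟨σ, τ⟩`, `τ² = 1`, `τ a τ = b` and `σ = a` or `σ = a τ`, then every element of `G` lies in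
`H = ⟨a, b⟩` or in `H τ`. -/
theorem index_two_gen {G : Type*} [Group G] (σ τ a b : G) (hτ : τ * τ = 1)
    (hgen : Subgroup.closure ({σ, τ} : Set G) = ⊤) (hab : τ * a * τ = b) (hσ : σ = a ∨ σ = a * τ) (g : G) :
    g ∈ Subgroup.closure ({a, b} : Set G) ∨ g * τ ∈ Subgroup.closure ({a, b} : Set G) := by
  set H := Subgroup.closure ({a, b} : Set G) with hH
  have haH : a ∈ H := Subgroup.subset_closure (by simp)
  have hbH : b ∈ H := Subgroup.subset_closure (by simp)
  have hτinv : τ⁻¹ = τ := inv_eq_of_mul_eq_one_right hτ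
  have hba : τ * b * τ = a := by
    rw [← hab]
    calc τ * (τ * a * τ) * τ = (τ * τ) * a * (τ * τ) := by group
      _ = a := by rw [hτ, one_mul, mul_one]
  have hab' : τ * a⁻¹ * τ = b⁻¹ := by
    rw [← hab, mul_inv_rev, mul_inv_rev, hτinv, mul_assoc]
  -- right multiplication by elements `x` with `x ∈ H ∪ Hτ`-type behaviour
  have key : ∀ x : G, (x ∈ H ∧ τ * x * τ ∈ H) ∨ (x * τ ∈ H ∧ τ * x ∈ H) →
      ∀ g : G, (g ∈ H ∨ g * τ ∈ H) → (g * x ∈ H ∨ g * x * τ ∈ H) := by
    intro x hx g hg
    rcases hx with ⟨hx1, hx2⟩ | ⟨hx1, hx2⟩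
    · rcases hg with hg | hg
      · exact Or.inl (mul_mem hg hx1)
      · right
        have : g * x * τ = (g * τ) * (τ * x * τ) := by
          calc g * x * τ = g * (τ * τ) * x * τ := by rw [hτ, mul_one]
            _ = (g * τ) * (τ * x * τ) := by group
        rw [this]
        exact mul_mem hg hx2
    · rcases hg with hg | hg
      · right
        have : g * x * τ = g * (x * τ) := by group
        rw [this]
        exact mul_mem hg hx1
      · left
        have : g * x = (g * τ) * (τ * x) := by
          calc g * x = g * (τ * τ) * x := by rw [hτ, mul_one]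
            _ = (g * τ) * (τ * x) := by group
        rw [this]
        exact mul_mem hg hx2
  have hτx : (τ ∈ H ∧ τ * τ * τ ∈ H) ∨ (τ * τ ∈ H ∧ τ * τ ∈ H) := by
    right; rw [hτ]; exact ⟨one_mem H, one_mem H⟩
  have hσx : (σ ∈ H ∧ τ * σ * τ ∈ H) ∨ (σ * τ ∈ H ∧ τ * σ ∈ H) := by
    rcases hσ with rfl | rfl
    · left; exact ⟨haH, by rw [hab]; exact hbH⟩
    · right
      constructor
      · have : a * τ * τ = a := by rw [mul_assoc, hτ, mul_one]
        rw [this]; exact haH
      · have : τ * (a * τ) = b := by rw [← hab]; group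
        rw [this]; exact hbH
  have hσx' : (σ⁻¹ ∈ H ∧ τ * σ⁻¹ * τ ∈ H) ∨ (σ⁻¹ * τ ∈ H ∧ τ * σ⁻¹ ∈ H) := by
    rcases hσ with rfl | rfl
    · left; exact ⟨inv_mem haH, by rw [hab']; exact inv_mem hbH⟩
    · right
      constructor
      · have : (a * τ)⁻¹ * τ = b⁻¹ := by
          rw [← hab', mul_inv_rev, hτinv]
        rw [this]; exact inv_mem hbH
      · have : τ * (a * τ)⁻¹ = a⁻¹ := by
          rw [mul_inv_rev, hτinv, ← mul_assoc, hτ, one_mul]
        rw [this]; exact inv_mem haH
  have hg : g ∈ Subgroup.closure ({σ, τ} : Set G) := by rw [hgen]; trivial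
  induction hg using Subgroup.closure_induction_right with
  | one => exact Or.inl (one_mem H)
  | mul_right g x _ hx ih =>
    rcases hx with rfl | hx
    · exact key _ hσx g ih
    · rw [Set.mem_singleton_iff] at hx
      rw [hx]
      exact key _ hτx g ih
  | mul_inv_cancel g x _ hx ih =>
    rcases hx with rfl | hx
    · exact key _ hσx' g ih
    · rw [Set.mem_singleton_iff] at hx
      rw [hx, hτinv]
      exact key _ hτx g ih

/-- `⟨a, b⟩ = A_n` from the index-two trick -/
theorem closure_eq_alt {α : Type*} [Fintype α] [DecidableEq α] (σ τ a b : Perm α) (hτ : τ * τ = 1)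
    (hτs : sign τ = -1) (hgen : Subgroup.closure ({σ, τ} : Set (Perm α)) = ⊤) (hab : τ * a * τ = b)
    (hσ : σ = a ∨ σ = a * τ) (ha : sign a = 1) :
    Subgroup.closure ({a, b} : Set (Perm α)) = alternatingGroup α := by
  have hb : sign b = 1 := by
    rw [← hab, Perm.sign_mul, Perm.sign_mul, ha, hτs]; rfl
  apply le_antisymm
  · rw [Subgroup.closure_le]
    rintro x (rfl | hx)
    · exact mem_alternatingGroup.mpr ha
    · rw [Set.mem_singleton_iff] at hx
      rw [hx]
      exact mem_alternatingGroup.mpr hb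
  · intro g hg
    have hle : Subgroup.closure ({a, b} : Set (Perm α)) ≤ alternatingGroup α := by
      rw [Subgroup.closure_le]
      rintro x (rfl | hx)
      · exact mem_alternatingGroup.mpr ha
      · rw [Set.mem_singleton_iff] at hx
        rw [hx]
        exact mem_alternatingGroup.mpr hb
    rcases index_two_gen σ τ a b hτ hgen hab hσ g with h | h
    · exact h
    · exfalso
      have h1 := mem_alternatingGroup.mp (hle h)
      rw [Perm.sign_mul, mem_alternatingGroup.mp hg, hτs] at h1
      exact absurd h1 (by decide)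

/-- `A_{n+2}` on `Fin (n + 2)` is generated by two elements -/
theorem alt_fin_two_generated (n : ℕ) :
    ∃ a b : Perm (Fin (n + 2)), Subgroup.closure ({a, b} : Set (Perm (Fin (n + 2)))) = alternatingGroup (Fin (n + 2)) := by
  set σ : Perm (Fin (n + 2)) := finRotate (n + 2) with hσdef
  set τ : Perm (Fin (n + 2)) := swap 0 (σ 0) with hτdef
  have hσ0 : σ 0 ≠ 0 := by
    rw [hσdef, finRotate_apply]
    simp
  have hτ : τ * τ = 1 := swap_mul_self _ _
  have hτs : sign τ = -1 := sign_swap (Ne.symm hσ0)
  have hgen : Subgroup.closure ({σ, τ} : Set (Perm (Fin (n + 2)))) = ⊤ :=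
    closure_cycle_adjacent_swap isCycle_finRotate support_finRotate 0
  have hσs : sign σ = (-1) ^ (n + 1) := by
    rw [hσdef, sign_finRotate]; rfl
  rcases Nat.even_or_odd n with hn | hn
  · -- `n + 1` odd: `σ` odd
    have h1 : sign σ = -1 := by rw [hσs, Odd.neg_one_pow (Even.add_one hn)]
    refine ⟨σ * τ, τ * σ, closure_eq_alt σ τ (σ * τ) (τ * σ) hτ hτs hgen ?_ ?_ ?_⟩
    · rw [mul_assoc, mul_assoc, hτ, mul_one]
    · right; rw [mul_assoc, hτ, mul_one]
    · rw [Perm.sign_mul, h1, hτs]; rfl
  · -- `n + 1` even: `σ` even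
    have h1 : sign σ = 1 := by rw [hσs, Even.neg_one_pow (Odd.add_one hn)]
    exact ⟨σ, τ * σ * τ, closure_eq_alt σ τ σ (τ * σ * τ) hτ hτs hgen rfl (Or.inl rfl) h1⟩

/-- the alternating group of a finite type is generated by two elements (as a subgroup of the symmetric group) -/
theorem alt_two_generated' (α : Type*) [Fintype α] [DecidableEq α] :
    ∃ a b : Perm α, Subgroup.closure ({a, b} : Set (Perm α)) = alternatingGroup α := by
  rcases Nat.lt_or_ge (Fintype.card α) 2 with h | h
  · -- `Perm α` is trivial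
    have hsub : Subsingleton (Perm α) := by
      rw [← Fintype.card_le_one_iff_subsingleton, Fintype.card_perm]
      have : Fintype.card α = 0 ∨ Fintype.card α = 1 := by omega
      rcases this with h0 | h0 <;> rw [h0] <;> decide
    exact ⟨1, 1, Subsingleton.elim _ _⟩
  · obtain ⟨n, hn⟩ : ∃ n, Fintype.card α = n + 2 := ⟨Fintype.card α - 2, by omega⟩
    obtain ⟨a, b, hab⟩ := alt_fin_two_generated n
    let e : Fin (n + 2) ≃ α := (Fintype.equivFinOfCardEq hn).symm
    let f : Perm (Fin (n + 2)) ≃* Perm α := e.permCongrHom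
    refine ⟨f a, f b, ?_⟩
    have h1 : Subgroup.closure ({f a, f b} : Set (Perm α))
        = (Subgroup.closure ({a, b} : Set (Perm (Fin (n + 2))))).map f.toMonoidHom := by
      rw [MonoidHom.map_closure, Set.image_pair]
      rfl
    rw [h1, hab]
    ext x
    rw [Subgroup.mem_map, mem_alternatingGroup]
    constructor
    · rintro ⟨y, hy, rfl⟩
      change sign (e.permCongr y) = 1
      rw [sign_permCongr]
      exact mem_alternatingGroup.mp hy
    · intro hx
      refine ⟨f.symm x, ?_, f.apply_symm_apply x⟩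
      rw [mem_alternatingGroup]
      change sign (e.symm.permCongr x) = 1
      rw [sign_permCongr]
      exact hx

/-- the alternating group of a finite type is generated by two elements -/
theorem alt_two_generated (α : Type*) [Fintype α] [DecidableEq α] :
    ∃ a b : alternatingGroup α, Subgroup.closure ({a, b} : Set (alternatingGroup α)) = ⊤ := by
  obtain ⟨a, b, hab⟩ := alt_two_generated' α
  have ha : a ∈ alternatingGroup α := by rw [← hab]; exact Subgroup.subset_closure (by simp)
  have hb : b ∈ alternatingGroup α := by rw [← hab]; exact Subgroup.subset_closure (by simp)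
  refine ⟨⟨a, ha⟩, ⟨b, hb⟩, ?_⟩
  apply Subgroup.map_injective (alternatingGroup α).subtype_injective
  rw [MonoidHom.map_closure, Set.image_pair, ← MonoidHom.range_eq_map, Subgroup.range_subtype]
  exact hab

end Cfsg.Agent.Helper9.AltTwoGen
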