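import Mathlib

/-!
# Frattini index formula and Sylow subgroups inside normal subgroups

Pieces (T4) of helper61's plan for S2490 (board post 4202).
-/

namespace Cfsg.Agent.Helper9.FratIdx

/-- If `N` is normal and contains the Sylow `p`-subgroup `P`, then
`|N_G(P)| = |G : N| * |N_G(P) ∩ N|` (Frattini argument). -/
theorem frattini_index {G : Type*} [Group G] [Finite G] (N : Subgroup G) [N.Normal] {p : ℕ}
    [Fact p.Prime] (P : Sylow p G) (hPN : (P : Subgroup G) ≤ N) :
    Nat.card (Subgroup.normalizer ((P : Subgroup G) : Set G)) =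
      N.index * Nat.card (Subgroup.normalizer ((P : Subgroup G) : Set G) ⊓ N : Subgroup G) := by
  have hsup : Subgroup.normalizer ((P : Subgroup G) : Set G) ⊔ N = ⊤ :=
    Sylow.normalizer_sup_eq_top' P hPN
  have h1 : N.relIndex (Subgroup.normalizer ((P : Subgroup G) : Set G)) = N.index := by
    rw [← Subgroup.relIndex_sup_right, hsup, Subgroup.relIndex_top_right]
  have h2 : (Subgroup.normalizer ((P : Subgroup G) : Set G) ⊓ N).relIndex
      (Subgroup.normalizer ((P : Subgroup G) : Set G)) = N.index := by
    rw [inf_comm, Subgroup.inf_relIndex_right, h1]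
  have h3 := Subgroup.relIndex_mul_relIndex ⊥
    (Subgroup.normalizer ((P : Subgroup G) : Set G) ⊓ N)
    (Subgroup.normalizer ((P : Subgroup G) : Set G)) bot_le inf_le_left
  rw [h2, Subgroup.relIndex_bot_left, Subgroup.relIndex_bot_left] at h3
  rw [← h3, mul_comm]

/-- A Sylow `p`-subgroup whose order divides the order of a normal subgroup `N` lies in `N`. -/
theorem sylow_le_normal {G : Type*} [Group G] [Finite G] (N : Subgroup G) [N.Normal] {p : ℕ}
    [Fact p.Prime] (P : Sylow p G) (h : Nat.card (P : Subgroup G) ∣ Nat.card N) :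
    (P : Subgroup G) ≤ N := by
  classical
  have hp : p.Prime := Fact.out
  -- a subgroup of `N` of order `|P|`
  have hcardP : Nat.card (P : Subgroup G) = p ^ (Nat.card G).factorization p :=
    P.card_eq_multiplicity
  rw [hcardP] at h
  obtain ⟨S, hS⟩ := Sylow.exists_subgroup_card_pow_prime (G := N) p h
  -- map to `G`
  have hSmap : Nat.card (S.map N.subtype) = p ^ (Nat.card G).factorization p := by
    rw [Subgroup.card_map_of_injective N.subtype_injective, hS]
  have hSp : IsPGroup p (S.map N.subtype) := IsPGroup.of_card hSmap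
  obtain ⟨Q, hQ⟩ := hSp.exists_le_sylow
  have hQcard : Nat.card (Q : Subgroup G) = p ^ (Nat.card G).factorization p :=
    Q.card_eq_multiplicity
  have hSQ : S.map N.subtype = (Q : Subgroup G) := by
    apply Subgroup.eq_of_le_of_card_ge hQ
    rw [hSmap, hQcard]
  have hQN : (Q : Subgroup G) ≤ N := by
    rw [← hSQ]
    exact Subgroup.map_subtype_le S
  obtain ⟨g, hg⟩ := MulAction.exists_smul_eq G Q P
  open Pointwise in
  have hPQ : (P : Subgroup G) = MulAut.conj g • (Q : Subgroup G) := by
    rw [← hg, Sylow.coe_subgroup_smul]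
  intro x hx
  rw [hPQ, Subgroup.mem_pointwise_smul_iff_inv_smul_mem] at hx
  have hyN : (MulAut.conj g)⁻¹ • x ∈ N := hQN hx
  simp only [MulAut.smul_def, MulAut.conj_inv_apply] at hyN
  have := Subgroup.Normal.conj_mem (inferInstance : N.Normal) _ hyN g
  simpa [mul_assoc] using this

end Cfsg.Agent.Helper9.FratIdx
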