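import Cfsg.Agent.Helper9.Supersolvable3

set_option autoImplicit false

namespace Cfsg.Agent.Helper9

open Subgroup
open scoped Pointwise

universe u

/-- If `M` is normal in `G` and a Sylow `p`-subgroup of `M` has index `< p` in `M`, then it is
normal in `G`. -/
theorem sylow_map_normal_of_index_lt {G : Type u} [Group G] [Finite G] (M : Subgroup G) [M.Normal]
    (p : ℕ) [Fact p.Prime] (P : Sylow p M) (hlt : (P : Subgroup M).index < p) :
    ((P : Subgroup M).map M.subtype).Normal := by
  have hp : p.Prime := Fact.out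
  have h1 : Nat.card (Sylow p M) ∣ (P : Subgroup M).index := P.card_dvd_index
  have h2 : Nat.card (Sylow p M) ≡ 1 [MOD p] := card_sylow_modEq_one p M
  have h0 : (P : Subgroup M).index ≠ 0 := Subgroup.index_ne_zero_of_finite
  have h3 : Nat.card (Sylow p M) = 1 := by
    have hle : Nat.card (Sylow p M) ≤ (P : Subgroup M).index :=
      Nat.le_of_dvd (Nat.pos_of_ne_zero h0) h1
    have hlt' : Nat.card (Sylow p M) < p := lt_of_le_of_lt hle hlt
    have := h2
    unfold Nat.ModEq at this
    rw [Nat.mod_eq_of_lt hlt', Nat.mod_eq_of_lt hp.one_lt] at this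
    exact this
  have : Subsingleton (Sylow p M) := (Nat.card_eq_one_iff_unique.mp h3).1
  have : (P : Subgroup M).Normal := Sylow.normal_of_subsingleton P
  have : (P : Subgroup M).Characteristic := Sylow.characteristic_of_normal P inferInstance
  infer_instance

/-- In a finite supersolvable group, for a prime `p` at least as large as all prime divisors of
the order there is a normal Sylow `p`-subgroup. -/
theorem exists_normal_sylow_of_largest_prime {G : Type u} [Group G] [Finite G]
    (hG : Cfsg.IsSupersolvable G) :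
    ∀ p : ℕ, p.Prime → (∀ q : ℕ, q.Prime → q ∣ Nat.card G → q ≤ p) →
      ∃ P : Subgroup G, P.Normal ∧ IsPGroup p P ∧ ¬ p ∣ P.index := by
  refine supersolvable_induction
    (P := fun G _ => ∀ p : ℕ, p.Prime → (∀ q : ℕ, q.Prime → q ∣ Nat.card G → q ≤ p) →
      ∃ P : Subgroup G, P.Normal ∧ IsPGroup p P ∧ ¬ p ∣ P.index) ?_ ?_ G hG
  · intro G _ _ p hp _
    refine ⟨⊥, inferInstance, IsPGroup.of_bot, ?_⟩
    rw [Subgroup.index_bot, Nat.card_unique]
    exact hp.one_lt.ne' ∘ Nat.dvd_one.mp
  · intro G _ _ _ N _ hq hG hQ ih p hp hmax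
    have : Fact p.Prime := ⟨hp⟩
    have hcard : Nat.card G = Nat.card (G ⧸ N) * Nat.card N :=
      Subgroup.card_eq_card_quotient_mul_card_subgroup N
    have hlt := card_quotient_lt_of_prime N hq
    have hqle : Nat.card N ≤ p := hmax _ hq (by rw [hcard]; exact dvd_mul_left _ _)
    have hmaxQ : ∀ r : ℕ, r.Prime → r ∣ Nat.card (G ⧸ N) → r ≤ p := by
      intro r hr hrd
      exact hmax r hr (by rw [hcard]; exact dvd_mul_of_dvd_left hrd _)
    obtain ⟨P', hP'n, hP'p, hP'i⟩ := ih (G ⧸ N) hQ hlt p hp hmaxQ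
    set M := P'.comap (QuotientGroup.mk' N) with hM
    have hMn : M.Normal := hP'n.comap _
    have hMidx : M.index = P'.index :=
      Subgroup.index_comap_of_surjective P' (QuotientGroup.mk'_surjective N)
    have hMcard : Nat.card M = Nat.card N * Nat.card P' := card_comap_mk' N P'
    obtain ⟨a, ha⟩ := hP'p.exists_card_eq
    obtain ⟨P⟩ : Nonempty (Sylow p M) := inferInstance
    -- index of P in M divides card N
    have hPdvd : p ^ a ∣ Nat.card (P : Subgroup M) := by
      apply P.pow_dvd_card_of_pow_dvd_card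
      rw [hMcard, ha]; exact dvd_mul_left _ _
    have hPi : (P : Subgroup M).index ∣ Nat.card N := by
      obtain ⟨c, hc⟩ := hPdvd
      have h1 := Subgroup.card_mul_index (P : Subgroup M)
      rw [hMcard, ha, hc] at h1
      have h2 : p ^ a * (c * (P : Subgroup M).index) = p ^ a * Nat.card N := by
        calc p ^ a * (c * (P : Subgroup M).index) = p ^ a * c * (P : Subgroup M).index := by ring
          _ = Nat.card N * p ^ a := h1
          _ = p ^ a * Nat.card N := by ring
      have h3 := Nat.eq_of_mul_eq_mul_left (pow_pos hp.pos a) h2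
      exact Dvd.intro_left c h3
    have hPnd : ¬ p ∣ (P : Subgroup M).index := P.not_dvd_index
    have hPlt : (P : Subgroup M).index < p := by
      have hle : (P : Subgroup M).index ≤ Nat.card N := Nat.le_of_dvd hq.pos hPi
      rcases Nat.lt_or_ge (P : Subgroup M).index p with h | h
      · exact h
      · exfalso
        have : (P : Subgroup M).index = p := le_antisymm (hle.trans hqle) h
        exact hPnd (by rw [this])
    refine ⟨(P : Subgroup M).map M.subtype, sylow_map_normal_of_index_lt M p P hPlt,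
      P.2.map _, ?_⟩
    rw [Subgroup.index_map_subtype, hMidx]
    intro hdvd
    rcases (Nat.Prime.dvd_mul hp).mp hdvd with h | h
    · exact hPnd h
    · exact hP'i h

theorem ssh_map_conj_smul {G G' : Type*} [Group G] [Group G'] (f : G →* G') (x : G)
    (L : Subgroup G) : (MulAut.conj x • L).map f = MulAut.conj (f x) • L.map f := by
  ext y
  rw [Subgroup.mem_pointwise_smul_iff_inv_smul_mem, Subgroup.mem_map, Subgroup.mem_map]
  constructor
  · rintro ⟨z, hz, rfl⟩
    rw [Subgroup.mem_pointwise_smul_iff_inv_smul_mem] at hz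
    refine ⟨_, hz, ?_⟩
    simp [MulAut.smul_def, MulAut.conj_inv_apply]
  · rintro ⟨w, hw, hwy⟩
    refine ⟨x * w * x⁻¹, ?_, ?_⟩
    · rw [Subgroup.mem_pointwise_smul_iff_inv_smul_mem]
      simpa [MulAut.smul_def, MulAut.conj_inv_apply, mul_assoc] using hw
    · rw [map_mul, map_mul, hwy]
      simp [MulAut.smul_def, MulAut.conj_inv_apply, mul_assoc]

/-- Lifting conjugacy through a quotient. -/
theorem exists_conj_of_map_mk' {N : Type*} [Group N] (P : Subgroup N) [P.Normal]
    (L1 L2 : Subgroup N) (h1 : P ≤ L1) (h2 : P ≤ L2)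
    (h : ∃ y : N ⧸ P, MulAut.conj y • L1.map (QuotientGroup.mk' P) = L2.map (QuotientGroup.mk' P)) :
    ∃ x : N, MulAut.conj x • L1 = L2 := by
  obtain ⟨y, hy⟩ := h
  obtain ⟨x, rfl⟩ := QuotientGroup.mk'_surjective P y
  refine ⟨x, ?_⟩
  rw [← ssh_map_conj_smul] at hy
  have hP1 : P ≤ MulAut.conj x • L1 := by
    intro z hz
    rw [Subgroup.mem_pointwise_smul_iff_inv_smul_mem]
    apply h1
    have : x⁻¹ * z * x⁻¹⁻¹ ∈ P := ‹P.Normal›.conj_mem z hz x⁻¹
    simpa [MulAut.smul_def, MulAut.conj_inv_apply] using this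
  have hk1 : (QuotientGroup.mk' P).ker ≤ MulAut.conj x • L1 := by
    rw [QuotientGroup.ker_mk']; exact hP1
  have hk2 : (QuotientGroup.mk' P).ker ≤ L2 := by
    rw [QuotientGroup.ker_mk']; exact h2
  rw [← Subgroup.comap_map_eq_self hk1, ← Subgroup.comap_map_eq_self hk2, hy]

/-- Conjugacy inside a subgroup gives conjugacy in the group. -/
theorem conj_smul_eq_of_subgroupOf {G : Type*} [Group G] (N L1 L2 : Subgroup G) (h1 : L1 ≤ N)
    (h2 : L2 ≤ N) (x : N) (h : MulAut.conj x • L1.subgroupOf N = L2.subgroupOf N) :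
    MulAut.conj (x : G) • L1 = L2 := by
  have := congrArg (Subgroup.map N.subtype) h
  rw [ssh_map_conj_smul, Subgroup.map_subgroupOf_eq_of_le h1, Subgroup.map_subgroupOf_eq_of_le h2] at this
  exact this

theorem ssh_card_conj_smul {G : Type*} [Group G] (g : G) (H : Subgroup G) :
    Nat.card (MulAut.conj g • H : Subgroup G) = Nat.card H :=
  (Nat.card_congr (Subgroup.equivSMul (MulAut.conj g) H).toEquiv).symm

theorem ssh_index_conj_smul {G : Type*} [Group G] (g : G) (H : Subgroup G) :
    (MulAut.conj g • H : Subgroup G).index = H.index :=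
  Subgroup.index_map_equiv H (MulAut.conj g)

theorem card_map_mk'_mul {N : Type*} [Group N] (P : Subgroup N) [P.Normal] (L : Subgroup N)
    (h : P ≤ L) : Nat.card P * Nat.card (L.map (QuotientGroup.mk' P)) = Nat.card L := by
  rw [← card_comap_mk', Subgroup.comap_map_eq_self]
  rw [QuotientGroup.ker_mk']; exact h

theorem hall_supersolvable_conj_aux : ∀ (n : ℕ) (G : Type u) [Group G] [Finite G]
    (H K : Subgroup G), Nat.card G = n → Cfsg.IsSupersolvable H → Cfsg.IsSupersolvable K →
    Nat.card H = Nat.card K → (Nat.card H).Coprime H.index →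
    ∃ x : G, MulAut.conj x • H = K := by
  intro n
  induction n using Nat.strong_induction_on with
  | _ n ih =>
  intro G _ _ H K hn hH hK hcard hHall
  by_cases h1 : Nat.card H = 1
  · refine ⟨1, ?_⟩
    have hHb : H = ⊥ := Subgroup.card_eq_one.mp h1
    have hKb : K = ⊥ := Subgroup.card_eq_one.mp (hcard ▸ h1)
    rw [hHb, hKb]; simp
  -- the largest prime
  obtain ⟨p, hp, hpd, hmax⟩ : ∃ p, p.Prime ∧ p ∣ Nat.card H ∧
      ∀ q, q.Prime → q ∣ Nat.card H → q ≤ p := by
    have hpos : 0 < Nat.card H := Nat.card_pos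
    have hne : (Nat.card H).primeFactors.Nonempty :=
      Nat.nonempty_primeFactors.mpr (by omega)
    obtain ⟨p, hpm, hpmax⟩ := Finset.exists_max_image _ id hne
    exact ⟨p, Nat.prime_of_mem_primeFactors hpm, Nat.dvd_of_mem_primeFactors hpm,
      fun q hq hqd => hpmax q (Nat.mem_primeFactors.mpr ⟨hq, hqd, hpos.ne'⟩)⟩
  have : Fact p.Prime := ⟨hp⟩
  obtain ⟨P0, hP0n, hP0p, hP0i⟩ := exists_normal_sylow_of_largest_prime hH p hp hmax
  obtain ⟨Q0, hQ0n, hQ0p, hQ0i⟩ := exists_normal_sylow_of_largest_prime hK p hp (hcard ▸ hmax)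
  have hidxHK : H.index = K.index := by
    have h1 := H.card_mul_index
    have h2 := K.card_mul_index
    rw [hcard] at h1
    have : Nat.card K * H.index = Nat.card K * K.index := by rw [h1, h2]
    exact Nat.eq_of_mul_eq_mul_left Nat.card_pos this
  have hpH : ¬ p ∣ H.index := by
    intro h
    have h2 : p ∣ Nat.gcd (Nat.card H) H.index := Nat.dvd_gcd hpd h
    rw [hHall] at h2
    exact hp.one_lt.ne' (Nat.dvd_one.mp h2)
  obtain ⟨PH, hPH⟩ : ∃ PH : Subgroup G, PH = P0.map H.subtype := ⟨_, rfl⟩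
  obtain ⟨PK, hPK⟩ : ∃ PK : Subgroup G, PK = Q0.map K.subtype := ⟨_, rfl⟩
  have hPHp : IsPGroup p PH := hPH ▸ hP0p.map _
  have hPKp : IsPGroup p PK := hPK ▸ hQ0p.map _
  have hPHi : ¬ p ∣ PH.index := by
    rw [hPH, Subgroup.index_map_subtype]
    intro h
    rcases (Nat.Prime.dvd_mul hp).mp h with h | h
    · exact hP0i h
    · exact hpH h
  have hPKi : ¬ p ∣ PK.index := by
    rw [hPK, Subgroup.index_map_subtype]
    intro h
    rcases (Nat.Prime.dvd_mul hp).mp h with h | h
    · exact hQ0i h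
    · exact hpH (hidxHK ▸ h)
  have hPHle : PH ≤ H := by
    rw [hPH]; rintro _ ⟨y, _, rfl⟩; exact y.2
  have hPKle : PK ≤ K := by
    rw [hPK]; rintro _ ⟨y, _, rfl⟩; exact y.2
  have hHN : H ≤ normalizer (PH : Set G) := by
    have h2 := Subgroup.le_normalizer_map (H := P0) H.subtype
    rw [Subgroup.normalizer_eq_top_iff.mpr hP0n] at h2
    rw [hPH]
    refine le_trans ?_ h2
    intro y hy
    exact ⟨⟨y, hy⟩, Subgroup.mem_top _, rfl⟩
  have hKN : K ≤ normalizer (PK : Set G) := by
    have h2 := Subgroup.le_normalizer_map (H := Q0) K.subtype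
    rw [Subgroup.normalizer_eq_top_iff.mpr hQ0n] at h2
    rw [hPK]
    refine le_trans ?_ h2
    intro y hy
    exact ⟨⟨y, hy⟩, Subgroup.mem_top _, rfl⟩
  -- Sylow conjugacy
  obtain ⟨g, hg⟩ := MulAction.exists_smul_eq G (hPHp.toSylow hPHi) (hPKp.toSylow hPKi)
  have hg' : MulAut.conj g • PH = PK := by
    have h2 := congrArg Sylow.toSubgroup hg
    rw [Sylow.coe_subgroup_smul] at h2
    simpa using h2
  -- replace H by its conjugate
  obtain ⟨H', hH'⟩ : ∃ H' : Subgroup G, H' = MulAut.conj g • H := ⟨_, rfl⟩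
  have hH'card : Nat.card H' = Nat.card H := by rw [hH']; exact ssh_card_conj_smul g H
  have hH'idx : H'.index = H.index := by rw [hH']; exact ssh_index_conj_smul g H
  have hH's : Cfsg.IsSupersolvable H' := by
    have e : H ≃* H' := hH' ▸ Subgroup.equivSMul (MulAut.conj g) H
    exact isSupersolvable_of_mulEquiv e hH
  have hPKH' : PK ≤ H' := by
    rw [← hg', hH']
    exact Subgroup.pointwise_smul_le_pointwise_smul_iff.mpr hPHle
  have hH'N : H' ≤ normalizer (PK : Set G) := by
    rw [← hg', hH']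
    intro y hy
    rw [Subgroup.mem_pointwise_smul_iff_inv_smul_mem] at hy
    have h2 := hHN hy
    rw [mem_normalizer_iff] at h2 ⊢
    intro z
    rw [Subgroup.mem_pointwise_smul_iff_inv_smul_mem, Subgroup.mem_pointwise_smul_iff_inv_smul_mem]
    have h3 := h2 ((MulAut.conj g)⁻¹ • z)
    rw [h3]
    simp only [MulAut.smul_def, MulAut.conj_inv_apply]
    constructor <;> intro h4 <;> convert h4 using 1 <;> group
  -- the normalizer and quotient
  obtain ⟨N, hN⟩ : ∃ N : Subgroup G, N = normalizer (PK : Set G) := ⟨_, rfl⟩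
  have hPKN : PK ≤ N := hN ▸ le_normalizer
  have hP'n : (PK.subgroupOf N).Normal := by
    rw [hN]; exact Subgroup.normal_in_normalizer
  have hH'N' : H' ≤ N := hN ▸ hH'N
  have hKN' : K ≤ N := hN ▸ hKN
  have hPKcard : 1 < Nat.card PK := by
    have h2 := PK.card_mul_index
    have hpG : p ∣ Nat.card G := hpd.trans (Subgroup.card_subgroup_dvd_card H)
    rw [← h2] at hpG
    rcases (Nat.Prime.dvd_mul hp).mp hpG with h | h
    · have hpos : 0 < Nat.card PK := Nat.card_pos
      have := Nat.le_of_dvd hpos h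
      have := hp.one_lt
      omega
    · exact absurd h hPKi
  have hP'card : Nat.card (PK.subgroupOf N) = Nat.card PK :=
    Nat.card_congr (Subgroup.subgroupOfEquivOfLe hPKN).toEquiv
  have hlt : Nat.card (N ⧸ PK.subgroupOf N) < n := by
    have h2 := Subgroup.card_eq_card_quotient_mul_card_subgroup (PK.subgroupOf N)
    rw [hP'card] at h2
    have h3 : Nat.card N ≤ Nat.card G := Subgroup.card_le_card_group N
    have hpos : 0 < Nat.card (N ⧸ PK.subgroupOf N) := Nat.card_pos
    rw [← hn]
    nlinarith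
  -- images
  have hL1 : PK.subgroupOf N ≤ H'.subgroupOf N := Subgroup.comap_mono hPKH'
  have hL2 : PK.subgroupOf N ≤ K.subgroupOf N := Subgroup.comap_mono hPKle
  have hc1 := card_map_mk'_mul (PK.subgroupOf N) (H'.subgroupOf N) hL1
  have hc2 := card_map_mk'_mul (PK.subgroupOf N) (K.subgroupOf N) hL2
  have hcH' : Nat.card (H'.subgroupOf N) = Nat.card H :=
    (Nat.card_congr (Subgroup.subgroupOfEquivOfLe hH'N').toEquiv).trans hH'card
  have hcK : Nat.card (K.subgroupOf N) = Nat.card K :=
    Nat.card_congr (Subgroup.subgroupOfEquivOfLe hKN').toEquiv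
  rw [hcH'] at hc1
  rw [hcK] at hc2
  have hcardbar : Nat.card ((H'.subgroupOf N).map (QuotientGroup.mk' (PK.subgroupOf N))) =
      Nat.card ((K.subgroupOf N).map (QuotientGroup.mk' (PK.subgroupOf N))) := by
    have hpos : 0 < Nat.card (PK.subgroupOf N) := Nat.card_pos
    apply Nat.eq_of_mul_eq_mul_left hpos
    rw [hc1, hc2, hcard]
  have hs1 : Cfsg.IsSupersolvable ((H'.subgroupOf N).map (QuotientGroup.mk' (PK.subgroupOf N))) := by
    have e1 : H'.subgroupOf N ≃* H' := Subgroup.subgroupOfEquivOfLe hH'N'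
    have hs : Cfsg.IsSupersolvable (H'.subgroupOf N) := isSupersolvable_of_mulEquiv e1.symm hH's
    exact isSupersolvable_of_surjective
      ((QuotientGroup.mk' (PK.subgroupOf N)).subgroupMap (H'.subgroupOf N))
      (MonoidHom.subgroupMap_surjective _ _) hs
  have hs2 : Cfsg.IsSupersolvable ((K.subgroupOf N).map (QuotientGroup.mk' (PK.subgroupOf N))) := by
    have e1 : K.subgroupOf N ≃* K := Subgroup.subgroupOfEquivOfLe hKN'
    have hs : Cfsg.IsSupersolvable (K.subgroupOf N) := isSupersolvable_of_mulEquiv e1.symm hK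
    exact isSupersolvable_of_surjective
      ((QuotientGroup.mk' (PK.subgroupOf N)).subgroupMap (K.subgroupOf N))
      (MonoidHom.subgroupMap_surjective _ _) hs
  have hHallbar : (Nat.card ((H'.subgroupOf N).map (QuotientGroup.mk' (PK.subgroupOf N)))).Coprime
      ((H'.subgroupOf N).map (QuotientGroup.mk' (PK.subgroupOf N))).index := by
    have hd1 : Nat.card ((H'.subgroupOf N).map (QuotientGroup.mk' (PK.subgroupOf N))) ∣
        Nat.card H := Dvd.intro_left _ hc1
    have hd2 : ((H'.subgroupOf N).map (QuotientGroup.mk' (PK.subgroupOf N))).index ∣ H.index := by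
      rw [Subgroup.index_map_eq _ (QuotientGroup.mk'_surjective _)
        (by rw [QuotientGroup.ker_mk']; exact hL1)]
      rw [← hH'idx]
      exact Subgroup.relIndex_dvd_index_of_le hH'N'
    exact Nat.Coprime.coprime_dvd_left hd1 (Nat.Coprime.coprime_dvd_right hd2 hHall)
  obtain ⟨y, hy⟩ := ih _ hlt (N ⧸ PK.subgroupOf N) _ _ rfl hs1 hs2 hcardbar hHallbar
  obtain ⟨x, hx⟩ := exists_conj_of_map_mk' (PK.subgroupOf N) _ _ hL1 hL2 ⟨y, hy⟩
  have hx' := conj_smul_eq_of_subgroupOf N H' K hH'N' hKN' x hx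
  refine ⟨(x : G) * g, ?_⟩
  rw [map_mul, mul_smul, ← hH', hx']

end Cfsg.Agent.Helper9
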