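import Cfsg.Prelude.Def_SolvableStructure
import Cfsg.Agent.Lib.Hall

namespace Cfsg.Agent.Helper9

open Subgroup Pointwise

universe u v
variable {G : Type u} [Group G]

/-- Index of an intersection of subgroups with coprime indices. -/
theorem index_inf_of_coprime_index [Finite G] (A B : Subgroup G)
    (h : Nat.Coprime A.index B.index) : (A ⊓ B).index = A.index * B.index := by
  have h1 : (A ⊓ B).relIndex A * A.index = (A ⊓ B).index := Subgroup.relIndex_mul_index inf_le_left
  have h2 : (A ⊓ B).relIndex B * B.index = (A ⊓ B).index := Subgroup.relIndex_mul_index inf_le_right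
  have hd : A.index * B.index ∣ (A ⊓ B).index :=
    h.mul_dvd_of_dvd_of_dvd ⟨_, by rw [← h1, mul_comm]⟩ ⟨_, by rw [← h2, mul_comm]⟩
  have hle : (A ⊓ B).index ≤ A.index * B.index := Subgroup.index_inf_le
  have hne : (A ⊓ B).index ≠ 0 := Subgroup.index_ne_zero_of_finite
  exact le_antisymm hle (Nat.le_of_dvd (Nat.pos_of_ne_zero hne) hd)

/-- Subgroups of coprime index factorize the group. -/
theorem exists_mul_of_coprime_index [Finite G] (A B : Subgroup G)
    (h : Nat.Coprime A.index B.index) (g : G) : ∃ a ∈ A, ∃ b ∈ B, g = a * b := by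
  have h1 : (A ⊓ B).relIndex A * A.index = (A ⊓ B).index := Subgroup.relIndex_mul_index inf_le_left
  rw [index_inf_of_coprime_index A B h, Subgroup.inf_relIndex_left, mul_comm] at h1
  have hA0 : A.index ≠ 0 := Subgroup.index_ne_zero_of_finite
  have h2 : B.relIndex A = B.index := Nat.eq_of_mul_eq_mul_left (Nat.pos_of_ne_zero hA0) h1
  -- the map `A / (A ∩ B) → G / B`
  let φ : A ⧸ B.subgroupOf A → G ⧸ B :=
    Quotient.map' (A.subtype) fun a b => by
      simp_rw [QuotientGroup.leftRel_eq]
      exact id
  have hφ : Function.Injective φ :=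
    Quotient.ind₂' <| by
      intro a b hab
      have : (QuotientGroup.mk (a : G) : G ⧸ B) = QuotientGroup.mk (b : G) := hab
      rw [QuotientGroup.eq] at this
      apply Quotient.sound'
      rw [QuotientGroup.leftRel_apply]
      exact this
  have hcard : Nat.card (A ⧸ B.subgroupOf A) = Nat.card (G ⧸ B) := by
    rw [← Subgroup.index_eq_card, ← Subgroup.index_eq_card]; exact h2
  have hbij : Function.Bijective φ :=
    (Nat.bijective_iff_injective_and_card φ).mpr ⟨hφ, hcard⟩
  obtain ⟨q, hq⟩ := hbij.2 (QuotientGroup.mk g)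
  obtain ⟨a, rfl⟩ := QuotientGroup.mk_surjective q
  have : (QuotientGroup.mk (a : G) : G ⧸ B) = QuotientGroup.mk g := hq
  rw [QuotientGroup.eq] at this
  exact ⟨a, a.2, _, this, by group⟩


theorem conj_smul_eq_self_of_mem_normalizer {g : G} {H : Subgroup G}
    (hg : g ∈ normalizer (H : Set G)) : MulAut.conj g • H = H :=
  mem_normalizer_iff_map_conj_eq.mp hg

theorem mem_normalizer_of_conj_smul_eq_self {g : G} {H : Subgroup G}
    (hg : MulAut.conj g • H = H) : g ∈ normalizer (H : Set G) :=
  mem_normalizer_iff_map_conj_eq.mpr hg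

theorem index_conj_smul (g : G) (H : Subgroup G) : (MulAut.conj g • H).index = H.index :=
  Subgroup.index_map_equiv H (MulAut.conj g)

theorem cs_conj {K : Nat.Primes → Subgroup G} (hK : Cfsg.IsComplementSystem K)
    (g : G) : Cfsg.IsComplementSystem (fun p => MulAut.conj g • K p) := by
  intro p
  rw [index_conj_smul]; exact hK p

/-- The order of a member of a complement system. -/
theorem cs_card_mul [Finite G] {K : Nat.Primes → Subgroup G}
    (hK : Cfsg.IsComplementSystem K) (p : Nat.Primes) :
    Nat.card G = Nat.card (K p) * (p : ℕ) ^ (Nat.card G).factorization p := by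
  rw [← hK p, Subgroup.card_mul_index]

theorem cs_coprime [Finite G] {K : Nat.Primes → Subgroup G}
    (hK : Cfsg.IsComplementSystem K) (p : Nat.Primes) :
    Nat.Coprime (Nat.card (K p)) ((p : ℕ) ^ (Nat.card G).factorization p) := by
  have h1 := cs_card_mul hK p
  have hG0 : Nat.card G ≠ 0 := Nat.card_pos.ne'
  have h2 : Nat.card (K p) = (Nat.card G) / (p : ℕ) ^ (Nat.card G).factorization p := by
    rw [Nat.div_eq_of_eq_mul_left (pow_pos p.2.pos _) h1]
  rw [h2]
  exact (Nat.coprime_ordCompl p.2 hG0).symm.pow_right _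

/-- Two members for the same prime are conjugate. -/
theorem cs_exists_conj [Finite G] [Group.IsSolvable G]
    {K L : Nat.Primes → Subgroup G}
    (hK : Cfsg.IsComplementSystem K) (hL : Cfsg.IsComplementSystem L) (p : Nat.Primes) :
    ∃ g : G, MulAut.conj g • K p = L p := by
  have hcK := cs_card_mul hK p
  have hcL := cs_card_mul hL p
  have hpos : 0 < (p : ℕ) ^ (Nat.card G).factorization p := pow_pos p.2.pos _
  have hKL : Nat.card (L p) = Nat.card (K p) := by
    have : Nat.card (L p) * (p : ℕ) ^ (Nat.card G).factorization p =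
        Nat.card (K p) * (p : ℕ) ^ (Nat.card G).factorization p := by rw [← hcK, ← hcL]
    exact Nat.eq_of_mul_eq_mul_right hpos this
  exact Cfsg.Agent.Lib.hall_conj _ _ hcK (cs_coprime hK p) (K p) (L p) rfl hKL

/-- The index of the normalizer of a member is a power of the prime. -/
theorem cs_prime_dvd_index_normalizer [Finite G] {K : Nat.Primes → Subgroup G}
    (hK : Cfsg.IsComplementSystem K) (p : Nat.Primes) (r : ℕ) (hr : r.Prime)
    (hrd : r ∣ (normalizer (K p : Set G)).index) : r = p := by
  have h1 : (normalizer (K p : Set G)).index ∣ (K p).index :=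
    Subgroup.index_dvd_of_le Subgroup.le_normalizer
  rw [hK p] at h1
  have h2 : r ∣ (p : ℕ) ^ (Nat.card G).factorization p := dvd_trans hrd h1
  exact (Nat.prime_dvd_prime_iff_eq hr p.2).mp (hr.dvd_of_dvd_pow h2)

/-- Indices of intersections of normalizers over a finite set of primes. -/
theorem cs_prime_dvd_index_iInf_normalizer [Finite G]
    {K : Nat.Primes → Subgroup G} (hK : Cfsg.IsComplementSystem K) (I : Finset Nat.Primes) :
    ∀ r : ℕ, r.Prime → r ∣ (⨅ p ∈ I, normalizer (K p : Set G)).index → ∃ p ∈ I, r = (p : ℕ) := by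
  classical
  induction I using Finset.induction_on with
  | empty =>
    intro r hr hrd
    simp only [Finset.notMem_empty, iInf_false, iInf_top, Subgroup.index_top, Nat.dvd_one] at hrd
    exact absurd hrd hr.ne_one
  | insert q I hq ih =>
    intro r hr hrd
    rw [Finset.iInf_insert] at hrd
    have hcop : Nat.Coprime (normalizer (K q : Set G)).index
        (⨅ p ∈ I, normalizer (K p : Set G)).index := by
      apply Nat.coprime_of_dvd
      intro k hk hk1 hk2
      have h1 := cs_prime_dvd_index_normalizer hK q k hk hk1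
      obtain ⟨p, hpI, hp⟩ := ih k hk hk2
      have : q = p := Subtype.ext (h1.symm.trans hp)
      exact hq (this ▸ hpI)
    rw [index_inf_of_coprime_index _ _ hcop] at hrd
    rcases (Nat.Prime.dvd_mul hr).mp hrd with h | h
    · exact ⟨q, Finset.mem_insert_self q I, cs_prime_dvd_index_normalizer hK q r hr h⟩
    · obtain ⟨p, hpI, hp⟩ := ih r hr h
      exact ⟨p, Finset.mem_insert_of_mem hpI, hp⟩

theorem cs_exists_conj_finset [Finite G] [Group.IsSolvable G]
    {K L : Nat.Primes → Subgroup G}
    (hK : Cfsg.IsComplementSystem K) (hL : Cfsg.IsComplementSystem L) (I : Finset Nat.Primes) :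
    ∃ g : G, ∀ p ∈ I, MulAut.conj g • K p = L p := by
  classical
  induction I using Finset.induction_on with
  | empty => exact ⟨1, fun p hp => absurd hp (Finset.notMem_empty p)⟩
  | insert q I hq ih =>
    obtain ⟨g, hg⟩ := ih
    have hK' := cs_conj hK g
    obtain ⟨y, hy⟩ := cs_exists_conj hK' hL q
    have hcop : Nat.Coprime (⨅ p ∈ I, normalizer ((MulAut.conj g • K p : Subgroup G) : Set G)).index
        (normalizer ((MulAut.conj g • K q : Subgroup G) : Set G)).index := by
      apply Nat.coprime_of_dvd
      intro k hk hk1 hk2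
      obtain ⟨p, hpI, hp⟩ := cs_prime_dvd_index_iInf_normalizer hK' I k hk hk1
      have h1 := cs_prime_dvd_index_normalizer hK' q k hk hk2
      have : q = p := Subtype.ext (h1.symm.trans hp)
      exact hq (this ▸ hpI)
    obtain ⟨a, ha, b, hb, hab⟩ := exists_mul_of_coprime_index _ _ hcop y
    refine ⟨a * g, ?_⟩
    intro p hp
    rw [map_mul, mul_smul]
    rcases Finset.mem_insert.mp hp with rfl | hpI
    · rw [← hy, hab, map_mul, mul_smul, conj_smul_eq_self_of_mem_normalizer hb]
    · rw [Subgroup.mem_iInf] at ha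
      have ha' := ha p
      rw [Subgroup.mem_iInf] at ha'
      rw [conj_smul_eq_self_of_mem_normalizer (ha' hpI)]
      exact hg p hpI

theorem cs_eq_top_of_not_dvd [Finite G] {K : Nat.Primes → Subgroup G}
    (hK : Cfsg.IsComplementSystem K) (p : Nat.Primes) (hp : ¬ (p : ℕ) ∣ Nat.card G) :
    K p = ⊤ := by
  rw [← Subgroup.index_eq_one, hK p, Nat.factorization_eq_zero_of_not_dvd hp, pow_zero]

theorem cs_exists_conj_all [Finite G] [Group.IsSolvable G]
    {K L : Nat.Primes → Subgroup G}
    (hK : Cfsg.IsComplementSystem K) (hL : Cfsg.IsComplementSystem L) :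
    ∃ g : G, ∀ p : Nat.Primes, MulAut.conj g • K p = L p := by
  classical
  let I : Finset Nat.Primes :=
    (Nat.card G).primeFactors.attach.map
      ⟨fun x => ⟨x.1, Nat.prime_of_mem_primeFactors x.2⟩, fun a b h => by
        apply Subtype.ext
        exact congrArg (fun z : Nat.Primes => (z : ℕ)) h⟩
  obtain ⟨g, hg⟩ := cs_exists_conj_finset hK hL I
  refine ⟨g, fun p => ?_⟩
  by_cases hp : (p : ℕ) ∣ Nat.card G
  · apply hg
    rw [Finset.mem_map]
    exact ⟨⟨p, Nat.mem_primeFactors.mpr ⟨p.2, hp, Nat.card_pos.ne'⟩⟩, Finset.mem_attach _ _, rfl⟩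
  · rw [cs_eq_top_of_not_dvd hK p hp, cs_eq_top_of_not_dvd hL p hp]
    exact (conj_smul_eq_self_of_mem_normalizer
      (Subgroup.le_normalizer_of_normal (H := (⊤ : Subgroup G)) (Subgroup.mem_top g)))

end Cfsg.Agent.Helper9
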