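import Cfsg.Agent.Helper9.FP2
import Cfsg.Agent.Helper1.FpfThompson
import Cfsg.Agent.Helper76.SmallSylowPrincipal
import Cfsg.Prelude.Def_OddOrderLocal

/-!
# Glue for Peterfalvi (7.1) (helper9)

* `fp_frob_struct`: a "Frobenius pair" `H < L` (`H` normal in `L`, containing the centralizers in
  `L` of its non-identity elements) has `H` nilpotent (Thompson) with a complement acting without
  fixed points (Schur–Zassenhaus).
* `fp_tfS_eq`: `inducedIrrAbove (K.subgroupOf N) ⊥ = tfS K`.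
* `fp_main`: Peterfalvi (7.1) from the coherence of every family.
-/

set_option autoImplicit false

namespace Cfsg.Agent.Helper9.FP

open Cfsg Cfsg.Agent.Helper75
open scoped ComplexConjugate

universe u v

section FrobType

variable {N : Type u} [Group N] [Finite N]

/-- A normal subgroup containing the centralizers of its non-identity elements is a Hall
subgroup. -/
theorem fp_coprime_of_cent (K : Subgroup N) [K.Normal]
    (hC : ∀ k ∈ K, k ≠ 1 → Subgroup.centralizer ({k} : Set N) ≤ K) :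
    (Nat.card K).Coprime K.index := by
  apply Nat.coprime_of_dvd
  intro p hp hpK hpI
  haveI : Fact p.Prime := ⟨hp⟩
  obtain ⟨y, hy⟩ := exists_prime_orderOf_dvd_card' p hpK
  have hy1 : (y : N) ≠ 1 := by
    intro hc
    have : y = 1 := Subtype.ext hc
    rw [this, orderOf_one] at hy
    exact hp.one_lt.ne' hy.symm
  have hP₁ : IsPGroup p (Subgroup.zpowers (y : N)) := by
    apply IsPGroup.of_card (n := 1)
    rw [Nat.card_zpowers, Subgroup.orderOf_coe, hy, pow_one]
  obtain ⟨S, hS⟩ := hP₁.exists_le_sylow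
  have hyS : (y : N) ∈ (S : Subgroup N) := hS (Subgroup.mem_zpowers _)
  haveI : Nontrivial (S : Subgroup N) := by
    refine ⟨⟨⟨(y : N), hyS⟩, 1, ?_⟩⟩
    intro hc
    exact hy1 (congrArg Subtype.val hc)
  haveI := IsPGroup.center_nontrivial S.isPGroup'
  obtain ⟨z, hz1⟩ := exists_ne (1 : Subgroup.center (S : Subgroup N))
  have hzc : ∀ s : (S : Subgroup N), s * (z : (S : Subgroup N)) = (z : (S : Subgroup N)) * s :=
    fun s => (Subgroup.mem_center_iff.mp z.2 s)
  have hzN1 : ((z : (S : Subgroup N)) : N) ≠ 1 := by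
    intro hc
    apply hz1
    apply Subtype.ext
    apply Subtype.ext
    exact hc
  have hzK : ((z : (S : Subgroup N)) : N) ∈ K := by
    apply hC (y : N) y.2 hy1
    rw [Subgroup.mem_centralizer_singleton_iff]
    have h1 := hzc ⟨(y : N), hyS⟩
    exact (congrArg Subtype.val h1).symm
  have hSK : (S : Subgroup N) ≤ K := by
    intro s hs
    apply hC _ hzK hzN1
    rw [Subgroup.mem_centralizer_singleton_iff]
    have h1 := hzc ⟨s, hs⟩
    exact congrArg Subtype.val h1
  have h1 : K.index ∣ (S : Subgroup N).index := Subgroup.index_dvd_of_le hSK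
  exact S.not_dvd_index (dvd_trans hpI h1)

/-- Thompson: a proper non-trivial normal subgroup containing the centralizers of its non-identity
elements is nilpotent, and has a complement acting without fixed points. -/
theorem fp_frob_type (K : Subgroup N) [K.Normal] (hKtop : K ≠ ⊤)
    (hC : ∀ k ∈ K, k ≠ 1 → Subgroup.centralizer ({k} : Set N) ≤ K) :
    Group.IsNilpotent K ∧ ∃ W : Subgroup N, W ≠ ⊥ ∧ K ⊓ W = ⊥ ∧ K ⊔ W = ⊤ ∧
      (∀ w ∈ W, w ≠ 1 → ∀ k ∈ K, w * k = k * w → k = 1) := by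
  have hcop := fp_coprime_of_cent K hC
  obtain ⟨W, hW⟩ := Subgroup.exists_right_complement'_of_coprime hcop
  have hWbot : W ≠ ⊥ := by
    intro h
    rw [h, Subgroup.isComplement'_bot_right] at hW
    exact hKtop hW
  have hfpf : ∀ w ∈ W, w ≠ 1 → ∀ k ∈ K, w * k = k * w → k = 1 := by
    intro w hw hw1 k hk hwk
    by_contra hk1
    have h1 : w ∈ K := by
      apply hC k hk hk1
      rw [Subgroup.mem_centralizer_singleton_iff]
      exact hwk
    have h2 : w ∈ K ⊓ W := Subgroup.mem_inf.mpr ⟨h1, hw⟩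
    rw [hW.disjoint.eq_bot, Subgroup.mem_bot] at h2
    exact hw1 h2
  refine ⟨?_, W, hWbot, hW.disjoint.eq_bot, hW.sup_eq_top, hfpf⟩
  -- an element of prime order in `W`
  have hWne : Nat.card W ≠ 1 := fun h => hWbot (Subgroup.card_eq_one.mp h)
  obtain ⟨r, hr, hrd⟩ := Nat.exists_prime_and_dvd hWne
  haveI : Fact r.Prime := ⟨hr⟩
  obtain ⟨w, hw⟩ := exists_prime_orderOf_dvd_card' (G := ↥W) r hrd
  have hw' : orderOf (w : N) = r := by rw [Subgroup.orderOf_coe]; exact hw
  have hw1 : (w : N) ≠ 1 := by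
    intro h1
    rw [h1, orderOf_one] at hw'
    exact hr.one_lt.ne hw'
  apply Cfsg.Agent.Helper1.fpf_prime_nilpotent hr (MulAut.conjNormal (H := K) (w : N))
  · intro n hn
    have h1 : (w : N) * n * (w : N)⁻¹ = n := by
      have := congrArg Subtype.val hn
      simpa [MulAut.conjNormal_apply] using this
    have h2 : (w : N) * n = n * w := mul_inv_eq_iff_eq_mul.mp h1
    have h3 := hfpf (w : N) w.2 hw1 (n : N) n.2 h2
    exact Subtype.ext h3
  · rw [← map_pow, ← hw', pow_orderOf_eq_one, map_one]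

end FrobType

section FrobPair

variable {G : Type u} [Group G] [Finite G]

/-- The structure of a "Frobenius pair" `H < L`. -/
theorem fp_frob_struct (H L : Subgroup G) (hHL : H < L)
    (hHn : ∀ x ∈ L, ∀ h ∈ H, x * h * x⁻¹ ∈ H)
    (hfrob : ∀ h ∈ H, h ≠ 1 → L ⊓ Subgroup.centralizer ({h} : Set G) ≤ H) :
    Group.IsNilpotent H ∧ ∃ W₁ : Subgroup G, W₁ ≤ L ∧ W₁ ≠ ⊥ ∧ H ⊓ W₁ = ⊥ ∧ H ⊔ W₁ = L ∧
      (∀ w ∈ W₁, w ≠ 1 → ∀ h ∈ H, w * h = h * w → h = 1) := by
  let K : Subgroup L := H.subgroupOf L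
  have hKn : K.Normal := ⟨fun n hn g => by
    show ((g * n * g⁻¹ : L) : G) ∈ H
    have := hHn g g.2 n (Subgroup.mem_subgroupOf.mp hn)
    simpa using this⟩
  have hKtop : K ≠ ⊤ := by
    intro h
    rw [Subgroup.subgroupOf_eq_top] at h
    exact (not_le_of_gt hHL) h
  have hC : ∀ k ∈ K, k ≠ 1 → Subgroup.centralizer ({k} : Set L) ≤ K := by
    intro k hk hk1 x hx
    rw [Subgroup.mem_centralizer_singleton_iff] at hx
    show (x : G) ∈ H
    apply hfrob (k : G) (Subgroup.mem_subgroupOf.mp hk) (fun h => hk1 (Subtype.ext h))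
    refine Subgroup.mem_inf.mpr ⟨x.2, ?_⟩
    rw [Subgroup.mem_centralizer_singleton_iff]
    exact_mod_cast congrArg Subtype.val hx
  obtain ⟨hnil, W, hWbot, hinf, hsup, hfpf⟩ := fp_frob_type K hKtop hC
  have hHK : K.map L.subtype = H := Subgroup.map_subgroupOf_eq_of_le hHL.le
  refine ⟨?_, W.map L.subtype, ?_, ?_, ?_, ?_, ?_⟩
  · exact (Group.isNilpotent_congr (Subgroup.subgroupOfEquivOfLe hHL.le)).mp hnil
  · exact Subgroup.map_subtype_le W
  · intro h
    apply hWbot
    rwa [Subgroup.map_eq_bot_iff_of_injective _ L.subtype_injective] at h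
  · rw [← hHK, ← Subgroup.map_inf _ _ _ L.subtype_injective, hinf, Subgroup.map_bot]
  · rw [← hHK, ← Subgroup.map_sup, hsup, ← MonoidHom.range_eq_map, Subgroup.range_subtype]
  · rintro w ⟨w', hw', rfl⟩ hw1 h hh hcomm
    have h1 : w' ≠ 1 := by
      intro h
      apply hw1
      rw [h]
      rfl
    have := hfpf w' hw' h1 ⟨h, hHL.le hh⟩ (Subgroup.mem_subgroupOf.mpr hh) (Subtype.ext hcomm)
    exact congrArg Subtype.val this

end FrobPair

section Glue

theorem fp_orderOf_conj {G : Type*} [Group G] (x g : G) : orderOf (x * g * x⁻¹) = orderOf g := by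
  have := orderOf_injective (MulAut.conj x).toMonoidHom (MulAut.conj x).injective g
  simpa using this

variable {G : Type u} [Group G] [Fintype G]

/-- The set of characters in Peterfalvi's (6.8) is the set of relevant characters `tfS K`. -/
theorem fp_tfS_eq (K : Subgroup G) [Fintype ↥(Subgroup.normalizer (K : Set G))]
    (hC : ∀ k ∈ K, k ≠ 1 → Subgroup.centralizer ({k} : Set G) ≤ K) :
    inducedIrrAbove (K.subgroupOf (Subgroup.normalizer (K : Set G))) ⊥ = tfS K := by
  ext φ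
  constructor
  · rintro ⟨θ, hθ, hθ1, _, rfl⟩
    obtain ⟨hirr, k, hk, hne⟩ := tf_ind_relevant (tf_hC' hC) hθ hθ1
    exact ⟨hirr, k, Subgroup.mem_subgroupOf.mp hk, hne⟩
  · intro hχ
    obtain ⟨φ', hφ', hφ1, hχφ⟩ := tf_mem_induced' hC hχ
    refine ⟨φ', hφ', hφ1, ?_, hχφ⟩
    intro a ha
    have h1 : (a : ↥(Subgroup.normalizer (K : Set G))) = 1 := Subgroup.mem_bot.mp ha
    have h2 : a = 1 := Subtype.ext h1
    rw [h2]

theorem fp_cohStar_of_isCoherent (K : Subgroup G) [Fintype ↥(Subgroup.normalizer (K : Set G))]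
    (hC : ∀ k ∈ K, k ≠ 1 → Subgroup.centralizer ({k} : Set G) ≤ K)
    (h : IsCoherent (inducedIrrAbove (K.subgroupOf (Subgroup.normalizer (K : Set G))) ⊥) {1}ᶜ
      (fun α : ↥(Subgroup.normalizer (K : Set G)) → ℂ =>
        indFun (Subgroup.normalizer (K : Set G)) α)) :
    ∃ star, CohStar K star := by
  rw [fp_tfS_eq K hC] at h
  obtain ⟨_, τ₁, ⟨hadd, hsmul, hiso, hgen⟩, hext⟩ := h
  exact ⟨τ₁, ⟨hadd, hsmul, hiso, hgen, hext⟩⟩

/-- **Peterfalvi (7.1)** from the coherence of every family. -/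
theorem fp_main (hodd : Odd (Nat.card G)) {ι : Type v} [Fintype ι]
    (hι : 2 ≤ Fintype.card ι) (L H : ι → Subgroup G) (hHL : ∀ i, H i < L i)
    (hH1 : ∀ i, H i ≠ ⊥) (hHn : ∀ i, ∀ x ∈ L i, ∀ h ∈ H i, x * h * x⁻¹ ∈ H i)
    (hfrob : ∀ i, ∀ h ∈ H i, h ≠ 1 → L i ⊓ Subgroup.centralizer ({h} : Set G) ≤ H i)
    (hcop : ∀ i j, i ≠ j → Nat.Coprime (Nat.card (H i)) (Nat.card (H j)))
    (hTI : ∀ i, Cfsg.IsTISubset (H i : Set G) ∧ Subgroup.normalizer (H i : Set G) = L i)
    (hcover : ∀ g : G, g ≠ 1 → ∃ i, ∃ x : G, x * g * x⁻¹ ∈ H i)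
    (hcoh : ∀ i, ∀ [Fintype ↥(Subgroup.normalizer (H i : Set G))],
      ∃ star, CohStar (H i) star) : False := by
  classical
  have hTI' : ∀ i, ∀ g : G, g ∉ Subgroup.normalizer (H i : Set G) →
      ∀ k ∈ H i, g * k * g⁻¹ ∈ H i → k = 1 := fun i => (hTI i).1
  have hC : ∀ i, ∀ k ∈ H i, k ≠ 1 → Subgroup.centralizer ({k} : Set G) ≤ H i := by
    intro i k hk hk1 x hx
    rw [Subgroup.mem_centralizer_singleton_iff] at hx
    have hxN : x ∈ Subgroup.normalizer (H i : Set G) := by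
      by_contra hcon
      apply hk1
      apply hTI' i x hcon k hk
      have : x * k * x⁻¹ = k := by rw [hx]; group
      rw [this]
      exact hk
    rw [(hTI i).2] at hxN
    apply hfrob i k hk hk1
    refine Subgroup.mem_inf.mpr ⟨hxN, ?_⟩
    rw [Subgroup.mem_centralizer_singleton_iff]
    exact hx
  have hD : ∀ i, Nonempty (ExcFamN (H i)) := by
    intro i
    letI : Fintype ↥(Subgroup.normalizer (H i : Set G)) := Fintype.ofFinite _
    obtain ⟨star, hS⟩ := hcoh i
    apply fp_excFam_exists hodd (hC i) (hTI' i) hS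
    -- a relevant character of degree `|N : K|`
    obtain ⟨hnil, -⟩ := fp_frob_struct (H i) (L i) (hHL i) (hHn i) (hfrob i)
    let K' := (H i).subgroupOf (Subgroup.normalizer (H i : Set G))
    have hle : H i ≤ Subgroup.normalizer (H i : Set G) := Subgroup.le_normalizer
    have hnil' : Group.IsNilpotent K' :=
      (Group.isNilpotent_congr (Subgroup.subgroupOfEquivOfLe hle)).mpr hnil
    have hnt : Nontrivial K' := by
      obtain ⟨x, hx1⟩ := (Subgroup.ne_bot_iff_exists_ne_one).mp (hH1 i)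
      refine ⟨⟨⟨⟨x, hle x.2⟩, Subgroup.mem_subgroupOf.mpr x.2⟩, 1, ?_⟩⟩
      intro h
      apply hx1
      apply Subtype.ext
      have := congrArg (fun y : K' => ((y : ↥(Subgroup.normalizer (H i : Set G))) : G)) h
      simpa using this
    have hcomm : commutator K' ≠ ⊤ := (Group.IsSolvable.commutator_lt_top_of_nontrivial K').ne
    obtain ⟨φ, hφ1, hφdeg⟩ := Cfsg.Agent.Helper76.exists_nonprincipal_linear hcomm
    obtain ⟨hirr, k, hk, hne⟩ := tf_ind_relevant (tf_hC' (hC i)) φ.2 hφ1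
    refine ⟨indFun K' (φ : K' → ℂ), ⟨hirr, k, Subgroup.mem_subgroupOf.mp hk, hne⟩, ?_⟩
    rw [Helper15.indFun_apply_one, Helper78.irrChar_one_eq_charDegree φ.2, hφdeg, Nat.cast_one,
      mul_one]
    rfl
  let D : ∀ i, ExcFamN (H i) := fun i => Classical.choice (hD i)
  have hS : FPSetup H := by
    refine ⟨hodd, hH1, hTI', ?_, ?_⟩
    · intro g hg
      obtain ⟨i, x, hx⟩ := hcover g hg
      exact ⟨i, mem_Kconj.mpr ⟨hg, x, hx⟩⟩
    · intro i j hij g hgi hgj
      obtain ⟨hg1, x, hx⟩ := mem_Kconj.mp hgi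
      obtain ⟨_, y, hy⟩ := mem_Kconj.mp hgj
      apply hg1
      have h1 : orderOf g ∣ Nat.card (H i) := by
        have := Subgroup.orderOf_dvd_natCard (H i) hx
        rwa [fp_orderOf_conj] at this
      have h2 : orderOf g ∣ Nat.card (H j) := by
        have := Subgroup.orderOf_dvd_natCard (H j) hy
        rwa [fp_orderOf_conj] at this
      have h3 : orderOf g = 1 := Nat.eq_one_of_dvd_coprimes (hcop i j hij) h1 h2
      exact orderOf_eq_one_iff.mp h3
  have hι' : ∃ i j : ι, i ≠ j := Fintype.one_lt_card_iff.mp (by omega)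
  have he : ∀ i, 1 < caE (H i) := by
    intro i
    unfold caE
    have h0 : ((H i).subgroupOf (Subgroup.normalizer (H i : Set G))).index ≠ 0 :=
      Subgroup.index_ne_zero_of_finite
    have h1 : ((H i).subgroupOf (Subgroup.normalizer (H i : Set G))).index ≠ 1 := by
      intro h
      rw [Subgroup.index_eq_one, Subgroup.subgroupOf_eq_top, (hTI i).2] at h
      exact (not_le_of_gt (hHL i)) h
    omega
  have hcop' : ∀ i j, i ≠ j → Nat.card (H i) ≠ Nat.card (H j) := by
    intro i j hij h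
    have h1 := hcop i j hij
    rw [h, Nat.coprime_self] at h1
    exact hH1 j (Subgroup.card_eq_one.mp h1)
  exact fp_global hS D hι' he hcop'

/-- **Peterfalvi (7.1)** from Peterfalvi (6.8) (the statement of `S1524` for the group `G`). -/
theorem fp_main' (hodd : Odd (Nat.card G)) {ι : Type v} [Fintype ι]
    (hι : 2 ≤ Fintype.card ι) (L H : ι → Subgroup G) (hHL : ∀ i, H i < L i)
    (hH1 : ∀ i, H i ≠ ⊥) (hHn : ∀ i, ∀ x ∈ L i, ∀ h ∈ H i, x * h * x⁻¹ ∈ H i)
    (hfrob : ∀ i, ∀ h ∈ H i, h ≠ 1 → L i ⊓ Subgroup.centralizer ({h} : Set G) ≤ H i)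
    (hcop : ∀ i j, i ≠ j → Nat.Coprime (Nat.card (H i)) (Nat.card (H j)))
    (hTI : ∀ i, Cfsg.IsTISubset (H i : Set G) ∧ Subgroup.normalizer (H i : Set G) = L i)
    (hcover : ∀ g : G, g ≠ 1 → ∃ i, ∃ x : G, x * g * x⁻¹ ∈ H i)
    (h68 : ∀ (H L W₁ : Subgroup G) [Fintype L], Odd (Nat.card L) → H ≤ L → W₁ ≤ L → H ≠ ⊥ →
      W₁ ≠ ⊥ → Group.IsNilpotent H → (∀ x ∈ L, ∀ h ∈ H, x * h * x⁻¹ ∈ H) → H ⊓ W₁ = ⊥ →
      H ⊔ W₁ = L → (∀ w ∈ W₁, w ≠ 1 → ∀ h ∈ H, w * h = h * w → h = 1) →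
      Cfsg.IsTISubset (H : Set G) → Subgroup.normalizer (H : Set G) = L →
      Cfsg.IsCoherent (Cfsg.inducedIrrAbove (H.subgroupOf L) ⊥) {1}ᶜ
        (fun α : L → ℂ => Cfsg.indFun L α)) : False := by
  apply fp_main hodd hι L H hHL hH1 hHn hfrob hcop hTI hcover
  intro i inst
  have hTI' : ∀ g : G, g ∉ Subgroup.normalizer (H i : Set G) →
      ∀ k ∈ H i, g * k * g⁻¹ ∈ H i → k = 1 := (hTI i).1
  have hC : ∀ k ∈ H i, k ≠ 1 → Subgroup.centralizer ({k} : Set G) ≤ H i := by
    intro k hk hk1 x hx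
    rw [Subgroup.mem_centralizer_singleton_iff] at hx
    have hxN : x ∈ Subgroup.normalizer (H i : Set G) := by
      by_contra hcon
      apply hk1
      apply hTI' x hcon k hk
      have : x * k * x⁻¹ = k := by rw [hx]; group
      rw [this]
      exact hk
    rw [(hTI i).2] at hxN
    apply hfrob i k hk hk1
    refine Subgroup.mem_inf.mpr ⟨hxN, ?_⟩
    rw [Subgroup.mem_centralizer_singleton_iff]
    exact hx
  apply fp_cohStar_of_isCoherent (H i) hC
  have hNL := (hTI i).2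
  have hHL' : H i < Subgroup.normalizer (H i : Set G) := by rw [hNL]; exact hHL i
  have hHn' : ∀ x ∈ Subgroup.normalizer (H i : Set G), ∀ h ∈ H i, x * h * x⁻¹ ∈ H i := by
    rw [hNL]; exact hHn i
  have hfrob' : ∀ h ∈ H i, h ≠ 1 →
      Subgroup.normalizer (H i : Set G) ⊓ Subgroup.centralizer ({h} : Set G) ≤ H i := by
    rw [hNL]; exact hfrob i
  obtain ⟨hnil, W₁, hW₁L, hW₁1, hinf, hsup, hfpf⟩ :=
    fp_frob_struct (H i) (Subgroup.normalizer (H i : Set G)) hHL' hHn' hfrob'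
  have hoddL : Odd (Nat.card ↥(Subgroup.normalizer (H i : Set G))) :=
    Odd.of_dvd_nat hodd (Subgroup.card_subgroup_dvd_card _)
  exact h68 (H i) (Subgroup.normalizer (H i : Set G)) W₁ hoddL hHL'.le hW₁L (hH1 i) hW₁1 hnil
    hHn' hinf hsup hfpf (hTI i).1 rfl

end Glue

end Cfsg.Agent.Helper9.FP
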