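import Mathlib

namespace Cfsg.Agent.Helper9

open Subgroup Pointwise

universe u v
variable {G : Type u} [Group G]

/-- Minimal normal subgroups. -/
def IsMinNormal (M : Subgroup G) : Prop :=
  M.Normal ∧ M ≠ ⊥ ∧ ∀ N : Subgroup G, N.Normal → N ≤ M → N = ⊥ ∨ N = M

theorem IsMinNormal.map_equiv {G' : Type v} [Group G'] (φ : G ≃* G') {M : Subgroup G}
    (hM : IsMinNormal M) : IsMinNormal (M.map φ.toMonoidHom) := by
  obtain ⟨hn, hne, hmin⟩ := hM
  refine ⟨hn.map _ φ.surjective, ?_, ?_⟩
  · intro h
    apply hne
    rw [← le_bot_iff] at h ⊢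
    intro x hx
    have : φ x ∈ (⊥ : Subgroup G') := h (Subgroup.mem_map_of_mem _ hx)
    rw [Subgroup.mem_bot] at this ⊢
    exact φ.injective (this.trans (map_one φ).symm)
  · intro N' hN' hle
    have h1 : N'.comap φ.toMonoidHom ≤ M := by
      have := Subgroup.comap_mono (f := φ.toMonoidHom) hle
      rwa [Subgroup.comap_map_eq_self_of_injective φ.injective] at this
    have hsurj : Function.Surjective φ.toMonoidHom := φ.surjective
    rcases hmin _ (hN'.comap _) h1 with h | h
    · left
      have := congrArg (Subgroup.map φ.toMonoidHom) h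
      rwa [Subgroup.map_comap_eq_self_of_surjective hsurj, Subgroup.map_bot] at this
    · right
      have := congrArg (Subgroup.map φ.toMonoidHom) h
      rwa [Subgroup.map_comap_eq_self_of_surjective hsurj] at this

/-- Below any nontrivial normal subgroup of a finite group there is a minimal normal subgroup. -/
theorem exists_isMinNormal_le [Finite G] (M : Subgroup G) (hM : M.Normal) (hne : M ≠ ⊥) :
    ∃ X : Subgroup G, IsMinNormal X ∧ X ≤ M := by
  obtain ⟨X, hX⟩ := exists_minimal_of_wellFoundedLT
    (fun X : Subgroup G => X.Normal ∧ X ≠ ⊥ ∧ X ≤ M) ⟨M, hM, hne, le_rfl⟩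
  refine ⟨X, ⟨hX.prop.1, hX.prop.2.1, fun N hN hNX => ?_⟩, hX.prop.2.2⟩
  by_cases h : N = ⊥
  · exact Or.inl h
  · exact Or.inr (le_antisymm hNX (hX.le_of_le ⟨hN, h, le_trans hNX hX.prop.2.2⟩ hNX))

theorem le_normalizer_of_forall_conj_mem (A B : Subgroup G)
    (h : ∀ a ∈ A, ∀ b ∈ B, a * b * a⁻¹ ∈ B) : A ≤ normalizer (B : Set G) := by
  intro a ha
  rw [Subgroup.mem_normalizer_iff]
  intro b
  constructor
  · intro hb; exact h a ha b hb
  · intro hb
    have := h a⁻¹ (A.inv_mem ha) _ hb
    simpa [mul_assoc] using this

theorem minNormal_le_normalizer_aux (n : ℕ) :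
    ∀ (G : Type u) [Group G] [Finite G], Nat.card G = n →
      ∀ (H M : Subgroup G), H.IsSubnormal → IsMinNormal M → M ≤ normalizer (H : Set G) := by
  induction n using Nat.strong_induction_on with
  | _ n ih =>
    intro G _ _ hn H M hH hM
    by_cases hHtop : H = ⊤
    · rw [hHtop]
      exact Subgroup.le_normalizer_of_normal
    obtain ⟨N, hNn, hHN, hNlt⟩ := hH.exists_normal_and_le_and_lt_top_of_ne hHtop
    obtain ⟨hMn, hMne, hMmin⟩ := hM
    by_cases hMN : M ⊓ N = ⊥
    · apply le_normalizer_of_forall_conj_mem
      intro m hm h hh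
      have hc : Commute m h :=
        Subgroup.commute_of_normal_of_disjoint M N hMn hNn (disjoint_iff.mpr hMN) m h hm (hHN hh)
      rw [hc.eq, mul_assoc, mul_inv_cancel, mul_one]
      exact hh
    · have hMleN : M ≤ N := by
        have hnorm : (M ⊓ N).Normal := Subgroup.normal_inf_normal M N
        rcases hMmin _ hnorm inf_le_left with h | h
        · exact absurd h hMN
        · exact inf_eq_left.mp h
      have hcardN : Nat.card N < n := by
        rw [← hn]
        have hle : Nat.card N ≤ Nat.card G := Subgroup.card_le_card_group N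
        refine lt_of_le_of_ne hle ?_
        intro h
        exact hNlt.ne ((Subgroup.card_eq_iff_eq_top N).mp h)
      set H' : Subgroup N := H.subgroupOf N with hH'
      have hH'sub : H'.IsSubnormal := hH.subgroupOf
      set M' : Subgroup N := M.subgroupOf N with hM'
      have hM'n : M'.Normal := hMn.subgroupOf N
      have hM'ne : M' ≠ ⊥ := by
        intro h
        apply hMne
        rw [← Subgroup.map_subgroupOf_eq_of_le hMleN, ← hM', h, Subgroup.map_bot]
      let 𝒳 : Set (Subgroup N) := {X | IsMinNormal X ∧ X ≤ M'}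
      set S : Subgroup N := sSup 𝒳 with hS
      have hSnorm : S ≤ normalizer (H' : Set N) := by
        apply sSup_le
        intro X hX
        exact ih _ hcardN N rfl H' X hH'sub hX.1
      have hSM' : S ≤ M' := sSup_le fun X hX => hX.2
      have hSne : S ≠ ⊥ := by
        obtain ⟨X, hX, hXM⟩ := exists_isMinNormal_le M' hM'n hM'ne
        intro h
        have : X ≤ S := le_sSup ⟨hX, hXM⟩
        rw [h, le_bot_iff] at this
        exact hX.2.1 this
      -- `S` is invariant under conjugation by `G`
      have hinv : ∀ g : G, S.map (MulAut.conjNormal (H := N) g).toMonoidHom ≤ S := by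
        intro g
        rw [Subgroup.map_le_iff_le_comap]
        apply sSup_le
        intro X hX
        rw [← Subgroup.map_le_iff_le_comap]
        apply le_sSup
        refine ⟨hX.1.map_equiv (MulAut.conjNormal (H := N) g), ?_⟩
        rintro _ ⟨x, hx, rfl⟩
        have hxM : (x : G) ∈ M := hX.2 hx
        show ((MulAut.conjNormal (H := N) g x : N) : G) ∈ M
        rw [MulAut.conjNormal_apply]
        exact hMn.conj_mem _ hxM g
      have hSmapn : (S.map N.subtype).Normal := by
        constructor
        rintro _ ⟨s, hs, rfl⟩ g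
        refine ⟨MulAut.conjNormal (H := N) g s, hinv g (Subgroup.mem_map_of_mem _ hs), ?_⟩
        simp [MulAut.conjNormal_apply]
      have hSmapM : S.map N.subtype ≤ M := by
        rw [← Subgroup.map_subgroupOf_eq_of_le hMleN]
        exact Subgroup.map_mono hSM'
      have hSmapne : S.map N.subtype ≠ ⊥ := by
        intro h
        apply hSne
        rw [← le_bot_iff] at h ⊢
        intro s hs
        have : (s : G) ∈ (⊥ : Subgroup G) := h (Subgroup.mem_map_of_mem N.subtype hs)
        rw [Subgroup.mem_bot] at this ⊢
        exact Subtype.ext this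
      have hSeq : S.map N.subtype = M := by
        rcases hMmin _ hSmapn hSmapM with h | h
        · exact absurd h hSmapne
        · exact h
      rw [← hSeq]
      apply le_normalizer_of_forall_conj_mem
      rintro _ ⟨s, hs, rfl⟩ h hh
      have hs' := hSnorm hs
      rw [Subgroup.mem_normalizer_iff] at hs'
      have h1 : (⟨h, hHN hh⟩ : N) ∈ H' := hh
      have h2 := (hs' ⟨h, hHN hh⟩).mp h1
      exact h2

/-- A minimal normal subgroup of a finite group normalizes every subnormal subgroup. -/
theorem IsMinNormal.le_normalizer [Finite G] {M : Subgroup G} (hM : IsMinNormal M)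
    {H : Subgroup G} (hH : H.IsSubnormal) : M ≤ normalizer (H : Set G) :=
  minNormal_le_normalizer_aux (Nat.card G) G rfl H M hH hM

end Cfsg.Agent.Helper9

namespace Cfsg.Agent.Helper9

open Subgroup Pointwise

universe u
variable {G : Type u} [Group G]

theorem isSubnormal_sup_aux (n : ℕ) :
    ∀ (G : Type u) [Group G] [Finite G], Nat.card G = n →
      ∀ (A B : Subgroup G), A.IsSubnormal → B.IsSubnormal → (A ⊔ B).IsSubnormal := by
  induction n using Nat.strong_induction_on with
  | _ n ih =>
    intro G _ _ hn A B hA hB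
    rcases subsingleton_or_nontrivial G with hs | hnt
    · have : A ⊔ B = ⊤ := Subsingleton.elim _ _
      rw [this]; exact Subgroup.IsSubnormal.top
    obtain ⟨M, hM, -⟩ := exists_isMinNormal_le (⊤ : Subgroup G) inferInstance top_ne_bot
    have hMn : M.Normal := hM.1
    have hcard : Nat.card (G ⧸ M) < n := by
      rw [← hn, Subgroup.card_eq_card_quotient_mul_card_subgroup M]
      have h1 : 1 < Nat.card M := by
        rw [Subgroup.one_lt_card_iff_ne_bot]; exact hM.2.1
      have hpos : 0 < Nat.card (G ⧸ M) := Nat.card_pos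
      nlinarith
    set π := QuotientGroup.mk' M with hπ
    have hsurj : Function.Surjective π := QuotientGroup.mk'_surjective M
    have h1 : ((A.map π) ⊔ (B.map π)).IsSubnormal :=
      ih _ hcard (G ⧸ M) rfl _ _ (hA.map hsurj) (hB.map hsurj)
    rw [← Subgroup.map_sup] at h1
    have h2 := h1.comap π
    rw [Subgroup.comap_map_eq, QuotientGroup.ker_mk'] at h2
    -- `A ⊔ B` is normal in `A ⊔ B ⊔ M`
    have hMle : M ≤ normalizer ((A ⊔ B : Subgroup G) : Set G) :=
      le_trans (le_inf (hM.le_normalizer hA) (hM.le_normalizer hB))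
        (Subgroup.normalizer_inf_normalizer_le_normalizer_sup A B)
    have hle : A ⊔ B ⊔ M ≤ normalizer ((A ⊔ B : Subgroup G) : Set G) :=
      sup_le Subgroup.le_normalizer hMle
    exact Subgroup.IsSubnormal.step _ _ le_sup_left h2
      ((Subgroup.normal_subgroupOf_iff_le_normalizer le_sup_left).mpr hle)

/-- **Wielandt**: the join of two subnormal subgroups of a finite group is subnormal. -/
theorem isSubnormal_sup [Finite G] {A B : Subgroup G} (hA : A.IsSubnormal) (hB : B.IsSubnormal) :
    (A ⊔ B).IsSubnormal :=
  isSubnormal_sup_aux (Nat.card G) G rfl A B hA hB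

/-- The join of a set of subnormal subgroups of a finite group is subnormal. -/
theorem isSubnormal_sSup [Finite G] (S : Set (Subgroup G)) (hS : ∀ U ∈ S, U.IsSubnormal) :
    (sSup S).IsSubnormal := by
  classical
  have hfin : S.Finite := Set.toFinite S
  induction S, hfin using Set.Finite.induction_on with
  | empty => rw [sSup_empty]; exact Subgroup.IsSubnormal.bot
  | insert _ _ ih =>
    rw [sSup_insert]
    exact isSubnormal_sup (hS _ (Set.mem_insert _ _))
      (ih fun U hU => hS U (Set.mem_insert_of_mem _ hU))

end Cfsg.Agent.Helper9
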