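import Mathlib

namespace Cfsg.Agent.Helper9

open Subgroup

universe u v
variable {G : Type u} [Group G]

/-- For a normal subgroup `K`, the index of `H ⊓ K` in `K` divides the index of `H`. -/
theorem relIndex_dvd_index_of_normal_right [Finite G] (H K : Subgroup G) [K.Normal] :
    H.relIndex K ∣ H.index := by
  have h1 : K.relIndex (H ⊔ K) = K.relIndex H := Subgroup.relIndex_sup_right H K
  have a1 : (⊥ : Subgroup G).relIndex (H ⊓ K) * (H ⊓ K).relIndex H = (⊥ : Subgroup G).relIndex H :=
    Subgroup.relIndex_mul_relIndex _ _ _ bot_le inf_le_left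
  have a2 : (⊥ : Subgroup G).relIndex (H ⊓ K) * (H ⊓ K).relIndex K = (⊥ : Subgroup G).relIndex K :=
    Subgroup.relIndex_mul_relIndex _ _ _ bot_le inf_le_right
  have a3 : (⊥ : Subgroup G).relIndex K * K.relIndex (H ⊔ K) = (⊥ : Subgroup G).relIndex (H ⊔ K) :=
    Subgroup.relIndex_mul_relIndex _ _ _ bot_le le_sup_right
  have a4 : (⊥ : Subgroup G).relIndex H * H.relIndex (H ⊔ K) = (⊥ : Subgroup G).relIndex (H ⊔ K) :=
    Subgroup.relIndex_mul_relIndex _ _ _ bot_le le_sup_left
  rw [Subgroup.inf_relIndex_left] at a1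
  rw [Subgroup.inf_relIndex_right] at a2
  have hpos : 0 < (⊥ : Subgroup G).relIndex (H ⊓ K) * K.relIndex H := by
    rw [a1, Subgroup.relIndex_bot_left]; exact Nat.card_pos
  have key : H.relIndex K = H.relIndex (H ⊔ K) := by
    apply Nat.eq_of_mul_eq_mul_left hpos
    calc (⊥ : Subgroup G).relIndex (H ⊓ K) * K.relIndex H * H.relIndex K
        = ((⊥ : Subgroup G).relIndex (H ⊓ K) * H.relIndex K) * K.relIndex H := by ring
      _ = (⊥ : Subgroup G).relIndex K * K.relIndex (H ⊔ K) := by rw [a2, h1]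
      _ = (⊥ : Subgroup G).relIndex H * H.relIndex (H ⊔ K) := by rw [a3, a4]
      _ = (⊥ : Subgroup G).relIndex (H ⊓ K) * K.relIndex H * H.relIndex (H ⊔ K) := by rw [a1]
  rw [key]
  exact Subgroup.relIndex_dvd_index_of_le le_sup_left

theorem not_dvd_relIndex_of_isSubnormal [Finite G] (p : ℕ) [Fact p.Prime] (S : Sylow p G)
    {H : Subgroup G} (hH : H.IsSubnormal) : ¬ p ∣ (S : Subgroup G).relIndex H := by
  induction hH with
  | top => rw [Subgroup.relIndex_top_right]; exact S.not_dvd_index
  | step H K hle hK hN ih =>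
    intro hdvd
    apply ih
    have h1 : ((S : Subgroup G).subgroupOf K).relIndex (H.subgroupOf K) ∣
        ((S : Subgroup G).subgroupOf K).index :=
      relIndex_dvd_index_of_normal_right _ _
    rw [Subgroup.relIndex_subgroupOf hle] at h1
    exact dvd_trans hdvd h1

end Cfsg.Agent.Helper9
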