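import Mathlib
import Cfsg.Agent.S0071
import Cfsg.Agent.Helper9.Sieve

set_option autoImplicit false

namespace Cfsg.Agent.Helper9

open Subgroup

/-- If `g ∉ C` then some element of prime power order in `⟨g⟩` is not in `C`. -/
theorem exists_prime_pow_orderOf_not_mem {G : Type*} [Group G] [Finite G] (C : Subgroup G) :
    ∀ (n : ℕ) (g : G), orderOf g = n → g ∉ C →
    ∃ (q k : ℕ) (x : G), q.Prime ∧ x ∈ Subgroup.zpowers g ∧ orderOf x = q ^ k ∧ x ∉ C := by
  intro n
  induction n using Nat.strong_induction_on with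
  | _ n ih =>
    intro g hn hg
    have hn0 : n ≠ 0 := by rw [← hn]; exact (orderOf_pos g).ne'
    have hn1 : n ≠ 1 := by
      intro h1
      rw [h1] at hn
      rw [orderOf_eq_one_iff] at hn
      exact hg (hn ▸ C.one_mem)
    obtain ⟨q, hq⟩ : ∃ q, q = n.minFac := ⟨_, rfl⟩
    have hqp : q.Prime := hq ▸ Nat.minFac_prime hn1
    have hqn : q ∣ n := hq ▸ Nat.minFac_dvd n
    obtain ⟨a, ha⟩ : ∃ a, a = q ^ (n.factorization q) := ⟨_, rfl⟩
    obtain ⟨b, hb⟩ : ∃ b, b = n / a := ⟨_, rfl⟩
    have hab : a * b = n := by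
      rw [hb, ha]; exact Nat.ordProj_mul_ordCompl_eq_self n q
    have hcop : Nat.Coprime a b := by
      rw [hb, ha]; exact (Nat.coprime_ordCompl hqp hn0).pow_left _
    have ha1 : 1 < a := by
      have hk : n.factorization q ≠ 0 := by
        have := (hqp.dvd_iff_one_le_factorization hn0).mp hqn
        omega
      rw [ha]
      exact Nat.one_lt_pow hk hqp.one_lt
    have hb0 : b ≠ 0 := by
      intro h0
      rw [h0, mul_zero] at hab
      exact hn0 hab.symm
    by_cases hb1 : b = 1
    · refine ⟨q, n.factorization q, g, hqp, Subgroup.mem_zpowers g, ?_, hg⟩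
      rw [hn, ← ha, ← hab, hb1, mul_one]
    · have hbn : b < n := by
        rw [← hab]
        have : 1 * b < a * b := Nat.mul_lt_mul_of_lt_of_le ha1 le_rfl (Nat.pos_of_ne_zero hb0)
        simpa using this
      have han : a < n := by
        rw [← hab]
        have hb2 : 1 < b := by omega
        have : a * 1 < a * b := Nat.mul_lt_mul_of_le_of_lt le_rfl hb2 (by omega)
        simpa using this
      have hoa : orderOf (g ^ a) = b := by
        rw [orderOf_pow' g (by omega), hn]
        have : Nat.gcd n a = a := Nat.gcd_eq_right ⟨b, hab.symm⟩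
        rw [this, hb]
      have hob : orderOf (g ^ b) = a := by
        rw [orderOf_pow' g hb0, hn]
        have : Nat.gcd n b = b := Nat.gcd_eq_right ⟨a, by rw [mul_comm]; exact hab.symm⟩
        rw [this, ← hab]
        exact Nat.mul_div_cancel a (Nat.pos_of_ne_zero hb0)
      by_cases hga : g ^ a ∈ C
      · by_cases hgb : g ^ b ∈ C
        · exfalso
          apply hg
          have h1 : ((Nat.gcd a b : ℕ) : ℤ) = a * Nat.gcdA a b + b * Nat.gcdB a b :=
            Nat.gcd_eq_gcd_ab a b
          rw [hcop.gcd_eq_one] at h1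
          have h2 : g = (g ^ a) ^ (Nat.gcdA a b) * (g ^ b) ^ (Nat.gcdB a b) := by
            rw [← zpow_natCast g a, ← zpow_natCast g b, ← zpow_mul, ← zpow_mul, ← zpow_add, ← h1]
            simp
          rw [h2]
          exact C.mul_mem (C.zpow_mem hga _) (C.zpow_mem hgb _)
        · obtain ⟨q', k, x, hq', hx, hox, hxC⟩ := ih a han (g ^ b) hob hgb
          refine ⟨q', k, x, hq', ?_, hox, hxC⟩
          exact (Subgroup.zpowers_le.mpr (Subgroup.pow_mem _ (Subgroup.mem_zpowers g) b)) hx
      · obtain ⟨q', k, x, hq', hx, hox, hxC⟩ := ih b hbn (g ^ a) hoa hga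
        refine ⟨q', k, x, hq', ?_, hox, hxC⟩
        exact (Subgroup.zpowers_le.mpr (Subgroup.pow_mem _ (Subgroup.mem_zpowers g) a)) hx

/-- The conjugation action of a subgroup `K ≤ N(Q)` on `Q`. -/
@[reducible] def conjMulAction {G : Type*} [Group G] (K Q : Subgroup G)
    (hKQ : K ≤ normalizer (Q : Set G)) : MulAction K Q where
  smul k y := ⟨k * y * k⁻¹, (mem_normalizer_iff.mp (hKQ k.2) y).mp y.2⟩
  one_smul y := by
    apply Subtype.ext
    change ((1 : K) : G) * y * ((1 : K) : G)⁻¹ = y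
    simp
  mul_smul k l y := by
    apply Subtype.ext
    change ((k * l : K) : G) * y * ((k * l : K) : G)⁻¹ = k * (l * y * (l : G)⁻¹) * (k : G)⁻¹
    simp [mul_assoc]

/-- Fixed point congruence for a `q`-group `K` normalizing `Q`. -/
theorem card_modEq_card_inf_centralizer {G : Type*} [Group G] [Finite G] (q : ℕ) [Fact q.Prime]
    (K Q : Subgroup G) (hK : IsPGroup q K) (hKQ : K ≤ normalizer (Q : Set G)) :
    Nat.card Q ≡ Nat.card (Q ⊓ centralizer (K : Set G) : Subgroup G) [MOD q] := by
  letI := conjMulAction K Q hKQ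
  have h1 := hK.card_modEq_card_fixedPoints (α := Q)
  have hsmul : ∀ (k : K) (y : Q), ((k • y : Q) : G) = k * y * (k : G)⁻¹ := fun k y => rfl
  have e : MulAction.fixedPoints K Q ≃ (Q ⊓ centralizer (K : Set G) : Subgroup G) :=
    { toFun := fun y => ⟨y.1.1, ⟨y.1.2, fun k hk => by
        have := congrArg Subtype.val (y.2 ⟨k, hk⟩)
        rw [hsmul] at this
        simp only at this
        calc k * (y.1 : G) = (k * (y.1 : G) * k⁻¹) * k := by group
          _ = (y.1 : G) * k := by rw [this]⟩⟩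
      invFun := fun y => ⟨⟨y.1, y.2.1⟩, fun k => by
        apply Subtype.ext
        rw [hsmul]
        have := y.2.2 k.1 k.2
        simp only
        rw [this]
        simp⟩
      left_inv := fun y => rfl
      right_inv := fun y => rfl }
  rw [Nat.card_congr e] at h1
  exact h1

theorem arith_aux (q a b : ℕ) (hq : q.Prime) (hq2 : q ≠ 2) (ha3 : a ≤ 3) (hba : b < a)
    (hqd : q ∣ 2 ^ a - 2 ^ b) : (q = 3 ∧ 2 ≤ a) ∨ (q = 7 ∧ a = 3) := by
  have h0 : q ≠ 0 := hq.ne_zero
  have h1 : q ≠ 1 := hq.ne_one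
  have h4 : q ≠ 4 := by rintro rfl; norm_num at hq
  have h6 : q ≠ 6 := by rintro rfl; norm_num at hq
  have hpos : 0 < 2 ^ a - 2 ^ b := by
    have : 2 ^ b < 2 ^ a := Nat.pow_lt_pow_right (by norm_num) hba
    omega
  have hle : q ≤ 2 ^ a - 2 ^ b := Nat.le_of_dvd hpos hqd
  have hle7 : q ≤ 7 := by
    have : 2 ^ a ≤ 2 ^ 3 := Nat.pow_le_pow_right (by norm_num) ha3
    have : 1 ≤ 2 ^ b := Nat.one_le_two_pow
    omega
  clear hq hle hpos
  interval_cases a <;> interval_cases b <;> interval_cases q <;> omega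

/-- In a non-abelian simple group of even order, a Sylow 2-subgroup has no normal complement. -/
theorem not_exists_normal_complement_sylow_two {G : Type*} [Group G] [Finite G] [IsSimpleGroup G]
    (hG : ¬ IsMulCommutative G) (h2 : 2 ∣ Nat.card G) (P : Sylow 2 G) :
    ¬ ∃ N : Subgroup G, N.Normal ∧ N.IsComplement' (P : Subgroup G) := by
  rintro ⟨N, hN, hc⟩
  have hcard := hc.card_mul_card
  rcases hN.eq_bot_or_eq_top with h | h
  · rw [h, Subgroup.card_bot, one_mul] at hcard
    obtain ⟨k, hk⟩ := P.2.exists_card_eq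
    rw [hcard] at hk
    have hcyc := isCyclic_of_simple_of_card_prime_pow 2 k Nat.prime_two hk
    apply hG
    exact ⟨⟨fun a b => by let := hcyc.commGroup; exact mul_comm a b⟩⟩
  · rw [h, Subgroup.card_top] at hcard
    have hpos : 0 < Nat.card G := Nat.card_pos
    have h1 : Nat.card (P : Subgroup G) = 1 := by
      have : Nat.card G * Nat.card (P : Subgroup G) = Nat.card G * 1 := by rw [mul_one]; exact hcard
      exact Nat.eq_of_mul_eq_mul_left hpos this
    have := P.dvd_card_of_dvd_card h2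
    rw [h1] at this
    omega

/-- A non-abelian finite simple group of even order has order divisible by 12, 16 or 56. -/
theorem dvd_card_of_simple_even {G : Type*} [Group G] [Finite G] [IsSimpleGroup G]
    (hG : ¬ IsMulCommutative G) (h2 : 2 ∣ Nat.card G) :
    12 ∣ Nat.card G ∨ 16 ∣ Nat.card G ∨ 56 ∣ Nat.card G := by
  by_cases h16 : 16 ∣ Nat.card G
  · exact Or.inr (Or.inl h16)
  obtain ⟨P⟩ : Nonempty (Sylow 2 G) := inferInstance
  have hno := not_exists_normal_complement_sylow_two hG h2 P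
  rw [Cfsg.Agent.S0071.result P] at hno
  push Not at hno
  obtain ⟨Q, hQP, g, hgN, hcop, hgC⟩ := hno
  obtain ⟨q, k, x, hq, hxg, hox, hxC⟩ :=
    exists_prime_pow_orderOf_not_mem (centralizer (Q : Set G)) (orderOf g) g rfl hgC
  have hk0 : k ≠ 0 := by
    intro h0
    rw [h0, pow_zero, orderOf_eq_one_iff] at hox
    exact hxC (hox ▸ Subgroup.one_mem _)
  have hdvd : orderOf x ∣ orderOf g := orderOf_dvd_of_mem_zpowers hxg
  have hq2 : q ≠ 2 := by
    intro h
    have h2g : 2 ∣ orderOf g := by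
      refine dvd_trans ?_ hdvd
      rw [hox, h]
      exact dvd_pow_self 2 hk0
    have := Nat.Coprime.eq_one_of_dvd hcop.symm h2g
    omega
  have hqG : q ∣ Nat.card G := by
    have h1 : q ∣ orderOf x := by rw [hox]; exact dvd_pow_self q hk0
    exact h1.trans (orderOf_dvd_natCard x)
  have : Fact q.Prime := ⟨hq⟩
  have hK : IsPGroup q (zpowers x) := IsPGroup.of_card (n := k) (by rw [Nat.card_zpowers, hox])
  have hxN : x ∈ normalizer (Q : Set G) :=
    (Subgroup.zpowers_le.mpr hgN) hxg
  have hKN : zpowers x ≤ normalizer (Q : Set G) := Subgroup.zpowers_le.mpr hxN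
  have hmod := card_modEq_card_inf_centralizer q (zpowers x) Q hK hKN
  -- orders
  have hQ2 : IsPGroup 2 Q := P.2.to_le hQP
  obtain ⟨a, ha⟩ := hQ2.exists_card_eq
  have hFle : Q ⊓ centralizer ((zpowers x : Subgroup G) : Set G) ≤ Q := inf_le_left
  have hFdvd : Nat.card (Q ⊓ centralizer ((zpowers x : Subgroup G) : Set G) : Subgroup G) ∣
      Nat.card Q := Subgroup.card_dvd_of_le hFle
  rw [ha] at hFdvd
  obtain ⟨b, hba, hb⟩ := (Nat.dvd_prime_pow Nat.prime_two).mp hFdvd
  have hne : Q ⊓ centralizer ((zpowers x : Subgroup G) : Set G) ≠ Q := by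
    intro h
    apply hxC
    rw [mem_centralizer_iff]
    intro y hy
    have hy' : y ∈ centralizer ((zpowers x : Subgroup G) : Set G) := by
      have : y ∈ Q ⊓ centralizer ((zpowers x : Subgroup G) : Set G) := by rw [h]; exact hy
      exact this.2
    rw [mem_centralizer_iff] at hy'
    exact (hy' x (Subgroup.mem_zpowers x)).symm
  have hba' : b < a := by
    rcases Nat.lt_or_eq_of_le hba with h | h
    · exact h
    · exfalso
      apply hne
      apply Subgroup.eq_of_le_of_card_ge hFle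
      rw [ha, hb, h]
  have hQG : 2 ^ a ∣ Nat.card G := ha ▸ Subgroup.card_subgroup_dvd_card Q
  have ha3 : a ≤ 3 := by
    by_contra hcon
    push Not at hcon
    exact h16 ((pow_dvd_pow 2 hcon).trans hQG)
  rw [ha, hb] at hmod
  have hqd : q ∣ 2 ^ a - 2 ^ b :=
    (Nat.modEq_iff_dvd' (Nat.pow_le_pow_right (by norm_num) hba)).mp hmod.symm
  have hq2' : 2 ≤ q := hq.two_le
  have hcases : (q = 3 ∧ 2 ≤ a) ∨ (q = 7 ∧ a = 3) := arith_aux q a b hq hq2 ha3 hba' hqd
  rcases hcases with ⟨h3, ha2⟩ | ⟨h7, ha3'⟩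
  · left
    have h4 : 4 ∣ Nat.card G := (pow_dvd_pow 2 ha2).trans hQG
    have h3' : 3 ∣ Nat.card G := h3 ▸ hqG
    exact Nat.Coprime.mul_dvd_of_dvd_of_dvd (by norm_num : Nat.Coprime 4 3) h4 h3'
  · right; right
    have h8 : 8 ∣ Nat.card G := by
      have := hQG
      rw [ha3'] at this
      exact this
    have h7' : 7 ∣ Nat.card G := h7 ▸ hqG
    exact Nat.Coprime.mul_dvd_of_dvd_of_dvd (by norm_num : Nat.Coprime 8 7) h8 h7'

end Cfsg.Agent.Helper9
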