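import Cfsg.Agent.Helper40.G2Tor.Defs

/-!
helper9 for helper40's S2371 farm (#12335), piece (SING) `exists_singer`: a Singer cycle of `SL₃(q)`.
The companion matrix `C` of the cubic `(X - lam)(X - lam^q)(X - lam^(q^2))` (with `lam` of order `q² + q + 1` in the
field of `q³` elements) has entries in the field of `q` elements, determinant `1`, and is diagonalised over the big
field by the (normalised) Vandermonde matrix `P`.
-/

set_option autoImplicit false
set_option maxRecDepth 100000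

namespace Cfsg.Agent.Helper9.G2Tor

open Cfsg Cfsg.Lie Cfsg.Agent.Helper18 Cfsg.Agent.Helper18.G2Odd Cfsg.Agent.Helper40.G2Tor

/-- in a finite field extension, the fixed points of the `q`-power map are the elements of `F` -/
theorem SING_descent {F : Type*} [Field F] [Fintype F] {E : Type*} [Field E] [Algebra F E] (x : E)
    (hx : x ^ Fintype.card F = x) : ∃ ζ : F, algebraMap F E ζ = x := by
  have hq : 1 < Fintype.card F := Fintype.one_lt_card
  have h := Polynomial.roots_map_of_injective_of_card_eq_natDegree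
    (p := (Polynomial.X ^ Fintype.card F - Polynomial.X : Polynomial F)) (f := algebraMap F E)
    (algebraMap F E).injective
    (by rw [FiniteField.roots_X_pow_card_sub_X, FiniteField.X_pow_card_sub_X_natDegree_eq F hq]
        simp)
  have hne : (Polynomial.X ^ Fintype.card F - Polynomial.X : Polynomial F).map (algebraMap F E) ≠ 0 := by
    rw [Polynomial.map_ne_zero_iff (algebraMap F E).injective]
    exact FiniteField.X_pow_card_sub_X_ne_zero F hq
  have hmem : x ∈ ((Polynomial.X ^ Fintype.card F - Polynomial.X : Polynomial F).map (algebraMap F E)).roots := by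
    rw [Polynomial.mem_roots hne]
    simp [hx]
  rw [← h, FiniteField.roots_X_pow_card_sub_X] at hmem
  obtain ⟨ζ, -, hζ⟩ := Multiset.mem_map.mp hmem
  exact ⟨ζ, hζ⟩

/-- an element of order `q² + q + 1` in the multiplicative group of the field of `q³` elements -/
theorem SING_exists_lam {K : Type*} [Field K] [Fintype K] (q : ℕ) (hq : 2 ≤ q)
    (hK : Fintype.card K = q ^ 3) : ∃ lam : Kˣ, orderOf lam = q ^ 2 + q + 1 := by
  classical
  obtain ⟨g, hg⟩ := IsCyclic.exists_generator (α := Kˣ)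
  have hord : orderOf g = q ^ 3 - 1 := by
    rw [orderOf_eq_card_of_forall_mem_zpowers hg, Nat.card_eq_fintype_card, Fintype.card_units, hK]
  refine ⟨g ^ (q - 1), ?_⟩
  rw [orderOf_pow, hord]
  obtain ⟨r, rfl⟩ : ∃ r, q = r + 2 := ⟨q - 2, by omega⟩
  have h1 : (r + 2) ^ 3 - 1 = (r + 2 - 1) * ((r + 2) ^ 2 + (r + 2) + 1) := by
    have : r + 2 - 1 = r + 1 := by omega
    rw [this]
    have : (r + 2) ^ 3 = (r + 1) * ((r + 2) ^ 2 + (r + 2) + 1) + 1 := by ring
    omega
  rw [h1, Nat.gcd_eq_right (Dvd.intro _ rfl)]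
  exact Nat.mul_div_cancel_left _ (by omega)

theorem exists_singer {F K : Type*} [Field F] [Fintype F] [Field K] [Fintype K] [Algebra F K] (q : ℕ) (hq : 2 ≤ q)
    (hF : Fintype.card F = q) (hK : Fintype.card K = q ^ 3) :
    ∃ (C : SL3 F) (P : SL3 K) (lam : Kˣ), orderOf lam = q ^ 2 + q + 1 ∧
      ((Matrix.SpecialLinearGroup.map (algebraMap F K) C : SL3 K) : Matrix (Fin 3) (Fin 3) K) * (P : Matrix (Fin 3) (Fin 3) K) =
        (P : Matrix (Fin 3) (Fin 3) K) * Matrix.diagonal ![(lam : K), (lam : K) ^ q, (lam : K) ^ q ^ 2] := by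
  classical
  obtain ⟨lam, hlam⟩ := SING_exists_lam (K := K) q hq hK
  obtain ⟨a, ha⟩ : ∃ a : K, a = (lam : K) := ⟨_, rfl⟩
  obtain ⟨b, hb⟩ : ∃ b : K, b = (lam : K) ^ q := ⟨_, rfl⟩
  obtain ⟨c, hc⟩ : ∃ c : K, c = (lam : K) ^ q ^ 2 := ⟨_, rfl⟩
  -- Frobenius
  have hab : a ^ q = b := by rw [ha, hb]
  have hbc : b ^ q = c := by rw [hb, hc, ← pow_mul, pow_two]
  have hca : c ^ q = a := by
    rw [hc, ha, ← pow_mul, ← pow_succ, ← hK, FiniteField.pow_card]
  -- distinctness
  have hinj := pow_injOn_Iio_orderOf (x := lam)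
  have hq2 : q < q ^ 2 := by nlinarith
  have h1 : (1 : ℕ) ∈ Set.Iio (orderOf lam) := by rw [hlam, Set.mem_Iio]; nlinarith
  have h2 : q ∈ Set.Iio (orderOf lam) := by rw [hlam, Set.mem_Iio]; nlinarith
  have h3 : q ^ 2 ∈ Set.Iio (orderOf lam) := by rw [hlam, Set.mem_Iio]; nlinarith
  have hne_ab : a ≠ b := by
    rw [ha, hb]
    intro h
    have h' : lam ^ 1 = lam ^ q := by
      apply Units.ext; rw [pow_one, Units.val_pow_eq_pow_val]; exact h
    have := hinj h1 h2 h'
    omega
  have hne_bc : b ≠ c := by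
    rw [hb, hc]
    intro h
    have h' : lam ^ q = lam ^ q ^ 2 := by
      apply Units.ext; rw [Units.val_pow_eq_pow_val, Units.val_pow_eq_pow_val]; exact h
    have := hinj h2 h3 h'
    omega
  have hne_ac : a ≠ c := by
    rw [ha, hc]
    intro h
    have h' : lam ^ 1 = lam ^ q ^ 2 := by
      apply Units.ext; rw [pow_one, Units.val_pow_eq_pow_val]; exact h
    have := hinj h1 h3 h'
    omega
  -- product = 1
  have habc : a * b * c = 1 := by
    rw [ha, hb, hc]
    have : (lam : K) * (lam : K) ^ q * (lam : K) ^ q ^ 2 = ((lam ^ (q ^ 2 + q + 1) : Kˣ) : K) := by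
      rw [Units.val_pow_eq_pow_val]; ring
    rw [this, ← hlam, pow_orderOf_eq_one, Units.val_one]
  -- Frobenius additive
  have hadd : ∀ x y : K, (x + y) ^ q = x ^ q + y ^ q := by
    intro x y
    have := map_add (FiniteField.frobeniusAlgHom F K) x y
    simpa [FiniteField.coe_frobeniusAlgHom, hF] using this
  obtain ⟨s1, hs1⟩ := SING_descent (F := F) (a + b + c) (by rw [hF, hadd, hadd, hab, hbc, hca]; ring)
  obtain ⟨s2, hs2⟩ := SING_descent (F := F) (a * b + b * c + c * a)
    (by rw [hF, hadd, hadd, mul_pow, mul_pow, mul_pow, hab, hbc, hca]; ring)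
  -- cubic relations
  have cub : ∀ x : K, (x - a) * (x - b) * (x - c) = 0 →
      x ^ 3 = 1 - (a * b + b * c + c * a) * x + (a + b + c) * x ^ 2 := by
    intro x hx
    have : (x - a) * (x - b) * (x - c)
        = x ^ 3 - (a + b + c) * x ^ 2 + (a * b + b * c + c * a) * x - a * b * c := by ring
    rw [this, habc] at hx
    linear_combination hx
  have cuba := cub a (by simp)
  have cubb := cub b (by simp)
  have cubc := cub c (by simp)
  -- the Vandermonde determinant
  obtain ⟨d, hd⟩ : ∃ d : K, d = (b - a) * (c - a) * (c - b) := ⟨_, rfl⟩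
  have hd0 : d ≠ 0 := by
    rw [hd]
    exact mul_ne_zero (mul_ne_zero (sub_ne_zero.mpr (Ne.symm hne_ab)) (sub_ne_zero.mpr (Ne.symm hne_ac)))
      (sub_ne_zero.mpr (Ne.symm hne_bc))
  have hCdet : (!![0, 1, 0; 0, 0, 1; 1, -s2, s1] : Matrix (Fin 3) (Fin 3) F).det = 1 := by
    rw [Matrix.det_fin_three]; simp
  have hPdet : (!![1, 1, d⁻¹; a, b, c * d⁻¹; a ^ 2, b ^ 2, c ^ 2 * d⁻¹] : Matrix (Fin 3) (Fin 3) K).det = 1 := by
    rw [Matrix.det_fin_three]
    simp only [Matrix.of_apply, Matrix.cons_val', Matrix.cons_val_zero, Matrix.cons_val_one, Matrix.cons_val_two,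
      Matrix.empty_val', Matrix.cons_val_fin_one, Matrix.head_cons, Matrix.tail_cons, Matrix.head_fin_const]
    field_simp
    rw [hd]; ring
  obtain ⟨C, hC⟩ : ∃ C : SL3 F, (C : Matrix (Fin 3) (Fin 3) F) = !![0, 1, 0; 0, 0, 1; 1, -s2, s1] :=
    ⟨⟨_, hCdet⟩, rfl⟩
  obtain ⟨P, hP⟩ : ∃ P : SL3 K, (P : Matrix (Fin 3) (Fin 3) K)
      = !![1, 1, d⁻¹; a, b, c * d⁻¹; a ^ 2, b ^ 2, c ^ 2 * d⁻¹] := ⟨⟨_, hPdet⟩, rfl⟩
  refine ⟨C, P, lam, hlam, ?_⟩
  rw [← hc, ← hb, ← ha, Matrix.SpecialLinearGroup.map_apply_coe, hC, hP, RingHom.mapMatrix_apply]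
  ext i j
  fin_cases i <;> fin_cases j <;> simp [Matrix.mul_apply, Fin.sum_univ_three, hs1, hs2] <;>
    first
    | ring1
    | linear_combination (-1 : K) * cuba
    | linear_combination (-1 : K) * cubb
    | linear_combination (-d⁻¹) * cubc

end Cfsg.Agent.Helper9.G2Tor
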