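import Cfsg.Agent.Helper75.CAMain
import Cfsg.Agent.S0161

/-!
# Exceptional characters attached to a coherent T.I. subgroup with Frobenius normalizer (helper9)

Generalization of `Helper75/CAExc` (abelian `K`, all relevant characters of the same degree) to a
subgroup `K` whose set `tfS K` of relevant characters of the normalizer is coherent.  The output is
the structure `ExcFamN K`, an enumeration of the exceptional characters with the numerical data
needed for the Suzuki-type counting argument of `Helper9/FP2`.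
-/

set_option autoImplicit false

namespace Cfsg.Agent.Helper9.FP

open Cfsg Cfsg.Agent.Helper75
open scoped ComplexConjugate

universe u

section Local

variable {G : Type u} [Group G] [Fintype G] {K : Subgroup G}
  [Fintype ↥(Subgroup.normalizer (K : Set G))]

/-- Coherence of `tfS K`: a linear isometry `star` on the integer span of the relevant characters
of the normalizer, with values virtual characters, extending induction on the combinations
vanishing at `1`. -/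
structure CohStar (K : Subgroup G) [Fintype ↥(Subgroup.normalizer (K : Set G))]
    (star : (↥(Subgroup.normalizer (K : Set G)) → ℂ) → (G → ℂ)) : Prop where
  hadd : ∀ α ∈ zspan (tfS K), ∀ β ∈ zspan (tfS K), star (α + β) = star α + star β
  hsmul : ∀ α ∈ zspan (tfS K), ∀ n : ℤ, star (n • α) = n • star α
  hiso : ∀ α ∈ zspan (tfS K), ∀ β ∈ zspan (tfS K),
    classInner (star α) (star β) = classInner α β
  hgen : ∀ α ∈ zspan (tfS K), IsGeneralizedCharacter G (star α)
  hext : ∀ α ∈ zspanOn (tfS K) ({1}ᶜ : Set ↥(Subgroup.normalizer (K : Set G))),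
    star α = indFun (Subgroup.normalizer (K : Set G)) α

variable {star : (↥(Subgroup.normalizer (K : Set G)) → ℂ) → (G → ℂ)}

/-- Off the conjugates of `K \ {1}` the functions `star χ` are proportional to the degrees. -/
theorem fp_rel (hC : ∀ k ∈ K, k ≠ 1 → Subgroup.centralizer ({k} : Set G) ≤ K)
    (hS : CohStar K star)
    {χ χ' : ↥(Subgroup.normalizer (K : Set G)) → ℂ} (hχ : χ ∈ tfS K) (hχ' : χ' ∈ tfS K)
    (x : G) (hx : x = 1 ∨ ∀ h : G, h * x * h⁻¹ ∉ K) :
    χ' 1 * star χ x = χ 1 * star χ' x := by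
  obtain ⟨d, _, hd⟩ := fk_irr_apply_one (⟨χ, hχ.1⟩ : IrrCharacter _)
  obtain ⟨d', _, hd'⟩ := fk_irr_apply_one (⟨χ', hχ'.1⟩ : IrrCharacter _)
  have hd₁ : χ 1 = ((d : ℤ) : ℂ) := by rw [Int.cast_natCast]; exact hd
  have hd₁' : χ' 1 = ((d' : ℤ) : ℂ) := by rw [Int.cast_natCast]; exact hd'
  have hmem := tf_alpha_mem hχ hχ' hd₁ hd₁'
  have h1 := hS.hext _ hmem
  rw [tf_star_alpha hS.hadd hS.hsmul hχ hχ'] at h1
  have hαvan : ∀ y : ↥(Subgroup.normalizer (K : Set G)), (y : G) ∉ K →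
      ((d' : ℤ) • χ - (d : ℤ) • χ') y = 0 := by
    intro y hy
    rw [Pi.sub_apply, Pi.smul_apply, Pi.smul_apply, tf_vanish hC hχ y hy, tf_vanish hC hχ' y hy]
    simp
  have h0 : indFun (Subgroup.normalizer (K : Set G)) ((d' : ℤ) • χ - (d : ℤ) • χ') x = 0 := by
    rcases hx with hx | hx
    · rw [hx, Helper15.indFun_apply_one]
      have := hmem.2 1 (by simp)
      rw [this, mul_zero]
    · exact ca_ind_vanish hαvan x hx
  have h3 := congrFun h1 x
  rw [h0, Pi.sub_apply, Pi.smul_apply, Pi.smul_apply, zsmul_eq_mul, zsmul_eq_mul] at h3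
  rw [hd₁, hd₁']
  linear_combination h3

theorem fp_norm_one (hS : CohStar K star)
    {χ : ↥(Subgroup.normalizer (K : Set G)) → ℂ} (hχ : χ ∈ tfS K) :
    classInner (star χ) (star χ) = 1 := by
  have hχz : χ ∈ zspan (tfS K) := Submodule.subset_span hχ
  rw [hS.hiso χ hχz χ hχz]
  exact Helper74.irr_inner_self (⟨χ, hχ.1⟩ : IrrCharacter _)

theorem fp_pm (hS : CohStar K star)
    {χ : ↥(Subgroup.normalizer (K : Set G)) → ℂ} (hχ : χ ∈ tfS K) :
    ∃ θ : IrrCharacter G, star χ = (θ : G → ℂ) ∨ star χ = -(θ : G → ℂ) :=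
  vc_pm_irr (hS.hgen χ (Submodule.subset_span hχ)) (fp_norm_one hS hχ)

/-- The sign of `star χ` does not depend on `χ`. -/
theorem fp_sign (hC : ∀ k ∈ K, k ≠ 1 → Subgroup.centralizer ({k} : Set G) ≤ K)
    (hS : CohStar K star) :
    ∃ ε : ℤ, (ε = 1 ∨ ε = -1) ∧ ∀ χ ∈ tfS K, IsIrrCharacter G ((ε : ℂ) • star χ) := by
  by_cases hne : ∃ χ₁, χ₁ ∈ tfS K
  swap
  · push Not at hne
    exact ⟨1, Or.inl rfl, fun χ hχ => absurd hχ (hne χ)⟩
  obtain ⟨χ₁, hχ₁⟩ := hne
  obtain ⟨θ₁, hθ₁⟩ := fp_pm hS hχ₁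
  obtain ⟨D₁, hD₁pos, hD₁⟩ := fk_irr_apply_one θ₁
  obtain ⟨d₁, hd₁pos, hd₁⟩ := fk_irr_apply_one (⟨χ₁, hχ₁.1⟩ : IrrCharacter _)
  have hd₁' : χ₁ 1 = (d₁ : ℂ) := hd₁
  -- the sign for an arbitrary `χ`
  have key : ∀ χ ∈ tfS K, ∀ s₁ s : ℤ, (s₁ = 1 ∨ s₁ = -1) → (s = 1 ∨ s = -1) →
      star χ₁ = (s₁ : ℂ) • (θ₁ : G → ℂ) →
      (∃ θ : IrrCharacter G, star χ = (s : ℂ) • (θ : G → ℂ)) → s = s₁ := by
    intro χ hχ s₁ s hs₁ hs h1 h2
    obtain ⟨θ, hθ⟩ := h2
    obtain ⟨D, hDpos, hD⟩ := fk_irr_apply_one θ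
    obtain ⟨d, hdpos, hd⟩ := fk_irr_apply_one (⟨χ, hχ.1⟩ : IrrCharacter _)
    have hd' : χ 1 = (d : ℂ) := hd
    have hrel := fp_rel hC hS hχ hχ₁ 1 (Or.inl rfl)
    rw [hθ, h1, Pi.smul_apply, Pi.smul_apply, smul_eq_mul, smul_eq_mul, hD, hD₁, hd', hd₁'] at hrel
    have hrelZ : (d₁ : ℤ) * (s * D) = d * (s₁ * D₁) := by exact_mod_cast hrel
    have h3 : (0 : ℤ) < d₁ * D := by positivity
    have h4 : (0 : ℤ) < d * D₁ := by positivity
    rcases hs with rfl | rfl <;> rcases hs₁ with rfl | rfl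
    · rfl
    · exfalso; nlinarith
    · exfalso; nlinarith
    · rfl
  have hform : ∀ χ ∈ tfS K, ∃ s : ℤ, (s = 1 ∨ s = -1) ∧
      ∃ θ : IrrCharacter G, star χ = (s : ℂ) • (θ : G → ℂ) := by
    intro χ hχ
    obtain ⟨θ, hθ⟩ := fp_pm hS hχ
    rcases hθ with h | h
    · exact ⟨1, Or.inl rfl, θ, by rw [h]; simp⟩
    · exact ⟨-1, Or.inr rfl, θ, by rw [h]; simp⟩
  obtain ⟨s₁, hs₁, θ₁', hθ₁'⟩ := hform χ₁ hχ₁
  have hθθ : θ₁' = θ₁ ∧ True := by
    refine ⟨?_, trivial⟩
    by_contra hne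
    have h0 := Helper74.irr_inner_ne hne
    have h1 := fp_norm_one hS hχ₁
    rcases hθ₁ with h | h
    · nth_rewrite 1 [hθ₁'] at h1
      rw [h, Helper15.classInner_smul_left, h0, mul_zero] at h1
      exact zero_ne_one h1
    · nth_rewrite 1 [hθ₁'] at h1
      rw [h, Helper15.classInner_smul_left, Helper15.classInner_neg_right, h0, neg_zero,
        mul_zero] at h1
      exact zero_ne_one h1
  rw [hθθ.1] at hθ₁'
  refine ⟨s₁, hs₁, ?_⟩
  intro χ hχ
  obtain ⟨s, hs, θ, hθ⟩ := hform χ hχ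
  have hss := key χ hχ s₁ s hs₁ hs hθ₁' ⟨θ, hθ⟩
  rw [← hss, hθ, smul_smul]
  have : (s : ℂ) * (s : ℂ) = 1 := by
    rcases hs with rfl | rfl <;> simp
  rw [this, one_smul]
  exact θ.2

/-- The constant `c`: `star χ - χ = c χ(1) / e` on `K \ {1}`. -/
theorem fp_c (hC : ∀ k ∈ K, k ≠ 1 → Subgroup.centralizer ({k} : Set G) ≤ K)
    (hTI : ∀ g : G, g ∉ Subgroup.normalizer (K : Set G) → ∀ k ∈ K, g * k * g⁻¹ ∈ K → k = 1)
    (hS : CohStar K star) :
    ∃ c : ℤ, ∀ χ ∈ tfS K, ∀ k ∈ Ksharp K,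
      star χ k = extendByZero (Subgroup.normalizer (K : Set G)) χ k
        + (c : ℂ) * χ 1 / (caE K : ℂ) := by
  by_cases hne : ∃ χ₁, χ₁ ∈ tfS K
  swap
  · push Not at hne
    exact ⟨0, fun χ hχ => absurd hχ (hne χ)⟩
  obtain ⟨χ₁, hχ₁⟩ := hne
  obtain ⟨c, hc⟩ := tf_S0853 hTI hC hS.hadd hS.hsmul hS.hiso hS.hgen hS.hext hχ₁
  refine ⟨c, ?_⟩
  intro χ hχ k hk
  obtain ⟨hkK, hk1⟩ := mem_Ksharp.mp hk
  have hle : K ≤ Subgroup.normalizer (K : Set G) := Subgroup.le_normalizer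
  have h := hc χ hχ ⟨k, hle hkK⟩ hkK (fun h => hk1 (congrArg Subtype.val h))
  rw [Helper15.extendByZero_of_mem _ χ (hle hkK)]
  unfold caE
  linear_combination h

omit [Fintype G] in
theorem fp_rel_ext_one (ζ : ↥(Subgroup.normalizer (K : Set G)) → ℂ) :
    extendByZero (Subgroup.normalizer (K : Set G)) ζ 1 = ζ 1 := by
  have := Helper15.extendByZero_coe (Subgroup.normalizer (K : Set G)) ζ 1
  rwa [OneMemClass.coe_one] at this

theorem fp_rel_sum (hC : ∀ k ∈ K, k ≠ 1 → Subgroup.centralizer ({k} : Set G) ≤ K)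
    {ζ : ↥(Subgroup.normalizer (K : Set G)) → ℂ} (hζ : ζ ∈ tfS K) :
    ∑ g ∈ Ksharp K, extendByZero (Subgroup.normalizer (K : Set G)) ζ g = -ζ 1 := by
  rw [sum_Ksharp_of_vanish K _ (ca_rel_ext_vanish hC hζ), fp_rel_ext_one,
    Helper15.sum_extendByZero]
  have hne : (⟨ζ, hζ.1⟩ : IrrCharacter ↥(Subgroup.normalizer (K : Set G)))
      ≠ ⟨fun _ => 1, Helper79.isIrrCharacter_one⟩ := by
    intro h
    have h' : ζ = fun _ => 1 := congrArg Subtype.val h
    obtain ⟨_, k, _, hne⟩ := hζ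
    apply hne
    rw [h']
  have h5 := Helper74.irr_inner_ne hne
  rw [Helper15.classInner_apply] at h5
  have hN : (Nat.card ↥(Subgroup.normalizer (K : Set G)) : ℂ)⁻¹ ≠ 0 := by
    apply inv_ne_zero
    have : Nat.card ↥(Subgroup.normalizer (K : Set G)) ≠ 0 := Nat.card_pos.ne'
    exact_mod_cast this
  have h6 := (mul_eq_zero.mp h5).resolve_left hN
  simp only [map_one, mul_one] at h6
  rw [h6, zero_sub]

theorem fp_rel_sum_sq (hC : ∀ k ∈ K, k ≠ 1 → Subgroup.centralizer ({k} : Set G) ≤ K)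
    {ζ : ↥(Subgroup.normalizer (K : Set G)) → ℂ} (hζ : ζ ∈ tfS K) :
    ∑ g ∈ Ksharp K, extendByZero (Subgroup.normalizer (K : Set G)) ζ g
        * conj (extendByZero (Subgroup.normalizer (K : Set G)) ζ g)
      = (Nat.card ↥(Subgroup.normalizer (K : Set G)) : ℂ) - ζ 1 * conj (ζ 1) := by
  rw [sum_Ksharp_of_vanish K _ (fun g hg => by rw [ca_rel_ext_vanish hC hζ g hg, zero_mul]),
    fp_rel_ext_one,
    Helper15.sum_extendByZero_mul _ ζ
      (fun g => conj (extendByZero (Subgroup.normalizer (K : Set G)) ζ g))]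
  have h5 := Helper74.irr_inner_self (⟨ζ, hζ.1⟩ : IrrCharacter ↥(Subgroup.normalizer (K : Set G)))
  rw [Helper15.classInner_apply] at h5
  have hN : (Nat.card ↥(Subgroup.normalizer (K : Set G)) : ℂ) ≠ 0 := by
    have : Nat.card ↥(Subgroup.normalizer (K : Set G)) ≠ 0 := Nat.card_pos.ne'
    exact_mod_cast this
  have h6 : ∑ n : ↥(Subgroup.normalizer (K : Set G)), ζ n * conj (ζ n)
      = (Nat.card ↥(Subgroup.normalizer (K : Set G)) : ℂ) := by
    field_simp at h5
    exact h5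
  simp only [Helper15.extendByZero_coe]
  rw [h6]

end Local

section DegreeSum

variable {N : Type u} [Group N] [Fintype N] (K : Subgroup N) [hK : K.Normal]

/-- The squares of the degrees of the irreducible characters of `N` not containing the normal
subgroup `K` in their kernel add up to `|N| - |N : K|`. -/
theorem fp_sum_degree_sq [Fintype (IrrCharacter N)]
    [DecidablePred (fun χ : IrrCharacter N => ∃ k ∈ K, (χ : N → ℂ) k ≠ (χ : N → ℂ) 1)] :
    ∑ χ : {χ : IrrCharacter N // ∃ k ∈ K, (χ : N → ℂ) k ≠ (χ : N → ℂ) 1},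
        charDegree (χ.1 : N → ℂ) * charDegree (χ.1 : N → ℂ) + K.index = Nat.card N := by
  classical
  let _ : Fintype (N ⧸ K) := Fintype.ofFinite _
  let _ := Helper74.irrFintype (N ⧸ K)
  let p : IrrCharacter N → Prop := fun χ => ∃ k ∈ K, (χ : N → ℂ) k ≠ (χ : N → ℂ) 1
  let f : IrrCharacter N → ℕ := fun χ => charDegree (χ : N → ℂ) * charDegree (χ : N → ℂ)
  have hsplit := Fintype.sum_subtype_add_sum_subtype p f
  have htot : ∑ χ : IrrCharacter N, f χ = Nat.card N := tf_sum_degree_sq_nat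
  have hnrel : ∑ χ : {χ // ¬ p χ}, f χ = K.index := by
    let E : IrrCharacter (N ⧸ K) ≃ {χ // ¬ p χ} :=
      (Helper80.irrQuotientEquiv K).trans (Equiv.subtypeEquivRight (fun χ => by
        show (∀ n ∈ K, χ.1 n = χ.1 1) ↔ ¬ ∃ k ∈ K, (χ : N → ℂ) k ≠ (χ : N → ℂ) 1
        push Not
        rfl))
    have hE : ∀ ψ : IrrCharacter (N ⧸ K),
        f (E ψ) = charDegree (ψ : N ⧸ K → ℂ) * charDegree (ψ : N ⧸ K → ℂ) := by
      intro ψ
      have h1 : ((E ψ : {χ // ¬ p χ}).1 : N → ℂ) 1 = (ψ : N ⧸ K → ℂ) 1 := by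
        show ((Helper80.irrQuotientEquiv K ψ).1 : N → ℂ) 1 = _
        rw [Helper80.irrQuotientEquiv_apply]
        rfl
      have h2 : charDegree ((E ψ : {χ // ¬ p χ}).1 : N → ℂ) = charDegree (ψ : N ⧸ K → ℂ) := by
        unfold charDegree
        rw [h1]
      show charDegree ((E ψ : {χ // ¬ p χ}).1 : N → ℂ) * charDegree ((E ψ : {χ // ¬ p χ}).1 : N → ℂ)
        = _
      rw [h2]
    rw [← Fintype.sum_equiv E (fun ψ => charDegree (ψ : N ⧸ K → ℂ) * charDegree (ψ : N ⧸ K → ℂ))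
      (fun χ => f χ) (fun ψ => (hE ψ).symm), tf_sum_degree_sq_nat]
    rw [Subgroup.index, Nat.card_eq_fintype_card]
  rw [hnrel, htot] at hsplit
  convert hsplit using 2

end DegreeSum

section Family

variable {G : Type u} [Group G] [Fintype G]

/-- The enumerated family of exceptional characters attached to `K`, with its numerical data:
`θ l` are the exceptional characters, `f l` the degrees of the irreducible characters of `K` they
come from, `θ l₀` comes from a linear character of `K`. -/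
structure ExcFamN (K : Subgroup G) where
  r : ℕ
  θ : Fin r → G → ℂ
  f : Fin r → ℕ
  l₀ : Fin r
  ε : ℤ
  c : ℤ
  hε : ε = 1 ∨ ε = -1
  irr : ∀ l, IsIrrCharacter G (θ l)
  inj : Function.Injective θ
  mem : ∀ ψ : G → ℂ, ψ ∈ excFam K ↔ ∃ l, θ l = ψ
  f_l₀ : f l₀ = 1
  partner : ∀ l, ∃ l₂, l₂ ≠ l ∧ f l₂ = f l
  count : caE K * ∑ l, (f l) ^ 2 + 1 = Nat.card K
  sum1 : ∀ l, ∑ k ∈ Ksharp K, θ l k
    = ((ε * (f l : ℤ) * (c * ((Nat.card K : ℤ) - 1) - (caE K : ℤ)) : ℤ) : ℂ)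
  sum2 : ∑ k ∈ Ksharp K, θ l₀ k * conj (θ l₀ k)
    = (((caE K : ℤ) * (Nat.card K : ℤ) - (caE K : ℤ) ^ 2 - 2 * c * (caE K : ℤ)
        + c ^ 2 * ((Nat.card K : ℤ) - 1) : ℤ) : ℂ)
  off : ∀ l (x : G), (x = 1 ∨ ∀ h : G, h * x * h⁻¹ ∉ K) → θ l x = (f l : ℂ) * θ l₀ x

theorem fp_irr_ne_neg (θ θ' : IrrCharacter G) : (θ : G → ℂ) ≠ -(θ' : G → ℂ) := by
  intro h
  obtain ⟨D, hD, hD1⟩ := fk_irr_apply_one θ
  obtain ⟨D', hD', hD1'⟩ := fk_irr_apply_one θ'
  have h1 := congrFun h 1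
  rw [Pi.neg_apply, hD1, hD1'] at h1
  have h2 : (D : ℤ) = -(D' : ℤ) := by exact_mod_cast h1
  omega

variable {K : Subgroup G} [Fintype ↥(Subgroup.normalizer (K : Set G))]

/-- In odd order, the complex conjugate of a relevant character is a different relevant character
of the same degree. -/
theorem fp_conj_mem (hodd : Odd (Nat.card G))
    {χ : ↥(Subgroup.normalizer (K : Set G)) → ℂ} (hχ : χ ∈ tfS K) :
    (fun x => conj (χ x)) ∈ tfS K ∧ (fun x => conj (χ x)) ≠ χ := by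
  obtain ⟨hirr, k, hk, hne⟩ := hχ
  refine ⟨⟨(Helper74.irrConj ⟨χ, hirr⟩).2, k, hk, ?_⟩, ?_⟩
  · intro h
    apply hne
    exact (starRingEnd ℂ).injective h
  · intro h
    have h1 : Helper74.irrConj ⟨χ, hirr⟩ = ⟨χ, hirr⟩ := Subtype.ext h
    rw [Helper74.irrConj_eq_self_iff] at h1
    have hoddN : Odd (Nat.card ↥(Subgroup.normalizer (K : Set G))) :=
      Odd.of_dvd_nat hodd (Subgroup.card_subgroup_dvd_card _)
    have h2 := Cfsg.Agent.S0161.result hoddN ⟨χ, hirr⟩ h1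
    apply hne
    have h3 : χ = fun _ => 1 := h2
    rw [h3]

/-- **Local data**: a coherent `tfS K` (in odd order, with a relevant character of degree
`|N : K|`) gives a family of exceptional characters with all its numerical data. -/
theorem fp_excFam_exists (hodd : Odd (Nat.card G))
    (hC : ∀ k ∈ K, k ≠ 1 → Subgroup.centralizer ({k} : Set G) ≤ K)
    (hTI : ∀ g : G, g ∉ Subgroup.normalizer (K : Set G) → ∀ k ∈ K, g * k * g⁻¹ ∈ K → k = 1)
    {star : (↥(Subgroup.normalizer (K : Set G)) → ℂ) → (G → ℂ)} (hS : CohStar K star)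
    (hlin : ∃ χ₁ ∈ tfS K, χ₁ 1 = (caE K : ℂ)) :
    Nonempty (ExcFamN K) := by
  classical
  let _ := Helper74.irrFintype ↥(Subgroup.normalizer (K : Set G))
  let R := {ζ : IrrCharacter ↥(Subgroup.normalizer (K : Set G)) //
    (ζ : ↥(Subgroup.normalizer (K : Set G)) → ℂ) ∈ tfS K}
  let r := Fintype.card R
  let eqv : R ≃ Fin r := Fintype.equivFin R
  let χ : Fin r → ↥(Subgroup.normalizer (K : Set G)) → ℂ := fun i => ((eqv.symm i).1 : _ → ℂ)
  have hχmem : ∀ i, χ i ∈ tfS K := fun i => (eqv.symm i).2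
  have hχinj : Function.Injective χ := by
    intro i j hij
    have h1 : (eqv.symm i).1 = (eqv.symm j).1 := Subtype.ext hij
    have h2 : eqv.symm i = eqv.symm j := Subtype.ext h1
    exact eqv.symm.injective h2
  have hχsurj : ∀ ζ ∈ tfS K, ∃ i, χ i = ζ := by
    intro ζ hζ
    refine ⟨eqv ⟨⟨ζ, hζ.1⟩, hζ⟩, ?_⟩
    show ((eqv.symm (eqv ⟨⟨ζ, hζ.1⟩, hζ⟩)).1 : _ → ℂ) = ζ
    rw [Equiv.symm_apply_apply]
  obtain ⟨ε, hε, hirr⟩ := fp_sign hC hS
  obtain ⟨c, hc⟩ := fp_c hC hTI hS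
  obtain ⟨χ₁, hχ₁, hχ₁deg⟩ := hlin
  obtain ⟨l₀, hl₀⟩ := hχsurj χ₁ hχ₁
  have hle : K ≤ Subgroup.normalizer (K : Set G) := Subgroup.le_normalizer
  have he0n : caE K ≠ 0 := by
    unfold caE
    exact Subgroup.index_ne_zero_of_finite
  have he0 : (caE K : ℂ) ≠ 0 := by exact_mod_cast he0n
  have hεε : (ε : ℂ) * (ε : ℂ) = 1 := by
    rcases hε with rfl | rfl <;> simp
  have hε0 : (ε : ℂ) ≠ 0 := by
    intro h
    rw [h, mul_zero] at hεε
    exact zero_ne_one hεε
  have hεconj : conj (ε : ℂ) = (ε : ℂ) := by simp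
  -- degrees
  have hdeg : ∀ l, ∃ fl : ℕ, χ l 1 = (caE K : ℂ) * fl := by
    intro l
    obtain ⟨φ, hφ, hχφ⟩ := tf_mem_induced hC (hχmem l)
    refine ⟨charDegree φ, ?_⟩
    rw [hχφ, Helper15.indFun_apply_one, Helper78.irrChar_one_eq_charDegree hφ]
    rfl
  choose f hf using hdeg
  have hfl₀ : f l₀ = 1 := by
    have h1 := hf l₀
    rw [hl₀, hχ₁deg] at h1
    have h2 : (caE K : ℂ) * 1 = (caE K : ℂ) * (f l₀ : ℂ) := by rw [mul_one]; exact h1
    have h3 := mul_left_cancel₀ he0 h2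
    exact_mod_cast h3.symm
  have hdegnat : ∀ l, charDegree (χ l) = caE K * f l := by
    intro l
    have h1 := hf l
    rw [Helper78.irrChar_one_eq_charDegree (hχmem l).1] at h1
    exact_mod_cast h1
  -- the partner
  have hpartner : ∀ l, ∃ l₂, l₂ ≠ l ∧ f l₂ = f l := by
    intro l
    obtain ⟨hmem, hne⟩ := fp_conj_mem hodd (hχmem l)
    obtain ⟨l₂, hl₂⟩ := hχsurj _ hmem
    refine ⟨l₂, ?_, ?_⟩
    · intro h
      apply hne
      rw [← hl₂, h]
    · have h1 := hf l₂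
      rw [hl₂] at h1
      simp only at h1
      rw [hf l] at h1
      simp only [map_mul, map_natCast] at h1
      have h3 := mul_left_cancel₀ he0 h1
      exact_mod_cast h3.symm
  have htwo : ∃ χ ∈ tfS K, ∃ ξ ∈ tfS K, χ ≠ ξ := by
    obtain ⟨hmem, hne⟩ := fp_conj_mem hodd hχ₁
    exact ⟨_, hmem, _, hχ₁, hne⟩
  have hcardK : ((Ksharp K).card : ℂ) = (Nat.card K : ℂ) - 1 := by
    have := card_Ksharp K
    have h2 : ((Ksharp K).card : ℂ) + 1 = (Nat.card K : ℂ) := by exact_mod_cast this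
    linear_combination h2
  -- values on K#
  have hval : ∀ l, ∀ k ∈ Ksharp K, ((ε : ℂ) • star (χ l)) k
      = (ε : ℂ) * (extendByZero (Subgroup.normalizer (K : Set G)) (χ l) k + (c : ℂ) * (f l : ℂ)) := by
    intro l k hk
    rw [Pi.smul_apply, smul_eq_mul, hc (χ l) (hχmem l) k hk, hf l]
    field_simp
  refine ⟨⟨r, fun l => (ε : ℂ) • star (χ l), f, l₀, ε, c, hε, fun l => hirr _ (hχmem l), ?_, ?_,
    hfl₀, hpartner, ?_, ?_, ?_, ?_⟩⟩
  · -- injectivity
    intro l l' hll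
    have h1 : star (χ l) = star (χ l') := by
      have h2 : (ε : ℂ) • ((ε : ℂ) • star (χ l)) = (ε : ℂ) • ((ε : ℂ) • star (χ l')) := by
        simp only at hll
        rw [hll]
      rwa [smul_smul, smul_smul, hεε, one_smul, one_smul] at h2
    by_contra hne
    have hne' : (⟨χ l, (hχmem l).1⟩ : IrrCharacter ↥(Subgroup.normalizer (K : Set G)))
        ≠ ⟨χ l', (hχmem l').1⟩ := by
      intro h
      exact hne (hχinj (congrArg Subtype.val h))
    have h0 := Helper74.irr_inner_ne hne'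
    have h3 := hS.hiso (χ l) (Submodule.subset_span (hχmem l)) (χ l')
      (Submodule.subset_span (hχmem l'))
    rw [← h1, fp_norm_one hS (hχmem l)] at h3
    have h0' : classInner (χ l) (χ l') = 0 := h0
    rw [h0'] at h3
    exact one_ne_zero h3
  · -- membership
    intro ψ
    constructor
    · rintro ⟨hψ, hnc⟩
      obtain ⟨ζ, hζ, hor⟩ := (tf_S0852 hC hS.hadd hS.hsmul hS.hiso hS.hgen hS.hext htwo hψ).mpr hnc
      obtain ⟨l, hl⟩ := hχsurj ζ hζ
      refine ⟨l, ?_⟩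
      show (ε : ℂ) • star (χ l) = ψ
      rw [hl]
      have hθ := hirr ζ hζ
      rcases hε with rfl | rfl
      · rcases hor with h | h
        · rw [h]; simp
        · exfalso
          apply fp_irr_ne_neg ⟨ψ, hψ⟩ ⟨((1 : ℤ) : ℂ) • star ζ, hθ⟩
          show ψ = -(((1 : ℤ) : ℂ) • star ζ)
          rw [h]; simp
      · rcases hor with h | h
        · exfalso
          apply fp_irr_ne_neg ⟨ψ, hψ⟩ ⟨((-1 : ℤ) : ℂ) • star ζ, hθ⟩
          show ψ = -(((-1 : ℤ) : ℂ) • star ζ)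
          rw [h]; simp
        · rw [h]; simp
    · rintro ⟨l, rfl⟩
      have hθ := hirr _ (hχmem l)
      refine ⟨hθ, ?_⟩
      apply (tf_S0852 hC hS.hadd hS.hsmul hS.hiso hS.hgen hS.hext htwo hθ).mp
      refine ⟨χ l, hχmem l, ?_⟩
      rcases hε with rfl | rfl
      · left; simp
      · right; simp
  · -- count
    have h1 := fp_sum_degree_sq (K.subgroupOf (Subgroup.normalizer (K : Set G)))
    let E : R ≃ {ζ : IrrCharacter ↥(Subgroup.normalizer (K : Set G)) //
        ∃ k ∈ K.subgroupOf (Subgroup.normalizer (K : Set G)),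
          (ζ : ↥(Subgroup.normalizer (K : Set G)) → ℂ) k
            ≠ (ζ : ↥(Subgroup.normalizer (K : Set G)) → ℂ) 1} :=
      Equiv.subtypeEquivRight (fun ζ => by
        constructor
        · rintro ⟨_, k, hk, hne⟩
          exact ⟨k, Subgroup.mem_subgroupOf.mpr hk, hne⟩
        · rintro ⟨k, hk, hne⟩
          exact ⟨ζ.2, k, Subgroup.mem_subgroupOf.mp hk, hne⟩)
    have h2 : ∑ l : Fin r, (caE K * f l) * (caE K * f l)
        = ∑ ζ : {ζ : IrrCharacter ↥(Subgroup.normalizer (K : Set G)) //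
          ∃ k ∈ K.subgroupOf (Subgroup.normalizer (K : Set G)),
            (ζ : ↥(Subgroup.normalizer (K : Set G)) → ℂ) k
              ≠ (ζ : ↥(Subgroup.normalizer (K : Set G)) → ℂ) 1},
          charDegree (ζ.1 : ↥(Subgroup.normalizer (K : Set G)) → ℂ)
            * charDegree (ζ.1 : ↥(Subgroup.normalizer (K : Set G)) → ℂ) := by
      apply Fintype.sum_equiv (eqv.symm.trans E)
      intro l
      rw [← hdegnat l]
      rfl
    rw [← h2, ca_card_normalizer_nat K] at h1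
    have h3 : caE K * (caE K * ∑ l, (f l) ^ 2 + 1) = caE K * Nat.card K := by
      rw [← h1, Finset.mul_sum, mul_add, Finset.mul_sum, mul_one]
      congr 1
      apply Finset.sum_congr rfl
      intro l _
      ring
    exact Nat.eq_of_mul_eq_mul_left (Nat.pos_of_ne_zero he0n) h3
  · -- sum1
    intro l
    rw [Finset.sum_congr rfl (hval l), ← Finset.mul_sum, Finset.sum_add_distrib,
      fp_rel_sum hC (hχmem l), Finset.sum_const, nsmul_eq_mul, hcardK, hf l]
    push_cast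
    ring
  · -- sum2
    have hterm : ∀ k ∈ Ksharp K, ((ε : ℂ) • star (χ l₀)) k * conj (((ε : ℂ) • star (χ l₀)) k)
        = extendByZero (Subgroup.normalizer (K : Set G)) (χ l₀) k
            * conj (extendByZero (Subgroup.normalizer (K : Set G)) (χ l₀) k)
          + c * (extendByZero (Subgroup.normalizer (K : Set G)) (χ l₀) k
            + conj (extendByZero (Subgroup.normalizer (K : Set G)) (χ l₀) k)) + (c : ℂ) ^ 2 := by
      intro k hk
      rw [hval l₀ k hk, hfl₀, map_mul, hεconj, map_add, map_mul, map_intCast, map_natCast]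
      linear_combination ((extendByZero (Subgroup.normalizer (K : Set G)) (χ l₀) k + c * (1 : ℕ))
        * (conj (extendByZero (Subgroup.normalizer (K : Set G)) (χ l₀) k) + c * (1 : ℕ))) * hεε
    rw [Finset.sum_congr rfl hterm, Finset.sum_add_distrib, Finset.sum_add_distrib,
      ← Finset.mul_sum, Finset.sum_add_distrib, ← map_sum, fp_rel_sum hC (hχmem l₀),
      fp_rel_sum_sq hC (hχmem l₀), Finset.sum_const, nsmul_eq_mul, hcardK, hf l₀, hfl₀,
      ca_card_normalizer]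
    unfold caE
    simp only [map_neg, map_mul, map_natCast]
    push_cast
    ring
  · -- off
    intro l x hx
    have h1 := fp_rel hC hS (hχmem l) (hχmem l₀) x hx
    rw [hf l, hf l₀, hfl₀] at h1
    show (ε : ℂ) • star (χ l) x = (f l : ℂ) * ((ε : ℂ) • star (χ l₀) x)
    rw [smul_eq_mul, smul_eq_mul]
    have h2 : (caE K : ℂ) * (star (χ l) x - (f l : ℂ) * star (χ l₀) x) = 0 := by
      push_cast at h1
      linear_combination h1
    have h3 := (mul_eq_zero.mp h2).resolve_left he0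
    linear_combination (ε : ℂ) * h3

end Family

end Cfsg.Agent.Helper9.FP
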