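import Mathlib

/-!
Eigenvectors for automorphisms of exponent dividing `p - 1` on elementary abelian `p`-groups
(helper9).
-/


set_option autoImplicit false

namespace Cfsg.Agent.Helper9

open Polynomial

/-- An endomorphism `f` of a nontrivial finite `ZMod p`-module with `f ^ (p - 1) = 1` has an
eigenvector. -/
theorem exists_eigenvector_of_pow_eq_one {p : ℕ} [hp : Fact p.Prime] {M : Type*} [AddCommGroup M]
    [Module (ZMod p) M] [Finite M] [Nontrivial M] (f : Module.End (ZMod p) M)
    (hf : f ^ (p - 1) = 1) : ∃ (μ : ZMod p) (v : M), v ≠ 0 ∧ f v = μ • v := by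
  have hpp : p.Prime := hp.out
  have hsplit : Splits (X ^ p - X : (ZMod p)[X]) := by
    have := FiniteField.splits_X_pow_card_sub_X (p := p) (K := ZMod p)
    rw [ZMod.card, Algebra.algebraMap_self, Polynomial.map_id] at this
    exact this
  have hne : (X ^ p - X : (ZMod p)[X]) ≠ 0 := FiniteField.X_pow_card_sub_X_ne_zero _ hpp.one_lt
  have hdvd1 : minpoly (ZMod p) f ∣ (X ^ (p - 1) - 1 : (ZMod p)[X]) := by
    apply minpoly.dvd
    simp [hf]
  have hdvd2 : (X ^ (p - 1) - 1 : (ZMod p)[X]) ∣ X ^ p - X := by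
    refine ⟨X, ?_⟩
    rw [sub_mul, one_mul, pow_sub_one_mul hpp.ne_zero]
  have hsp : Splits (minpoly (ZMod p) f) := hsplit.of_dvd hne (dvd_trans hdvd1 hdvd2)
  have hint : IsIntegral (ZMod p) f := Algebra.IsIntegral.isIntegral f
  have hdeg : (minpoly (ZMod p) f).degree ≠ 0 := (minpoly.degree_pos hint).ne'
  obtain ⟨μ, hμ⟩ := hsp.exists_eval_eq_zero hdeg
  have hev : f.HasEigenvalue μ := Module.End.hasEigenvalue_of_isRoot hμ
  obtain ⟨v, hv⟩ := hev.exists_hasEigenvector
  exact ⟨μ, v, hv.2, Module.End.mem_eigenspace_iff.mp hv.1⟩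

/-- An automorphism `φ` with `φ ^ (p - 1) = 1` of a nontrivial finite elementary abelian `p`-group
has an eigenvector: some `v ≠ 1` with `φ v = v ^ k`. -/
theorem exists_pow_eigenvector_aux {V : Type*} [CommGroup V] [Finite V] [Nontrivial V] {p : ℕ}
    [hp : Fact p.Prime] [Module (ZMod p) (Additive V)] (φ : MulAut V) (hφ : φ ^ (p - 1) = 1) :
    ∃ (k : ℕ) (v : V), v ≠ 1 ∧ φ v = v ^ k := by
  obtain ⟨f, hfdef⟩ : ∃ f : Module.End (ZMod p) (Additive V),
      f = (MonoidHom.toAdditive φ.toMonoidHom).toZModLinearMap p := ⟨_, rfl⟩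
  have hfapp : ∀ v : V, f (Additive.ofMul v) = Additive.ofMul (φ v) := fun v => by rw [hfdef]; rfl
  have hfpow : ∀ (n : ℕ) (v : V), (f ^ n) (Additive.ofMul v) = Additive.ofMul ((φ ^ n) v) := by
    intro n
    induction n with
    | zero => intro v; simp
    | succ n ih =>
      intro v
      rw [pow_succ, Module.End.mul_apply, hfapp, ih, pow_succ, MulAut.mul_apply]
  have hf : f ^ (p - 1) = 1 := by
    apply LinearMap.ext
    intro m
    have := hfpow (p - 1) (Additive.toMul m)
    rw [hφ] at this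
    simpa using this
  obtain ⟨μ, m, hm0, hm⟩ := exists_eigenvector_of_pow_eq_one f hf
  refine ⟨μ.val, Additive.toMul m, ?_, ?_⟩
  · intro h
    apply hm0
    have := congrArg Additive.ofMul h
    simpa using this
  · have h1 : μ • m = μ.val • m := by
      conv_lhs => rw [← ZMod.natCast_zmod_val μ]
      rw [Nat.cast_smul_eq_nsmul]
    rw [h1] at hm
    have h2 := hfapp (Additive.toMul m)
    rw [ofMul_toMul] at h2
    rw [h2] at hm
    have := congrArg Additive.toMul hm
    simpa using this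

theorem exists_pow_eigenvector {V : Type*} [CommGroup V] [Finite V] [Nontrivial V] {p : ℕ}
    [hp : Fact p.Prime] (hexp : ∀ v : V, v ^ p = 1) (φ : MulAut V) (hφ : φ ^ (p - 1) = 1) :
    ∃ (k : ℕ) (v : V), v ≠ 1 ∧ φ v = v ^ k := by
  letI : Module (ZMod p) (Additive V) := AddCommGroup.zmodModule (n := p) (by
    intro x
    have := hexp (Additive.toMul x)
    exact congrArg Additive.ofMul this)
  exact exists_pow_eigenvector_aux φ hφ

/-- Pairwise commuting automorphisms of exponent dividing `p - 1` acting irreducibly on a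
nontrivial finite elementary abelian `p`-group: the group has order `p`. -/
theorem card_eq_prime_of_irreducible_of_exponent {V : Type*} [Group V] [Finite V] [Nontrivial V]
    {p : ℕ} [hp : Fact p.Prime] (hcomm : ∀ x y : V, x * y = y * x) (hexp : ∀ v : V, v ^ p = 1)
    (S : Set (MulAut V)) (hS : ∀ φ ∈ S, ∀ ψ ∈ S, φ * ψ = ψ * φ)
    (hpow : ∀ φ ∈ S, φ ^ (p - 1) = 1)
    (hirr : ∀ W : Subgroup V, (∀ φ ∈ S, ∀ w ∈ W, φ w ∈ W) → W = ⊥ ∨ W = ⊤) :
    Nat.card V = p := by
  have hpp : p.Prime := hp.out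
  -- each `φ ∈ S` is a power map
  have stepA : ∀ φ ∈ S, ∃ k : ℕ, ∀ v : V, φ v = v ^ k := by
    intro φ hφ
    obtain ⟨k, v, hv1, hv⟩ : ∃ (k : ℕ) (v : V), v ≠ 1 ∧ φ v = v ^ k := by
      letI : CommGroup V := { ‹Group V› with mul_comm := hcomm }
      exact exists_pow_eigenvector hexp φ (hpow φ hφ)
    refine ⟨k, ?_⟩
    let E : Subgroup V :=
      { carrier := {w | φ w = w ^ k}
        one_mem' := by show φ 1 = 1 ^ k; rw [map_one, one_pow]
        mul_mem' := by
          intro a b ha hb
          have ha' : φ a = a ^ k := ha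
          have hb' : φ b = b ^ k := hb
          show φ (a * b) = (a * b) ^ k
          have hc : Commute a b := hcomm a b
          rw [map_mul, ha', hb', hc.mul_pow]
        inv_mem' := by
          intro a ha
          have ha' : φ a = a ^ k := ha
          show φ a⁻¹ = a⁻¹ ^ k
          rw [map_inv, ha', inv_pow] }
    have hEinv : ∀ ψ ∈ S, ∀ w ∈ E, ψ w ∈ E := by
      intro ψ hψ w hw
      have hw' : φ w = w ^ k := hw
      show φ (ψ w) = (ψ w) ^ k
      rw [← MulAut.mul_apply, hS φ hφ ψ hψ, MulAut.mul_apply, hw', map_pow]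
    rcases hirr E hEinv with h | h
    · exfalso
      have : v ∈ E := hv
      rw [h, Subgroup.mem_bot] at this
      exact hv1 this
    · intro w
      have : w ∈ E := by rw [h]; exact Subgroup.mem_top w
      exact this
  obtain ⟨v, hv1⟩ := exists_ne (1 : V)
  have hWinv : ∀ φ ∈ S, ∀ w ∈ Subgroup.zpowers v, φ w ∈ Subgroup.zpowers v := by
    intro φ hφ w hw
    obtain ⟨k, hk⟩ := stepA φ hφ
    rw [hk]
    exact Subgroup.pow_mem _ hw k
  rcases hirr (Subgroup.zpowers v) hWinv with h | h
  · exfalso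
    have : v ∈ Subgroup.zpowers v := Subgroup.mem_zpowers v
    rw [h, Subgroup.mem_bot] at this
    exact hv1 this
  · have h1 : Nat.card (Subgroup.zpowers v) = p := by
      rw [Nat.card_zpowers]
      exact orderOf_eq_prime (hexp v) hv1
    rw [← h1, h, Subgroup.card_top]

end Cfsg.Agent.Helper9
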