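import Cfsg.Prelude.Def_SolvableStructure
import Mathlib

namespace Cfsg.Agent.Helper9

open Subgroup

universe u v
variable {G : Type u} [Group G]

/-- Inductive form of a supersolvable chain ending at a given subgroup. -/
inductive SSChain : Subgroup G → Prop
  | bot : SSChain ⊥
  | step (A : Subgroup G) (g : G) : SSChain A → (A ⊔ zpowers g).Normal → SSChain (A ⊔ zpowers g)

theorem SSChain.normal {A : Subgroup G} (h : SSChain A) : A.Normal := by
  induction h with
  | bot => exact Subgroup.normal_bot
  | step A g _ hn _ => exact hn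

theorem ssChain_of_fin (n : ℕ) (H : Fin (n + 1) → Subgroup G) (h0 : H 0 = ⊥)
    (hn : ∀ i, (H i).Normal)
    (hs : ∀ i : Fin n, ∃ g : G, H i.succ = H i.castSucc ⊔ Subgroup.zpowers g) :
    ∀ i, SSChain (H i) := by
  intro i
  induction i using Fin.induction with
  | zero => rw [h0]; exact SSChain.bot
  | succ i ih =>
    obtain ⟨g, hg⟩ := hs i
    rw [hg]
    refine SSChain.step _ g ih ?_
    rw [← hg]; exact hn _

theorem fin_of_ssChain {A : Subgroup G} (h : SSChain A) :
    ∃ (n : ℕ) (H : Fin (n + 1) → Subgroup G),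
    H 0 = ⊥ ∧ H (Fin.last n) = A ∧ (∀ i, (H i).Normal) ∧
      ∀ i : Fin n, ∃ g : G, H i.succ = H i.castSucc ⊔ Subgroup.zpowers g := by
  induction h with
  | bot => exact ⟨0, fun _ => ⊥, rfl, rfl, fun _ => Subgroup.normal_bot, fun i => i.elim0⟩
  | step A g hA hn ih =>
    obtain ⟨n, H, h0, hl, hN, hs⟩ := ih
    refine ⟨n + 1, Fin.snoc H (A ⊔ zpowers g), ?_, ?_, ?_, ?_⟩
    · rw [← h0]
      have : (0 : Fin (n + 2)) = Fin.castSucc (0 : Fin (n + 1)) := rfl
      rw [this, Fin.snoc_castSucc]
    · simp
    · intro i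
      induction i using Fin.lastCases with
      | last => simpa using hn
      | cast i => simpa using hN i
    · intro i
      induction i using Fin.lastCases with
      | last =>
        refine ⟨g, ?_⟩
        have : (Fin.last (n + 1)) = (Fin.last n).succ := rfl
        rw [← this]
        simp [hl]
      | cast i =>
        obtain ⟨g', hg'⟩ := hs i
        refine ⟨g', ?_⟩
        have : i.castSucc.succ = i.succ.castSucc := rfl
        rw [this]
        simp only [Fin.snoc_castSucc]
        exact hg'

theorem isSupersolvable_iff : Cfsg.IsSupersolvable G ↔ SSChain (⊤ : Subgroup G) := by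
  constructor
  · rintro ⟨n, H, h0, hl, hN, hs⟩
    rw [← hl]
    exact ssChain_of_fin n H h0 hN hs _
  · intro h
    exact fin_of_ssChain h

theorem SSChain.map {G' : Type v} [Group G'] (f : G →* G') (hf : Function.Surjective f)
    {A : Subgroup G} (h : SSChain A) : SSChain (A.map f) := by
  induction h with
  | bot => rw [Subgroup.map_bot]; exact SSChain.bot
  | step A g hA hn ih =>
    rw [Subgroup.map_sup, MonoidHom.map_zpowers]
    refine SSChain.step _ _ ih ?_
    rw [← MonoidHom.map_zpowers, ← Subgroup.map_sup]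
    exact hn.map f hf

/-- Key lemma for subgroups. -/
theorem exists_subgroupOf_sup_zpowers (A : Subgroup G) [hA : A.Normal] (g : G) (K : Subgroup G) :
    ∃ k : K, (A ⊔ zpowers g).subgroupOf K = A.subgroupOf K ⊔ zpowers k := by
  classical
  let π := QuotientGroup.mk' A
  let φ : K →* G ⧸ A := π.comp K.subtype
  have hker : φ.ker = A.subgroupOf K := by
    ext k
    simp [φ, π, MonoidHom.mem_ker, Subgroup.mem_subgroupOf]
  let S : Subgroup (G ⧸ A) := ((A ⊔ zpowers g).subgroupOf K).map φ
  have hS : S ≤ zpowers (π g) := by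
    rintro _ ⟨k, hk, rfl⟩
    have hk' : (k : G) ∈ A ⊔ zpowers g := hk
    have : π (k : G) ∈ (A ⊔ zpowers g).map π := Subgroup.mem_map_of_mem _ hk'
    rw [Subgroup.map_sup, MonoidHom.map_zpowers] at this
    have hA' : A.map π = ⊥ := by
      rw [← le_bot_iff]
      rintro _ ⟨a, ha, rfl⟩
      simp [π, (QuotientGroup.eq_one_iff a).mpr ha]
    rw [hA', bot_sup_eq] at this
    exact this
  have : IsCyclic (zpowers (π g)) := inferInstance
  have : IsCyclic S := Subgroup.isCyclic_of_le hS
  obtain ⟨⟨s, hsS⟩, hs⟩ := IsCyclic.exists_generator (α := S)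
  obtain ⟨k₀, hk₀, rfl⟩ := hsS
  refine ⟨k₀, le_antisymm ?_ ?_⟩
  · intro k hk
    have hkS : φ k ∈ S := Subgroup.mem_map_of_mem _ hk
    have := hs ⟨φ k, hkS⟩
    rw [Subgroup.mem_zpowers_iff] at this
    obtain ⟨m, hm⟩ := this
    have hm' : (φ k₀) ^ m = φ k := by
      have := congrArg Subtype.val hm
      simpa using this
    have hmem : k * (k₀ ^ m)⁻¹ ∈ A.subgroupOf K := by
      rw [← hker, MonoidHom.mem_ker, map_mul, map_inv, map_zpow, hm', mul_inv_cancel]
    have : k = (k * (k₀ ^ m)⁻¹) * k₀ ^ m := by group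
    rw [this]
    exact Subgroup.mul_mem_sup hmem (Subgroup.zpow_mem_zpowers k₀ m)
  · apply sup_le
    · intro k hk
      exact (le_sup_left : A ≤ A ⊔ zpowers g) hk
    · rw [Subgroup.zpowers_le]
      exact hk₀

theorem SSChain.subgroupOf (K : Subgroup G) {A : Subgroup G} (h : SSChain A) :
    SSChain (A.subgroupOf K) := by
  induction h with
  | bot => rw [Subgroup.bot_subgroupOf]; exact SSChain.bot
  | step A g hA hn ih =>
    have := hA.normal
    obtain ⟨k, hk⟩ := exists_subgroupOf_sup_zpowers A g K
    rw [hk]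
    refine SSChain.step _ _ ih ?_
    rw [← hk]
    exact hn.subgroupOf K

/-- Pulling back a chain along a surjection whose kernel has a chain. -/
theorem SSChain.comap {G' : Type v} [Group G'] (f : G →* G') (hf : Function.Surjective f)
    (hker : SSChain f.ker) {A : Subgroup G'} (h : SSChain A) : SSChain (A.comap f) := by
  induction h with
  | bot => rw [MonoidHom.comap_bot]; exact hker
  | step A x hA hn ih =>
    obtain ⟨g, rfl⟩ := hf x
    have key : (A ⊔ zpowers (f g)).comap f = A.comap f ⊔ zpowers g := by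
      conv_lhs => rw [← Subgroup.map_comap_eq_self_of_surjective hf A, ← MonoidHom.map_zpowers,
        ← Subgroup.map_sup, Subgroup.comap_map_eq]
      rw [sup_comm, ← sup_assoc]
      congr 1
      rw [sup_eq_right]
      exact Subgroup.ker_le_comap f A
    rw [key]
    refine SSChain.step _ _ ih ?_
    rw [← key]
    exact hn.comap f


theorem isSupersolvable_of_surjective {G' : Type v} [Group G'] (f : G →* G')
    (hf : Function.Surjective f) (h : Cfsg.IsSupersolvable G) : Cfsg.IsSupersolvable G' := by
  rw [isSupersolvable_iff] at h ⊢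
  have := h.map f hf
  rwa [← MonoidHom.range_eq_map, MonoidHom.range_eq_top.mpr hf] at this

theorem isSupersolvable_of_mulEquiv {G' : Type v} [Group G'] (e : G ≃* G')
    (h : Cfsg.IsSupersolvable G) : Cfsg.IsSupersolvable G' :=
  isSupersolvable_of_surjective e.toMonoidHom e.surjective h

theorem isSupersolvable_subgroup (K : Subgroup G) (h : Cfsg.IsSupersolvable G) :
    Cfsg.IsSupersolvable K := by
  rw [isSupersolvable_iff] at h ⊢
  have := h.subgroupOf K
  rwa [Subgroup.top_subgroupOf] at this

theorem isSupersolvable_quotient (N : Subgroup G) [N.Normal] (h : Cfsg.IsSupersolvable G) :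
    Cfsg.IsSupersolvable (G ⧸ N) :=
  isSupersolvable_of_surjective (QuotientGroup.mk' N) (QuotientGroup.mk'_surjective N) h

/-- A normal cyclic subgroup carries a chain. -/
theorem ssChain_of_isCyclic (N : Subgroup G) [hN : N.Normal] [hc : IsCyclic N] : SSChain N := by
  obtain ⟨⟨g, hgN⟩, hg⟩ := hc.exists_generator
  have : N = ⊥ ⊔ zpowers g := by
    rw [bot_sup_eq]
    apply le_antisymm
    · intro x hx
      have := hg ⟨x, hx⟩
      rw [Subgroup.mem_zpowers_iff] at this ⊢
      obtain ⟨k, hk⟩ := this
      exact ⟨k, by simpa using congrArg Subtype.val hk⟩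
    · rw [Subgroup.zpowers_le]; exact hgN
  rw [this]
  refine SSChain.step _ _ SSChain.bot ?_
  rw [← this]; exact hN

/-- If the kernel of a surjection has a chain and the image is supersolvable, so is the source. -/
theorem isSupersolvable_of_ker_of_surjective {G' : Type v} [Group G'] (f : G →* G')
    (hf : Function.Surjective f) (hker : SSChain f.ker) (h : Cfsg.IsSupersolvable G') :
    Cfsg.IsSupersolvable G := by
  rw [isSupersolvable_iff] at h ⊢
  have := SSChain.comap f hf hker h
  rwa [Subgroup.comap_top] at this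

theorem isSupersolvable_of_cyclic_normal (N : Subgroup G) [N.Normal] [IsCyclic N]
    (h : Cfsg.IsSupersolvable (G ⧸ N)) : Cfsg.IsSupersolvable G := by
  refine isSupersolvable_of_ker_of_surjective (QuotientGroup.mk' N)
    (QuotientGroup.mk'_surjective N) ?_ h
  rw [QuotientGroup.ker_mk']
  exact ssChain_of_isCyclic N

/-- Chains in a product. -/
theorem prod_bot_eq_map_inl {H : Type v} [Group H] (A : Subgroup G) :
    A.prod (⊥ : Subgroup H) = A.map (MonoidHom.inl G H) := by
  ext ⟨a, b⟩
  simp only [Subgroup.mem_prod, Subgroup.mem_bot, Subgroup.mem_map, MonoidHom.inl_apply,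
    Prod.ext_iff]
  constructor
  · rintro ⟨ha, rfl⟩; exact ⟨a, ha, rfl, rfl⟩
  · rintro ⟨x, hx, rfl, rfl⟩; exact ⟨hx, rfl⟩

theorem SSChain.prod_bot {H : Type v} [Group H] {A : Subgroup G} (h : SSChain A) :
    SSChain (A.prod (⊥ : Subgroup H)) := by
  induction h with
  | bot => rw [Subgroup.bot_prod_bot]; exact SSChain.bot
  | step A g hA hn ih =>
    have key : (A ⊔ zpowers g).prod (⊥ : Subgroup H) = A.prod ⊥ ⊔ zpowers ((g, 1) : G × H) := by
      rw [prod_bot_eq_map_inl, prod_bot_eq_map_inl, Subgroup.map_sup, MonoidHom.map_zpowers,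
        MonoidHom.inl_apply]
    rw [key]
    refine SSChain.step _ _ ih ?_
    rw [← key]
    have := hn
    exact Subgroup.prod_normal _ _

theorem isSupersolvable_prod {H : Type v} [Group H] (hG : Cfsg.IsSupersolvable G)
    (hH : Cfsg.IsSupersolvable H) : Cfsg.IsSupersolvable (G × H) := by
  rw [isSupersolvable_iff] at hG
  refine isSupersolvable_of_ker_of_surjective (MonoidHom.snd G H) Prod.snd_surjective ?_ hH
  rw [MonoidHom.ker_snd]
  exact hG.prod_bot

end Cfsg.Agent.Helper9
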