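/-
helper9: solvable CN-groups, part 2.  Nilpotent groups acting fixed-point-freely: unique subgroups
of prime order, and the resulting structure (cyclic, or cyclic of odd order times generalized
quaternion).
-/
import Mathlib
import Cfsg.Agent.Helper1.FpfCyclic
import Cfsg.Agent.Helper73.PGroupCyclic
import Cfsg.Agent.Helper65.Nilpotent
import Cfsg.Agent.Helper95.FpfNilpotent
import Cfsg.Agent.Lib.Nilpotent
import Cfsg.Agent.S4370

set_option autoImplicit false

namespace Cfsg.Agent.Helper9

open Subgroup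

/-- A nilpotent group acting fixed-point-freely on a nontrivial abelian group has, for every prime
`r`, at most one subgroup of order `r`, and it is central. -/
lemma uniqueOrderP_of_fpf {E V : Type*} [Group E] [Finite E] [hnil : Group.IsNilpotent E]
    [CommGroup V] [Finite V] [Nontrivial V] (φ : E →* MulAut V)
    (hfpf : ∀ a : E, a ≠ 1 → ∀ v : V, φ a v = v → v = 1) {r : ℕ} (hr : r.Prime) :
    Helper73.UniqueOrderP r E ∧ ∀ z : E, orderOf z = r → z ∈ Subgroup.center E := by
  by_cases hex : ∃ x : E, orderOf x = r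
  · obtain ⟨x₀, hx₀⟩ := hex
    have hrdvd : r ∣ Nat.card E := hx₀ ▸ orderOf_dvd_natCard x₀
    haveI := Fact.mk hr
    let R : Sylow r E := default
    have hRn : (R : Subgroup E).Normal :=
      Sylow.normal_of_normalizerCondition Group.normalizerCondition_of_isNilpotent R
    have hRne : (R : Subgroup E) ≠ ⊥ := by
      intro h
      have h1 : r ∣ Nat.card (R : Subgroup E) := by
        have := Sylow.pow_dvd_card_of_pow_dvd_card R (n := 1) (by rwa [pow_one])
        rwa [pow_one] at this
      rw [h, Subgroup.card_bot] at h1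
      exact hr.one_lt.ne' (Nat.dvd_one.mp h1)
    have h1 := Lib.normal_inf_center_ne_bot (R : Subgroup E) hRne
    rw [Ne, Subgroup.eq_bot_iff_forall] at h1
    push Not at h1
    obtain ⟨w, hw, hw1⟩ := h1
    obtain ⟨hwR, hwc⟩ := Subgroup.mem_inf.mp hw
    obtain ⟨j0, hj0⟩ := R.2 ⟨w, hwR⟩
    have hj0' : w ^ r ^ j0 = 1 := by simpa using congrArg Subtype.val hj0
    obtain ⟨j, -, hoa⟩ := (Nat.dvd_prime_pow hr).mp (orderOf_dvd_of_pow_eq_one hj0')
    have hj1 : 1 ≤ j := by
      by_contra h0
      have : j = 0 := by omega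
      rw [this, pow_zero, orderOf_eq_one_iff] at hoa
      exact hw1 hoa
    have hz0ord : orderOf (w ^ r ^ (j - 1)) = r := Helper73.orderOf_pow_pred hoa hj1
    have hz0c : w ^ r ^ (j - 1) ∈ Subgroup.center E := Subgroup.pow_mem _ hwc _
    obtain ⟨z0, hz0⟩ : ∃ z0, z0 = w ^ r ^ (j - 1) := ⟨_, rfl⟩
    rw [← hz0] at hz0ord hz0c
    have hz01 : z0 ≠ 1 := by
      intro h
      rw [h, orderOf_one] at hz0ord
      exact hr.ne_one hz0ord.symm
    have hz0r : z0 ^ r = 1 := by rw [← hz0ord]; exact pow_orderOf_eq_one _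
    have hclaim : ∀ y : E, orderOf y = r → y ∈ zpowers z0 := by
      intro y hy
      by_contra hyz
      have hyr : y ^ r = 1 := by rw [← hy]; exact pow_orderOf_eq_one _
      refine Helper1.fpf_no_rank_two φ hfpf y z0 (Subgroup.mem_center_iff.mp hz0c y) hyr hz0r hz01 ?_
      intro i h
      apply hyz
      have : y = (z0 ^ i)⁻¹ := eq_inv_of_mul_eq_one_left h
      rw [this]
      exact inv_mem (pow_mem (mem_zpowers z0) i)
    constructor
    · intro x y hx hy
      have hxz : zpowers x = zpowers z0 := by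
        apply Subgroup.eq_of_le_of_card_ge (zpowers_le.2 (hclaim x hx))
        rw [Nat.card_zpowers, Nat.card_zpowers, hx, hz0ord]
      rw [hxz]
      exact hclaim y hy
    · intro z hz
      exact (zpowers_le.2 hz0c) (hclaim z hz)
  · constructor
    · intro x y hx _
      exact absurd ⟨x, hx⟩ hex
    · intro z hz
      exact absurd ⟨z, hz⟩ hex

section conj
variable {G : Type*} [Group G] [Finite G]

/-- A subgroup `L` of a CN-group acting fixed-point-freely and coprimely by conjugation on a
nontrivial abelian normal subgroup `Z` is nilpotent, with unique central subgroups of prime order. -/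
lemma nilpotent_uniqueOrderP_of_fpf_conj (hCN : Cfsg.IsCNGroup G) (Z L : Subgroup G) [hZn : Z.Normal]
    (hZc : ∀ a ∈ Z, ∀ b ∈ Z, a * b = b * a) (hZ1 : Z ≠ ⊥)
    (hcop : (Nat.card L).Coprime (Nat.card Z))
    (hfpf : ∀ e ∈ L, e ≠ 1 → ∀ v ∈ Z, e * v = v * e → v = 1) :
    Group.IsNilpotent L ∧ ∀ r : ℕ, r.Prime →
      (Helper73.UniqueOrderP r L ∧ ∀ z : L, orderOf z = r → z ∈ Subgroup.center L) := by
  have hZnt : Nontrivial Z := (Subgroup.nontrivial_iff_ne_bot Z).2 hZ1
  have hφ : ∀ e : L, e ≠ 1 → ∀ v : Z,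
      ((MulAut.conjNormal (H := Z)).comp L.subtype) e v = v → v = 1 := by
    intro e he1 v hv
    have he1' : (e : G) ≠ 1 := fun h => he1 (Subtype.ext h)
    have h1 : (e : G) * v * (e : G)⁻¹ = v := by
      have := congrArg Subtype.val hv
      simpa [MulAut.conjNormal_apply] using this
    apply Subtype.ext
    apply hfpf e e.2 he1' v v.2
    calc (e : G) * v = (e : G) * v * (e : G)⁻¹ * e := by group
      _ = v * e := by rw [h1]
  have hnil : Group.IsNilpotent L :=
    Helper95.Fpf.nilpotent_of_fpf_cn' (fun a b => Subtype.ext (hZc a a.2 b b.2)) L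
      ((MulAut.conjNormal (H := Z)).comp L.subtype) hφ hcop (Helper95.Fpf.cn_subgroup hCN L)
  refine ⟨hnil, ?_⟩
  intro r hr
  letI : CommGroup Z :=
    { (inferInstance : Group Z) with
      mul_comm := fun u v => Subtype.ext (hZc u u.2 v v.2) }
  exact uniqueOrderP_of_fpf ((MulAut.conjNormal (H := Z)).comp L.subtype) hφ hr

end conj

/-- A finite commutative group whose Sylow subgroups are all cyclic is cyclic. -/
lemma isCyclic_of_comm_of_sylow_cyclic {E : Type*} [CommGroup E] [Finite E]
    (hcyc : ∀ (r : ℕ) [Fact r.Prime] (R : Sylow r E), IsCyclic R) : IsCyclic E := by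
  apply IsCyclic.of_exponent_eq_card
  apply Nat.dvd_antisymm Group.exponent_dvd_nat_card
  rw [Nat.dvd_iff_prime_pow_dvd_dvd]
  intro r k hr hk
  haveI := Fact.mk hr
  let R : Sylow r E := default
  have h1 : r ^ k ∣ Nat.card R := Sylow.pow_dvd_card_of_pow_dvd_card R hk
  haveI := hcyc r R
  obtain ⟨g, hg⟩ := IsCyclic.exists_generator (α := R)
  have h2 : orderOf g = Nat.card R := orderOf_eq_card_of_forall_mem_zpowers hg
  have h3 : orderOf (g : E) = Nat.card R := by rw [Subgroup.orderOf_coe, h2]
  rw [← h3] at h1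
  exact h1.trans (Monoid.order_dvd_exponent _)

/-- A finite nilpotent group whose Sylow subgroups are all cyclic is cyclic. -/
lemma isCyclic_of_nilpotent_of_sylow_cyclic {E : Type*} [Group E] [Finite E]
    [hnil : Group.IsNilpotent E]
    (hcyc : ∀ (r : ℕ) [Fact r.Prime] (R : Sylow r E), IsCyclic R) : IsCyclic E := by
  have hcomm : IsMulCommutative E := by
    by_contra hna
    obtain ⟨p, hp, P, hP⟩ := S4370.exists_noncomm_sylow hna
    apply hP
    haveI := hcyc p P
    intro a b
    exact (IsCyclic.isMulCommutative (α := P)).is_comm.comm a b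
  letI : CommGroup E := { ‹Group E› with mul_comm := hcomm.is_comm.comm }
  exact isCyclic_of_comm_of_sylow_cyclic hcyc

/-- A finite nilpotent group of odd order with unique subgroups of prime order is cyclic. -/
lemma isCyclic_of_odd_of_uniqueOrderP {E : Type*} [Group E] [Finite E]
    [hnil : Group.IsNilpotent E] (hodd : Odd (Nat.card E))
    (hU : ∀ r : ℕ, r.Prime → Helper73.UniqueOrderP r E) : IsCyclic E := by
  apply isCyclic_of_nilpotent_of_sylow_cyclic
  intro r hr R
  rcases Helper73.cyclic_or_quaternion R.isPGroup' ((hU r hr.out).subgroup R) with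
    h | ⟨hr2, n, -, ⟨e⟩⟩
  · exact h
  · exfalso
    have hc : Nat.card R = 4 * 2 ^ n := by
      rw [Nat.card_congr e.toEquiv, Nat.card_eq_fintype_card, QuaternionGroup.card]
    have h2 : 2 ∣ Nat.card E := by
      have h3 : Nat.card (R : Subgroup E) ∣ Nat.card E := Subgroup.card_subgroup_dvd_card _
      have h4 : (2 : ℕ) ∣ 4 * 2 ^ n := ⟨2 * 2 ^ n, by ring⟩
      exact (hc ▸ h4).trans h3
    exact (Nat.not_even_iff_odd.mpr hodd) (even_iff_two_dvd.mpr h2)

/-- Structure of a finite nilpotent group with unique subgroups of prime order. -/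
lemma cyclic_or_cq_of_uniqueOrderP {E : Type*} [Group E] [Finite E]
    [hnil : Group.IsNilpotent E] (hU : ∀ r : ℕ, r.Prime → Helper73.UniqueOrderP r E) :
    IsCyclic E ∨ ∃ C Q : Subgroup E, C ⊔ Q = ⊤ ∧ (∀ a ∈ C, ∀ b ∈ Q, a * b = b * a) ∧ IsCyclic C ∧
      Odd (Nat.card C) ∧ ∃ n : ℕ, Nonempty (↥Q ≃* QuaternionGroup (2 ^ n)) := by
  haveI : Fact (Nat.Prime 2) := ⟨Nat.prime_two⟩
  let P : Sylow 2 E := default
  rcases Helper73.cyclic_or_quaternion P.isPGroup' ((hU 2 Nat.prime_two).subgroup P) with
    h | ⟨-, n, -, ⟨e⟩⟩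
  · left
    apply isCyclic_of_nilpotent_of_sylow_cyclic
    intro r hr R
    rcases Helper73.cyclic_or_quaternion R.isPGroup' ((hU r hr.out).subgroup R) with
      h' | ⟨hr2, -⟩
    · exact h'
    · subst hr2
      have e' : (P : Subgroup E) ≃* (R : Subgroup E) := Sylow.equiv P R
      exact isCyclic_of_surjective e' e'.surjective
  · right
    have hPn : (P : Subgroup E).Normal :=
      Sylow.normal_of_normalizerCondition Group.normalizerCondition_of_isNilpotent P
    obtain ⟨C, hC⟩ := Subgroup.exists_right_complement'_of_coprime P.card_coprime_index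
    have hcardC : Nat.card C = (P : Subgroup E).index := (hC.symm.index_eq_card).symm
    have hCodd : Odd (Nat.card C) := by
      rw [hcardC, ← Nat.not_even_iff_odd, even_iff_two_dvd]
      exact P.not_dvd_index
    have hcop : (Nat.card C).Coprime (Nat.card (P : Subgroup E)) := by
      rw [hcardC]; exact P.card_coprime_index.symm
    refine ⟨C, P, ?_, ?_, ?_, hCodd, n, ⟨e⟩⟩
    · rw [sup_comm]
      exact hC.sup_eq_top
    · intro a ha b hb
      apply (Helper65.commute_of_coprime_orderOf E a b ?_).eq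
      exact Nat.Coprime.of_dvd (C.orderOf_dvd_natCard ha) ((P : Subgroup E).orderOf_dvd_natCard hb)
        hcop
    · exact isCyclic_of_odd_of_uniqueOrderP hCodd (fun r hr => (hU r hr).subgroup C)

/-- Subgroup form of `cyclic_or_cq_of_uniqueOrderP`. -/
lemma cyclic_or_cq_of_uniqueOrderP' {G : Type*} [Group G] (E : Subgroup G) [Finite E]
    (hnil : Group.IsNilpotent E) (hU : ∀ r : ℕ, r.Prime → Helper73.UniqueOrderP r E) :
    IsCyclic E ∨ ∃ C Q : Subgroup G, C ⊔ Q = E ∧ (∀ a ∈ C, ∀ b ∈ Q, a * b = b * a) ∧ IsCyclic C ∧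
      Odd (Nat.card C) ∧ ∃ n : ℕ, Nonempty (↥Q ≃* QuaternionGroup (2 ^ n)) := by
  rcases cyclic_or_cq_of_uniqueOrderP hU with h | ⟨C, Q, hsup, hcomm, hCc, hCo, n, ⟨e⟩⟩
  · exact Or.inl h
  · right
    let eC := C.equivMapOfInjective E.subtype E.subtype_injective
    let eQ := Q.equivMapOfInjective E.subtype E.subtype_injective
    refine ⟨C.map E.subtype, Q.map E.subtype, ?_, ?_, ?_, ?_, n, ⟨eQ.symm.trans e⟩⟩
    · rw [← Subgroup.map_sup, hsup, ← MonoidHom.range_eq_map, Subgroup.range_subtype]
    · rintro _ ⟨a, ha, rfl⟩ _ ⟨b, hb, rfl⟩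
      have := hcomm a ha b hb
      exact congrArg Subtype.val this
    · exact isCyclic_of_surjective eC eC.surjective
    · rw [← Nat.card_congr eC.toEquiv]
      exact hCo

end Cfsg.Agent.Helper9
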