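import Mathlib
import Cfsg.Agent.S0071
import Cfsg.Agent.Helper9.DihedralAut

set_option autoImplicit false

namespace Cfsg.Agent.Helper9

open Subgroup

/-- All Sylow subgroups are isomorphic to a given model. -/
theorem sylow_nonempty_mulEquiv {X : Type*} [Group X] [Finite X] {p : ℕ} [Fact p.Prime]
    {M : Type*} [Group M] (S : Sylow p X) (hS : Nonempty ((S : Subgroup X) ≃* M)) (S' : Sylow p X) :
    Nonempty ((S' : Subgroup X) ≃* M) := by
  obtain ⟨x, rfl⟩ := MulAction.exists_smul_eq X S S'
  obtain ⟨φ⟩ := hS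
  exact ⟨(Sylow.equivSMul S x).symm.trans φ⟩

/-- A `p`-subgroup of a subgroup `C` of `X` embeds in the model of the Sylow `p`-subgroups. -/
theorem exists_embedding_of_isPGroup {X : Type*} [Group X] [Finite X] {p : ℕ} [Fact p.Prime]
    {M : Type*} [Group M] (S : Sylow p X) (hS : Nonempty ((S : Subgroup X) ≃* M))
    (C : Subgroup X) (Q : Subgroup C) (hQ : IsPGroup p Q) :
    ∃ ψ : Q →* M, Function.Injective ψ := by
  have hQX : IsPGroup p (Q.map C.subtype) := hQ.map _
  obtain ⟨S', hS'⟩ := hQX.exists_le_sylow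
  obtain ⟨φ⟩ := sylow_nonempty_mulEquiv S hS S'
  let f : Q →* (S' : Subgroup X) :=
    ((C.subtype).comp Q.subtype).codRestrict (S' : Subgroup X)
      (fun y => hS' (Subgroup.mem_map_of_mem _ y.2))
  have hf : Function.Injective f := by
    intro a b hab
    have := congrArg Subtype.val hab
    change ((a : C) : X) = ((b : C) : X) at this
    exact Subtype.ext (Subtype.ext this)
  exact ⟨φ.toMonoidHom.comp f, φ.injective.comp hf⟩

/-- In a finite group whose Sylow 2-subgroups are dihedral, the centralizer of any involution has a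
normal 2-complement. -/
theorem centralizer_involution_normal_two_complement {X : Type*} [Group X] [Finite X]
    (S : Sylow 2 X) (n : ℕ) (hS : Nonempty ((S : Subgroup X) ≃* DihedralGroup n)) (t : X)
    (ht : orderOf t = 2) :
    ∃ N : Subgroup (Subgroup.centralizer ({t} : Set X)), N.Normal ∧ Odd (Nat.card N) ∧
      ∃ k : ℕ, N.index = 2 ^ k := by
  have htC : t ∈ centralizer ({t} : Set X) := by
    rw [mem_centralizer_iff]
    intro h hh
    rw [Set.mem_singleton_iff] at hh
    rw [hh]
  obtain ⟨tC, htCdef⟩ : ∃ tC : centralizer ({t} : Set X), tC = ⟨t, htC⟩ := ⟨_, rfl⟩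
  have hotC : orderOf tC = 2 := by
    rw [htCdef, Subgroup.orderOf_mk]; exact ht
  have hcentral : ∀ c : centralizer ({t} : Set X), c * tC = tC * c := by
    intro c
    apply Subtype.ext
    have := c.2
    rw [mem_centralizer_iff] at this
    have h1 := this t (Set.mem_singleton t)
    rw [htCdef]
    exact h1.symm
  have hcentral' : ∀ c : centralizer ({t} : Set X), ∀ h ∈ zpowers tC, c * h * c⁻¹ = h := by
    intro c h hh
    obtain ⟨j, rfl⟩ := Subgroup.mem_zpowers_iff.mp hh
    have hc : Commute c tC := hcentral c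
    rw [(hc.zpow_right j).eq]; group
  have hnormK : ∀ c : centralizer ({t} : Set X),
      c ∈ normalizer ((zpowers tC : Subgroup (centralizer ({t} : Set X))) : Set _) := by
    intro c
    rw [mem_normalizer_iff]
    intro h
    constructor
    · intro hh
      rw [hcentral' c h hh]; exact hh
    · intro hh
      have h1 := hcentral' c⁻¹ _ hh
      have h2 : c⁻¹ * (c * h * c⁻¹) * c⁻¹⁻¹ = h := by group
      rw [h2] at h1
      rw [h1]; exact hh
  have hK2 : IsPGroup 2 (zpowers tC) :=
    IsPGroup.of_card (n := 1) (by rw [Nat.card_zpowers, hotC, pow_one])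
  obtain ⟨T⟩ : Nonempty (Sylow 2 (centralizer ({t} : Set X))) := inferInstance
  have hfrob : ∃ N : Subgroup (centralizer ({t} : Set X)),
      N.Normal ∧ N.IsComplement' (T : Subgroup (centralizer ({t} : Set X))) := by
    rw [Cfsg.Agent.S0071.result T]
    intro Q hQT g hgN hcop
    have hQ2 : IsPGroup 2 Q := T.2.to_le hQT
    have hQt2 : IsPGroup 2 (Q ⊔ zpowers tC : Subgroup (centralizer ({t} : Set X))) :=
      IsPGroup.to_sup_of_normal_right' hQ2 hK2 (fun c _ => hnormK c)
    have hgNt : g ∈ normalizer ((Q ⊔ zpowers tC : Subgroup (centralizer ({t} : Set X))) : Set _) := by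
      rw [mem_normalizer_iff_map_conj_eq, Subgroup.map_sup]
      rw [mem_normalizer_iff_map_conj_eq.mp hgN, mem_normalizer_iff_map_conj_eq.mp (hnormK g)]
    obtain ⟨ψ, hψ⟩ := exists_embedding_of_isPGroup S hS (centralizer ({t} : Set X)) _ hQt2
    have hodd : Odd (orderOf g) := Nat.coprime_two_right.mp hcop
    have hmem : tC ∈ (Q ⊔ zpowers tC : Subgroup (centralizer ({t} : Set X))) :=
      (le_sup_right : zpowers tC ≤ Q ⊔ zpowers tC) (Subgroup.mem_zpowers tC)
    have := mem_centralizer_of_embeds_dihedral _ hQt2 ψ hψ g hgNt hodd tC hmem hotC (hcentral g)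
    exact Subgroup.centralizer_le (by exact_mod_cast (le_sup_left : Q ≤ Q ⊔ zpowers tC)) this
  obtain ⟨N, hN, hc⟩ := hfrob
  refine ⟨N, hN, ?_, ?_⟩
  · have h1 : (T : Subgroup (centralizer ({t} : Set X))).index = Nat.card N := hc.index_eq_card
    rw [← h1]
    have h2 := T.not_dvd_index
    rw [Nat.two_dvd_ne_zero] at h2
    exact Nat.odd_iff.mpr h2
  · obtain ⟨k, hk⟩ := T.2.exists_card_eq
    refine ⟨k, ?_⟩
    rw [← hk]
    exact hc.symm.index_eq_card

end Cfsg.Agent.Helper9
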