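import Cfsg.Agent.Helper18.Ree.BNPairRee
import Cfsg.Agent.Helper18.Ree.DiagChar
import Cfsg.Agent.Helper19.Poinc.GroupLemmas
import Cfsg.Agent.S1036
import Cfsg.Agent.S1101

/-!
Helper9: the Sylow 3-subgroups of `²G₂(3^(2m+1))` are the conjugates of `U¹ = G¹ ∩ U` and meet pairwise
trivially.  (On top of helper18's `Ree` library; no order formula needed.)
-/

set_option autoImplicit false
set_option maxRecDepth 100000

namespace Cfsg.Agent.Helper9.ReeTI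

open Cfsg Cfsg.Lie Cfsg.Agent.Helper18 Cfsg.Agent.Helper18.Ree Cfsg.Agent.Helper19.Poinc

section General
variable {F : Type*} [Field F] (D : ChevalleyDatum)
  (hD : D ∈ [chevG2, chevB2, chevD4, chevF4, chevE6, chevE7, chevE8])

include hD in
/-- the elements of `H` have order dividing `|F| - 1` -/
theorem diag_pow_card_sub_one [Fintype F] (k : GL D.Idx F) (hk : k ∈ D.diagonalSubgroup F) :
    k ^ (Fintype.card F - 1) = 1 := by
  obtain ⟨χ, hχ, hd, -, -⟩ := diag_char_neg D hD k hk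
  apply Units.ext
  rw [Units.val_pow_eq_pow_val, hd, Matrix.diagonal_pow, Units.val_one, ← Matrix.diagonal_one]
  congr 1
  funext j
  rcases j with a | s
  · simp
  · simp only [Pi.pow_apply, Sum.elim_inr, Pi.one_apply]
    exact FiniteField.pow_card_sub_one_eq_one _ (hχ s.val)

include hD in
/-- powers of `u h` -/
theorem mul_pow_mem (u h : GL D.Idx F) (hu : u ∈ D.posUnipotent F) (hh : h ∈ D.diagonalSubgroup F) (n : ℕ) :
    ∃ u' ∈ D.posUnipotent F, (u * h) ^ n = u' * h ^ n := by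
  have hN := (Cfsg.Agent.S1036.result (F := F) D hD).1
  induction n with
  | zero => exact ⟨1, one_mem _, by simp⟩
  | succ n ih =>
    obtain ⟨u', hu', e⟩ := ih
    have hc : h ^ n * u * (h ^ n)⁻¹ ∈ D.posUnipotent F :=
      (Subgroup.mem_normalizer_iff.mp (hN (Subgroup.pow_mem _ hh n)) u).mp hu
    refine ⟨u' * (h ^ n * u * (h ^ n)⁻¹), Subgroup.mul_mem _ hu' hc, ?_⟩
    rw [pow_succ, e, pow_succ]
    group

include hD in
/-- an element of `B` whose order is prime to `|F| - 1` lies in `U` -/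
theorem mem_posUnipotent_of_coprime [Fintype F] (x : GL D.Idx F) (hx : x ∈ D.borelSubgroup F)
    (hc : (Fintype.card F - 1).Coprime (orderOf x)) : x ∈ D.posUnipotent F := by
  unfold ChevalleyDatum.borelSubgroup at hx
  obtain ⟨u, hu, h, hh, rfl⟩ := exists_mul_of_mem_sup (Cfsg.Agent.S1036.result (F := F) D hD).1 hx
  obtain ⟨u', hu', e⟩ := mul_pow_mem D hD u h hu hh (Fintype.card F - 1)
  rw [diag_pow_card_sub_one D hD h hh, mul_one] at e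
  obtain ⟨a, ha⟩ := exists_pow_eq_self_of_coprime hc
  rw [← ha, e]
  exact Subgroup.pow_mem _ hu' a

end General

section Ree
variable {K : Type*} [Field K] [Fintype K] {m : ℕ} (hK : Fintype.card K = 3 ^ (2 * m + 1))

include hK in
theorem coprime_three_pow (k : ℕ) : (Fintype.card K - 1).Coprime (3 ^ k) := by
  rw [hK]
  apply Nat.Coprime.pow_right
  rw [Nat.coprime_comm, Nat.Prime.coprime_iff_not_dvd Nat.prime_three]
  intro h
  have h1 : 3 ∣ 3 ^ (2 * m + 1) := dvd_pow_self 3 (by omega)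
  have h2 : 1 ≤ 3 ^ (2 * m + 1) := Nat.one_le_pow _ _ (by norm_num)
  have h3 : 3 ∣ 3 ^ (2 * m + 1) - (3 ^ (2 * m + 1) - 1) := Nat.dvd_sub h1 h
  rw [Nat.sub_sub_self h2] at h3
  omega

include hK in
/-- an element of `G¹` normalising `U¹` lies in `B` -/
theorem mem_borel_of_normalizes (g : GL chevG2.Idx K) (hg : g ∈ twistedG2 K (3 ^ m))
    (hn : ∀ u ∈ chevG2.posUnipotent K ⊓ twistedG2 K (3 ^ m), g * u * g⁻¹ ∈ chevG2.posUnipotent K) :
    g ∈ chevG2.borelSubgroup K := by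
  haveI := charP_three hK
  obtain ⟨σ, hσ'⟩ := exists_sigma hK
  have hσ : SigmaSpec m σ := hσ'
  rcases G1_cases hK hσ g hg with h | ⟨u₂, hu₂, n₁, hn₁, hθ, u₁, hu₁, e⟩
  · exact h
  · exfalso
    have h3 : (3 : ℕ) ^ m ≠ 0 := pow_ne_zero _ (by norm_num)
    have hu0 : u₁⁻¹ * u0 K * u₁ ∈ chevG2.posUnipotent K ⊓ twistedG2 K (3 ^ m) :=
      Subgroup.mul_mem _ (Subgroup.mul_mem _ (Subgroup.inv_mem _ hu₁)
        (Subgroup.mem_inf.mpr ⟨u0_mem_pos, u0_mem_twisted _ h3⟩)) hu₁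
    have h1 := hn _ hu0
    have e2 : g * (u₁⁻¹ * u0 K * u₁) * g⁻¹ =
        u₂ * ((n₁ : GL chevG2.Idx K) * u0 K * (n₁ : GL chevG2.Idx K)⁻¹) * u₂⁻¹ := by
      rw [e]; group
    rw [e2] at h1
    have h4 : (n₁ : GL chevG2.Idx K) * u0 K * (n₁ : GL chevG2.Idx K)⁻¹ ∈ chevG2.posUnipotent K := by
      have := Subgroup.mul_mem _ (Subgroup.mul_mem _ (Subgroup.inv_mem _ (Subgroup.mem_inf.mp hu₂).1) h1)
        (Subgroup.mem_inf.mp hu₂).1
      have e3 : u₂⁻¹ * (u₂ * ((n₁ : GL chevG2.Idx K) * u0 K * (n₁ : GL chevG2.Idx K)⁻¹) * u₂⁻¹) * u₂ =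
          (n₁ : GL chevG2.Idx K) * u0 K * (n₁ : GL chevG2.Idx K)⁻¹ := by group
      rwa [e3] at this
    have h5 := theta_w0_conj n₁ hθ (u0 K) u0_mem_pos
    have h6 : (n₁ : GL chevG2.Idx K) * u0 K * (n₁ : GL chevG2.Idx K)⁻¹ ∈
        chevG2.borelSubgroup K ⊓ chevG2.negUnipotent K :=
      Subgroup.mem_inf.mpr ⟨posUnipotent_le_borel (F := K) chevG2 hG2 h4, h5⟩
    rw [borel_inf_neg, Subgroup.mem_bot] at h6
    apply u0_ne_one (K := K)
    have e4 : u0 K = (n₁ : GL chevG2.Idx K)⁻¹ *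
        ((n₁ : GL chevG2.Idx K) * u0 K * (n₁ : GL chevG2.Idx K)⁻¹) * (n₁ : GL chevG2.Idx K) := by group
    rw [e4, h6]
    group

include hK in
/-- `U¹ ∩ g U¹ g⁻¹ = 1` for `g ∈ G¹ ∖ B` -/
theorem eq_one_of_conj (g : GL chevG2.Idx K) (hg : g ∈ twistedG2 K (3 ^ m)) (hgB : g ∉ chevG2.borelSubgroup K)
    (x y : GL chevG2.Idx K) (hx : x ∈ chevG2.posUnipotent K) (hy : y ∈ chevG2.posUnipotent K)
    (e : x = g * y * g⁻¹) : x = 1 := by
  haveI := charP_three hK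
  obtain ⟨σ, hσ'⟩ := exists_sigma hK
  have hσ : SigmaSpec m σ := hσ'
  rcases G1_cases hK hσ g hg with h | ⟨u₂, hu₂, n₁, hn₁, hθ, u₁, hu₁, eg⟩
  · exact absurd h hgB
  · have hu₁' := (Subgroup.mem_inf.mp hu₁).1
    have hu₂' := (Subgroup.mem_inf.mp hu₂).1
    have h1 : u₁ * y * u₁⁻¹ ∈ chevG2.posUnipotent K :=
      Subgroup.mul_mem _ (Subgroup.mul_mem _ hu₁' hy) (Subgroup.inv_mem _ hu₁')
    have h5 := theta_w0_conj n₁ hθ _ h1
    have e2 : (n₁ : GL chevG2.Idx K) * (u₁ * y * u₁⁻¹) * (n₁ : GL chevG2.Idx K)⁻¹ = u₂⁻¹ * x * u₂ := by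
      rw [e, eg]; group
    rw [e2] at h5
    have h4 : u₂⁻¹ * x * u₂ ∈ chevG2.posUnipotent K :=
      Subgroup.mul_mem _ (Subgroup.mul_mem _ (Subgroup.inv_mem _ hu₂') hx) hu₂'
    have h6 : u₂⁻¹ * x * u₂ ∈ chevG2.borelSubgroup K ⊓ chevG2.negUnipotent K :=
      Subgroup.mem_inf.mpr ⟨posUnipotent_le_borel (F := K) chevG2 hG2 h4, h5⟩
    rw [borel_inf_neg, Subgroup.mem_bot] at h6
    have e4 : x = u₂ * (u₂⁻¹ * x * u₂) * u₂⁻¹ := by group
    rw [e4, h6]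
    group

/-- `U¹` as a subgroup of `G¹` -/
noncomputable def U1 (K : Type*) [Field K] (m : ℕ) : Subgroup ↥(twistedG2 K (3 ^ m)) :=
  (chevG2.posUnipotent K ⊓ twistedG2 K (3 ^ m)).subgroupOf (twistedG2 K (3 ^ m))

omit [Fintype K] in
theorem mem_U1 (x : ↥(twistedG2 K (3 ^ m))) : x ∈ U1 K m ↔ (x : GL chevG2.Idx K) ∈ chevG2.posUnipotent K := by
  unfold U1
  rw [Subgroup.mem_subgroupOf, Subgroup.mem_inf]
  exact ⟨fun h => h.1, fun h => ⟨h, x.2⟩⟩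

include hK in
theorem U1_isPGroup : IsPGroup 3 ↥(U1 K m) := by
  have h1 : Nat.card ↥(U1 K m) = Nat.card ↥(chevG2.posUnipotent K ⊓ twistedG2 K (3 ^ m)) :=
    Nat.card_congr (Subgroup.subgroupOfEquivOfLe inf_le_right).toEquiv
  rw [(Cfsg.Agent.S1101.result hK).2, ← pow_mul] at h1
  exact IsPGroup.of_card h1

include hK in
/-- `B ∩ G¹` normalises `U¹` -/
theorem conj_mem_U1_of_borel (g : ↥(twistedG2 K (3 ^ m))) (hg : (g : GL chevG2.Idx K) ∈ chevG2.borelSubgroup K)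
    (x : ↥(twistedG2 K (3 ^ m))) (hx : x ∈ U1 K m) : g * x * g⁻¹ ∈ U1 K m := by
  rw [mem_U1] at hx ⊢
  have hN : chevG2.borelSubgroup K ≤ Subgroup.normalizer (chevG2.posUnipotent K : Set (GL chevG2.Idx K)) := by
    unfold ChevalleyDatum.borelSubgroup
    exact sup_le Subgroup.le_normalizer (Cfsg.Agent.S1036.result (F := K) chevG2 hG2).1
  exact (Subgroup.mem_normalizer_iff.mp (hN hg) _).mp hx

include hK in
/-- `U¹` is a Sylow `3`-subgroup of `G¹` -/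
theorem exists_sylow_eq_U1 : ∃ P₀ : Sylow 3 ↥(twistedG2 K (3 ^ m)),
    (P₀ : Subgroup ↥(twistedG2 K (3 ^ m))) = U1 K m := by
  haveI : Fact (Nat.Prime 3) := ⟨Nat.prime_three⟩
  obtain ⟨P₀, hP₀⟩ := (U1_isPGroup hK).exists_le_sylow
  refine ⟨P₀, le_antisymm ?_ hP₀⟩
  -- the normaliser condition inside `P₀`
  haveI : Group.IsNilpotent ↥(P₀ : Subgroup ↥(twistedG2 K (3 ^ m))) := P₀.2.isNilpotent
  have hnc := (normalizerCondition_iff_only_full_group_self_normalizing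
    (G := ↥(P₀ : Subgroup ↥(twistedG2 K (3 ^ m))))).mp normalizerCondition_of_isNilpotent
  have hT := hnc ((U1 K m).subgroupOf (P₀ : Subgroup ↥(twistedG2 K (3 ^ m)))) ?_
  · intro x hx
    have : (⟨x, hx⟩ : ↥(P₀ : Subgroup ↥(twistedG2 K (3 ^ m)))) ∈
        (U1 K m).subgroupOf (P₀ : Subgroup ↥(twistedG2 K (3 ^ m))) := by rw [hT]; trivial
    exact Subgroup.mem_subgroupOf.mp this
  · apply le_antisymm _ Subgroup.le_normalizer
    intro x hx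
    rw [Subgroup.mem_normalizer_iff] at hx
    rw [Subgroup.mem_subgroupOf, mem_U1]
    -- `x` normalises `U¹`
    have hB : ((x : ↥(twistedG2 K (3 ^ m))) : GL chevG2.Idx K) ∈ chevG2.borelSubgroup K := by
      apply mem_borel_of_normalizes hK _ (x : ↥(twistedG2 K (3 ^ m))).2
      intro u hu
      have hu1 : (⟨u, (Subgroup.mem_inf.mp hu).2⟩ : ↥(twistedG2 K (3 ^ m))) ∈ U1 K m := by
        rw [mem_U1]; exact (Subgroup.mem_inf.mp hu).1
      have h1 := (hx ⟨⟨u, (Subgroup.mem_inf.mp hu).2⟩, hP₀ hu1⟩).mp (Subgroup.mem_subgroupOf.mpr hu1)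
      rw [Subgroup.mem_subgroupOf, mem_U1] at h1
      exact h1
    obtain ⟨k, hk⟩ := (IsPGroup.iff_orderOf.mp P₀.2) x
    have ho : orderOf ((x : ↥(twistedG2 K (3 ^ m))) : GL chevG2.Idx K) = 3 ^ k := by
      rw [Subgroup.orderOf_coe, Subgroup.orderOf_coe, hk]
    apply mem_posUnipotent_of_coprime chevG2 hG2 _ hB
    rw [ho]
    exact coprime_three_pow hK k

include hK in
/-- distinct Sylow `3`-subgroups of `²G₂` meet trivially -/
theorem sylow_inf_eq_bot (P Q : Sylow 3 ↥(twistedG2 K (3 ^ m))) (hPQ : P ≠ Q) :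
    (P : Subgroup ↥(twistedG2 K (3 ^ m))) ⊓ (Q : Subgroup ↥(twistedG2 K (3 ^ m))) = ⊥ := by
  haveI : Fact (Nat.Prime 3) := ⟨Nat.prime_three⟩
  obtain ⟨P₀, hP₀⟩ := exists_sylow_eq_U1 hK
  obtain ⟨g₁, rfl⟩ := MulAction.exists_smul_eq ↥(twistedG2 K (3 ^ m)) P₀ P
  obtain ⟨g₂, rfl⟩ := MulAction.exists_smul_eq ↥(twistedG2 K (3 ^ m)) P₀ Q
  rw [eq_bot_iff]
  intro x hx
  rw [Subgroup.mem_inf, Sylow.coe_subgroup_smul, Sylow.coe_subgroup_smul, hP₀,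
    Subgroup.mem_smul_pointwise_iff_exists, Subgroup.mem_smul_pointwise_iff_exists] at hx
  obtain ⟨⟨y₁, hy₁, e₁⟩, ⟨y₂, hy₂, e₂⟩⟩ := hx
  rw [MulAut.smul_def, MulAut.conj_apply] at e₁ e₂
  rw [Subgroup.mem_bot]
  by_cases hB : ((g₁⁻¹ * g₂ : ↥(twistedG2 K (3 ^ m))) : GL chevG2.Idx K) ∈ chevG2.borelSubgroup K
  · exfalso
    apply hPQ
    -- `g₁⁻¹ g₂` normalises `U¹`, so the two conjugates agree
    have hconj : ∀ z ∈ U1 K m, (g₁⁻¹ * g₂) * z * (g₁⁻¹ * g₂)⁻¹ ∈ U1 K m :=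
      fun z hz => conj_mem_U1_of_borel hK _ hB z hz
    have hconj' : ∀ z ∈ U1 K m, (g₁⁻¹ * g₂)⁻¹ * z * (g₁⁻¹ * g₂)⁻¹⁻¹ ∈ U1 K m := by
      intro z hz
      apply conj_mem_U1_of_borel hK _ _ z hz
      rw [Subgroup.coe_inv]
      exact Subgroup.inv_mem _ hB
    apply Sylow.ext
    rw [Sylow.coe_subgroup_smul, Sylow.coe_subgroup_smul, hP₀]
    ext z
    rw [Subgroup.mem_smul_pointwise_iff_exists, Subgroup.mem_smul_pointwise_iff_exists]
    constructor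
    · rintro ⟨w, hw, rfl⟩
      refine ⟨(g₁⁻¹ * g₂)⁻¹ * w * (g₁⁻¹ * g₂)⁻¹⁻¹, hconj' w hw, ?_⟩
      rw [MulAut.smul_def, MulAut.conj_apply, MulAut.smul_def, MulAut.conj_apply]
      group
    · rintro ⟨w, hw, rfl⟩
      refine ⟨(g₁⁻¹ * g₂) * w * (g₁⁻¹ * g₂)⁻¹, hconj w hw, ?_⟩
      rw [MulAut.smul_def, MulAut.conj_apply, MulAut.smul_def, MulAut.conj_apply]
      group
  · -- `y₁ = (g₁⁻¹ g₂) y₂ (g₁⁻¹ g₂)⁻¹`
    have e3 : (y₁ : GL chevG2.Idx K) = ((g₁⁻¹ * g₂ : ↥(twistedG2 K (3 ^ m))) : GL chevG2.Idx K) *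
        (y₂ : GL chevG2.Idx K) * ((g₁⁻¹ * g₂ : ↥(twistedG2 K (3 ^ m))) : GL chevG2.Idx K)⁻¹ := by
      have : y₁ = (g₁⁻¹ * g₂) * y₂ * (g₁⁻¹ * g₂)⁻¹ := by
        have h1 : g₁ * y₁ * g₁⁻¹ = g₂ * y₂ * g₂⁻¹ := by rw [e₁, e₂]
        calc y₁ = g₁⁻¹ * (g₁ * y₁ * g₁⁻¹) * g₁ := by group
          _ = g₁⁻¹ * (g₂ * y₂ * g₂⁻¹) * g₁ := by rw [h1]
          _ = _ := by group
      rw [this]
      simp only [Subgroup.coe_mul, Subgroup.coe_inv]
    have hy1 := eq_one_of_conj hK _ (g₁⁻¹ * g₂ : ↥(twistedG2 K (3 ^ m))).2 hB _ _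
      ((mem_U1 y₁).mp hy₁) ((mem_U1 y₂).mp hy₂) e3
    have : y₁ = 1 := Subtype.ext hy1
    rw [← e₁, this]
    group

end Ree

end Cfsg.Agent.Helper9.ReeTI
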