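import Mathlib

set_option autoImplicit false

/-!
# A four-group `V` with `C(V) = V` and `|N(V)| = 12`: the normalizer is transitive on `V \ {1}`
-/

namespace Cfsg.Agent.Helper9.Syl8

open Subgroup

variable {L : Type*} [Group L]

/-- A group of order 4 and exponent 2 is `{1, v, w, v * w}` for any `v ≠ 1`, `w ∉ {1, v}`. -/
theorem four_elems [Finite L] (V : Subgroup L) (hV4 : Nat.card V = 4)
    (hV2 : ∀ v ∈ V, v * v = 1) {v w : L} (hv : v ∈ V) (hw : w ∈ V) (hv1 : v ≠ 1) (hw1 : w ≠ 1)
    (hwv : w ≠ v) (u : L) (hu : u ∈ V) : u = 1 ∨ u = v ∨ u = w ∨ u = v * w := by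
  classical
  by_contra hcon
  push Not at hcon
  obtain ⟨h1, h2, h3, h4⟩ := hcon
  have hvw1 : v * w ≠ 1 := by
    intro h
    apply hwv
    have := hV2 v hv
    have h5 : v * w = v * v := by rw [h, this]
    exact mul_left_cancel h5
  have hvwv : v * w ≠ v := by
    intro h
    apply hw1
    have : v * w = v * 1 := by rw [h, mul_one]
    exact mul_left_cancel this
  have hvww : v * w ≠ w := by
    intro h
    apply hv1
    have : v * w = 1 * w := by rw [h, one_mul]
    exact mul_right_cancel this
  have : Fintype V := Fintype.ofFinite V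
  let s : Finset V := {⟨1, V.one_mem⟩, ⟨v, hv⟩, ⟨w, hw⟩, ⟨v * w, V.mul_mem hv hw⟩, ⟨u, hu⟩}
  have hs : s.card = 5 := by
    simp only [s]
    rw [Finset.card_insert_of_notMem, Finset.card_insert_of_notMem, Finset.card_insert_of_notMem,
      Finset.card_insert_of_notMem, Finset.card_singleton]
    · simp only [Finset.mem_singleton, Subtype.mk.injEq]
      exact fun h => h4 h.symm
    · simp only [Finset.mem_insert, Finset.mem_singleton, Subtype.mk.injEq]
      rintro (h | h)
      · exact hvww h.symm
      · exact h3 h.symm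
    · simp only [Finset.mem_insert, Finset.mem_singleton, Subtype.mk.injEq]
      rintro (h | h | h)
      · exact hwv h.symm
      · exact hvwv h.symm
      · exact h2 h.symm
    · simp only [Finset.mem_insert, Finset.mem_singleton, Subtype.mk.injEq]
      rintro (h | h | h | h)
      · exact hv1 h.symm
      · exact hw1 h.symm
      · exact hvw1 h.symm
      · exact h1 h.symm
  have hle : s.card ≤ Fintype.card V := Finset.card_le_univ s
  rw [← Nat.card_eq_fintype_card, hV4, hs] at hle
  omega

/-- If `V` is a four-group with `C(V) = V` and `|N(V)| = 12` then `N(V)` is transitive on the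
involutions of `V`. -/
theorem four_trans [Finite L] (V : Subgroup L) (hV4 : Nat.card V = 4)
    (hV2 : ∀ v ∈ V, v * v = 1) (hC : centralizer (V : Set L) = V)
    (hN : Nat.card (normalizer (V : Set L)) = 12) :
    ∀ v ∈ V, ∀ w ∈ V, v ≠ 1 → w ≠ 1 → ∃ n ∈ normalizer (V : Set L), n * v * n⁻¹ = w := by
  classical
  have hVN : V ≤ normalizer (V : Set L) := le_normalizer
  have hcomm : ∀ x ∈ V, ∀ y ∈ V, x * y = y * x := by
    intro x hx y hy
    have h1 := hV2 (x * y) (V.mul_mem hx hy)
    have h2 := hV2 x hx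
    have h3 := hV2 y hy
    have hxi : x⁻¹ = x := inv_eq_of_mul_eq_one_right h2
    have hyi : y⁻¹ = y := inv_eq_of_mul_eq_one_right h3
    have : (x * y)⁻¹ = x * y := inv_eq_of_mul_eq_one_right h1
    rw [mul_inv_rev, hxi, hyi] at this
    exact this.symm
  -- an element of `N(V)` outside `V`
  obtain ⟨n, hnN, hnV⟩ : ∃ n ∈ normalizer (V : Set L), n ∉ V := by
    by_contra hcon
    push Not at hcon
    have : normalizer (V : Set L) ≤ V := hcon
    have := Subgroup.card_le_of_le this
    omega
  -- its cube lies in `V`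
  have hn3 : n ^ 3 ∈ V := by
    have hrel : V.relIndex (normalizer (V : Set L)) = 3 := by
      have h1 := Subgroup.card_mul_index (V.subgroupOf (normalizer (V : Set L)))
      rw [Nat.card_congr (Subgroup.subgroupOfEquivOfLe hVN).toEquiv, hV4, hN] at h1
      show (V.subgroupOf (normalizer (V : Set L))).index = 3
      omega
    have := Subgroup.pow_index_mem (V.subgroupOf (normalizer (V : Set L))) ⟨n, hnN⟩
    rw [show (V.subgroupOf (normalizer (V : Set L))).index = 3 from hrel] at this
    exact this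
  -- conjugation by `n` on `V`
  have hφV : ∀ x ∈ V, n * x * n⁻¹ ∈ V := fun x hx => (mem_normalizer_iff.mp hnN x).mp hx
  have hφ3 : ∀ x ∈ V, n * (n * (n * x * n⁻¹) * n⁻¹) * n⁻¹ = x := by
    intro x hx
    have hn3' : n * n * n ∈ V := by
      have : n ^ 3 = n * n * n := by rw [pow_succ, pow_two]
      rwa [this] at hn3
    have h1 : n * (n * (n * x * n⁻¹) * n⁻¹) * n⁻¹ = (n * n * n) * x * (n * n * n)⁻¹ := by group
    rw [h1, hcomm _ hn3' x hx, mul_inv_cancel_right]
  -- `n` fixes no involution of `V`
  have hfix : ∀ v ∈ V, v ≠ 1 → n * v * n⁻¹ ≠ v := by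
    intro v hv hv1 hfv
    apply hnV
    rw [← hC, mem_centralizer_iff]
    intro w hw
    show w * n = n * w
    by_cases hw1 : w = 1
    · rw [hw1, one_mul, mul_one]
    by_cases hwv : w = v
    · rw [hwv]
      have : n * v * n⁻¹ * n = v * n := by rw [hfv]
      rw [inv_mul_cancel_right] at this
      exact this.symm
    -- `n w n⁻¹ ∈ {1, v, w, v w}`
    have hφw := hφV w hw
    rcases four_elems V hV4 hV2 hv hw hv1 hw1 hwv _ hφw with h | h | h | h
    · exfalso
      apply hw1
      have : n * w * n⁻¹ = n * 1 * n⁻¹ := by rw [h]; group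
      exact mul_left_cancel (mul_right_cancel this)
    · exfalso
      apply hwv
      have : n * w * n⁻¹ = n * v * n⁻¹ := by rw [h, hfv]
      exact mul_left_cancel (mul_right_cancel this)
    · have : n * w * n⁻¹ * n = w * n := by rw [h]
      rw [inv_mul_cancel_right] at this
      exact this.symm
    · exfalso
      have h3 := hφ3 w hw
      rw [h] at h3
      have e1 : n * (v * w) * n⁻¹ = (n * v * n⁻¹) * (n * w * n⁻¹) := by group
      have hvvw : v * (v * w) = w := by rw [← mul_assoc, hV2 v hv, one_mul]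
      rw [e1, hfv, h, hvvw, h] at h3
      -- h3 : v * w = w
      apply hv1
      have : v * w = 1 * w := by rw [h3, one_mul]
      exact mul_right_cancel this
  intro v hv w hw hv1 hw1
  have hφv := hφV v hv
  have hφv1 : n * v * n⁻¹ ≠ 1 := by
    intro h
    apply hv1
    have : n * v * n⁻¹ = n * 1 * n⁻¹ := by rw [h]; group
    exact mul_left_cancel (mul_right_cancel this)
  have hφφv := hφV _ hφv
  by_cases hwv : w = v
  · exact ⟨1, one_mem _, by rw [hwv]; group⟩
  by_cases hwφ : w = n * v * n⁻¹
  · exact ⟨n, hnN, hwφ.symm⟩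
  refine ⟨n * n, mul_mem hnN hnN, ?_⟩
  have e2 : n * n * v * (n * n)⁻¹ = n * (n * v * n⁻¹) * n⁻¹ := by group
  rw [e2]
  -- `φ² v` is none of `1, v, φ v`
  have h1 : n * (n * v * n⁻¹) * n⁻¹ ≠ 1 := by
    intro h
    apply hφv1
    have : n * (n * v * n⁻¹) * n⁻¹ = n * 1 * n⁻¹ := by rw [h]; group
    exact mul_left_cancel (mul_right_cancel this)
  have h2 : n * (n * v * n⁻¹) * n⁻¹ ≠ n * v * n⁻¹ := hfix _ hφv hφv1
  have h3 : n * (n * v * n⁻¹) * n⁻¹ ≠ v := by
    intro h
    have := hφ3 v hv
    rw [h] at this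
    exact hfix v hv hv1 this
  have hne : n * v * n⁻¹ ≠ v := hfix v hv hv1
  rcases four_elems V hV4 hV2 hv hφv hv1 hφv1 hne _ hφφv with h | h | h | h
  · exact absurd h h1
  · exact absurd h h3
  · exact absurd h h2
  · rcases four_elems V hV4 hV2 hv hφv hv1 hφv1 hne w hw with h' | h' | h' | h'
    · exact absurd h' hw1
    · exact absurd h' hwv
    · exact absurd h' hwφ
    · rw [h, h']

end Cfsg.Agent.Helper9.Syl8
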