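import Mathlib
import Cfsg.Agent.Helper9.Syl8A

set_option autoImplicit false

/-!
# Centralizers and normalizers under an injective homomorphism, and in `C₂ × L`
-/

namespace Cfsg.Agent.Helper9.Syl8

open Subgroup
open scoped Pointwise

section iota

variable {G : Type*} [Group G] {P : Type*} [Group P] (ι : P →* G) (hι : Function.Injective ι)
include hι

theorem map_normalizer_of_inj (H : Subgroup P) :
    (normalizer (H : Set P)).map ι =
      normalizer ((H.map ι : Subgroup G) : Set G) ⊓ ι.range := by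
  ext x
  rw [mem_map, mem_inf, MonoidHom.mem_range]
  constructor
  · rintro ⟨p, hp, rfl⟩
    refine ⟨?_, ⟨p, rfl⟩⟩
    rw [mem_normalizer_iff]
    intro y
    constructor
    · rintro ⟨h, hh, rfl⟩
      refine ⟨p * h * p⁻¹, (mem_normalizer_iff.mp hp h).mp hh, ?_⟩
      simp only [map_mul, map_inv]
    · rintro ⟨h', hh', hy⟩
      refine ⟨p⁻¹ * h' * p, ?_, ?_⟩
      · have := (mem_normalizer_iff.mp (inv_mem hp) h').mp hh'
        rwa [inv_inv] at this
      · simp only [map_mul, map_inv, hy]
        group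
  · rintro ⟨hx, ⟨p, rfl⟩⟩
    refine ⟨p, ?_, rfl⟩
    rw [mem_normalizer_iff]
    intro h
    have := mem_normalizer_iff.mp hx (ι h)
    constructor
    · intro hh
      obtain ⟨h', hh', e⟩ := this.mp ⟨h, hh, rfl⟩
      have : h' = p * h * p⁻¹ := hι (by rw [e]; simp only [map_mul, map_inv])
      rwa [← this]
    · intro hh
      obtain ⟨h', hh', e⟩ := this.mpr ⟨p * h * p⁻¹, hh, by simp only [map_mul, map_inv]⟩
      rwa [← hι e]

theorem map_centralizer_of_inj (H : Subgroup P) :
    (centralizer (H : Set P)).map ι =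
      centralizer ((H.map ι : Subgroup G) : Set G) ⊓ ι.range := by
  ext x
  rw [mem_map, mem_inf, MonoidHom.mem_range]
  constructor
  · rintro ⟨p, hp, rfl⟩
    refine ⟨?_, ⟨p, rfl⟩⟩
    rw [mem_centralizer_iff]
    rintro y ⟨h, hh, rfl⟩
    rw [mem_centralizer_iff] at hp
    rw [← map_mul, ← map_mul, hp h hh]
  · rintro ⟨hx, ⟨p, rfl⟩⟩
    refine ⟨p, ?_, rfl⟩
    rw [mem_centralizer_iff]
    intro h hh
    rw [mem_centralizer_iff] at hx
    have := hx (ι h) ⟨h, hh, rfl⟩
    rw [← map_mul, ← map_mul] at this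
    exact hι this

end iota

/-- The centralizer of a conjugate subgroup. -/
theorem centralizer_conj_smul {G : Type*} [Group G] (H : Subgroup G) (g : G) :
    centralizer ((MulAut.conj g • H : Subgroup G) : Set G) =
      MulAut.conj g • centralizer (H : Set G) := by
  ext x
  rw [Subgroup.mem_pointwise_smul_iff_inv_smul_mem, mem_centralizer_iff, mem_centralizer_iff]
  constructor
  · intro h y hy
    have := h (g * y * g⁻¹) (by
      rw [Subgroup.coe_pointwise_smul]
      exact ⟨y, hy, by simp [MulAut.conj_apply]⟩)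
    simp only [MulAut.smul_def, MulAut.conj_inv_apply] at this ⊢
    have e1 : y * (g⁻¹ * x * g) = g⁻¹ * ((g * y * g⁻¹) * x) * g := by group
    have e2 : g⁻¹ * x * g * y = g⁻¹ * (x * (g * y * g⁻¹)) * g := by group
    rw [e1, e2, this]
  · intro h y hy
    rw [Subgroup.coe_pointwise_smul] at hy
    obtain ⟨z, hz, rfl⟩ := hy
    have := h z hz
    simp only [MulAut.smul_def, MulAut.conj_inv_apply, MulAut.conj_apply] at this ⊢
    have e1 : g * z * g⁻¹ * x = g * (z * (g⁻¹ * x * g)) * g⁻¹ := by group
    have e2 : x * (g * z * g⁻¹) = g * ((g⁻¹ * x * g) * z) * g⁻¹ := by group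
    rw [e1, e2, this]

section prod

variable {L : Type*} [Group L]

/-- The cyclic group of order two, written multiplicatively. -/
abbrev A2 := Multiplicative (ZMod 2)

theorem A2_eq_of_ne_one : ∀ x y : A2, x ≠ 1 → y ≠ 1 → x = y := by decide

theorem card_A2 : Nat.card A2 = 2 := by
  rw [Nat.card_eq_fintype_card]; rfl

theorem centralizer_top_prod (V : Subgroup L) :
    centralizer (((⊤ : Subgroup A2).prod V : Subgroup (A2 × L)) : Set (A2 × L)) =
      (⊤ : Subgroup A2).prod (centralizer (V : Set L)) := by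
  ext ⟨β, l⟩
  rw [mem_centralizer_iff, mem_prod]
  simp only [mem_top, true_and]
  rw [mem_centralizer_iff]
  constructor
  · intro h v hv
    have := h (1, v) (by rw [SetLike.mem_coe, mem_prod]; exact ⟨mem_top _, hv⟩)
    exact (Prod.ext_iff.mp this).2
  · rintro h ⟨γ, v⟩ hv
    rw [SetLike.mem_coe, mem_prod] at hv
    exact Prod.ext (mul_comm _ _) (h v hv.2)

theorem normalizer_top_prod (V : Subgroup L) :
    normalizer (((⊤ : Subgroup A2).prod V : Subgroup (A2 × L)) : Set (A2 × L)) =
      (⊤ : Subgroup A2).prod (normalizer (V : Set L)) := by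
  ext ⟨β, l⟩
  rw [mem_normalizer_iff, mem_prod]
  simp only [mem_top, true_and]
  rw [mem_normalizer_iff]
  constructor
  · intro h v
    have := h (1, v)
    simp only [SetLike.mem_coe, mem_prod, mem_top, true_and, Prod.mk_mul_mk, Prod.inv_mk] at this
    exact this
  · rintro h ⟨γ, v⟩
    simp only [SetLike.mem_coe, mem_prod, mem_top, true_and, Prod.mk_mul_mk, Prod.inv_mk]
    exact h v

theorem card_top_prod [Finite L] (V : Subgroup L) :
    Nat.card ((⊤ : Subgroup A2).prod V : Subgroup (A2 × L)) = 2 * Nat.card V := by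
  rw [Nat.card_congr (Subgroup.prodEquiv (⊤ : Subgroup A2) V).toEquiv, Nat.card_prod,
    Subgroup.card_top, card_A2]

theorem card_bot_prod [Finite L] (V : Subgroup L) :
    Nat.card ((⊥ : Subgroup A2).prod V : Subgroup (A2 × L)) = Nat.card V := by
  rw [Nat.card_congr (Subgroup.prodEquiv (⊥ : Subgroup A2) V).toEquiv, Nat.card_prod,
    Subgroup.card_bot, one_mul]

end prod

end Cfsg.Agent.Helper9.Syl8
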