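import Mathlib
import Cfsg.Agent.Helper9.Syl8B
import Cfsg.Agent.Helper53.Thompson
import Cfsg.Agent.Helper43.ClassCount

set_option autoImplicit false
set_option linter.style.haveILetI false

/-!
# Sylow 2-subgroups of order 8 in a group with an involution centralizer `C₂ × L`
-/

namespace Cfsg.Agent.Helper9.Syl8

open Subgroup
open scoped Pointwise

variable {G : Type*} [Group G] [Finite G] {L : Type*} [Group L] [Finite L]

/-- The special Sylow 2-subgroup: data and properties. -/
theorem exists_good_sylow (a : G) (ha1 : a ≠ 1) (ha2 : a * a = 1)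
    (e : ↥(centralizer ({a} : Set G)) ≃* A2 × L)
    (hS8 : ∀ S : Sylow 2 G, Nat.card S = 8 ∧ ∀ x ∈ S, x * x = 1)
    (hL : ∀ V : Sylow 2 L, centralizer ((V : Subgroup L) : Set L) ≤ V ∧
      Nat.card (normalizer ((V : Subgroup L) : Set L)) = 3 * Nat.card V)
    (hG : ∀ H : Subgroup G, H.index ≠ 2) :
    ∃ S : Sylow 2 G, centralizer ((S : Subgroup G) : Set G) = S ∧
      Nat.card (normalizer ((S : Subgroup G) : Set G)) = 168 := by
  classical
  haveI : Fact (Nat.Prime 2) := ⟨Nat.prime_two⟩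
  set Ca := centralizer ({a} : Set G) with hCa
  let ι : A2 × L →* G := Ca.subtype.comp e.symm.toMonoidHom
  have hι : Function.Injective ι := by
    intro x y hxy
    exact e.symm.injective (Subtype.ext hxy)
  have hιrange : ι.range = Ca := by
    ext x
    constructor
    · rintro ⟨p, rfl⟩
      exact (e.symm p).2
    · intro hx
      exact ⟨e ⟨x, hx⟩, by simp [ι]⟩
  have hιmem : ∀ p, ι p ∈ Ca := fun p => (e.symm p).2
  -- `a` as an image
  have haCa : a ∈ Ca := by rw [hCa, mem_centralizer_iff]; intro y hy; rw [Set.mem_singleton_iff.mp hy]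
  obtain ⟨⟨α, c⟩, hαc⟩ : ∃ p, ι p = a := by rw [← MonoidHom.mem_range, hιrange]; exact haCa
  -- `(α, c)` is central
  have hcentral : ∀ p : A2 × L, p * (α, c) = (α, c) * p := by
    intro p
    apply hι
    rw [map_mul, map_mul, hαc]
    have := hιmem p
    rw [hCa, mem_centralizer_iff] at this
    exact (this a rfl).symm
  have hc_central : ∀ l : L, l * c = c * l := by
    intro l
    have := hcentral (1, l)
    exact (Prod.ext_iff.mp this).2
  -- a Sylow 2-subgroup of `G` containing `a`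
  have hao : orderOf a = 2 := orderOf_eq_prime (by rw [pow_two]; exact ha2) ha1
  obtain ⟨S₀, hS₀⟩ := (IsPGroup.of_card (p := 2) (n := 1) (G := zpowers a)
    (by rw [Nat.card_zpowers, hao, pow_one])).exists_le_sylow
  have haS₀ : a ∈ S₀ := hS₀ (mem_zpowers a)
  have hS₀Ca : (S₀ : Subgroup G) ≤ Ca := by
    intro x hx
    rw [hCa, mem_centralizer_iff]
    intro y hy
    rw [Set.mem_singleton_iff.mp hy]
    -- exponent two implies commutative
    have h1 := (hS8 S₀).2 (a * x) (mul_mem haS₀ hx)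
    have h2 := (hS8 S₀).2 x hx
    have hxi : x⁻¹ = x := inv_eq_of_mul_eq_one_right h2
    have hai : a⁻¹ = a := inv_eq_of_mul_eq_one_right ha2
    have : (a * x)⁻¹ = a * x := inv_eq_of_mul_eq_one_right h1
    rw [mul_inv_rev, hxi, hai] at this
    exact this.symm
  -- orders
  have hcardCa : Nat.card Ca = 2 * Nat.card L := by
    rw [Nat.card_congr e.toEquiv, Nat.card_prod, card_A2]
  have h8Ca : 8 ∣ Nat.card Ca := by
    have := Subgroup.card_dvd_of_le hS₀Ca
    rwa [(hS8 S₀).1] at this
  have h16G : ¬ 16 ∣ Nat.card G := by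
    intro h
    have h1 := (S₀ : Subgroup G).card_mul_index
    rw [(hS8 S₀).1] at h1
    have h2 : ¬ 2 ∣ (S₀ : Subgroup G).index := S₀.not_dvd_index
    rw [← h1] at h
    omega
  have h16Ca : ¬ 16 ∣ Nat.card Ca := fun h => h16G (h.trans (Subgroup.card_subgroup_dvd_card Ca))
  -- a Sylow 2-subgroup of `L`
  obtain ⟨V⟩ : Nonempty (Sylow 2 L) := inferInstance
  have hV4 : Nat.card V = 4 := by
    obtain ⟨k, hk⟩ := (V.isPGroup').exists_card_eq
    have h1 := (V : Subgroup L).card_mul_index
    have h2 : ¬ 2 ∣ (V : Subgroup L).index := V.not_dvd_index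
    rw [hk]
    rw [hk] at h1
    have hk3 : k < 3 := by
      by_contra hcon
      push Not at hcon
      apply h16Ca
      rw [hcardCa, ← h1]
      obtain ⟨j, rfl⟩ := Nat.exists_eq_add_of_le hcon
      exact ⟨2 ^ j * (V : Subgroup L).index, by ring⟩
    interval_cases k
    · exfalso
      rw [hcardCa, ← h1] at h8Ca
      omega
    · exfalso
      rw [hcardCa, ← h1] at h8Ca
      omega
    · norm_num
  obtain ⟨hCV', hNV⟩ := hL V
  rw [hV4] at hNV
  set T : Subgroup (A2 × L) := (⊤ : Subgroup A2).prod (V : Subgroup L) with hT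
  have hTcard : Nat.card T = 8 := by rw [hT, card_top_prod, hV4]
  have hS₁card : Nat.card (T.map ι) = 8 := by rw [Subgroup.card_map_of_injective hι, hTcard]
  have hGfac : 2 ^ (Nat.card G).factorization 2 = 8 := by
    rw [← S₀.card_eq_multiplicity, (hS8 S₀).1]
  let S₁ : Sylow 2 G := Sylow.ofCard (T.map ι) (by rw [hS₁card, hGfac])
  have hS₁coe : (S₁ : Subgroup G) = T.map ι := rfl
  have hS₁2 := (hS8 S₁).2
  have hmemS₁ : ∀ p : A2 × L, ι p ∈ (S₁ : Subgroup G) ↔ p.2 ∈ (V : Subgroup L) := by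
    intro p
    rw [hS₁coe]
    constructor
    · rintro ⟨p', hp', hpp⟩
      rw [← hι hpp]
      exact (mem_prod.mp hp').2
    · intro hp
      exact ⟨p, mem_prod.mpr ⟨mem_top _, hp⟩, rfl⟩
  have hV2 : ∀ v ∈ (V : Subgroup L), v * v = 1 := by
    intro v hv
    have h1 : ι (1, v) ∈ (S₁ : Subgroup G) := (hmemS₁ (1, v)).mpr hv
    have h2 := hS₁2 _ h1
    rw [← map_mul] at h2
    have h3 := hι (h2.trans (map_one ι).symm)
    exact (Prod.ext_iff.mp h3).2
  have hCV : centralizer ((V : Subgroup L) : Set L) = V := by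
    apply le_antisymm hCV'
    intro x hx
    rw [mem_centralizer_iff]
    intro y hy
    have h1 := hV2 (x * y) (mul_mem hx hy)
    have h2 := hV2 x hx
    have h3 := hV2 y hy
    have hxi : x⁻¹ = x := inv_eq_of_mul_eq_one_right h2
    have hyi : y⁻¹ = y := inv_eq_of_mul_eq_one_right h3
    have : (x * y)⁻¹ = x * y := inv_eq_of_mul_eq_one_right h1
    rw [mul_inv_rev, hxi, hyi] at this
    exact this
  have htrans := four_trans (V : Subgroup L) hV4 hV2 hCV hNV
  -- `c = 1`
  have hcV : c ∈ (V : Subgroup L) := by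
    have : c ∈ centralizer ((V : Subgroup L) : Set L) := by
      rw [mem_centralizer_iff]
      intro v _
      exact hc_central v
    rwa [hCV] at this
  have hc1 : c = 1 := by
    by_contra hc1
    have hco : orderOf c = 2 := orderOf_eq_prime (by rw [pow_two]; exact hV2 c hcV) hc1
    obtain ⟨v, hvV, hvz⟩ : ∃ v ∈ (V : Subgroup L), v ∉ zpowers c := by
      by_contra h
      push Not at h
      have hle : (V : Subgroup L) ≤ zpowers c := h
      have := Subgroup.card_le_of_le hle
      rw [Nat.card_zpowers, hco, hV4] at this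
      omega
    have hv1 : v ≠ 1 := fun h => hvz (h ▸ one_mem _)
    have hvc : v ≠ c := fun h => hvz (h ▸ mem_zpowers c)
    obtain ⟨n, -, hn⟩ := htrans c hcV v hvV hc1 hv1
    apply hvc
    rw [← hn, hc_central n, mul_inv_cancel_right]
  subst hc1
  have hα1 : α ≠ 1 := by
    intro h
    apply ha1
    rw [← hαc, h]
    exact map_one ι
  have haS₁ : a ∈ (S₁ : Subgroup G) := by
    rw [← hαc, hmemS₁]
    exact one_mem _
  -- the centralizer of `S₁`
  have hcentS₁ : centralizer ((S₁ : Subgroup G) : Set G) = S₁ := by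
    have h1 : centralizer ((S₁ : Subgroup G) : Set G) ≤ ι.range := by
      rw [hιrange]
      intro x hx
      rw [hCa, mem_centralizer_iff]
      intro y hy
      rw [Set.mem_singleton_iff.mp hy]
      rw [mem_centralizer_iff] at hx
      exact hx a haS₁
    have h2 := map_centralizer_of_inj ι hι T
    rw [hT, centralizer_top_prod, hCV, ← hT, ← hS₁coe, inf_eq_left.mpr h1] at h2
    exact h2.symm
  -- the normalizer of `S₁` inside `C(a)`
  have hNC : Nat.card ((normalizer ((S₁ : Subgroup G) : Set G) ⊓ Ca : Subgroup G)) = 24 := by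
    have h2 := map_normalizer_of_inj ι hι T
    rw [hιrange, ← hS₁coe] at h2
    rw [← h2, Subgroup.card_map_of_injective hι, hT, normalizer_top_prod, card_top_prod, hNV]
  -- the subgroup `M` of index two
  set M : Subgroup G := ((⊥ : Subgroup A2).prod (V : Subgroup L)).map ι with hM
  have hmemM : ∀ p : A2 × L, ι p ∈ M ↔ p.1 = 1 ∧ p.2 ∈ (V : Subgroup L) := by
    intro p
    rw [hM]
    constructor
    · rintro ⟨p', hp', hpp⟩
      rw [← hι hpp]
      obtain ⟨h1, h2⟩ := mem_prod.mp hp'
      exact ⟨mem_bot.mp h1, h2⟩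
    · rintro ⟨h1, h2⟩
      exact ⟨p, mem_prod.mpr ⟨mem_bot.mpr h1, h2⟩, rfl⟩
  have hMS₁ : M ≤ (S₁ : Subgroup G) := by
    rw [hM, hS₁coe]
    apply Subgroup.map_mono
    intro p hp
    exact mem_prod.mpr ⟨mem_top _, (mem_prod.mp hp).2⟩
  have hMcard : Nat.card M = 4 := by
    rw [hM, Subgroup.card_map_of_injective hι, card_bot_prod, hV4]
  have hMrel : M.relIndex (S₁ : Subgroup G) = 2 := by
    have h1 := Subgroup.card_mul_index (M.subgroupOf (S₁ : Subgroup G))
    rw [Nat.card_congr (Subgroup.subgroupOfEquivOfLe hMS₁).toEquiv, hMcard, (hS8 S₁).1] at h1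
    show (M.subgroupOf (S₁ : Subgroup G)).index = 2
    omega
  have hthom : ∀ x ∈ (S₁ : Subgroup G), x ≠ 1 → ∃ g : G, g * x * g⁻¹ ∈ M := by
    intro x hx hx1
    by_contra hcon
    push Not at hcon
    have hxo : orderOf x = 2 := orderOf_eq_prime (by rw [pow_two]; exact hS₁2 x hx) hx1
    obtain ⟨H, hH, -⟩ := Helper53.thompson_transfer S₁ M hMrel x hx hxo hcon
    exact hG H hH
  -- elements of `M` as images
  have hMelim : ∀ y ∈ M, ∃ w ∈ (V : Subgroup L), y = ι (1, w) := by
    intro y hy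
    rw [hM] at hy
    obtain ⟨⟨β, w⟩, hp, rfl⟩ := hy
    obtain ⟨h1, h2⟩ := mem_prod.mp hp
    rw [mem_bot] at h1
    simp only at h1 h2
    subst h1
    exact ⟨w, h2, rfl⟩
  -- step A
  obtain ⟨v₀, hv₀V, hv₀1, g₀, hg₀⟩ : ∃ v₀ ∈ (V : Subgroup L), v₀ ≠ 1 ∧
      ∃ g₀ : G, g₀ * a * g₀⁻¹ = ι (1, v₀) := by
    obtain ⟨g, hg⟩ := hthom a haS₁ ha1
    obtain ⟨w, hwV, hw⟩ := hMelim _ hg
    refine ⟨w, hwV, ?_, g, hw⟩
    intro hw1
    apply ha1
    rw [hw1] at hw
    have h1 : ι ((1 : A2), (1 : L)) = 1 := map_one ι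
    rw [h1] at hw
    have : g * a * g⁻¹ = g * 1 * g⁻¹ := by rw [hw]; group
    exact mul_left_cancel (mul_right_cancel this)
  -- step B
  have hB : ∀ w ∈ (V : Subgroup L), w ≠ 1 → ∃ g : G, g⁻¹ * a * g = ι (1, w) := by
    intro w hwV hw1
    obtain ⟨n, -, hn⟩ := htrans v₀ hv₀V w hwV hv₀1 hw1
    refine ⟨(ι (1, n) * g₀)⁻¹, ?_⟩
    have h1 : ι ((1 : A2), w) = ι (1, n) * ι (1, v₀) * (ι (1, n))⁻¹ := by
      rw [← map_mul, ← map_inv, ← map_mul]
      congr 1
      simp [hn]
    rw [h1, ← hg₀]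
    group
  -- step C
  have hC : ∀ y ∈ (S₁ : Subgroup G), y ≠ 1 → ∃ g : G, g⁻¹ * a * g = y := by
    intro y hy hy1
    have hy' := hy
    rw [hS₁coe] at hy'
    obtain ⟨⟨β, w⟩, hp, rfl⟩ := hy'
    have hwV : w ∈ (V : Subgroup L) := (mem_prod.mp hp).2
    by_cases hw1 : w = 1
    · subst hw1
      have hβ1 : β ≠ 1 := by
        intro h
        apply hy1
        rw [h]
        exact map_one ι
      refine ⟨1, ?_⟩
      rw [A2_eq_of_ne_one β α hβ1 hα1, hαc]
      group
    · by_cases hβ1 : β = 1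
      · subst hβ1
        exact hB w hwV hw1
      · obtain ⟨g', hg'⟩ := hthom _ hy hy1
        obtain ⟨w', hw'V, hw'⟩ := hMelim _ hg'
        have hw'1 : w' ≠ 1 := by
          intro h
          apply hy1
          rw [h] at hw'
          have h1 : ι ((1 : A2), (1 : L)) = 1 := map_one ι
          rw [h1] at hw'
          have : g' * ι (β, w) * g'⁻¹ = g' * 1 * g'⁻¹ := by rw [hw']; group
          exact mul_left_cancel (mul_right_cancel this)
        obtain ⟨g'', hg''⟩ := hB w' hw'V hw'1
        refine ⟨g'' * g', ?_⟩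
        have : ι (β, w) = g'⁻¹ * (g' * ι (β, w) * g'⁻¹) * g' := by group
        rw [this, hw', ← hg'']
        group
  -- the count
  set N := normalizer ((S₁ : Subgroup G) : Set G) with hN
  have hS₁N : (S₁ : Subgroup G) ≤ N := le_normalizer
  let u : N := ⟨a, hS₁N haS₁⟩
  have hcount := Helper43.card_class_mul_card_centralizer u
  have hcent : Nat.card (centralizer ({u} : Set N)) = 24 := by
    rw [← hNC]
    have : (centralizer ({u} : Set N)).map N.subtype = N ⊓ Ca := by
      ext x
      rw [mem_map, mem_inf]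
      constructor
      · rintro ⟨y, hy, rfl⟩
        refine ⟨y.2, ?_⟩
        rw [hCa, mem_centralizer_iff]
        intro z hz
        rw [Set.mem_singleton_iff.mp hz]
        have := mem_centralizer_iff.mp hy u rfl
        exact congrArg Subtype.val this
      · rintro ⟨hxN, hxC⟩
        refine ⟨⟨x, hxN⟩, ?_, rfl⟩
        rw [mem_centralizer_iff]
        intro z hz
        rw [Set.mem_singleton_iff.mp hz]
        apply Subtype.ext
        exact (mem_centralizer_iff.mp hxC) a rfl
    rw [← this, Subgroup.card_map_of_injective N.subtype_injective]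
  have hclass : Nat.card {x : N // ConjClasses.mk x = ConjClasses.mk u} = 7 := by
    have hmemcl : ∀ x : N, ConjClasses.mk x = ConjClasses.mk u ↔
        ((x : G) ∈ (S₁ : Subgroup G) ∧ (x : G) ≠ 1) := by
      intro x
      rw [ConjClasses.mk_eq_mk_iff_isConj, isConj_comm, isConj_iff]
      constructor
      · rintro ⟨c, hc⟩
        have hc' : (c : G) * a * (c : G)⁻¹ = (x : G) := congrArg Subtype.val hc
        rw [← hc']
        refine ⟨(mem_normalizer_iff.mp c.2 a).mp haS₁, ?_⟩
        intro h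
        apply ha1
        have : (c : G) * a * (c : G)⁻¹ = (c : G) * 1 * (c : G)⁻¹ := by rw [h]; group
        exact mul_left_cancel (mul_right_cancel this)
      · rintro ⟨hx, hx1⟩
        obtain ⟨g, hg⟩ := hC _ hx hx1
        have hg' : g⁻¹ * a * g ∈ (S₁ : Subgroup G) := by rw [hg]; exact hx
        haveI : IsMulCommutative (S₁ : Subgroup G) := ⟨⟨fun s t => by
          apply Subtype.ext
          have h1 := hS₁2 (s * t : G) (mul_mem s.2 t.2)
          have h2 := hS₁2 s s.2
          have h3 := hS₁2 t t.2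
          have hsi : (s : G)⁻¹ = s := inv_eq_of_mul_eq_one_right h2
          have hti : (t : G)⁻¹ = t := inv_eq_of_mul_eq_one_right h3
          have : ((s : G) * t)⁻¹ = s * t := inv_eq_of_mul_eq_one_right h1
          rw [mul_inv_rev, hsi, hti] at this
          exact this.symm⟩⟩
        obtain ⟨n, hn, hn'⟩ := S₁.conj_eq_normalizer_conj_of_mem a g haS₁ hg'
        refine ⟨⟨n⁻¹, inv_mem hn⟩, ?_⟩
        apply Subtype.ext
        show (n⁻¹ : G) * a * (n⁻¹ : G)⁻¹ = x
        rw [inv_inv, ← hn', hg]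
    have e1 : {x : N // ConjClasses.mk x = ConjClasses.mk u} ≃
        {s : ↥(S₁ : Subgroup G) // s ≠ 1} :=
      { toFun := fun x => ⟨⟨x.1.1, ((hmemcl x.1).mp x.2).1⟩,
          fun h => ((hmemcl x.1).mp x.2).2 (congrArg Subtype.val h)⟩
        invFun := fun s => ⟨⟨s.1.1, hS₁N s.1.2⟩,
          (hmemcl _).mpr ⟨s.1.2, fun h => s.2 (Subtype.ext h)⟩⟩
        left_inv := fun x => rfl
        right_inv := fun s => rfl }
    rw [Nat.card_congr e1]
    haveI : Fintype ↥(S₁ : Subgroup G) := Fintype.ofFinite _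
    rw [Nat.card_eq_fintype_card, Fintype.card_subtype_compl, Fintype.card_subtype_eq,
      ← Nat.card_eq_fintype_card, (hS8 S₁).1]
  refine ⟨S₁, hcentS₁, ?_⟩
  rw [hclass, hcent] at hcount
  rw [← hcount]

/-- **Sylow 2-subgroups of order 8 with an involution centralizer `C₂ × L`**: if every Sylow
2-subgroup `V` of `L` has `C_L(V) = V` and `|N_L(V)| = 3|V|`, and `G` has no subgroup of index 2,
then every Sylow 2-subgroup `S` of `G` is self-centralizing with `|N_G(S)| = 168`. -/
theorem sylow_two_of_centralizer (a : G) (ha1 : a ≠ 1) (ha2 : a * a = 1)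
    (e : ↥(centralizer ({a} : Set G)) ≃* A2 × L)
    (hS8 : ∀ S : Sylow 2 G, Nat.card S = 8 ∧ ∀ x ∈ S, x * x = 1)
    (hL : ∀ V : Sylow 2 L, centralizer ((V : Subgroup L) : Set L) ≤ V ∧
      Nat.card (normalizer ((V : Subgroup L) : Set L)) = 3 * Nat.card V)
    (hG : ∀ H : Subgroup G, H.index ≠ 2) (S : Sylow 2 G) :
    centralizer ((S : Subgroup G) : Set G) = S ∧
      Nat.card (normalizer ((S : Subgroup G) : Set G)) = 168 := by
  haveI : Fact (Nat.Prime 2) := ⟨Nat.prime_two⟩
  obtain ⟨S₁, h1, h2⟩ := exists_good_sylow a ha1 ha2 e hS8 hL hG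
  obtain ⟨g, rfl⟩ := MulAction.exists_smul_eq G S₁ S
  constructor
  · rw [Sylow.coe_subgroup_smul, centralizer_conj_smul, h1]
  · have e1 := (g • S₁).card_eq_index_normalizer
    have e2 := S₁.card_eq_index_normalizer
    have e3 := Subgroup.card_mul_index (normalizer (((g • S₁ : Sylow 2 G) : Subgroup G) : Set G))
    have e4 := Subgroup.card_mul_index (normalizer ((S₁ : Subgroup G) : Set G))
    have e5 : (normalizer (((g • S₁ : Sylow 2 G) : Subgroup G) : Set G)).index =
        (normalizer ((S₁ : Subgroup G) : Set G)).index := e1.symm.trans e2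
    rw [e5, ← e4, h2] at e3
    have hpos : 0 < (normalizer ((S₁ : Subgroup G) : Set G)).index :=
      Nat.pos_of_ne_zero Subgroup.index_ne_zero_of_finite
    exact Nat.eq_of_mul_eq_mul_right hpos e3

end Cfsg.Agent.Helper9.Syl8
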