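import Mathlib
import Cfsg.Agent.S2431

set_option autoImplicit false
set_option linter.style.haveILetI false

/-!
# Sylow 2-subgroups of `PSL₂(q)`, `q ≡ ±3 mod 8`, from those of `SL₂(q)` (helper41's S2431)
-/

namespace Cfsg.Agent.Helper9.Syl8

open Subgroup Matrix

variable {F : Type*} [Field F] [Fintype F]

theorem sl2_center_sq (z : Matrix.SpecialLinearGroup (Fin 2) F)
    (hz : z ∈ center (Matrix.SpecialLinearGroup (Fin 2) F)) : z * z = 1 := by
  obtain ⟨r, hr, hA⟩ := Matrix.SpecialLinearGroup.mem_center_iff.mp hz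
  rw [Fintype.card_fin] at hr
  apply Subtype.ext
  rw [Matrix.SpecialLinearGroup.coe_mul, ← hA, Matrix.SpecialLinearGroup.coe_one, ← map_mul,
    ← pow_two, hr, map_one]

theorem psl2_sylow_two (hodd : Odd (Fintype.card F))
    (h8 : Fintype.card F % 8 = 3 ∨ Fintype.card F % 8 = 5)
    (V : Sylow 2 (Matrix.ProjectiveSpecialLinearGroup (Fin 2) F)) :
    centralizer ((V : Subgroup (Matrix.ProjectiveSpecialLinearGroup (Fin 2) F)) :
        Set (Matrix.ProjectiveSpecialLinearGroup (Fin 2) F)) ≤ V ∧
      Nat.card (normalizer ((V : Subgroup (Matrix.ProjectiveSpecialLinearGroup (Fin 2) F)) :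
        Set (Matrix.ProjectiveSpecialLinearGroup (Fin 2) F))) = 3 * Nat.card V := by
  classical
  haveI : Fact (Nat.Prime 2) := ⟨Nat.prime_two⟩
  let π : Matrix.SpecialLinearGroup (Fin 2) F →* Matrix.ProjectiveSpecialLinearGroup (Fin 2) F :=
    QuotientGroup.mk' (center (Matrix.SpecialLinearGroup (Fin 2) F))
  have hπ : Function.Surjective π := QuotientGroup.mk'_surjective _
  have hker : π.ker = center (Matrix.SpecialLinearGroup (Fin 2) F) := QuotientGroup.ker_mk' _
  have hkerP : IsPGroup 2 π.ker := by
    intro z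
    refine ⟨1, ?_⟩
    apply Subtype.ext
    have hz : (z : Matrix.SpecialLinearGroup (Fin 2) F) ∈
        center (Matrix.SpecialLinearGroup (Fin 2) F) := by
      have h1 : ∀ y, y ∈ π.ker → y ∈ center (Matrix.SpecialLinearGroup (Fin 2) F) := by
        intro y hy
        rwa [hker] at hy
      exact h1 _ z.2
    have := sl2_center_sq _ hz
    simp only [pow_one, pow_two, Subgroup.coe_mul, Subgroup.coe_one]
    exact this
  let S' : Sylow 2 (Matrix.SpecialLinearGroup (Fin 2) F) :=
    V.comapOfKerIsPGroup π hkerP (by rw [MonoidHom.range_eq_top.mpr hπ]; exact le_top)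
  have hS' : (S' : Subgroup (Matrix.SpecialLinearGroup (Fin 2) F)) =
      (V : Subgroup (Matrix.ProjectiveSpecialLinearGroup (Fin 2) F)).comap π := rfl
  obtain ⟨hcent, -, hnorm⟩ := Cfsg.Agent.S2431.result hodd S'
  have hnorm := hnorm h8
  set NV := normalizer ((V : Subgroup (Matrix.ProjectiveSpecialLinearGroup (Fin 2) F)) :
        Set (Matrix.ProjectiveSpecialLinearGroup (Fin 2) F)) with hNV
  set NS := normalizer ((S' : Subgroup (Matrix.SpecialLinearGroup (Fin 2) F)) :
        Set (Matrix.SpecialLinearGroup (Fin 2) F)) with hNS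
  have hNcomap : NV.comap π = NS := by
    rw [hNV, hNS, hS']
    exact comap_normalizer_eq_of_surjective _ hπ
  have hS'N : (S' : Subgroup (Matrix.SpecialLinearGroup (Fin 2) F)) ≤ NS := le_normalizer
  have hVN : (V : Subgroup (Matrix.ProjectiveSpecialLinearGroup (Fin 2) F)) ≤ NV := le_normalizer
  have hrelS : (S' : Subgroup (Matrix.SpecialLinearGroup (Fin 2) F)).relIndex NS = 3 := by
    have h1 := Subgroup.card_mul_index
      ((S' : Subgroup (Matrix.SpecialLinearGroup (Fin 2) F)).subgroupOf NS)
    rw [Nat.card_congr (Subgroup.subgroupOfEquivOfLe hS'N).toEquiv, hnorm] at h1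
    show ((S' : Subgroup (Matrix.SpecialLinearGroup (Fin 2) F)).subgroupOf NS).index = 3
    have hpos : 0 < Nat.card (S' : Subgroup (Matrix.SpecialLinearGroup (Fin 2) F)) :=
      Nat.card_pos
    have : Nat.card (S' : Subgroup (Matrix.SpecialLinearGroup (Fin 2) F)) *
        ((S' : Subgroup (Matrix.SpecialLinearGroup (Fin 2) F)).subgroupOf NS).index =
        Nat.card (S' : Subgroup (Matrix.SpecialLinearGroup (Fin 2) F)) * 3 := by
      rw [h1, mul_comm]
    exact Nat.eq_of_mul_eq_mul_left hpos this
  have hrelV : (V : Subgroup (Matrix.ProjectiveSpecialLinearGroup (Fin 2) F)).relIndex NV = 3 := by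
    rw [← hrelS, hS', ← hNcomap, Subgroup.relIndex_comap,
      Subgroup.map_comap_eq_self_of_surjective hπ]
  refine ⟨?_, ?_⟩
  · intro c hc
    obtain ⟨g, rfl⟩ := hπ c
    have hcN : π g ∈ NV := Subgroup.centralizer_le_normalizer _ hc
    -- `(π g)^3 ∈ V`
    have h3 : (π g) ^ 3 ∈ (V : Subgroup (Matrix.ProjectiveSpecialLinearGroup (Fin 2) F)) := by
      have := Subgroup.pow_index_mem
        ((V : Subgroup (Matrix.ProjectiveSpecialLinearGroup (Fin 2) F)).subgroupOf NV) ⟨π g, hcN⟩
      rw [show ((V : Subgroup (Matrix.ProjectiveSpecialLinearGroup (Fin 2) F)).subgroupOf NV).index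
        = 3 from hrelV] at this
      exact this
    -- `g * g` centralizes `S'`
    have hgg : g * g ∈ centralizer ((S' : Subgroup (Matrix.SpecialLinearGroup (Fin 2) F)) :
        Set (Matrix.SpecialLinearGroup (Fin 2) F)) := by
      rw [mem_centralizer_iff]
      intro s hs
      have hsV : π s ∈ (V : Subgroup (Matrix.ProjectiveSpecialLinearGroup (Fin 2) F)) := hs
      have hcomm : π s * π g = π g * π s := (mem_centralizer_iff.mp hc) (π s) hsV
      have hz : g * s * g⁻¹ * s⁻¹ ∈ center (Matrix.SpecialLinearGroup (Fin 2) F) := by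
        rw [← hker, MonoidHom.mem_ker]
        simp only [map_mul, map_inv]
        rw [← hcomm]
        group
      set z := g * s * g⁻¹ * s⁻¹ with hzdef
      have hzz := sl2_center_sq z hz
      have hzc : ∀ x, x * z = z * x := fun x => (Subgroup.mem_center_iff.mp hz) x
      have hgs : g * s = z * s * g := by rw [hzdef]; group
      calc s * (g * g) = (z * z) * s * (g * g) := by rw [hzz, one_mul]
        _ = z * (z * s * g) * g := by group
        _ = z * (g * s) * g := by rw [hgs]
        _ = g * (z * s * g) := by rw [← mul_assoc, ← hzc g]; group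
        _ = g * (g * s) := by rw [hgs]
        _ = g * g * s := by group
    rw [hcent, ← hker, MonoidHom.mem_ker, map_mul] at hgg
    have : (π g) ^ 3 = π g := by
      rw [pow_succ, pow_two, hgg, one_mul]
    rwa [this] at h3
  · have h1 := Subgroup.card_mul_index
      ((V : Subgroup (Matrix.ProjectiveSpecialLinearGroup (Fin 2) F)).subgroupOf NV)
    rw [Nat.card_congr (Subgroup.subgroupOfEquivOfLe hVN).toEquiv,
      show ((V : Subgroup (Matrix.ProjectiveSpecialLinearGroup (Fin 2) F)).subgroupOf NV).index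
        = 3 from hrelV] at h1
    rw [← h1, mul_comm]

end Cfsg.Agent.Helper9.Syl8
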