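import Cfsg.Agent.Helper9.ReeTorK

/-!
Helper9 (for S1158): the cyclic Hall subgroups of order `q ± √(3q) + 1` of `²G₂(q)` and their normalisers.
-/

set_option autoImplicit false
set_option maxRecDepth 100000

namespace Cfsg.Agent.Helper9.ReeTor

open Cfsg Cfsg.Lie Cfsg.Agent.Helper18 Cfsg.Agent.Helper18.Ree Cfsg.Agent.Helper6.Ree
  Cfsg.Agent.Helper6.ReeC Cfsg.Agent.Helper6.ReeE Cfsg.Agent.Helper6.ReeD Cfsg.Agent.Helper9.ReeTI
  Cfsg.Agent.Helper9.ReeStab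

variable {K : Type*} [Field K] [Fintype K] [CharP K 3] {m : ℕ}

section Coxeter

variable (hm : 1 ≤ m) (hK : Fintype.card K = 3 ^ (2 * m + 1)) (x : ↥(twistedG2 K (3 ^ m))) {l : ℕ}
  (hl : l.Prime) (hlq : l ∣ (3 ^ (2 * m + 1)) ^ 2 - 3 ^ (2 * m + 1) + 1) (hx : orderOf x = l)

include hm hK hl hlq hx in
/-- every non-trivial subgroup of the Coxeter torus `C(x)` has the same normaliser as `C(x)` -/
theorem cox_normalizer_eq (A₀ : Subgroup ↥(twistedG2 K (3 ^ m))) (hA₀ : A₀ ≤ Subgroup.centralizer {x})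
    (hne : A₀ ≠ ⊥) :
    Subgroup.normalizer (A₀ : Set ↥(twistedG2 K (3 ^ m))) =
      Subgroup.normalizer ((Subgroup.centralizer {x} : Subgroup ↥(twistedG2 K (3 ^ m))) :
        Set ↥(twistedG2 K (3 ^ m))) := by
  have hTc := coxeter_comm hK x hl hlq hx
  have hcyc := coxeter_isCyclic hm hK x hl hlq hx
  have hdvd : Nat.card ↥A₀ ∣ (3 ^ (2 * m + 1)) ^ 2 - 3 ^ (2 * m + 1) + 1 :=
    (Subgroup.card_dvd_of_le hA₀).trans (coxeter_card_dvd hm hK x hl hlq hx)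
  apply le_antisymm
  · intro g hg
    obtain ⟨y, hy, hy1⟩ : ∃ y ∈ A₀, y ≠ 1 := by
      obtain ⟨y, hy⟩ := (Subgroup.ne_bot_iff_exists_ne_one (H := A₀)).mp hne
      exact ⟨(y : ↥(twistedG2 K (3 ^ m))), y.2, fun h => hy (Subtype.ext h)⟩
    have hgy : g * y * g⁻¹ ∈ A₀ := (Subgroup.mem_normalizer_iff.mp hg y).mp hy
    exact cox_TI hm hK x hl hlq hx g y (hA₀ hy) hy1 (hA₀ hgy)
  · intro g hg
    have hA₀cyc : IsCyclic ↥A₀ := Subgroup.isCyclic_of_le hA₀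
    set A₀' : Subgroup ↥(twistedG2 K (3 ^ m)) := A₀.map (MulAut.conj g).toMonoidHom with hA₀'
    have hA₀'T : A₀' ≤ Subgroup.centralizer {x} := by
      rintro _ ⟨y, hy, rfl⟩
      exact (Subgroup.mem_normalizer_iff.mp hg y).mp (hA₀ hy)
    have e : ↥A₀ ≃* ↥A₀' := A₀.equivMapOfInjective _ (MulAut.conj g).injective
    have heq : A₀ = A₀' := by
      apply Cfsg.Agent.Helper67.ReeGen.eq_of_commute_of_card A₀ A₀' (Nat.card ↥A₀) hA₀cyc
        (e.isCyclic.mp hA₀cyc) rfl (Nat.card_congr e.toEquiv).symm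
      · intro y hy z hz
        exact hTc y (hA₀ hy) z (hA₀'T hz)
      · intro p hp hpd P
        obtain ⟨h2, h3, -⟩ := arith_coxeter _ (q_mod_three m) hp.out (hpd.trans hdvd)
        have h5 : 3 < p := by
          have := hp.out.two_le
          omega
        exact Cfsg.Agent.S1156.result hm hK h5 P
    exact mem_normalizer_of_map_eq A₀ g heq.symm

include hm hK hl hlq hx in
/-- the packaged statement for one Coxeter torus -/
theorem cox_package (k : ℕ) (hk : Nat.card ↥(Subgroup.centralizer {x}) = k)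
    (hN : Nat.card ↥(Subgroup.normalizer ((Subgroup.centralizer {x} : Subgroup ↥(twistedG2 K (3 ^ m))) :
        Set ↥(twistedG2 K (3 ^ m)))) = 6 * Nat.card ↥(Subgroup.centralizer {x})) :
    ∃ A : Subgroup ↥(twistedG2 K (3 ^ m)), IsCyclic ↥A ∧ Nat.card ↥A = k ∧
      Nat.card ↥(Subgroup.normalizer (A : Set ↥(twistedG2 K (3 ^ m)))) = 6 * k ∧
      ∀ A₀ : Subgroup ↥(twistedG2 K (3 ^ m)), A₀ ≤ A → A₀ ≠ ⊥ →
        Subgroup.normalizer (A₀ : Set ↥(twistedG2 K (3 ^ m))) =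
          Subgroup.normalizer (A : Set ↥(twistedG2 K (3 ^ m))) :=
  ⟨Subgroup.centralizer {x}, coxeter_isCyclic hm hK x hl hlq hx, hk, by rw [hN, hk],
    fun A₀ hA₀ hne => cox_normalizer_eq hm hK x hl hlq hx A₀ hA₀ hne⟩

end Coxeter

/-- the cyclic Hall subgroups of order `q - √(3q) + 1` and `q + √(3q) + 1` -/
theorem exists_coxeter_hall (hm : 1 ≤ m) (hK : Fintype.card K = 3 ^ (2 * m + 1)) :
    (∃ A : Subgroup ↥(twistedG2 K (3 ^ m)), IsCyclic ↥A ∧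
      Nat.card ↥A = 3 ^ (2 * m + 1) - 3 ^ (m + 1) + 1 ∧
      Nat.card ↥(Subgroup.normalizer (A : Set ↥(twistedG2 K (3 ^ m)))) =
        6 * (3 ^ (2 * m + 1) - 3 ^ (m + 1) + 1) ∧
      ∀ A₀ : Subgroup ↥(twistedG2 K (3 ^ m)), A₀ ≤ A → A₀ ≠ ⊥ →
        Subgroup.normalizer (A₀ : Set ↥(twistedG2 K (3 ^ m))) =
          Subgroup.normalizer (A : Set ↥(twistedG2 K (3 ^ m)))) ∧
    (∃ A : Subgroup ↥(twistedG2 K (3 ^ m)), IsCyclic ↥A ∧
      Nat.card ↥A = 3 ^ (2 * m + 1) + 3 ^ (m + 1) + 1 ∧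
      Nat.card ↥(Subgroup.normalizer (A : Set ↥(twistedG2 K (3 ^ m)))) =
        6 * (3 ^ (2 * m + 1) + 3 ^ (m + 1) + 1) ∧
      ∀ A₀ : Subgroup ↥(twistedG2 K (3 ^ m)), A₀ ≤ A → A₀ ≠ ⊥ →
        Subgroup.normalizer (A₀ : Set ↥(twistedG2 K (3 ^ m))) =
          Subgroup.normalizer (A : Set ↥(twistedG2 K (3 ^ m)))) := by
  obtain ⟨l₁, l₂, x₁, x₂, hl₁, hq₁, hx₁, hl₂, hq₂, hx₂, hsum, hprod, hN₁, hN₂, -, -⟩ :=
    ree_tori_unordered hm hK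
  rcases Cfsg.Agent.Helper70.ReeCount.ree_arith_solve m _ _ hsum hprod with ⟨h1, h2⟩ | ⟨h2, h1⟩
  · exact ⟨cox_package hm hK x₁ hl₁ hq₁ hx₁ _ h1 hN₁, cox_package hm hK x₂ hl₂ hq₂ hx₂ _ h2 hN₂⟩
  · exact ⟨cox_package hm hK x₂ hl₂ hq₂ hx₂ _ h2 hN₂, cox_package hm hK x₁ hl₁ hq₁ hx₁ _ h1 hN₁⟩

end Cfsg.Agent.Helper9.ReeTor
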