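import Mathlib
import Cfsg.Agent.Helper17.SylowKit
import Cfsg.Agent.Helper17.CountOrder

set_option autoImplicit false

/-!
# A small kit for Sylow arithmetic in a finite simple group, for primes exactly dividing the order
-/

namespace Cfsg.Agent.Helper9.SylArith

open Subgroup Cfsg.Agent.Helper17
open scoped Pointwise

variable {K : Type*} [Group K]

/-- Conjugate subgroups have centralizers of the same order. -/
theorem card_centralizer_conj [Finite K] (H : Subgroup K) (g : K) :
    Nat.card (centralizer ((MulAut.conj g • H : Subgroup K) : Set K)) =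
      Nat.card (centralizer (H : Set K)) := by
  have : centralizer ((MulAut.conj g • H : Subgroup K) : Set K) =
      MulAut.conj g • centralizer (H : Set K) := by
    ext x
    rw [Subgroup.mem_pointwise_smul_iff_inv_smul_mem, mem_centralizer_iff, mem_centralizer_iff]
    constructor
    · intro h y hy
      have := h (g * y * g⁻¹) (by
        rw [Subgroup.coe_pointwise_smul]
        exact ⟨y, hy, by simp [MulAut.conj_apply]⟩)
      simp only [MulAut.smul_def, map_inv, MulAut.conj_inv_apply] at this ⊢
      have e1 : y * (g⁻¹ * x * g) = g⁻¹ * ((g * y * g⁻¹) * x) * g := by group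
      have e2 : g⁻¹ * x * g * y = g⁻¹ * (x * (g * y * g⁻¹)) * g := by group
      rw [e1, e2, this]
    · intro h y hy
      rw [Subgroup.coe_pointwise_smul] at hy
      obtain ⟨z, hz, rfl⟩ := hy
      have := h z hz
      simp only [MulAut.smul_def, map_inv, MulAut.conj_inv_apply, MulAut.conj_apply] at this ⊢
      have e1 : g * z * g⁻¹ * x = g * (z * (g⁻¹ * x * g)) * g⁻¹ := by group
      have e2 : x * (g * z * g⁻¹) = g * ((g⁻¹ * x * g) * z) * g⁻¹ := by group
      rw [e1, e2, this]
  rw [this]
  exact (Nat.card_congr (Subgroup.equivSMul (MulAut.conj g) (centralizer (H : Set K))).toEquiv).symm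

/-- All Sylow `p`-subgroups have centralizers of the same order. -/
theorem card_centralizer_sylow_eq [Finite K] {p : ℕ} [Fact p.Prime] (P Q : Sylow p K) :
    Nat.card (centralizer ((P : Subgroup K) : Set K)) =
      Nat.card (centralizer ((Q : Subgroup K) : Set K)) := by
  obtain ⟨g, hg⟩ := MulAction.exists_smul_eq K Q P
  rw [← hg, Sylow.coe_subgroup_smul, card_centralizer_conj]

/-- (CEN) symmetric form: if Sylow `p`- and `q`-subgroups have prime orders `p`, `q` and
`q ∣ |C(P)|` then `p ∣ |C(Q)|`. -/
theorem cen_symm [Finite K] {p q : ℕ} [Fact p.Prime] [Fact q.Prime] (P : Sylow p K) (Q : Sylow q K)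
    (hP : Nat.card (P : Subgroup K) = p) (hQ : Nat.card (Q : Subgroup K) = q)
    (h : q ∣ Nat.card (centralizer ((P : Subgroup K) : Set K))) :
    p ∣ Nat.card (centralizer ((Q : Subgroup K) : Set K)) := by
  obtain ⟨x, hx⟩ := exists_prime_orderOf_dvd_card' q h
  have hxo : orderOf (x : K) = q := by rw [Subgroup.orderOf_coe]; exact hx
  have hQ' : ∀ Q' : Sylow q K, Nat.card (Q' : Subgroup K) = q := fun Q' => by
    rw [Sylow.card_eq_multiplicity, ← Sylow.card_eq_multiplicity Q, hQ]
  obtain ⟨Q', hQ'eq⟩ := exists_sylow_eq_zpowers hQ' (x : K) hxo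
  rw [card_centralizer_sylow_eq Q Q']
  have hle : (P : Subgroup K) ≤ centralizer ((Q' : Subgroup K) : Set K) := by
    intro y hy
    rw [mem_centralizer_iff]
    intro z hz
    rw [hQ'eq] at hz
    have hz' : z ∈ zpowers (x : K) := hz
    obtain ⟨k, rfl⟩ := mem_zpowers_iff.mp hz'
    have hc : Commute (x : K) y := by
      have := x.2
      rw [mem_centralizer_iff] at this
      exact (this y hy).symm
    exact (hc.zpow_left k).eq
  have := Subgroup.card_dvd_of_le hle
  rwa [hP] at this

variable [Finite K] [IsSimpleGroup K]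

/-- The standard local data at a prime `p` exactly dividing the order of a finite simple group:
`n = n_p`, `c = |C(P)|`, `f = |N(P) : C(P)|`. -/
theorem sylow_prime_data {p : ℕ} [Fact p.Prime] {m : ℕ} (hK : Nat.card K = p * m)
    (hm : ¬ p ∣ m) (hm1 : m ≠ 1) (P : Sylow p K) :
    ∃ n c f : ℕ, n = Nat.card (Sylow p K) ∧
      c = Nat.card (centralizer ((P : Subgroup K) : Set K)) ∧
      n * (c * f) = Nat.card K ∧ n % p = 1 ∧ n ≠ 1 ∧ 1 < f ∧ f ∣ p - 1 ∧ p ∣ c ∧
      Nat.card (P : Subgroup K) = p ∧
      Nat.card (normalizer ((P : Subgroup K) : Set K)) = c * f ∧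
      (∀ r : ℕ, r.Prime → r ∣ Nat.card K → r ≤ n) := by
  have hp : p.Prime := Fact.out
  have hK' : Nat.card K = p ^ 1 * m := by rw [pow_one]; exact hK
  have hP : Nat.card (P : Subgroup K) = p := by
    have := card_sylow_subgroup_of_card_eq hK' hm P
    simpa using this
  have hKp : Nat.card K ≠ p := by
    intro h
    rw [h] at hK
    have : p * 1 = p * m := by rw [mul_one]; exact hK
    exact hm1 (Nat.eq_of_mul_eq_mul_left hp.pos this).symm
  have hn1 : Nat.card (Sylow p K) ≠ 1 := card_sylow_ne_one_of_simple hK' hm one_ne_zero hm1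
  have hNn := card_normalizer_mul_card_sylow P
  have hcm := card_centralizer_mul_relIndex (P : Subgroup K)
  obtain ⟨hd1, hd2⟩ := relIndex_dvd_of_card_sylow_prime P hP
  have hne : ¬ (normalizer ((P : Subgroup K) : Set K) ≤ centralizer ((P : Subgroup K) : Set K)) :=
    not_normalizer_le_centralizer_of_simple P (by rw [hP]; exact hp.one_lt.ne')
      (by rw [hP]; exact hKp.symm)
  have h0 : (centralizer ((P : Subgroup K) : Set K)).relIndex
    (normalizer ((P : Subgroup K) : Set K)) ≠ 0 := Subgroup.index_ne_zero_of_finite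
  have h1' : (centralizer ((P : Subgroup K) : Set K)).relIndex
    (normalizer ((P : Subgroup K) : Set K)) ≠ 1 := fun h => hne (Subgroup.relIndex_eq_one.mp h)
  have hpc : p ∣ Nat.card (centralizer ((P : Subgroup K) : Set K)) := by
    have : Fact (Nat.card (P : Subgroup K)).Prime := ⟨hP.symm ▸ hp⟩
    have hcyc : IsCyclic (P : Subgroup K) :=
      isCyclic_of_prime_card (p := Nat.card (P : Subgroup K)) rfl
    have : IsMulCommutative (P : Subgroup K) := ⟨⟨fun a b => by
      let := hcyc.commGroup; exact mul_comm a b⟩⟩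
    have hle : (P : Subgroup K) ≤ centralizer ((P : Subgroup K) : Set K) :=
      Subgroup.le_centralizer _
    have := Subgroup.card_dvd_of_le hle
    rwa [hP] at this
  have hnc : ¬ IsMulCommutative K := by
    apply not_comm_of_simple_of_not_prime
    rw [hK]
    intro hpr
    have hm0 : m ≠ 0 := fun h => hm (h ▸ dvd_zero p)
    rcases (Nat.dvd_prime hpr).mp (dvd_mul_right p m) with h | h
    · exact hp.one_lt.ne' h
    · have : p * 1 = p * m := by rw [mul_one]; exact h
      exact hm1 (Nat.eq_of_mul_eq_mul_left hp.pos this).symm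
  refine ⟨Nat.card (Sylow p K), Nat.card (centralizer ((P : Subgroup K) : Set K)),
    (centralizer ((P : Subgroup K) : Set K)).relIndex (normalizer ((P : Subgroup K) : Set K)),
    rfl, rfl, ?_, card_sylow_mod_eq_one', hn1, by omega, hd1, hpc, hP, hcm.symm, ?_⟩
  · rw [hcm, mul_comm]; exact hNn
  · intro r hr hrK
    have hNtop : normalizer ((P : Subgroup K) : Set K) ≠ ⊤ := by
      intro htop
      apply hn1
      rw [htop, Subgroup.card_top] at hNn
      have hpos : 0 < Nat.card K := Nat.card_pos
      have : Nat.card K * Nat.card (Sylow p K) = Nat.card K * 1 := by rw [mul_one]; exact hNn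
      exact Nat.eq_of_mul_eq_mul_left hpos this
    have h2 := two_mul_card_dvd_factorial_index hnc _ hNtop
    have hidx : (normalizer ((P : Subgroup K) : Set K)).index = Nat.card (Sylow p K) :=
      (P.card_eq_index_normalizer).symm
    rw [hidx] at h2
    exact (hr.dvd_factorial).mp ((hrK.trans (dvd_mul_left _ 2)).trans h2)
where
  card_sylow_mod_eq_one' {p : ℕ} [Fact p.Prime] : Nat.card (Sylow p K) % p = 1 := by
    have hp : p.Prime := Fact.out
    have := card_sylow_modEq_one p K
    rw [Nat.ModEq, Nat.mod_eq_of_lt hp.one_lt] at this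
    exact this

end Cfsg.Agent.Helper9.SylArith
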