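import Mathlib
import Cfsg.Agent.Helper9.SylArith
import Cfsg.Agent.Helper61.J1Count

set_option autoImplicit false
set_option linter.style.haveILetI false

/-!
# Leaves (L3) and (L4) of helper61's reduction for S4274 (order 175560)
-/

namespace Cfsg.Agent.Helper9.J1L34

open Subgroup Cfsg.Agent.Helper9.SylArith

variable {K : Type*} [Group K] [Finite K] [IsSimpleGroup K]

/-- (L3): no simple group of order `58520 = 8*5*7*11*19` with `n_19 = 1540`. -/
theorem not_simple_58520_1540 (hcard : Nat.card K = 58520)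
    (h19 : Nat.card (Sylow 19 K) = 1540) : False := by
  haveI : Fact (Nat.Prime 19) := ⟨by norm_num⟩
  haveI : Fact (Nat.Prime 11) := ⟨by norm_num⟩
  haveI : Fact (Nat.Prime 7) := ⟨by norm_num⟩
  haveI : Fact (Nat.Prime 5) := ⟨by norm_num⟩
  obtain ⟨P19⟩ : Nonempty (Sylow 19 K) := inferInstance
  obtain ⟨P11⟩ : Nonempty (Sylow 11 K) := inferInstance
  obtain ⟨P7⟩ : Nonempty (Sylow 7 K) := inferInstance
  obtain ⟨P5⟩ : Nonempty (Sylow 5 K) := inferInstance
  -- the prime 19
  obtain ⟨n19, c19, f19, hn19, hc19, hm19, -, -, hf19, hfd19, ⟨k19, hk19⟩, hP19, -, -⟩ :=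
    sylow_prime_data (p := 19) (m := 3080) (by rw [hcard]) (by norm_num) (by norm_num) P19
  rw [h19] at hn19
  subst hn19
  rw [hcard] at hm19
  have hf19le : f19 ≤ 18 := Nat.le_of_dvd (by norm_num) hfd19
  have hc19v : c19 = 19 := by
    subst hk19
    have h1 : k19 * f19 = 2 := by
      have : 1540 * 19 * (k19 * f19) = 58520 := by rw [← hm19]; ring
      omega
    have hk : k19 ∣ 2 := Dvd.intro _ h1
    have hkle : k19 ≤ 2 := Nat.le_of_dvd (by norm_num) hk
    interval_cases k19 <;> omega
  -- the prime 7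
  obtain ⟨n7, c7, f7, hn7, hc7, hm7, hmod7, -, hf7, hfd7, ⟨k7, hk7⟩, hP7, -, hidx7⟩ :=
    sylow_prime_data (p := 7) (m := 8360) (by rw [hcard]) (by norm_num) (by norm_num) P7
  rw [hcard] at hm7 hidx7
  have h19n7 : 19 ≤ n7 := hidx7 19 (by norm_num) (by norm_num)
  have hf7le : f7 ≤ 6 := Nat.le_of_dvd (by norm_num) hfd7
  have hkf7 : n7 * (k7 * f7) = 8360 := by
    subst hk7
    have : 7 * (n7 * (k7 * f7)) = 58520 := by rw [← hm7]; ring
    omega
  have hn7mem : n7 ∈ Nat.divisors 8360 := Nat.mem_divisors.mpr ⟨Dvd.intro _ hkf7, by norm_num⟩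
  simp only [Nat.divisors_ofNat, Finset.mem_insert, Finset.mem_singleton] at hn7mem
  have hn7cases : n7 = 22 ∨ n7 = 190 ∨ n7 = 4180 := by omega
  have hc7v : c7 = 7 ∧ n7 = 4180 := by
    rcases hn7cases with h | h | h
    · -- n7 = 22: 19 ∣ c7, so 7 ∣ c19 = 19
      exfalso
      subst h
      have h1 : k7 * f7 = 380 := by omega
      have h19k : 19 ∣ k7 := by
        have h19 : (19 : ℕ) ∣ k7 * f7 := by rw [h1]; norm_num
        rcases (Nat.Prime.dvd_mul (by norm_num)).mp h19 with h | h
        · exact h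
        · exfalso
          have := Nat.le_of_dvd (by omega) h
          omega
      have h19c : 19 ∣ Nat.card (centralizer ((P7 : Subgroup K) : Set K)) := by
        rw [← hc7, hk7]; exact h19k.trans (dvd_mul_left _ _)
      have := cen_symm P7 P19 hP7 hP19 h19c
      rw [← hc19, hc19v] at this
      norm_num at this
    · -- n7 = 190: 11 ∣ c7, so 77 ∣ c11
      exfalso
      subst h
      have h1 : k7 * f7 = 44 := by omega
      have h11k : 11 ∣ k7 := by
        have h11 : (11 : ℕ) ∣ k7 * f7 := by rw [h1]; norm_num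
        rcases (Nat.Prime.dvd_mul (by norm_num)).mp h11 with h | h
        · exact h
        · exfalso
          have := Nat.le_of_dvd (by omega) h
          omega
      have h11c : 11 ∣ Nat.card (centralizer ((P7 : Subgroup K) : Set K)) := by
        rw [← hc7, hk7]; exact h11k.trans (dvd_mul_left _ _)
      obtain ⟨n11, c11, f11, hn11, hc11, hm11, hmod11, -, hf11, hfd11, h11c11, hP11, -, hidx11⟩ :=
        sylow_prime_data (p := 11) (m := 5320) (by rw [hcard]) (by norm_num) (by norm_num) P11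
      have h7c11 := cen_symm P7 P11 hP7 hP11 h11c
      rw [← hc11] at h7c11
      rw [hcard] at hm11 hidx11
      have h19n11 : 19 ≤ n11 := hidx11 19 (by norm_num) (by norm_num)
      have h77 : 77 ∣ c11 :=
        Nat.Coprime.mul_dvd_of_dvd_of_dvd (by norm_num : Nat.Coprime 7 11) h7c11 h11c11
      obtain ⟨j, rfl⟩ := h77
      have hj : n11 * (j * f11) = 760 := by
        have : 77 * (n11 * (j * f11)) = 58520 := by rw [← hm11]; ring
        omega
      have hn11mem : n11 ∈ Nat.divisors 760 :=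
        Nat.mem_divisors.mpr ⟨Dvd.intro _ hj, by norm_num⟩
      simp only [Nat.divisors_ofNat, Finset.mem_insert, Finset.mem_singleton] at hn11mem
      have hn11v : n11 = 760 := by omega
      subst hn11v
      have hjf : j * f11 = 1 := by omega
      have : f11 ∣ 1 := Dvd.intro_left _ hjf
      have := Nat.le_of_dvd (by norm_num) this
      omega
    · subst h
      have h1 : k7 * f7 = 2 := by omega
      have hk : k7 ∣ 2 := Dvd.intro _ h1
      have hkle : k7 ≤ 2 := Nat.le_of_dvd (by norm_num) hk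
      refine ⟨?_, rfl⟩
      interval_cases k7 <;> omega
  obtain ⟨hc7v, hn7v⟩ := hc7v
  -- the prime 5
  obtain ⟨n5, c5, f5, hn5, hc5, hm5, -, -, hf5, hfd5, ⟨k5, hk5⟩, hP5, -, -⟩ :=
    sylow_prime_data (p := 5) (m := 11704) (by rw [hcard]) (by norm_num) (by norm_num) P5
  rw [hcard] at hm5
  have hf5le : f5 ≤ 4 := Nat.le_of_dvd (by norm_num) hfd5
  -- the count
  have hcnt := Cfsg.Agent.Helper61.J1.three_prime_count P19 P7 P5 hP19 hP7 hP5
    (by rw [← hc19, hc19v]; norm_num) (by rw [← hc19, hc19v]; norm_num)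
    (by rw [← hc7, hc7v]; norm_num)
  rw [← hc19, ← hc7, ← hc5, ← hn7, ← hn5, h19, hc19v, hc7v, hn7v, hcard, hk5] at hcnt
  norm_num at hcnt
  subst hk5
  have h5 : n5 * k5 * f5 = 11704 := by
    have : 5 * (n5 * k5 * f5) = 58520 := by rw [← hm5]; ring
    omega
  have h6 : n5 * (4 * k5) = 4 * (n5 * k5) := by ring
  generalize n5 * k5 = t at h5 hcnt h6
  interval_cases f5 <;> omega

/-- (L4): no simple group of order `17556 = 4*3*7*11*19`. -/
theorem not_simple_17556 (hcard : Nat.card K = 17556) : False := by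
  haveI : Fact (Nat.Prime 19) := ⟨by norm_num⟩
  haveI : Fact (Nat.Prime 11) := ⟨by norm_num⟩
  haveI : Fact (Nat.Prime 7) := ⟨by norm_num⟩
  obtain ⟨P19⟩ : Nonempty (Sylow 19 K) := inferInstance
  obtain ⟨P11⟩ : Nonempty (Sylow 11 K) := inferInstance
  obtain ⟨P7⟩ : Nonempty (Sylow 7 K) := inferInstance
  -- the prime 19
  obtain ⟨n19, c19, f19, hn19, hc19, hm19, hmod19, -, hf19, hfd19, ⟨k19, hk19⟩, hP19, -, hidx19⟩ :=
    sylow_prime_data (p := 19) (m := 924) (by rw [hcard]) (by norm_num) (by norm_num) P19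
  rw [hcard] at hm19 hidx19
  have h19n19 : 19 ≤ n19 := hidx19 19 (by norm_num) (by norm_num)
  have hf19le : f19 ≤ 18 := Nat.le_of_dvd (by norm_num) hfd19
  have hkf19 : n19 * (k19 * f19) = 924 := by
    subst hk19
    have : 19 * (n19 * (k19 * f19)) = 17556 := by rw [← hm19]; ring
    omega
  have hn19mem : n19 ∈ Nat.divisors 924 :=
    Nat.mem_divisors.mpr ⟨Dvd.intro _ hkf19, by norm_num⟩
  simp only [Nat.divisors_ofNat, Finset.mem_insert, Finset.mem_singleton] at hn19mem
  have hn19v : n19 = 77 := by omega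
  subst hn19v
  have hkf19' : k19 * f19 = 12 := by omega
  have hk19v : k19 = 2 ∨ k19 = 4 ∨ k19 = 6 := by
    have hk : k19 ∣ 12 := Dvd.intro _ hkf19'
    have hkle : k19 ≤ 12 := Nat.le_of_dvd (by norm_num) hk
    have hf : f19 ∣ 12 := Dvd.intro_left _ hkf19'
    have hf6 : f19 ∣ 6 := by
      have := Nat.dvd_gcd hfd19 hf
      norm_num at this
      exact this
    have hf6le : f19 ≤ 6 := Nat.le_of_dvd (by norm_num) hf6
    interval_cases f19 <;> omega
  -- the prime 11
  obtain ⟨n11, c11, f11, hn11, hc11, hm11, hmod11, -, hf11, hfd11, ⟨k11, hk11⟩, hP11, -, hidx11⟩ :=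
    sylow_prime_data (p := 11) (m := 1596) (by rw [hcard]) (by norm_num) (by norm_num) P11
  rw [hcard] at hm11 hidx11
  have h19n11 : 19 ≤ n11 := hidx11 19 (by norm_num) (by norm_num)
  have hf11le : f11 ≤ 10 := Nat.le_of_dvd (by norm_num) hfd11
  have hkf11 : n11 * (k11 * f11) = 1596 := by
    subst hk11
    have : 11 * (n11 * (k11 * f11)) = 17556 := by rw [← hm11]; ring
    omega
  have hn11mem : n11 ∈ Nat.divisors 1596 :=
    Nat.mem_divisors.mpr ⟨Dvd.intro _ hkf11, by norm_num⟩
  simp only [Nat.divisors_ofNat, Finset.mem_insert, Finset.mem_singleton] at hn11mem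
  have hn11cases : n11 = 133 ∨ n11 = 1596 := by omega
  have hn11v : n11 = 133 ∧ k11 = 6 := by
    rcases hn11cases with h | h
    · subst h
      refine ⟨rfl, ?_⟩
      have h1 : k11 * f11 = 12 := by omega
      have hf : f11 ∣ 12 := Dvd.intro_left _ h1
      have hf2 : f11 ∣ 2 := by
        have := Nat.dvd_gcd hfd11 hf
        norm_num at this
        exact this
      have hf2le : f11 ≤ 2 := Nat.le_of_dvd (by norm_num) hf2
      interval_cases f11 <;> omega
    · exfalso
      subst h
      have h1 : k11 * f11 = 1 := by omega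
      have : f11 ∣ 1 := Dvd.intro_left _ h1
      have := Nat.le_of_dvd (by norm_num) this
      omega
  obtain ⟨hn11v, hk11v⟩ := hn11v
  subst hn11v hk11v
  -- the prime 7
  obtain ⟨n7, c7, f7, hn7, hc7, hm7, hmod7, -, hf7, hfd7, ⟨k7, hk7⟩, hP7, -, hidx7⟩ :=
    sylow_prime_data (p := 7) (m := 2508) (by rw [hcard]) (by norm_num) (by norm_num) P7
  rw [hcard] at hm7 hidx7
  have h19n7 : 19 ≤ n7 := hidx7 19 (by norm_num) (by norm_num)
  have hf7le : f7 ≤ 6 := Nat.le_of_dvd (by norm_num) hfd7
  have hkf7 : n7 * (k7 * f7) = 2508 := by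
    subst hk7
    have : 7 * (n7 * (k7 * f7)) = 17556 := by rw [← hm7]; ring
    omega
  have hn7mem : n7 ∈ Nat.divisors 2508 := Nat.mem_divisors.mpr ⟨Dvd.intro _ hkf7, by norm_num⟩
  simp only [Nat.divisors_ofNat, Finset.mem_insert, Finset.mem_singleton] at hn7mem
  have hn7cases : n7 = 22 ∨ n7 = 57 ∨ n7 = 1254 := by omega
  have hc7v : k7 = 1 ∧ n7 = 1254 := by
    rcases hn7cases with h | h | h
    · -- n7 = 22: 19 ∣ c7, so 7 ∣ c19
      exfalso
      subst h
      have h1 : k7 * f7 = 114 := by omega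
      have h19k : 19 ∣ k7 := by
        have h19 : (19 : ℕ) ∣ k7 * f7 := by rw [h1]; norm_num
        rcases (Nat.Prime.dvd_mul (by norm_num)).mp h19 with h | h
        · exact h
        · exfalso
          have := Nat.le_of_dvd (by omega) h
          omega
      have h19c : 19 ∣ Nat.card (centralizer ((P7 : Subgroup K) : Set K)) := by
        rw [← hc7, hk7]; exact h19k.trans (dvd_mul_left _ _)
      have := cen_symm P7 P19 hP7 hP19 h19c
      rw [← hc19, hk19] at this
      rcases hk19v with h | h | h <;> rw [h] at this <;> norm_num at this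
    · -- n7 = 57: 11 ∣ c7, so 7 ∣ c11 = 66
      exfalso
      subst h
      have h1 : k7 * f7 = 44 := by omega
      have h11k : 11 ∣ k7 := by
        have h11 : (11 : ℕ) ∣ k7 * f7 := by rw [h1]; norm_num
        rcases (Nat.Prime.dvd_mul (by norm_num)).mp h11 with h | h
        · exact h
        · exfalso
          have := Nat.le_of_dvd (by omega) h
          omega
      have h11c : 11 ∣ Nat.card (centralizer ((P7 : Subgroup K) : Set K)) := by
        rw [← hc7, hk7]; exact h11k.trans (dvd_mul_left _ _)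
      have := cen_symm P7 P11 hP7 hP11 h11c
      rw [← hc11, hk11] at this
      norm_num at this
    · subst h
      have h1 : k7 * f7 = 2 := by omega
      have hk : k7 ∣ 2 := Dvd.intro _ h1
      have hkle : k7 ≤ 2 := Nat.le_of_dvd (by norm_num) hk
      refine ⟨?_, rfl⟩
      interval_cases k7 <;> omega
  obtain ⟨hk7v, hn7v⟩ := hc7v
  subst hk7v hn7v
  -- the count
  have hcnt := Cfsg.Agent.Helper61.J1.three_prime_count P11 P7 P19 hP11 hP7 hP19
    (by rw [← hc11, hk11]; norm_num) (by rw [← hc11, hk11]; norm_num)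
    (by rw [← hc7, hk7]; norm_num)
  rw [← hc19, ← hc7, ← hc11, ← hn7, ← hn11, ← hn19, hk19, hk7, hk11, hcard] at hcnt
  norm_num at hcnt
  rcases hk19v with h | h | h <;> rw [h] at hcnt <;> norm_num at hcnt

end Cfsg.Agent.Helper9.J1L34
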