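import Cfsg.Agent.Helper9.Supersolvable

namespace Cfsg.Agent.Helper9

open Subgroup

universe u v
variable {G : Type u} [Group G]

/-- If `⟨g⟩` is normal, so is `⟨g ^ m⟩`. -/
theorem zpowers_pow_normal (g : G) (hg : (zpowers g).Normal) (m : ℕ) :
    (zpowers (g ^ m)).Normal := by
  constructor
  intro n hn x
  rw [Subgroup.mem_zpowers_iff] at hn
  obtain ⟨j, rfl⟩ := hn
  have hx : x * g * x⁻¹ ∈ zpowers g := hg.conj_mem g (Subgroup.mem_zpowers g) x
  rw [Subgroup.mem_zpowers_iff] at hx
  obtain ⟨k, hk⟩ := hx
  have h1 : x * (g ^ m) ^ j * x⁻¹ = ((x * g * x⁻¹) ^ m) ^ j := by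
    rw [conj_pow, conj_zpow]
  rw [h1, ← hk, Subgroup.mem_zpowers_iff]
  refine ⟨k * j, ?_⟩
  rw [← zpow_natCast, ← zpow_natCast, ← zpow_mul, ← zpow_mul]
  simp only [← zpow_mul]
  congr 1
  ring

/-- In a finite group, a nontrivial normal cyclic subgroup `⟨g⟩` contains a normal subgroup of
prime order. -/
theorem exists_normal_prime_le_zpowers [Finite G] (g : G) (hg : (zpowers g).Normal) (hg1 : g ≠ 1) :
    ∃ N : Subgroup G, N ≤ zpowers g ∧ N.Normal ∧ (Nat.card N).Prime := by
  have hn : orderOf g ≠ 1 := by
    rw [Ne, orderOf_eq_one_iff]; exact hg1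
  have hn0 : orderOf g ≠ 0 := (orderOf_pos g).ne'
  set p := (orderOf g).minFac with hp
  have hpp : p.Prime := Nat.minFac_prime hn
  have hpd : p ∣ orderOf g := Nat.minFac_dvd _
  refine ⟨zpowers (g ^ (orderOf g / p)), ?_, zpowers_pow_normal g hg _, ?_⟩
  · rw [Subgroup.zpowers_le]
    exact Subgroup.pow_mem _ (Subgroup.mem_zpowers g) _
  · rw [Nat.card_zpowers, orderOf_pow_orderOf_div hn0 hpd]
    exact hpp

theorem SSChain.exists_normal_prime [Finite G] {A : Subgroup G} (h : SSChain A) (hA : A ≠ ⊥) :
    ∃ N : Subgroup G, N ≤ A ∧ N.Normal ∧ (Nat.card N).Prime := by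
  induction h with
  | bot => exact absurd rfl hA
  | step A g hA' hn ih =>
    by_cases hA0 : A = ⊥
    · subst hA0
      rw [bot_sup_eq] at hn hA ⊢
      have hg1 : g ≠ 1 := by
        intro h; apply hA; rw [h, Subgroup.zpowers_one_eq_bot]
      exact exists_normal_prime_le_zpowers g hn hg1
    · obtain ⟨N, hN, hNn, hNp⟩ := ih hA0
      exact ⟨N, le_trans hN le_sup_left, hNn, hNp⟩

/-- A nontrivial finite supersolvable group has a normal subgroup of prime order. -/
theorem exists_normal_prime_of_isSupersolvable [Finite G] [Nontrivial G]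
    (h : Cfsg.IsSupersolvable G) : ∃ N : Subgroup G, N.Normal ∧ (Nat.card N).Prime := by
  rw [isSupersolvable_iff] at h
  obtain ⟨N, -, hN, hp⟩ := h.exists_normal_prime top_ne_bot
  exact ⟨N, hN, hp⟩

/-- `card (G ⧸ N) < card G` when `N` has prime order. -/
theorem card_quotient_lt_of_prime [Finite G] (N : Subgroup G) (hp : (Nat.card N).Prime) :
    Nat.card (G ⧸ N) < Nat.card G := by
  have h := Subgroup.card_eq_card_quotient_mul_card_subgroup N
  have hpos : 0 < Nat.card (G ⧸ N) := Nat.card_pos
  rw [h]
  have := hp.one_lt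
  nlinarith

/-- Trivial groups are supersolvable. -/
theorem isSupersolvable_of_subsingleton [Subsingleton G] : Cfsg.IsSupersolvable G := by
  rw [isSupersolvable_iff]
  have : (⊤ : Subgroup G) = ⊥ := Subsingleton.elim _ _
  rw [this]; exact SSChain.bot

/-- Induction principle for finite supersolvable groups. -/
theorem supersolvable_induction {P : ∀ (G : Type u) [Group G], Prop}
    (triv : ∀ (G : Type u) [Group G] [Subsingleton G], P G)
    (step : ∀ (G : Type u) [Group G] [Finite G] [Nontrivial G] (N : Subgroup G) [N.Normal],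
      (Nat.card N).Prime → Cfsg.IsSupersolvable G → Cfsg.IsSupersolvable (G ⧸ N) →
      (∀ (K : Type u) [Group K] [Finite K], Cfsg.IsSupersolvable K → Nat.card K < Nat.card G → P K) →
      P G)
    (G : Type u) [Group G] [Finite G] (hG : Cfsg.IsSupersolvable G) : P G := by
  suffices H : ∀ n : ℕ, ∀ (G : Type u) [Group G] [Finite G], Cfsg.IsSupersolvable G →
      Nat.card G = n → P G from H _ G hG rfl
  intro n
  induction n using Nat.strong_induction_on with
  | _ n ih =>
    intro G _ _ hG hn
    rcases subsingleton_or_nontrivial G with hs | hnt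
    · exact triv G
    · obtain ⟨N, hN, hp⟩ := exists_normal_prime_of_isSupersolvable hG
      refine step G N hp hG (isSupersolvable_quotient N hG) ?_
      intro K _ _ hK hlt
      exact ih (Nat.card K) (hn ▸ hlt) K hK rfl



/-- Second isomorphism theorem, numerically: `[HK : H] = [K : H ∩ K]` for `K` normal. -/
theorem relIndex_sup_self_of_normal [Finite G] (H K : Subgroup G) [K.Normal] :
    H.relIndex (H ⊔ K) = H.relIndex K := by
  have h1 : K.relIndex (H ⊔ K) = K.relIndex H := Subgroup.relIndex_sup_right H K
  have a1 : (⊥ : Subgroup G).relIndex (H ⊓ K) * (H ⊓ K).relIndex H = (⊥ : Subgroup G).relIndex H :=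
    Subgroup.relIndex_mul_relIndex _ _ _ bot_le inf_le_left
  have a2 : (⊥ : Subgroup G).relIndex (H ⊓ K) * (H ⊓ K).relIndex K = (⊥ : Subgroup G).relIndex K :=
    Subgroup.relIndex_mul_relIndex _ _ _ bot_le inf_le_right
  have a3 : (⊥ : Subgroup G).relIndex K * K.relIndex (H ⊔ K) = (⊥ : Subgroup G).relIndex (H ⊔ K) :=
    Subgroup.relIndex_mul_relIndex _ _ _ bot_le le_sup_right
  have a4 : (⊥ : Subgroup G).relIndex H * H.relIndex (H ⊔ K) = (⊥ : Subgroup G).relIndex (H ⊔ K) :=
    Subgroup.relIndex_mul_relIndex _ _ _ bot_le le_sup_left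
  rw [Subgroup.inf_relIndex_left] at a1
  rw [Subgroup.inf_relIndex_right] at a2
  have hpos : 0 < (⊥ : Subgroup G).relIndex (H ⊓ K) * K.relIndex H := by
    rw [a1, Subgroup.relIndex_bot_left]; exact Nat.card_pos
  symm
  apply Nat.eq_of_mul_eq_mul_left hpos
  calc (⊥ : Subgroup G).relIndex (H ⊓ K) * K.relIndex H * H.relIndex K
      = ((⊥ : Subgroup G).relIndex (H ⊓ K) * H.relIndex K) * K.relIndex H := by ring
    _ = (⊥ : Subgroup G).relIndex K * K.relIndex (H ⊔ K) := by rw [a2, h1]
    _ = (⊥ : Subgroup G).relIndex H * H.relIndex (H ⊔ K) := by rw [a3, a4]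
    _ = (⊥ : Subgroup G).relIndex (H ⊓ K) * K.relIndex H * H.relIndex (H ⊔ K) := by rw [a1]

/-- A subgroup of prime order is either contained in `M` or meets it trivially. -/
theorem le_or_inf_eq_bot_of_prime_card [Finite G] (M N : Subgroup G) (hp : (Nat.card N).Prime) :
    N ≤ M ∨ M ⊓ N = ⊥ := by
  have hdvd : Nat.card (M ⊓ N : Subgroup G) ∣ Nat.card N :=
    Subgroup.card_dvd_of_le inf_le_right
  rcases (Nat.dvd_prime hp).mp hdvd with h1 | h2
  · right
    exact Subgroup.card_eq_one.mp h1
  · left
    have : M ⊓ N = N := Subgroup.eq_of_le_of_card_ge inf_le_right (le_of_eq h2.symm)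
    exact inf_eq_right.mp this

/-- maximal subgroups of the quotient -/
theorem isCoatom_map_mk_of_le (N : Subgroup G) [N.Normal] (M : Subgroup G) (hM : IsCoatom M)
    (hNM : N ≤ M) : IsCoatom (M.map (QuotientGroup.mk' N)) := by
  have hsurj := QuotientGroup.mk'_surjective N
  have hcomap : (M.map (QuotientGroup.mk' N)).comap (QuotientGroup.mk' N) = M := by
    rw [Subgroup.comap_map_eq, QuotientGroup.ker_mk', sup_eq_left]; exact hNM
  constructor
  · intro h
    apply hM.1
    rw [← hcomap, h, Subgroup.comap_top]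
  · intro X hX
    have h1 : M < X.comap (QuotientGroup.mk' N) := by
      rw [← hcomap]
      refine lt_of_le_of_ne (Subgroup.comap_mono hX.le) ?_
      intro h
      have := congrArg (Subgroup.map (QuotientGroup.mk' N)) h
      rw [Subgroup.map_comap_eq_self_of_surjective hsurj,
        Subgroup.map_comap_eq_self_of_surjective hsurj] at this
      exact hX.ne this
    have h2 := hM.2 _ h1
    have := congrArg (Subgroup.map (QuotientGroup.mk' N)) h2
    rw [Subgroup.map_comap_eq_self_of_surjective hsurj] at this
    rw [this, ← MonoidHom.range_eq_map, MonoidHom.range_eq_top.mpr hsurj]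

theorem index_prime_of_isCoatom [Finite G] (hG : Cfsg.IsSupersolvable G) :
    ∀ M : Subgroup G, IsCoatom M → M.index.Prime := by
  refine supersolvable_induction (P := fun G _ => ∀ M : Subgroup G, IsCoatom M → M.index.Prime)
    ?_ ?_ G hG
  · intro G _ _ M hM
    exact absurd (Subsingleton.elim M ⊤) hM.1
  · intro G _ _ _ N _ hp hG hQ ih M hM
    rcases le_or_inf_eq_bot_of_prime_card M N hp with hle | hbot
    · have h1 := ih (G ⧸ N) hQ (card_quotient_lt_of_prime N hp) _ (isCoatom_map_mk_of_le N M hM hle)
      rwa [Subgroup.index_map_eq M (QuotientGroup.mk'_surjective N)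
        (by rw [QuotientGroup.ker_mk']; exact hle)] at h1
    · have hnle : ¬ N ≤ M := by
        intro hle
        have : N = ⊥ := by
          rw [← le_bot_iff, ← hbot]; exact le_inf hle le_rfl
        rw [this, Subgroup.card_bot] at hp
        exact Nat.not_prime_one hp
      have hsup : M ⊔ N = ⊤ := by
        apply hM.2
        refine lt_of_le_of_ne le_sup_left ?_
        intro h
        apply hnle
        rw [h]; exact le_sup_right
      have h1 := relIndex_sup_self_of_normal M N
      rw [hsup, Subgroup.relIndex_top_right, ← Subgroup.inf_relIndex_right, hbot,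
        Subgroup.relIndex_bot_left] at h1
      rw [h1]; exact hp



theorem card_comap_mk' (N : Subgroup G) [N.Normal] (H' : Subgroup (G ⧸ N)) :
    Nat.card (H'.comap (QuotientGroup.mk' N)) = Nat.card N * Nat.card H' :=
  QuotientGroup.card_preimage_mk N (H' : Set (G ⧸ N))

theorem hasSubgroupOfEveryOrder_of_isSupersolvable [Finite G] (hG : Cfsg.IsSupersolvable G) :
    Cfsg.HasSubgroupOfEveryOrder G := by
  refine supersolvable_induction
    (P := fun G _ => ∀ d : ℕ, d ∣ Nat.card G → ∃ H : Subgroup G, Nat.card H = d) ?_ ?_ G hG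
  · intro G _ _ d hd
    rw [Nat.card_unique, Nat.dvd_one] at hd
    exact ⟨⊥, by rw [hd, Subgroup.card_bot]⟩
  · intro G _ _ _ N _ hp hG hQ ih d hd
    have hcard : Nat.card G = Nat.card (G ⧸ N) * Nat.card N :=
      Subgroup.card_eq_card_quotient_mul_card_subgroup N
    have hlt := card_quotient_lt_of_prime N hp
    set p := Nat.card N with hpdef
    by_cases hpd : p ∣ d
    · obtain ⟨d', rfl⟩ := hpd
      have hd' : d' ∣ Nat.card (G ⧸ N) := by
        rw [hcard, mul_comm (Nat.card (G ⧸ N))] at hd
        exact Nat.dvd_of_mul_dvd_mul_left hp.pos hd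
      obtain ⟨H', hH'⟩ := ih (G ⧸ N) hQ hlt d' hd'
      exact ⟨H'.comap (QuotientGroup.mk' N), by rw [card_comap_mk', hH']⟩
    · have hcop : Nat.Coprime d p := ((Nat.Prime.coprime_iff_not_dvd hp).mpr hpd).symm
      have hd' : d ∣ Nat.card (G ⧸ N) := by
        rw [hcard] at hd
        exact hcop.dvd_of_dvd_mul_right hd
      obtain ⟨H', hH'⟩ := ih (G ⧸ N) hQ hlt d hd'
      set K := H'.comap (QuotientGroup.mk' N) with hK
      have hKcard : Nat.card K = p * d := by rw [hK, card_comap_mk', hH']
      by_cases hKtop : K = ⊤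
      · -- Schur–Zassenhaus
        have hGcard : Nat.card G = p * d := by
          rw [← hKcard, hKtop, Subgroup.card_top]
        have hidx : N.index = d := by
          have := Subgroup.card_mul_index N
          rw [hGcard, ← hpdef] at this
          exact Nat.eq_of_mul_eq_mul_left hp.pos this
        have hcop' : Nat.Coprime (Nat.card N) N.index := by
          rw [hidx]; exact hcop.symm
        obtain ⟨H, hH⟩ := Subgroup.exists_right_complement'_of_coprime hcop'
        refine ⟨H, ?_⟩
        have := hH.card_mul_card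
        rw [hGcard, ← hpdef] at this
        exact Nat.eq_of_mul_eq_mul_left hp.pos this
      · have hKlt : Nat.card K < Nat.card G := by
          have hle : Nat.card K ≤ Nat.card G := Subgroup.card_le_card_group K
          refine lt_of_le_of_ne hle ?_
          intro h
          exact hKtop (Subgroup.card_eq_iff_eq_top K |>.mp h)
        obtain ⟨L, hL⟩ := ih K (isSupersolvable_subgroup K hG) hKlt d (by rw [hKcard]; exact dvd_mul_left d p)
        refine ⟨L.map K.subtype, ?_⟩
        rw [← hL]
        exact Nat.card_congr (Subgroup.equivMapOfInjective L K.subtype K.subtype_injective).symm.toEquiv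



/-- The commutator subgroup centralizes every cyclic normal subgroup. -/
theorem commutator_centralizes_cyclic_normal (N : Subgroup G) [N.Normal] [IsCyclic N]
    {x : G} (hx : x ∈ commutator G) {n : G} (hn : n ∈ N) : x * n = n * x := by
  let e := IsCyclic.mulAutMulEquiv N
  let f : G →* (ZMod (Nat.card N))ˣ := e.toMonoidHom.comp (MulAut.conjNormal (H := N))
  have hker : x ∈ f.ker := Abelianization.commutator_subset_ker f hx
  rw [MonoidHom.mem_ker] at hker
  have h1 : (MulAut.conjNormal (H := N)) x = 1 := by
    apply e.injective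
    rw [map_one]
    exact hker
  have h2 := congrArg (fun φ : MulAut N => ((φ ⟨n, hn⟩ : N) : G)) h1
  simp only [MulAut.conjNormal_apply, MulAut.one_apply] at h2
  calc x * n = (x * n * x⁻¹) * x := by group
    _ = n * x := by rw [h2]

theorem commutator_isNilpotent_of_isSupersolvable [Finite G] (hG : Cfsg.IsSupersolvable G) :
    Group.IsNilpotent (commutator G) := by
  refine supersolvable_induction
    (P := fun G _ => Group.IsNilpotent (commutator G)) ?_ ?_ G hG
  · intro G _ _
    infer_instance
  · intro G _ _ _ N _ hp hG hQ ih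
    have hlt := card_quotient_lt_of_prime N hp
    have hnil : Group.IsNilpotent (commutator (G ⧸ N)) := ih (G ⧸ N) hQ hlt
    have : Fact (Nat.card N).Prime := ⟨hp⟩
    have : IsCyclic N := isCyclic_of_prime_card rfl
    have hmem : ∀ x : commutator G, (QuotientGroup.mk' N) (x : G) ∈ commutator (G ⧸ N) := by
      intro x
      have h0 : (commutator G).map (QuotientGroup.mk' N) = commutator (G ⧸ N) := by
        rw [commutator_def, Subgroup.map_commutator, ← MonoidHom.range_eq_map,
          MonoidHom.range_eq_top.mpr (QuotientGroup.mk'_surjective N), commutator_def]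
      rw [← h0]
      exact Subgroup.mem_map_of_mem _ x.2
    let φ : commutator G →* commutator (G ⧸ N) :=
      ((QuotientGroup.mk' N).comp (commutator G).subtype).codRestrict _ hmem
    refine Subgroup.isNilpotent_of_ker_le_center φ ?_
    intro x hx
    rw [MonoidHom.mem_ker] at hx
    have hxN : (x : G) ∈ N := by
      have h3 : (QuotientGroup.mk' N) (x : G) = 1 := congrArg Subtype.val hx
      rwa [QuotientGroup.mk'_apply, QuotientGroup.eq_one_iff] at h3
    rw [Subgroup.mem_center_iff]
    intro y
    apply Subtype.ext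
    simp only [Subgroup.coe_mul]
    exact commutator_centralizes_cyclic_normal N y.2 hxN

end Cfsg.Agent.Helper9
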