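import Cfsg.Agent.Helper9.CoverAvoid
import Cfsg.Agent.Helper1.Carter
import Cfsg.Agent.S0045
import Cfsg.Agent.Helper97.ChiefFitting

set_option autoImplicit false

namespace Cfsg.Agent.Helper9

open Subgroup Pointwise

universe u

/-- Existence of Hall complement systems in finite solvable groups. -/
theorem exists_complementSystem {G : Type u} [Group G] [Finite G] [Group.IsSolvable G] :
    ∃ K : Nat.Primes → Subgroup G, Cfsg.IsComplementSystem K := by
  have h : ∀ p : Nat.Primes, ∃ H : Subgroup G,
      H.index = (p : ℕ) ^ (Nat.card G).factorization p := by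
    intro p
    have hG0 : Nat.card G ≠ 0 := Nat.card_pos.ne'
    obtain ⟨a, ha⟩ : ∃ a, a = (p : ℕ) ^ (Nat.card G).factorization p := ⟨_, rfl⟩
    obtain ⟨m, hm⟩ : ∃ m, m = Nat.card G / a := ⟨_, rfl⟩
    have h1 : a * m = Nat.card G := by
      rw [hm, ha]; exact Nat.ordProj_mul_ordCompl_eq_self (Nat.card G) p
    have hcop : Nat.Coprime m a := by
      rw [hm, ha]; exact ((Nat.coprime_ordCompl p.2 hG0).pow_left _).symm
    obtain ⟨H, hH⟩ := Cfsg.Agent.Lib.hall_exists m a (by rw [mul_comm]; exact h1.symm) hcop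
    refine ⟨H, ?_⟩
    rw [← ha]
    have h2 := H.card_mul_index
    rw [hH, ← h1] at h2
    have hpos : 0 < m := by
      rcases Nat.eq_zero_or_pos m with h0 | h0
      · rw [h0, mul_zero] at h1; exact absurd h1.symm hG0
      · exact h0
    have h3 : m * H.index = m * a := by rw [h2, mul_comm]
    exact Nat.eq_of_mul_eq_mul_left hpos h3
  choose K hK using h
  exact ⟨K, hK⟩

/-- The system normalizer of a conjugated system. -/
theorem systemNormalizer_conj {G : Type*} [Group G] (K : Nat.Primes → Subgroup G) (g : G) :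
    Cfsg.systemNormalizer (fun p => MulAut.conj g • K p) =
      MulAut.conj g • Cfsg.systemNormalizer K := by
  unfold Cfsg.systemNormalizer
  ext x
  rw [Subgroup.mem_iInf, Subgroup.mem_pointwise_smul_iff_inv_smul_mem, Subgroup.mem_iInf]
  constructor
  · intro h p
    have := h p
    rw [← Cfsg.Agent.Helper1.conj_smul_normalizer,
      Subgroup.mem_pointwise_smul_iff_inv_smul_mem] at this
    exact this
  · intro h p
    rw [← Cfsg.Agent.Helper1.conj_smul_normalizer,
      Subgroup.mem_pointwise_smul_iff_inv_smul_mem]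
    exact h p

/-- In a nilpotent group the system normalizer is the whole group. -/
theorem systemNormalizer_eq_top_of_isNilpotent {G : Type*} [Group G] [Finite G]
    [Group.IsNilpotent G] {K : Nat.Primes → Subgroup G} (hK : Cfsg.IsComplementSystem K) :
    Cfsg.systemNormalizer K = ⊤ := by
  unfold Cfsg.systemNormalizer
  rw [iInf_eq_top]
  intro p
  rw [Subgroup.normalizer_eq_top_iff]
  apply Cfsg.Agent.Helper1.normal_of_hall_of_isNilpotent
  rw [hK p]
  exact cs_coprime hK p

/-- A minimal normal subgroup below a nontrivial normal subgroup. -/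
theorem exists_minimal_normal_le {G : Type*} [Group G] [Finite G] (F : Subgroup G) [F.Normal]
    (hF : F ≠ ⊥) : ∃ M : Subgroup G, M.Normal ∧ M ≠ ⊥ ∧ M ≤ F ∧
      ∀ N : Subgroup G, N.Normal → N ≤ M → N = ⊥ ∨ N = M := by
  obtain ⟨M, hM⟩ := exists_minimal_of_wellFoundedLT
    (fun N : Subgroup G => N.Normal ∧ N ≠ ⊥ ∧ N ≤ F) ⟨F, inferInstance, hF, le_rfl⟩
  refine ⟨M, hM.prop.1, hM.prop.2.1, hM.prop.2.2, fun N hN hNM => ?_⟩
  by_cases h : N = ⊥
  · exact Or.inl h
  · exact Or.inr (le_antisymm hNM (hM.le_of_le ⟨hN, h, hNM.trans hM.prop.2.2⟩ hNM))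

open scoped commutatorElement in
/-- In a finite group that is nilpotent-by-nilpotent, system normalizers are self-normalizing. -/
theorem normalizer_systemNormalizer_aux : ∀ (n : ℕ) (G : Type u) [Group G] [Finite G]
    [Group.IsSolvable G] (F : Subgroup G) [F.Normal], Group.IsNilpotent F →
    Group.IsNilpotent (G ⧸ F) → ∀ K : Nat.Primes → Subgroup G, Cfsg.IsComplementSystem K →
    Nat.card G = n →
    normalizer ((Cfsg.systemNormalizer K : Subgroup G) : Set G) = Cfsg.systemNormalizer K := by
  intro n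
  induction n using Nat.strong_induction_on with
  | _ n ih =>
  intro G _ _ _ F hFn hF hGF K hK hn
  by_cases hFbot : F = ⊥
  · -- G is nilpotent
    subst hFbot
    have : Group.IsNilpotent G := Group.nilpotent_of_mulEquiv (QuotientGroup.quotientBot (G := G))
    rw [systemNormalizer_eq_top_of_isNilpotent hK]
    exact Subgroup.normalizer_eq_top_iff.mpr inferInstance
  obtain ⟨M, hMn, hMne, hMF, hMmin⟩ := exists_minimal_normal_le F hFbot
  apply le_antisymm _ le_normalizer
  intro x hx
  -- pass to G ⧸ M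
  have hlt : Nat.card (G ⧸ M) < n := by
    rw [← hn, ← M.index_eq_card, ← M.card_mul_index]
    have h1 : 1 < Nat.card M := (Subgroup.one_lt_card_iff_ne_bot _).mpr hMne
    have h2 : 0 < M.index := Nat.pos_of_ne_zero Subgroup.index_ne_zero_of_finite
    nlinarith
  have hFbar_n : (F.map (QuotientGroup.mk' M)).Normal :=
    hFn.map _ (QuotientGroup.mk'_surjective M)
  have hFbar : Group.IsNilpotent (F.map (QuotientGroup.mk' M)) :=
    Group.nilpotent_of_surjective ((QuotientGroup.mk' M).subgroupMap F)
      ((QuotientGroup.mk' M).subgroupMap_surjective F)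
  have hGFbar : Group.IsNilpotent ((G ⧸ M) ⧸ F.map (QuotientGroup.mk' M)) :=
    Group.nilpotent_of_mulEquiv (QuotientGroup.quotientQuotientEquivQuotient M F hMF).symm
  have hIH := ih _ hlt (G ⧸ M) (F.map (QuotientGroup.mk' M)) hFbar hGFbar _ (cs_map_mk' hK M) rfl
  rw [systemNormalizer_map_mk' hK M] at hIH
  have hxbar : (QuotientGroup.mk' M) x ∈
      ((Cfsg.systemNormalizer K).map (QuotientGroup.mk' M)) := by
    rw [← hIH]
    exact Subgroup.le_normalizer_map (QuotientGroup.mk' M) (Subgroup.mem_map_of_mem _ hx)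
  have hxDM : x ∈ Cfsg.systemNormalizer K ⊔ M := by
    have := Subgroup.mem_comap.mpr hxbar
    rw [Subgroup.comap_map_eq, QuotientGroup.ker_mk'] at this
    exact this
  by_cases hMc : M ≤ center G
  · -- covered
    have hcov := (systemNormalizer_cover_avoid K hK ⊥ M (bot_lt_iff_ne_bot.mpr hMne)
      (fun N hN _ hNM => hMmin N hN hNM)).1
    have hMD : M ≤ Cfsg.systemNormalizer K := by
      have := hcov (by
        rw [Subgroup.commutator_le]
        intro m hm g _
        rw [Subgroup.mem_bot, commutatorElement_def]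
        have := Subgroup.mem_center_iff.mp (hMc hm) g
        rw [← this]; group)
      simpa using this
    exact (sup_le le_rfl hMD) hxDM
  · -- avoided
    have havoid := inf_systemNormalizer_eq_bot_of_minimal_normal hK M hMne hMmin hMc
    obtain ⟨d, hd, m, hm, rfl⟩ := Subgroup.mem_sup_of_normal_right.mp hxDM
    have hmN : m ∈ normalizer ((Cfsg.systemNormalizer K : Subgroup G) : Set G) := by
      have h1 : d⁻¹ ∈ normalizer ((Cfsg.systemNormalizer K : Subgroup G) : Set G) :=
        Subgroup.inv_mem _ (le_normalizer hd)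
      have := Subgroup.mul_mem _ h1 hx
      simpa using this
    -- m commutes with D
    have hmD : ∀ y ∈ Cfsg.systemNormalizer K, y * m = m * y := by
      intro y hy
      have h1 : m * y * m⁻¹ ∈ Cfsg.systemNormalizer K := (mem_normalizer_iff.mp hmN y).mp hy
      have h2 : m * y * m⁻¹ * y⁻¹ ∈ Cfsg.systemNormalizer K :=
        Subgroup.mul_mem _ h1 (Subgroup.inv_mem _ hy)
      have h3 : m * y * m⁻¹ * y⁻¹ ∈ M := by
        have : y * m⁻¹ * y⁻¹ ∈ M := hMn.conj_mem _ (M.inv_mem hm) y
        have h4 : m * (y * m⁻¹ * y⁻¹) ∈ M := M.mul_mem hm this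
        convert h4 using 1; group
      have h5 : m * y * m⁻¹ * y⁻¹ ∈ M ⊓ Cfsg.systemNormalizer K := ⟨h3, h2⟩
      rw [havoid, Subgroup.mem_bot] at h5
      calc y * m = (m * y * m⁻¹ * y⁻¹)⁻¹ * (m * y) := by group
        _ = m * y := by rw [h5]; simp
    -- m commutes with F
    have hmF : ∀ f ∈ F, f * m = m * f := by
      intro f hf
      have hchief : Cfsg.Agent.Helper97.IsChiefPair M ⊥ :=
        ⟨hMn, inferInstance, bot_lt_iff_ne_bot.mpr hMne, fun W hW _ hWM => hMmin W hW hWM⟩
      have h1 := Cfsg.Agent.Helper97.commutator_le_of_isChiefPair hchief hF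
      have h2 : ⁅m, f⁆ ∈ (⊥ : Subgroup G) := h1 (Subgroup.commutator_mem_commutator hm hf)
      rw [Subgroup.mem_bot, commutatorElement_def] at h2
      calc f * m = (m * f * m⁻¹ * f⁻¹)⁻¹ * (m * f) := by group
        _ = m * f := by rw [h2]; simp
    -- G = D ⊔ F
    have hDF : Cfsg.systemNormalizer K ⊔ F = ⊤ := by
      have h1 := systemNormalizer_map_mk' hK F
      rw [systemNormalizer_eq_top_of_isNilpotent (cs_map_mk' hK F)] at h1
      have h2 := congrArg (Subgroup.comap (QuotientGroup.mk' F)) h1
      rw [Subgroup.comap_top, Subgroup.comap_map_eq, QuotientGroup.ker_mk'] at h2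
      exact h2.symm
    have hmc : m ∈ centralizer (((⊤ : Subgroup G)) : Set G) :=
      mem_centralizer_of_le_sup m _ F ⊤ hmD hmF (by rw [hDF])
    have hmZ : m ∈ M ⊓ center G := by
      refine ⟨hm, ?_⟩
      show m ∈ center G
      rw [Subgroup.mem_center_iff]
      intro g
      rw [mem_centralizer_iff] at hmc
      exact hmc g (Subgroup.mem_top g)
    have hZ : M ⊓ center G = ⊥ := by
      rcases hMmin (M ⊓ center G) inferInstance inf_le_left with h | h
      · exact h
      · exact absurd (h ▸ inf_le_right) hMc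
    rw [hZ, Subgroup.mem_bot] at hmZ
    rw [hmZ, mul_one]
    exact hd

/-- In a nilpotent-by-nilpotent finite group, the Carter subgroups are exactly the system
normalizers. -/
theorem isCarterSubgroup_iff_systemNormalizer {G : Type u} [Group G] [Finite G] (F : Subgroup G)
    [F.Normal] (hF : Group.IsNilpotent F) (hGF : Group.IsNilpotent (G ⧸ F)) (C : Subgroup G) :
    Cfsg.IsCarterSubgroup C ↔
      ∃ K : Nat.Primes → Subgroup G, Cfsg.IsComplementSystem K ∧ C = Cfsg.systemNormalizer K := by
  have hsolv : Group.IsSolvable G :=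
    (Group.isSolvable_iff_subgroup_quotient F).2 ⟨inferInstance, inferInstance⟩
  have hcarter : ∀ K : Nat.Primes → Subgroup G, Cfsg.IsComplementSystem K →
      Cfsg.IsCarterSubgroup (Cfsg.systemNormalizer K) := fun K hK =>
    ⟨systemNormalizer_isNilpotent hK, normalizer_systemNormalizer_aux _ G F hF hGF K hK rfl⟩
  constructor
  · intro hC
    obtain ⟨K0, hK0⟩ := exists_complementSystem (G := G)
    have hD0 := hcarter K0 hK0
    obtain ⟨g, hg⟩ := (Cfsg.Agent.S0045.result (G := G)).2 (Cfsg.systemNormalizer K0) C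
      hD0.1 hD0.2 hC.1 hC.2
    refine ⟨fun p => MulAut.conj g • K0 p, cs_conj hK0 g, ?_⟩
    rw [systemNormalizer_conj, hg]
  · rintro ⟨K, hK, rfl⟩
    exact hcarter K hK

end Cfsg.Agent.Helper9
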