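import Cfsg.Agent.Helper9.SystemNormalizer2
import Cfsg.Agent.S0043
import Cfsg.Agent.Lib.Hall

set_option autoImplicit false

namespace Cfsg.Agent.Helper9

open Subgroup Pointwise

/-- The conjugation action of a subgroup `K ≤ N(Q)` on `Q` (light copy). -/
@[reducible] def conjMulAction2 {G : Type*} [Group G] (K Q : Subgroup G)
    (hKQ : K ≤ normalizer (Q : Set G)) : MulAction K Q where
  smul k y := ⟨k * y * k⁻¹, (mem_normalizer_iff.mp (hKQ k.2) y).mp y.2⟩
  one_smul y := by
    apply Subtype.ext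
    change ((1 : K) : G) * y * ((1 : K) : G)⁻¹ = y
    simp
  mul_smul k l y := by
    apply Subtype.ext
    change ((k * l : K) : G) * y * ((k * l : K) : G)⁻¹ = k * (l * y * (l : G)⁻¹) * (k : G)⁻¹
    simp [mul_assoc]

/-- Fixed point congruence for a `q`-group `K` normalizing `Q`. -/
theorem card_modEq_card_inf_centralizer2 {G : Type*} [Group G] [Finite G] (q : ℕ) [Fact q.Prime]
    (K Q : Subgroup G) (hK : IsPGroup q K) (hKQ : K ≤ normalizer (Q : Set G)) :
    Nat.card Q ≡ Nat.card (Q ⊓ centralizer (K : Set G) : Subgroup G) [MOD q] := by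
  letI := conjMulAction2 K Q hKQ
  have h1 := hK.card_modEq_card_fixedPoints (α := Q)
  have hsmul : ∀ (k : K) (y : Q), ((k • y : Q) : G) = k * y * (k : G)⁻¹ := fun k y => rfl
  have e : MulAction.fixedPoints K Q ≃ (Q ⊓ centralizer (K : Set G) : Subgroup G) :=
    { toFun := fun y => ⟨y.1.1, ⟨y.1.2, fun k hk => by
        have := congrArg Subtype.val (y.2 ⟨k, hk⟩)
        rw [hsmul] at this
        simp only at this
        calc k * (y.1 : G) = (k * (y.1 : G) * k⁻¹) * k := by group
          _ = (y.1 : G) * k := by rw [this]⟩⟩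
      invFun := fun y => ⟨⟨y.1, y.2.1⟩, fun k => by
        apply Subtype.ext
        rw [hsmul]
        have := y.2.2 k.1 k.2
        simp only
        rw [this]
        simp⟩
      left_inv := fun y => rfl
      right_inv := fun y => rfl }
  rw [Nat.card_congr e] at h1
  exact h1

/-- A `p`-subgroup normalizing a nontrivial `p`-subgroup `B` has nontrivial fixed points on `B`. -/
theorem inf_centralizer_ne_bot_of_isPGroup {G : Type*} [Group G] [Finite G] (p : ℕ) [Fact p.Prime]
    (P B : Subgroup G) (hP : IsPGroup p P) (hB : IsPGroup p B) (hBne : B ≠ ⊥)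
    (hPB : P ≤ normalizer (B : Set G)) : B ⊓ centralizer (P : Set G) ≠ ⊥ := by
  have hp : p.Prime := Fact.out
  intro h
  have h1 := card_modEq_card_inf_centralizer2 p P B hP hPB
  rw [h, Subgroup.card_bot] at h1
  rcases hB.card_eq_or_dvd with h2 | h2
  · exact hBne (Subgroup.card_eq_one.mp h2)
  · have h3 : Nat.card B % p = 0 := Nat.mod_eq_zero_of_dvd h2
    unfold Nat.ModEq at h1
    rw [h3, Nat.mod_eq_of_lt hp.one_lt] at h1
    omega

/-- An element commuting with two subgroups commutes with their join. -/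
theorem mem_centralizer_of_le_sup {G : Type*} [Group G] (x : G) (H K R : Subgroup G)
    (hH : ∀ h ∈ H, h * x = x * h) (hK : ∀ k ∈ K, k * x = x * k) (hR : R ≤ H ⊔ K) :
    x ∈ centralizer (R : Set G) := by
  rw [mem_centralizer_iff]
  intro y hy
  have h1 : H ≤ centralizer ({x} : Set G) := fun h hh => by
    rw [mem_centralizer_iff]; intro z hz; rw [Set.mem_singleton_iff] at hz; rw [hz]
    exact (hH h hh).symm
  have h2 : K ≤ centralizer ({x} : Set G) := fun k hk => by
    rw [mem_centralizer_iff]; intro z hz; rw [Set.mem_singleton_iff] at hz; rw [hz]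
    exact (hK k hk).symm
  have h3 := (sup_le h1 h2) (hR hy)
  rw [mem_centralizer_iff] at h3
  exact (h3 x rfl).symm

/-- **Avoidance**: a system normalizer meets a non-central minimal normal subgroup trivially. -/
theorem inf_systemNormalizer_eq_bot_of_minimal_normal {G : Type*} [Group G] [Finite G]
    [Group.IsSolvable G] {K : Nat.Primes → Subgroup G} (hK : Cfsg.IsComplementSystem K)
    (B : Subgroup G) [hBn : B.Normal] (hB : B ≠ ⊥)
    (hmin : ∀ M : Subgroup G, M.Normal → M ≤ B → M = ⊥ ∨ M = B)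
    (hnc : ¬ B ≤ center G) : B ⊓ Cfsg.systemNormalizer K = ⊥ := by
  obtain ⟨hBc, p, hp, hBp⟩ := Cfsg.Agent.S0043.result B hB hmin
  have : Fact p.Prime := ⟨hp⟩
  have hBP : IsPGroup p B := fun x => ⟨1, by
    apply Subtype.ext
    have := hBp x.1 x.2
    simpa using this⟩
  -- the centralizer of B
  obtain ⟨C, hC⟩ : ∃ C : Subgroup G, C = centralizer (B : Set G) := ⟨_, rfl⟩
  have hCn : C.Normal := hC ▸ Subgroup.normal_centralizer
  have hCmem : ∀ y, y ∈ C ↔ ∀ b ∈ B, b * y = y * b := by
    intro y; rw [hC, mem_centralizer_iff]; rfl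
  have hCtop : C ≠ ⊤ := by
    intro h
    apply hnc
    intro b hb
    rw [Subgroup.mem_center_iff]
    intro g
    have : g ∈ C := h ▸ Subgroup.mem_top g
    exact ((hCmem g).mp this b hb).symm
  have hnt : Nontrivial (G ⧸ C) := by
    by_contra hcon
    rw [not_nontrivial_iff_subsingleton] at hcon
    exact hCtop (QuotientGroup.subgroup_eq_top_of_subsingleton C hcon)
  obtain ⟨R', hR'n, hR'ne, hR'min⟩ := Cfsg.Agent.Lib.exists_minimal_normal (G := G ⧸ C)
  obtain ⟨-, r, hr, hR'r⟩ := Cfsg.Agent.S0043.result R' hR'ne hR'min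
  have : Fact r.Prime := ⟨hr⟩
  have hR'P : IsPGroup r R' := fun x => ⟨1, by
    apply Subtype.ext
    have := hR'r x.1 x.2
    simpa using this⟩
  obtain ⟨R, hR⟩ : ∃ R : Subgroup G, R = R'.comap (QuotientGroup.mk' C) := ⟨_, rfl⟩
  have hRn : R.Normal := hR ▸ hR'n.comap _
  have hCR : C ≤ R := by
    rw [hR]
    intro y hy
    rw [Subgroup.mem_comap]
    have : (QuotientGroup.mk' C) y = 1 := by
      rw [QuotientGroup.mk'_apply, QuotientGroup.eq_one_iff]; exact hy
    rw [this]; exact R'.one_mem
  have hRC : ¬ R ≤ C := by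
    intro h
    apply hR'ne
    rw [eq_bot_iff]
    intro y' hy'
    obtain ⟨y, rfl⟩ := QuotientGroup.mk'_surjective C y'
    have hyR : y ∈ R := by rw [hR, Subgroup.mem_comap]; exact hy'
    have hyC := h hyR
    rw [Subgroup.mem_bot, QuotientGroup.mk'_apply, QuotientGroup.eq_one_iff]
    exact hyC
  have hRmap : R.map (QuotientGroup.mk' C) = R' := by
    rw [hR]; exact Subgroup.map_comap_eq_self_of_surjective (QuotientGroup.mk'_surjective C) R'
  -- B ∩ C(R) is trivial
  have hB0 : B ⊓ centralizer (R : Set G) = ⊥ := by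
    have hn : (B ⊓ centralizer (R : Set G)).Normal := inferInstance
    rcases hmin _ hn inf_le_left with h | h
    · exact h
    · exfalso
      apply hRC
      intro y hy
      rw [hCmem]
      intro b hb
      have hb' : b ∈ B ⊓ centralizer (R : Set G) := by rw [h]; exact hb
      have : b ∈ centralizer (R : Set G) := hb'.2
      rw [mem_centralizer_iff] at this
      exact (this y hy).symm
  have hcomm_C : ∀ x ∈ B, ∀ c ∈ C, c * x = x * c := by
    intro x hx c hc
    exact ((hCmem c).mp hc x hx).symm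
  -- r ≠ p
  have hrp : r ≠ p := by
    intro hrp
    subst hrp
    obtain ⟨P⟩ : Nonempty (Sylow r R) := inferInstance
    obtain ⟨P', hP'⟩ : ∃ P' : Subgroup G, P' = (P : Subgroup R).map R.subtype := ⟨_, rfl⟩
    have hP'P : IsPGroup r P' := hP' ▸ P.2.map _
    have hP'R : P' ≤ R := by
      rw [hP']; rintro _ ⟨y, _, rfl⟩; exact y.2
    -- R ≤ P' ⊔ C
    have hJ : R ≤ P' ⊔ C := by
      rw [← Subgroup.relIndex_eq_one]
      have h1 : (P' ⊔ C).relIndex R ∣ P'.relIndex R :=
        Subgroup.relIndex_dvd_of_le_left R le_sup_left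
      have h2 : (P' ⊔ C).relIndex R ∣ C.relIndex R :=
        Subgroup.relIndex_dvd_of_le_left R le_sup_right
      have h3 : P'.relIndex R = (P : Subgroup R).index := by
        rw [Subgroup.relIndex, hP']
        congr 1
        exact Subgroup.comap_map_eq_self_of_injective R.subtype_injective _
      have h4 : C.relIndex R = Nat.card R' := by
        have h5 := Subgroup.relIndex_ker (K := R) (QuotientGroup.mk' C)
        rw [QuotientGroup.ker_mk', hRmap] at h5
        exact h5
      obtain ⟨k, hk⟩ := hR'P.exists_card_eq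
      rw [h3] at h1
      rw [h4, hk] at h2
      have hcop : Nat.Coprime ((P : Subgroup R).index) (r ^ k) :=
        Nat.Coprime.pow_right _
          ((Nat.Prime.coprime_iff_not_dvd hp).mpr P.not_dvd_index).symm
      exact Nat.eq_one_of_dvd_coprimes hcop h1 h2
    have hne := inf_centralizer_ne_bot_of_isPGroup r P' B hP'P hBP hB
      (fun y _ => by rw [Subgroup.normalizer_eq_top_iff.mpr hBn]; exact Subgroup.mem_top y)
    obtain ⟨⟨x, hx⟩, hx1⟩ := (Subgroup.ne_bot_iff_exists_ne_one).mp hne
    have hx1' : x ≠ 1 := fun h => hx1 (Subtype.ext h)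
    have hxP : ∀ y ∈ P', y * x = x * y := by
      intro y hy
      have : x ∈ centralizer (P' : Set G) := hx.2
      rw [mem_centralizer_iff] at this
      exact this y hy
    have hxR : x ∈ centralizer (R : Set G) :=
      mem_centralizer_of_le_sup x P' C R hxP (hcomm_C x hx.1) hJ
    have : x ∈ B ⊓ centralizer (R : Set G) := ⟨hx.1, hxR⟩
    rw [hB0, Subgroup.mem_bot] at this
    exact hx1' this
  -- R ≤ K_p ⊔ C
  obtain ⟨Kp, hKp⟩ : ∃ Kp : Subgroup G, Kp = K ⟨p, hp⟩ := ⟨_, rfl⟩
  have hKpidx : Kp.index = p ^ (Nat.card G).factorization p := by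
    rw [hKp]; exact hK ⟨p, hp⟩
  have hKpcard : ¬ p ∣ Nat.card Kp := by
    rw [hKp]; exact cs_not_dvd_card hK ⟨p, hp⟩
  have hRK : R ≤ Kp ⊔ C := by
    have h1 : (Kp.map (QuotientGroup.mk' C)).relIndex R' ∣ (Kp.map (QuotientGroup.mk' C)).index :=
      relIndex_dvd_index_of_normal_right _ R'
    have h2 : (Kp.map (QuotientGroup.mk' C)).index ∣ Kp.index :=
      Subgroup.index_map_dvd Kp (QuotientGroup.mk'_surjective C)
    rw [hKpidx] at h2
    have h3 : (Kp.map (QuotientGroup.mk' C)).relIndex R' ∣ Nat.card R' :=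
      Subgroup.relIndex_dvd_card _ _
    obtain ⟨k, hk⟩ := hR'P.exists_card_eq
    rw [hk] at h3
    have hcop : Nat.Coprime (p ^ (Nat.card G).factorization p) (r ^ k) :=
      Nat.Coprime.pow _ _ ((Nat.coprime_primes hp hr).mpr (Ne.symm hrp))
    have h4 : (Kp.map (QuotientGroup.mk' C)).relIndex R' = 1 :=
      Nat.eq_one_of_dvd_coprimes hcop (h1.trans h2) h3
    have h5 : R' ≤ Kp.map (QuotientGroup.mk' C) := Subgroup.relIndex_eq_one.mp h4
    have h6 := Subgroup.comap_mono (f := QuotientGroup.mk' C) h5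
    rw [Subgroup.comap_map_eq, QuotientGroup.ker_mk', ← hR] at h6
    exact h6
  -- conclusion
  rw [eq_bot_iff]
  intro x hx
  have hxB : x ∈ B := hx.1
  have hxD : x ∈ Cfsg.systemNormalizer K := hx.2
  have hxN : x ∈ normalizer (Kp : Set G) := by
    rw [hKp]; exact systemNormalizer_le_normalizer K ⟨p, hp⟩ hxD
  have hKB : Kp ⊓ B = ⊥ := by
    apply Subgroup.inf_eq_bot_of_coprime
    obtain ⟨k, hk⟩ := hBP.exists_card_eq
    rw [hk]
    exact Nat.Coprime.pow_right _ ((Nat.Prime.coprime_iff_not_dvd hp).mpr hKpcard).symm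
  have hxK : ∀ y ∈ Kp, y * x = x * y := by
    intro y hy
    have h1 : x * y * x⁻¹ ∈ Kp := (mem_normalizer_iff.mp hxN y).mp hy
    have h2 : x * y * x⁻¹ * y⁻¹ ∈ Kp := Kp.mul_mem h1 (Kp.inv_mem hy)
    have h3 : x * y * x⁻¹ * y⁻¹ ∈ B := by
      have : y * x⁻¹ * y⁻¹ ∈ B := hBn.conj_mem _ (B.inv_mem hxB) y
      have h4 : x * (y * x⁻¹ * y⁻¹) ∈ B := B.mul_mem hxB this
      convert h4 using 1; group
    have h5 : x * y * x⁻¹ * y⁻¹ ∈ Kp ⊓ B := ⟨h2, h3⟩
    rw [hKB, Subgroup.mem_bot] at h5
    calc y * x = (x * y * x⁻¹ * y⁻¹)⁻¹ * (x * y) := by group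
      _ = x * y := by rw [h5]; simp
  have hxR : x ∈ centralizer (R : Set G) :=
    mem_centralizer_of_le_sup x Kp C R hxK (hcomm_C x hxB) hRK
  have : x ∈ B ⊓ centralizer (R : Set G) := ⟨hxB, hxR⟩
  rw [hB0] at this
  exact this

open scoped commutatorElement in
/-- **Covering and avoidance** of chief factors by a system normalizer. -/
theorem systemNormalizer_cover_avoid {G : Type*} [Group G] [Finite G] [Group.IsSolvable G]
    (K : Nat.Primes → Subgroup G) (hK : Cfsg.IsComplementSystem K) (A B : Subgroup G)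
    [hAn : A.Normal] [hBn : B.Normal] (hAB : A < B)
    (hchief : ∀ N : Subgroup G, N.Normal → A ≤ N → N ≤ B → N = A ∨ N = B) :
    (⁅B, (⊤ : Subgroup G)⁆ ≤ A → B ≤ A ⊔ Cfsg.systemNormalizer K) ∧
    (¬ ⁅B, (⊤ : Subgroup G)⁆ ≤ A → B ⊓ Cfsg.systemNormalizer K ≤ A) := by
  have hKbar := cs_map_mk' hK A
  have hDbar := systemNormalizer_map_mk' hK A
  have hsurj := QuotientGroup.mk'_surjective A
  have hker : ∀ x : G, (QuotientGroup.mk' A) x = 1 ↔ x ∈ A := by
    intro x
    rw [QuotientGroup.mk'_apply, QuotientGroup.eq_one_iff]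
  constructor
  · intro hcen b hb
    -- the image of b is central
    have hbc : ∀ y : G ⧸ A, y * (QuotientGroup.mk' A) b = (QuotientGroup.mk' A) b * y := by
      intro y
      obtain ⟨g, rfl⟩ := hsurj y
      have h1 : ⁅b, g⁆ ∈ A := hcen (Subgroup.commutator_mem_commutator hb (Subgroup.mem_top g))
      have h2 : (QuotientGroup.mk' A) ⁅b, g⁆ = 1 := (hker _).mpr h1
      rw [commutatorElement_def, map_mul, map_mul, map_mul, map_inv, map_inv] at h2
      have h3 : (QuotientGroup.mk' A) b * (QuotientGroup.mk' A) g =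
          (QuotientGroup.mk' A) g * (QuotientGroup.mk' A) b := by
        have := congrArg (fun z => z * ((QuotientGroup.mk' A) g * (QuotientGroup.mk' A) b)) h2
        simp only [one_mul] at this
        rw [← this]; group
      exact h3.symm
    have hbD : (QuotientGroup.mk' A) b ∈
        Cfsg.systemNormalizer (fun p => (K p).map (QuotientGroup.mk' A)) := by
      unfold Cfsg.systemNormalizer
      rw [Subgroup.mem_iInf]
      intro q
      rw [mem_normalizer_iff]
      intro y
      have h4 : (QuotientGroup.mk' A) b * y * ((QuotientGroup.mk' A) b)⁻¹ = y := by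
        rw [← hbc y]; group
      rw [h4]
    rw [hDbar] at hbD
    obtain ⟨d, hd, hdb⟩ := hbD
    have h5 : d⁻¹ * b ∈ A := by
      rw [← hker, map_mul, map_inv, hdb]; group
    have h6 : b = d * (d⁻¹ * b) := by group
    rw [h6]
    exact Subgroup.mul_mem _ ((le_sup_right : _ ≤ A ⊔ Cfsg.systemNormalizer K) hd)
      ((le_sup_left : A ≤ A ⊔ Cfsg.systemNormalizer K) h5)
  · intro hncen x hx
    have hBbar_n : (B.map (QuotientGroup.mk' A)).Normal := hBn.map _ hsurj
    have hBbar_ne : B.map (QuotientGroup.mk' A) ≠ ⊥ := by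
      intro h
      obtain ⟨b, hbB, hbA⟩ := SetLike.exists_of_lt hAB
      have : (QuotientGroup.mk' A) b ∈ B.map (QuotientGroup.mk' A) := Subgroup.mem_map_of_mem _ hbB
      rw [h, Subgroup.mem_bot, hker] at this
      exact hbA this
    have hBbar_min : ∀ M : Subgroup (G ⧸ A), M.Normal → M ≤ B.map (QuotientGroup.mk' A) →
        M = ⊥ ∨ M = B.map (QuotientGroup.mk' A) := by
      intro M hM hMB
      have h1 : (M.comap (QuotientGroup.mk' A)).Normal := hM.comap _
      have h2 : A ≤ M.comap (QuotientGroup.mk' A) := by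
        intro a ha
        rw [Subgroup.mem_comap, (hker a).mpr ha]
        exact M.one_mem
      have h3 : M.comap (QuotientGroup.mk' A) ≤ B := by
        have := Subgroup.comap_mono (f := QuotientGroup.mk' A) hMB
        rw [Subgroup.comap_map_eq, QuotientGroup.ker_mk', sup_of_le_left hAB.le] at this
        exact this
      have h4 := Subgroup.map_comap_eq_self_of_surjective hsurj M
      rcases hchief _ h1 h2 h3 with h | h
      · left
        rw [← h4, h, eq_bot_iff]
        rintro _ ⟨a, ha, rfl⟩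
        rw [Subgroup.mem_bot, hker]; exact ha
      · right
        rw [← h4, h]
    have hBbar_nc : ¬ B.map (QuotientGroup.mk' A) ≤ center (G ⧸ A) := by
      intro hc
      apply hncen
      rw [Subgroup.commutator_le]
      intro b hb g _
      rw [← hker, commutatorElement_def, map_mul, map_mul, map_mul, map_inv, map_inv]
      have h1 := hc (Subgroup.mem_map_of_mem (QuotientGroup.mk' A) hb)
      rw [Subgroup.mem_center_iff] at h1
      have h2 := h1 ((QuotientGroup.mk' A) g)
      calc (QuotientGroup.mk' A) b * (QuotientGroup.mk' A) g * ((QuotientGroup.mk' A) b)⁻¹ *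
            ((QuotientGroup.mk' A) g)⁻¹
          = ((QuotientGroup.mk' A) g * (QuotientGroup.mk' A) b) * ((QuotientGroup.mk' A) b)⁻¹ *
            ((QuotientGroup.mk' A) g)⁻¹ := by rw [h2]
        _ = 1 := by group
    have hE := inf_systemNormalizer_eq_bot_of_minimal_normal hKbar (B.map (QuotientGroup.mk' A))
      hBbar_ne hBbar_min hBbar_nc
    have hx' : (QuotientGroup.mk' A) x ∈ B.map (QuotientGroup.mk' A) ⊓
        Cfsg.systemNormalizer (fun p => (K p).map (QuotientGroup.mk' A)) := by
      refine ⟨Subgroup.mem_map_of_mem _ hx.1, ?_⟩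
      rw [hDbar]
      exact Subgroup.mem_map_of_mem _ hx.2
    rw [hE, Subgroup.mem_bot, hker] at hx'
    exact hx'

end Cfsg.Agent.Helper9
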