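import Cfsg.Agent.Helper9.Huppert3
import Cfsg.Agent.Helper9.EigenScalar
import Cfsg.Agent.Helper9.CoverAvoid
import Cfsg.Agent.S4207
import Cfsg.Agent.Helper9.CarterSystem

/-!
Huppert's theorem: a finite group all of whose maximal subgroups have prime index is
supersolvable (helper9).
-/

set_option autoImplicit false

namespace Cfsg.Agent.Helper9

open Subgroup
open Cfsg.Agent.Helper70
open scoped commutatorElement

universe u

/-- Burnside: a `p'`-element acting trivially on the Frattini quotient of a normal `p`-subgroup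
centralizes it. -/
theorem commute_of_frattiniAct_eq_one {G : Type*} [Group G] [Finite G] (p : ℕ) [hp : Fact p.Prime]
    (P : Subgroup G) [hPn : P.Normal] (hP : IsPGroup p P) (c : G) (hc : (orderOf c).Coprime p)
    (h : frattiniAct P c = 1) : ∀ x ∈ P, c * x = x * c := by
  have hpp : p.Prime := hp.out
  obtain ⟨n, hn⟩ := IsPGroup.iff_card.mp hP
  obtain ⟨r, -, hr⟩ : ∃ r, r ≤ n ∧ (frattini ↥P).index = p ^ r := by
    have h1 : (frattini ↥P).index ∣ p ^ n := by
      rw [← hn]; exact Subgroup.index_dvd_card _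
    exact (Nat.dvd_prime_pow hpp).mp h1
  obtain ⟨α, hα⟩ : ∃ α : MulAut ↥P, α = MulAut.conjNormal c := ⟨_, rfl⟩
  have hA : ∀ β ∈ zpowers α, ∀ x : ↥P, β x * x⁻¹ ∈ frattini ↥P := by
    intro β hβ x
    obtain ⟨i, rfl⟩ := Subgroup.mem_zpowers_iff.mp hβ
    have h1 : frattiniAct P (c ^ i) = 1 := by rw [map_zpow, h, one_zpow]
    have h2 : frattiniAct P (c ^ i) ((x : ↥P) : ↥P ⧸ frattini ↥P) = x := by rw [h1]; rfl
    rw [frattiniAct_mk] at h2
    have h3 : (α ^ i) x = ⟨c ^ i * x * (c ^ i)⁻¹, hPn.conj_mem x x.2 (c ^ i)⟩ := by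
      rw [hα, ← map_zpow]
      rfl
    rw [h3, ← QuotientGroup.eq_one_iff, QuotientGroup.mk_mul, QuotientGroup.mk_inv, h2,
      mul_inv_cancel]
  have hcard := Cfsg.Agent.S4207.result hn hr (zpowers α) hA
  rw [Nat.card_zpowers] at hcard
  have h4 : orderOf α ∣ orderOf c := by
    rw [hα]; exact orderOf_map_dvd _ c
  have h5 : orderOf α = 1 := by
    have hcop : (orderOf c).Coprime (p ^ (r * (n - r))) := hc.pow_right _
    exact Nat.eq_one_of_dvd_coprimes hcop h4 hcard
  rw [orderOf_eq_one_iff] at h5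
  intro x hx
  have h6 : α ⟨x, hx⟩ = ⟨x, hx⟩ := by rw [h5]; rfl
  rw [hα] at h6
  have h7 : c * x * c⁻¹ = x := congrArg Subtype.val h6
  calc c * x = (c * x * c⁻¹) * c := by group
    _ = x * c := by rw [h7]

/-- **Huppert**: a finite group all of whose maximal subgroups have prime index is supersolvable. -/
theorem isSupersolvable_of_maxPrimeIndex_aux : ∀ (n : ℕ) (G : Type u) [Group G] [Finite G],
    MaxPrimeIndex G → Nat.card G = n → Cfsg.IsSupersolvable G := by
  intro n
  induction n using Nat.strong_induction_on with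
  | _ n ih =>
  intro G _ _ h hn
  by_cases hsub : Subsingleton G
  · exact isSupersolvable_of_subsingleton
  rw [not_subsingleton_iff_nontrivial] at hsub
  have hcard1 : 1 < Nat.card G := Finite.one_lt_card
  -- the largest prime divisor
  obtain ⟨p, hpmem, hpmax'⟩ := Finset.exists_max_image (Nat.card G).primeFactors id
    (Nat.nonempty_primeFactors.mpr hcard1)
  have hpp : p.Prime := Nat.prime_of_mem_primeFactors hpmem
  have hpdvd : p ∣ Nat.card G := Nat.dvd_of_mem_primeFactors hpmem
  have hpmax : ∀ q : ℕ, q.Prime → q ∣ Nat.card G → q ≤ p := by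
    intro q hq hqd
    exact hpmax' q (Nat.mem_primeFactors.mpr ⟨hq, hqd, Nat.card_pos.ne'⟩)
  haveI hpf : Fact p.Prime := ⟨hpp⟩
  obtain ⟨P⟩ : Nonempty (Sylow p G) := inferInstance
  haveI hPn : (P : Subgroup G).Normal := h.sylow_normal p hpmax P
  have hPne : (P : Subgroup G) ≠ ⊥ := P.ne_bot_of_dvd_card hpdvd
  have hPp : IsPGroup p (P : Subgroup G) := P.2
  obtain ⟨N, hNn, hNne, hNP, hNmin⟩ := exists_minimal_normal_le (P : Subgroup G) hPne
  haveI := hNn
  have hlt : Nat.card (G ⧸ N) < n := by
    rw [← hn, ← N.index_eq_card, ← N.card_mul_index]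
    have h1 : 1 < Nat.card N := (Subgroup.one_lt_card_iff_ne_bot _).mpr hNne
    have h2 : 0 < N.index := Nat.pos_of_ne_zero Subgroup.index_ne_zero_of_finite
    nlinarith
  have hquot : Cfsg.IsSupersolvable (G ⧸ N) := ih _ hlt (G ⧸ N) (h.quotient N) rfl
  suffices hcardN : Nat.card N = p by
    haveI : IsCyclic N := isCyclic_of_prime_card (hp := ⟨hpp⟩) hcardN
    exact isSupersolvable_of_cyclic_normal N hquot
  -- a complement `K` of `P`
  obtain ⟨K, hK⟩ := Subgroup.exists_right_complement'_of_coprime P.card_coprime_index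
  have hKP : K ⊔ (P : Subgroup G) = ⊤ := by rw [sup_comm]; exact hK.sup_eq_top
  have hKcop : (Nat.card K).Coprime p := by
    have h1 := hK.card_mul
    have h2 := (P : Subgroup G).card_mul_index
    have h3 : Nat.card K = (P : Subgroup G).index := by
      have hpos : 0 < Nat.card (P : Subgroup G) := Nat.card_pos
      apply Nat.eq_of_mul_eq_mul_left hpos
      rw [h1, h2]
    rw [h3]
    exact (Nat.Prime.coprime_iff_not_dvd hpp).mpr P.not_dvd_index |>.symm
  have hKord : ∀ c ∈ K, (orderOf c).Coprime p := by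
    intro c hc
    have h1 : orderOf c ∣ Nat.card K := by
      have := orderOf_dvd_natCard (⟨c, hc⟩ : K)
      rwa [Subgroup.orderOf_mk] at this
    exact Nat.Coprime.coprime_dvd_left h1 hKcop
  -- `P` centralizes `N`
  have hNp : IsPGroup p N := hPp.to_le hNP
  have hNcent : N ≤ centralizer ((P : Subgroup G) : Set G) := by
    have hPN : (P : Subgroup G) ≤ normalizer (N : Set G) := by
      rw [Subgroup.normalizer_eq_top_iff.mpr hNn]; exact le_top
    have hne := inf_centralizer_ne_bot_of_isPGroup p (P : Subgroup G) N hPp hNp hNne hPN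
    have hZn : (N ⊓ centralizer ((P : Subgroup G) : Set G)).Normal := inferInstance
    rcases hNmin _ hZn inf_le_left with h1 | h1
    · exact absurd h1 hne
    · exact inf_eq_left.mp h1
  have hPN_comm : ∀ y ∈ (P : Subgroup G), ∀ x ∈ N, y * x = x * y := by
    intro y hy x hx
    exact (Subgroup.mem_centralizer_iff.mp (hNcent hx)) y hy
  have hcommN : ∀ a b : N, a * b = b * a := by
    intro a b
    apply Subtype.ext
    exact hPN_comm a (hNP a.2) b b.2
  -- `N` has exponent `p`
  have hexpN : ∀ v : N, v ^ p = 1 := by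
    let Ω : Subgroup G :=
      { carrier := {y | y ∈ N ∧ y ^ p = 1}
        one_mem' := ⟨N.one_mem, one_pow p⟩
        mul_mem' := by
          rintro a b ⟨ha, hap⟩ ⟨hb, hbp⟩
          refine ⟨N.mul_mem ha hb, ?_⟩
          have hc : Commute a b := hPN_comm a (hNP ha) b hb
          rw [hc.mul_pow, hap, hbp, one_mul]
        inv_mem' := by
          rintro a ⟨ha, hap⟩
          exact ⟨N.inv_mem ha, by rw [inv_pow, hap, inv_one]⟩ }
    have hΩn : Ω.Normal := by
      refine ⟨fun y hy g => ?_⟩
      obtain ⟨hyN, hyp⟩ := hy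
      exact ⟨hNn.conj_mem y hyN g, by rw [conj_pow, hyp, mul_one, mul_inv_cancel]⟩
    have hΩN : Ω ≤ N := fun y hy => hy.1
    have hΩne : Ω ≠ ⊥ := by
      have hdvd : p ∣ Nat.card N := by
        obtain ⟨k, hk⟩ := IsPGroup.iff_card.mp hNp
        have hk0 : k ≠ 0 := by
          intro h0
          rw [h0, pow_zero] at hk
          exact hNne (Subgroup.card_eq_one.mp hk)
        rw [hk]; exact dvd_pow_self p hk0
      obtain ⟨y, hy⟩ := exists_prime_orderOf_dvd_card' (G := N) p hdvd
      intro hbot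
      have hyΩ : (y : G) ∈ Ω := by
        refine ⟨y.2, ?_⟩
        have := pow_orderOf_eq_one y
        rw [hy] at this
        exact congrArg Subtype.val this
      rw [hbot, Subgroup.mem_bot] at hyΩ
      have : y = 1 := Subtype.ext hyΩ
      rw [this, orderOf_one] at hy
      exact hpp.one_lt.ne hy
    rcases hNmin Ω hΩn hΩN with h1 | h1
    · exact absurd h1 hΩne
    · intro v
      have : (v : G) ∈ Ω := by rw [h1]; exact v.2
      exact Subtype.ext this.2
  -- elements of `K` whose action on all chief factors of order `p` is trivial centralize `N`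
  have hcentral : ∀ c ∈ K, (∀ P₁ : Subgroup G, P₁.Normal → P₁ ≤ (P : Subgroup G) →
      P₁.relIndex (P : Subgroup G) = p → ∀ x ∈ (P : Subgroup G), c * x * c⁻¹ * x⁻¹ ∈ P₁) →
      (MulAut.conjNormal c : MulAut N) = 1 := by
    intro c hcK hc
    have h1 := h.frattiniAct_eq_one p (P : Subgroup G) K hPp hKcop hKP c hc
    have h2 := commute_of_frattiniAct_eq_one p (P : Subgroup G) hPp c (hKord c hcK) h1
    ext y
    have h3 := h2 (y : G) (hNP y.2)
    rw [MulAut.one_apply]
    show c * (y : G) * c⁻¹ = (y : G)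
    rw [h3, mul_inv_cancel_right]
  haveI : Nontrivial N := (Subgroup.nontrivial_iff_ne_bot N).mpr hNne
  apply card_eq_prime_of_irreducible_of_exponent hcommN hexpN
    {φ : MulAut N | ∃ k ∈ K, φ = MulAut.conjNormal k}
  · rintro φ ⟨a, ha, rfl⟩ ψ ⟨b, hb, rfl⟩
    rw [← commutatorElement_eq_one_iff_mul_comm, ← map_commutatorElement]
    apply hcentral _ (Subgroup.commutator_mem_commutator ha hb |> fun hmem => ?_)
    · intro P₁ hP₁n hP₁P hidx
      haveI := hP₁n
      exact (conj_mul_inv_mem_of_relIndex_prime hpp (P : Subgroup G) P₁ hP₁P hidx a b).1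
    · have hKK : ⁅K, K⁆ ≤ K := Subgroup.commutator_le_self K
      exact hKK hmem
  · rintro φ ⟨a, ha, rfl⟩
    rw [← map_pow]
    apply hcentral _ (K.pow_mem ha _)
    intro P₁ hP₁n hP₁P hidx
    haveI := hP₁n
    exact (conj_mul_inv_mem_of_relIndex_prime hpp (P : Subgroup G) P₁ hP₁P hidx a a).2
  · intro W hW
    have hW'n : (W.map N.subtype).Normal := by
      refine ⟨fun y hy g => ?_⟩
      obtain ⟨y', hy', rfl⟩ := hy
      have hg : g ∈ K ⊔ (P : Subgroup G) := by rw [hKP]; exact Subgroup.mem_top g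
      rw [Subgroup.mem_sup_of_normal_right] at hg
      obtain ⟨k, hk, z, hz, rfl⟩ := hg
      have h1 : z * (y' : G) * z⁻¹ = (y' : G) := by
        rw [hPN_comm z hz y' y'.2, mul_inv_cancel_right]
      have h2 : k * z * N.subtype y' * (k * z)⁻¹ = k * (z * (y' : G) * z⁻¹) * k⁻¹ := by
        simp only [Subgroup.coe_subtype]; group
      rw [h2, h1]
      have h3 := hW (MulAut.conjNormal k) ⟨k, hk, rfl⟩ y' hy'
      exact ⟨_, h3, rfl⟩
    have hW'N : W.map N.subtype ≤ N := by
      rintro y ⟨y', -, rfl⟩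
      exact y'.2
    rcases hNmin _ hW'n hW'N with h1 | h1
    · left
      exact (Subgroup.map_eq_bot_iff_of_injective W N.subtype_injective).mp h1
    · right
      rw [eq_top_iff]
      intro y _
      have : (y : G) ∈ W.map N.subtype := by rw [h1]; exact y.2
      obtain ⟨y', hy', hyy'⟩ := this
      have : y' = y := Subtype.ext hyy'
      rw [← this]; exact hy'

end Cfsg.Agent.Helper9
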