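-- (P9') of helper88's plan for S5165: the even part of the base group of `C_2 ≀ K` is self-centralizing
-- in the alternating group (helper9).
import Cfsg.Agent.Helper88.AltNorm2
import Cfsg.Agent.Helper88.AltCrit2

set_option autoImplicit false
set_option linter.unusedSectionVars false

namespace Cfsg.Agent.Helper9

open Equiv Cfsg.Agent.Helper42 Cfsg.Agent.Helper88 Cfsg.Agent.Helper88.AltM

variable {β ρ : Type*} [Fintype β] [DecidableEq β] [Fintype ρ] [DecidableEq ρ] {p : ℕ} [Fact p.Prime]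

/-- `T (e_y + e_{y'})` moves exactly the points of the blocks `y` and `y'` (one direction). -/
theorem T_pair_moved {y y' : β} (x : Pt β ρ 2)
    (hx : (T (Pi.single y 1 + Pi.single y' 1) : Perm (Pt β ρ 2)) x ≠ x) :
    ∃ b, x = Sum.inl (y, b) ∨ x = Sum.inl (y', b) := by
  rcases x with ⟨y₀, a⟩ | z
  · by_cases h1 : y₀ = y
    · exact ⟨a, Or.inl (by rw [h1])⟩
    · by_cases h2 : y₀ = y'
      · exact ⟨a, Or.inr (by rw [h2])⟩
      · exfalso
        apply hx
        rw [T_inl, Pi.add_apply, Pi.single_eq_of_ne h1, Pi.single_eq_of_ne h2, add_zero, add_zero]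
  · exact absurd (T_inr _ z) hx

theorem T_pair_moves {y y' : β} (hyy : y ≠ y') (a : ZMod 2) :
    (T (Pi.single y 1 + Pi.single y' 1) : Perm (Pt β ρ 2)) (Sum.inl (y, a)) ≠ Sum.inl (y, a) := by
  rw [T_inl, Pi.add_apply, Pi.single_eq_same, Pi.single_eq_of_ne hyy, add_zero]
  intro h
  simp only [Sum.inl.injEq, Prod.mk.injEq, true_and] at h
  exact zmod2_add_one_ne a h

/-- An element centralizing the even part of the base group preserves every block. -/
theorem block_of_centralizer_Bev (hβ : 3 ≤ Fintype.card β) (c : Perm (Pt β ρ 2))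
    (hc : c ∈ Subgroup.centralizer ((Bs β ρ 2 ⊓ alternatingGroup (Pt β ρ 2) :
      Subgroup (Perm (Pt β ρ 2))) : Set (Perm (Pt β ρ 2)))) (y : β) (a : ZMod 2) :
    ∃ b, c (Sum.inl (y, a)) = Sum.inl (y, b) := by
  have h3 : 2 < Fintype.card β := hβ
  -- two further blocks
  obtain ⟨y', y'', hy', hy'', hyy⟩ : ∃ y' y'' : β, y ≠ y' ∧ y ≠ y'' ∧ y' ≠ y'' := by
    obtain ⟨ya, yb, yc, hab, hac, hbc⟩ := Fintype.two_lt_card_iff.mp h3
    by_cases h1 : y = ya
    · exact ⟨yb, yc, h1 ▸ hab, h1 ▸ hac, hbc⟩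
    · by_cases h2 : y = yb
      · exact ⟨ya, yc, h1, h2 ▸ hbc, hac⟩
      · exact ⟨ya, yb, h1, h2, hab⟩
  have hmem : ∀ y₁ : β, (T (Pi.single y 1 + Pi.single y₁ 1) : Perm (Pt β ρ 2)) ∈
      (Bs β ρ 2 ⊓ alternatingGroup (Pt β ρ 2) : Subgroup (Perm (Pt β ρ 2))) :=
    fun y₁ => ⟨T_mem_Bs _, (T_pair_mem (ρ := ρ) (⊤ : Subgroup (Perm β)) y y₁).2⟩
  have hmoved : ∀ y₁ : β, y ≠ y₁ →
      (T (Pi.single y 1 + Pi.single y₁ 1) : Perm (Pt β ρ 2)) (c (Sum.inl (y, a))) ≠ c (Sum.inl (y, a)) := by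
    intro y₁ hy₁ h
    have hcomm := Subgroup.mem_centralizer_iff.mp hc _ (hmem y₁)
    have h1 : (T (Pi.single y 1 + Pi.single y₁ 1) * c : Perm (Pt β ρ 2)) (Sum.inl (y, a)) =
        (c * T (Pi.single y 1 + Pi.single y₁ 1) : Perm (Pt β ρ 2)) (Sum.inl (y, a)) := by rw [hcomm]
    rw [Perm.mul_apply, Perm.mul_apply, h] at h1
    exact T_pair_moves hy₁ a (c.injective h1).symm
  obtain ⟨b₁, hb₁⟩ := T_pair_moved _ (hmoved y' hy')
  obtain ⟨b₂, hb₂⟩ := T_pair_moved _ (hmoved y'' hy'')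
  rcases hb₁ with h | h
  · exact ⟨b₁, h⟩
  · rcases hb₂ with h' | h'
    · exact ⟨b₂, h'⟩
    · exfalso
      rw [h] at h'
      simp only [Sum.inl.injEq, Prod.mk.injEq] at h'
      exact hyy h'.1

/-- (P9') The even part of the base group of `C_2 ≀ K` contains its centralizer in the alternating group. -/
theorem centralizer_Bev_le [Subsingleton ρ] (hβ : 3 ≤ Fintype.card β) (c : Perm (Pt β ρ 2))
    (hcA : c ∈ alternatingGroup (Pt β ρ 2))
    (hc : c ∈ Subgroup.centralizer ((Bs β ρ 2 ⊓ alternatingGroup (Pt β ρ 2) :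
      Subgroup (Perm (Pt β ρ 2))) : Set (Perm (Pt β ρ 2)))) :
    c ∈ Bs β ρ 2 ⊓ alternatingGroup (Pt β ρ 2) := by
  refine ⟨?_, hcA⟩
  have hblk := block_of_centralizer_Bev hβ c hc
  choose b hb using hblk
  have hb01 : ∀ y, b y 1 = b y 0 + 1 := by
    intro y
    rcases zmod2_eq_or (b y 0) (b y 1) with h | h
    · exfalso
      have h1 : c (Sum.inl (y, 1)) = c (Sum.inl (y, 0)) := by rw [hb, hb, h]
      have := c.injective h1
      simp only [Sum.inl.injEq, Prod.mk.injEq, true_and] at this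
      exact absurd this (by decide)
    · exact h
  have hform : ∀ y a, c (Sum.inl (y, a)) = Sum.inl (y, a + b y 0) := by
    intro y a
    rcases zmod2_cases a with rfl | rfl
    · rw [hb, zero_add]
    · rw [hb, hb01, add_comm]
  have hinr : ∀ z : ρ, c (Sum.inr z) = Sum.inr z := by
    intro z
    rcases hx : c (Sum.inr z) with ⟨y', b'⟩ | z'
    · exfalso
      have h1 : c (Sum.inl (y', b' - b y' 0)) = c (Sum.inr z) := by
        rw [hform, hx, sub_add_cancel]
      have := c.injective h1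
      simp at this
    · rw [Subsingleton.elim z' z]
  apply mem_Bs.mpr
  refine ⟨fun y => b y 0, ?_⟩
  ext x
  rcases x with ⟨y, a⟩ | z
  · rw [hform, T_inl]
  · rw [hinr, T_inr]

end Cfsg.Agent.Helper9
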