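-- (P4) of helper88's plan for S5165: for `p = 2`, the normalizer in the alternating group of the even part of
-- `C_2 ≀ K` is generated by elements of local origin (helper9).
import Cfsg.Agent.Helper9.AltCen

set_option autoImplicit false
set_option linter.unusedSectionVars false

namespace Cfsg.Agent.Helper9

open Equiv Cfsg.Agent.Helper42 Cfsg.Agent.Helper88 Cfsg.Agent.Helper88.AltM

variable {β ρ : Type*} [Fintype β] [DecidableEq β] [Fintype ρ] [DecidableEq ρ] {p : ℕ} [Fact p.Prime]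

/-- the even part of the base group -/
abbrev Bev (β ρ : Type*) [Fintype β] [DecidableEq β] [Fintype ρ] [DecidableEq ρ] :
    Subgroup (Perm (Pt β ρ 2)) := Bs β ρ 2 ⊓ alternatingGroup (Pt β ρ 2)

theorem Bev_le_Sev (K : Subgroup (Perm β)) : Bev β ρ ≤ Sev ρ K :=
  inf_le_inf_right _ (Bs_le_Ss K)

theorem sign_L_two (σ : Perm β) : Perm.sign (L σ : Perm (Pt β ρ 2)) = 1 := by
  rw [sign_L]
  rcases Int.units_eq_one_or (Perm.sign σ) with h | h <;> rw [h] <;> rfl

theorem L_mem_alt (σ : Perm β) : (L σ : Perm (Pt β ρ 2)) ∈ alternatingGroup (Pt β ρ 2) :=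
  Perm.mem_alternatingGroup.mpr (sign_L_two σ)

theorem L_mem_normalizer_Bev (σ : Perm β) :
    (L σ : Perm (Pt β ρ 2)) ∈ Subgroup.normalizer ((Bev β ρ : Subgroup (Perm (Pt β ρ 2))) : Set (Perm (Pt β ρ 2))) := by
  apply Subgroup.mem_normalizer_fintype
  rintro s ⟨hs1, hs2⟩
  refine ⟨?_, (alternatingGroup.normal (α := Pt β ρ 2)).conj_mem s hs2 _⟩
  obtain ⟨f, rfl⟩ := mem_Bs.mp hs1
  rw [L_T_conj]
  exact T_mem_Bs _

theorem T_mem_normalizer_Bev (f : β → ZMod 2) :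
    (T f : Perm (Pt β ρ 2)) ∈ Subgroup.normalizer ((Bev β ρ : Subgroup (Perm (Pt β ρ 2))) : Set (Perm (Pt β ρ 2))) := by
  apply Subgroup.mem_normalizer_fintype
  rintro s ⟨hs1, hs2⟩
  refine ⟨?_, (alternatingGroup.normal (α := Pt β ρ 2)).conj_mem s hs2 _⟩
  obtain ⟨f', rfl⟩ := mem_Bs.mp hs1
  rw [← T_add, ← T_sub]
  exact T_mem_Bs _

/-- block transpositions are of local origin -/
theorem L_swap_mem_ANc (K : Subgroup (Perm β)) {y y' : β} (hyy : y ≠ y') (hsw : Equiv.swap y y' ∈ K)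
    {a b : β} (hab : a ≠ b) :
    (L (Equiv.swap a b) : Perm (Pt β ρ 2)) ∈ ANc (alternatingGroup (Pt β ρ 2)) (Sev ρ K) (Bev β ρ) := by
  -- a permutation with `π y = a`, `π y' = b`
  obtain ⟨π, hπ1, hπ2⟩ : ∃ π : Perm β, π y = a ∧ π y' = b := by
    refine ⟨Equiv.swap (Equiv.swap y a y') b * Equiv.swap y a, ?_, ?_⟩
    · rw [Perm.mul_apply, Equiv.swap_apply_left, Equiv.swap_apply_of_ne_of_ne ?_ hab]
      intro h
      have h1 : Equiv.swap y a (Equiv.swap y a y') = Equiv.swap y a a := by rw [← h]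
      rw [Equiv.swap_apply_self, Equiv.swap_apply_right] at h1
      exact hyy h1.symm
    · rw [Perm.mul_apply, Equiv.swap_apply_left]
  refine ⟨L π, L_mem_alt π, L_mem_normalizer_Bev π, L (Equiv.swap y y'),
    ⟨L_mem_Ss hsw, L_mem_alt _⟩, L_mem_normalizer_Bev _, ?_⟩
  rw [← map_inv, ← map_mul, ← map_mul]
  congr 1
  rw [← hπ1, ← hπ2, Equiv.swap_apply_apply]

/-- every block permutation is a product of elements of local origin -/
theorem L_mem_closure_ANc (K : Subgroup (Perm β)) {y y' : β} (hyy : y ≠ y') (hsw : Equiv.swap y y' ∈ K)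
    (τ : Perm β) :
    (L τ : Perm (Pt β ρ 2)) ∈
      Subgroup.closure (ANc (alternatingGroup (Pt β ρ 2)) (Sev ρ K) (Bev β ρ)) := by
  have hle : Subgroup.closure {σ : Perm β | σ.IsSwap} ≤
      (Subgroup.closure (ANc (alternatingGroup (Pt β ρ 2)) (Sev ρ K) (Bev β ρ))).comap
        (L : Perm β →* Perm (Pt β ρ 2)) := by
    rw [Subgroup.closure_le]
    rintro σ ⟨a, b, hab, rfl⟩
    exact Subgroup.subset_closure (L_swap_mem_ANc K hyy hsw hab)
  have hτ : τ ∈ Subgroup.closure {σ : Perm β | σ.IsSwap} := by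
    rw [Equiv.Perm.closure_isSwap]
    exact Subgroup.mem_top τ
  exact hle hτ

/-- (P4) Elements of the alternating group normalizing the even part of `C_2 ≀ K` are products of elements of local
origin. -/
theorem locGen_two [Subsingleton ρ] (hβ : 3 ≤ Fintype.card β) (K : Subgroup (Perm β))
    (hsw : ∃ y y' : β, y ≠ y' ∧ Equiv.swap y y' ∈ K) (g : Perm (Pt β ρ 2))
    (hgA : g ∈ alternatingGroup (Pt β ρ 2))
    (hgN : g ∈ Subgroup.normalizer ((Sev ρ K : Subgroup (Perm (Pt β ρ 2))) : Set (Perm (Pt β ρ 2)))) :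
    g ∈ Subgroup.closure (ALoc (alternatingGroup (Pt β ρ 2)) (Sev ρ K)) := by
  obtain ⟨y, y', hyy, hsw'⟩ := hsw
  apply Subgroup.subset_closure
  refine ⟨hgA, hgN, Or.inr ⟨Bev β ρ, Bev_le_Sev K, fun c hcA hc => centralizer_Bev_le hβ c hcA hc, ?_⟩⟩
  obtain ⟨f, h, τ, rfl⟩ := decomp g (fun y => conj_tcyc_mem_Bs_of_normalizer_two hβ hgN y)
  have hh : h = 1 := Subsingleton.elim _ _
  rw [hh, map_one, mul_one] at hgA ⊢
  have hTf : (T f : Perm (Pt β ρ 2)) ∈ alternatingGroup (Pt β ρ 2) := by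
    have h1 := Subgroup.mul_mem _ hgA (Subgroup.inv_mem _ (L_mem_alt (ρ := ρ) τ))
    rwa [mul_inv_cancel_right] at h1
  apply Subgroup.mul_mem _ _ (L_mem_closure_ANc K hyy hsw' τ)
  apply Subgroup.subset_closure
  refine ⟨1, Subgroup.one_mem _, Subgroup.one_mem _, T f, ⟨T_mem_Ss K f, hTf⟩, T_mem_normalizer_Bev f, ?_⟩
  rw [one_mul, inv_one, mul_one]

end Cfsg.Agent.Helper9
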