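import Cfsg.Agent.Helper9.Supersolvable3

namespace Cfsg.Agent.Helper9

open Subgroup

universe u v
variable {G : Type u} [Group G]

theorem hasSubgroupOfEveryOrder_of_mulEquiv {G' : Type v} [Group G'] (e : G ≃* G')
    (h : Cfsg.HasSubgroupOfEveryOrder G) : Cfsg.HasSubgroupOfEveryOrder G' := by
  intro d hd
  rw [← Nat.card_congr e.toEquiv] at hd
  obtain ⟨H, hH⟩ := h d hd
  refine ⟨H.map e.toMonoidHom, ?_⟩
  rw [← hH]
  exact Nat.card_congr (Subgroup.equivMapOfInjective H e.toMonoidHom e.injective).symm.toEquiv

/-- Hereditary converse of Lagrange. -/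
def HCLT (G : Type u) [Group G] : Prop := ∀ H : Subgroup G, Cfsg.HasSubgroupOfEveryOrder H

theorem HCLT.self (h : HCLT G) : Cfsg.HasSubgroupOfEveryOrder G :=
  hasSubgroupOfEveryOrder_of_mulEquiv Subgroup.topEquiv (h ⊤)

theorem HCLT.subgroup (h : HCLT G) (M : Subgroup G) : HCLT M := by
  intro H
  exact hasSubgroupOfEveryOrder_of_mulEquiv
    (Subgroup.equivMapOfInjective H M.subtype M.subtype_injective).symm (h (H.map M.subtype))

theorem HCLT.of_mulEquiv {G' : Type v} [Group G'] (e : G ≃* G') (h : HCLT G) : HCLT G' := by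
  intro H
  exact hasSubgroupOfEveryOrder_of_mulEquiv (e.symm.subgroupMap H).symm
    (h (H.map (e.symm : G' →* G)))



theorem HCLT.exists_normal_sylow_largest_aux (n : ℕ) :
    ∀ (G : Type u) [Group G] [Finite G], Nat.card G = n → HCLT G →
    ∀ p : ℕ, p.Prime → p ∣ Nat.card G → (∀ q : ℕ, q.Prime → q ∣ Nat.card G → q ≤ p) →
      ∃ Q : Subgroup G, Q.Normal ∧ IsPGroup p Q ∧ ¬ p ∣ Q.index := by
  induction n using Nat.strong_induction_on with
  | _ n ih =>
    intro G _ _ hn h p hp hpd hmax
    have : Fact p.Prime := ⟨hp⟩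
    have hcard1 : Nat.card G ≠ 1 := by
      intro h1; rw [h1, Nat.dvd_one] at hpd; exact hp.ne_one hpd
    set r := (Nat.card G).minFac with hr
    have hrp : r.Prime := Nat.minFac_prime hcard1
    have hrd : r ∣ Nat.card G := Nat.minFac_dvd _
    have hrle : r ≤ p := hmax r hrp hrd
    by_cases hrp' : r = p
    · -- `G` is a `p`-group
      refine ⟨⊤, inferInstance, ?_, ?_⟩
      · have hG : IsPGroup p G := by
          rw [IsPGroup.iff_card]
          refine ⟨(Nat.card G).primeFactorsList.length, ?_⟩
          apply Nat.eq_prime_pow_of_unique_prime_dvd Nat.card_pos.ne'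
          intro q hq hqd
          have h1 : q ≤ p := hmax q hq hqd
          have h2 : r ≤ q := Nat.minFac_le_of_dvd hq.two_le hqd
          omega
        exact IsPGroup.of_equiv hG (Subgroup.topEquiv).symm
      · rw [Subgroup.index_top]; exact hp.one_lt.ne' ∘ Nat.dvd_one.mp
    · have hrlt : r < p := lt_of_le_of_ne hrle hrp'
      -- a subgroup of index `r`
      obtain ⟨d, hd⟩ := hrd
      obtain ⟨M, hM⟩ := h.self d ⟨r, by rw [hd, mul_comm]⟩
      have hMidx : M.index = r := by
        have := Subgroup.card_mul_index M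
        rw [hM, hd, mul_comm] at this
        have hdpos : 0 < d := by
          rcases Nat.eq_zero_or_pos d with h0 | h0
          · rw [h0, mul_zero] at hd; exact absurd hd Nat.card_pos.ne'
          · exact h0
        exact Nat.eq_of_mul_eq_mul_right hdpos this
      have hMn : M.Normal := Subgroup.normal_of_index_eq_minFac_card hMidx
      have hdlt : d < n := by
        rw [← hn, hd]
        have := hrp.one_lt
        have hdpos : 0 < d := by
          rcases Nat.eq_zero_or_pos d with h0 | h0
          · rw [h0, mul_zero] at hd; exact absurd hd Nat.card_pos.ne'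
          · exact h0
        nlinarith
      have hpM : p ∣ Nat.card M := by
        rw [hM]
        rw [hd] at hpd
        rcases (Nat.Prime.dvd_mul hp).mp hpd with h1 | h1
        · exact absurd ((Nat.prime_dvd_prime_iff_eq hp hrp).mp h1).symm hrp'
        · exact h1
      have hmaxM : ∀ q : ℕ, q.Prime → q ∣ Nat.card M → q ≤ p := by
        intro q hq hqd
        exact hmax q hq (dvd_trans hqd (Subgroup.card_subgroup_dvd_card M))
      obtain ⟨Q, hQn, hQp, hQidx⟩ := ih d hdlt M hM (h.subgroup M) p hp hpM hmaxM
      -- `Q` is the unique Sylow `p`-subgroup of `M`, hence characteristic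
      let QS : Sylow p M := hQp.toSylow hQidx
      have hQS : (QS : Subgroup M) = Q := hQp.toSylow_coe hQidx
      have : (QS : Subgroup M).Normal := hQS ▸ hQn
      have : (QS : Subgroup M).Characteristic := Sylow.characteristic_of_normal QS inferInstance
      have : Q.Characteristic := hQS ▸ (inferInstance : (QS : Subgroup M).Characteristic)
      refine ⟨Q.map M.subtype, inferInstance, ?_, ?_⟩
      · exact hQp.map _
      · rw [Subgroup.index_map_subtype, hMidx]
        intro hdvd
        rcases (Nat.Prime.dvd_mul hp).mp hdvd with h1 | h1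
        · exact hQidx h1
        · exact hrp' ((Nat.prime_dvd_prime_iff_eq hp hrp).mp h1).symm

theorem HCLT.sylow_largest_normal [Finite G] (h : HCLT G) (p : ℕ) [hp : Fact p.Prime]
    (hpd : p ∣ Nat.card G) (hmax : ∀ q : ℕ, q.Prime → q ∣ Nat.card G → q ≤ p) (P : Sylow p G) :
    (P : Subgroup G).Normal := by
  obtain ⟨Q, hQn, hQp, hQidx⟩ :=
    HCLT.exists_normal_sylow_largest_aux (Nat.card G) G rfl h p hp.out hpd hmax
  let QS : Sylow p G := hQp.toSylow hQidx
  have hQS : (QS : Subgroup G) = Q := hQp.toSylow_coe hQidx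
  have : (QS : Subgroup G).Normal := hQS ▸ hQn
  have := Sylow.unique_of_normal QS inferInstance
  have : P = QS := Subsingleton.elim _ _
  rw [this]; infer_instance

end Cfsg.Agent.Helper9
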