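import Cfsg.Agent.Helper95.CNBasic
import Cfsg.Agent.Helper95.FpfNilpotent
import Cfsg.Agent.Helper9.CoverAvoid
import Cfsg.Agent.Lib.Cores
import Cfsg.Agent.Helper1.SZ

/-!
Quotients of CN-groups by solvable normal subgroups are CN-groups (helper9).
-/

set_option autoImplicit false

namespace Cfsg.Agent.Helper9

open Subgroup Pointwise

universe u

/-- A subgroup containing a Sylow `s`-subgroup for every prime `s` is the whole group. -/
theorem eq_top_of_forall_sylow_le {L : Type*} [Group L] [Finite L] (C : Subgroup L)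
    (h : ∀ s : ℕ, ∀ _ : Fact s.Prime, ∃ Q : Sylow s L, (Q : Subgroup L) ≤ C) : C = ⊤ := by
  rw [← Subgroup.index_eq_one]
  by_contra hne
  obtain ⟨s, hs, hdvd⟩ := Nat.exists_prime_and_dvd hne
  have hsf : Fact s.Prime := ⟨hs⟩
  obtain ⟨Q, hQ⟩ := h s hsf
  exact Q.not_dvd_index (dvd_trans hdvd (Subgroup.index_dvd_of_le hQ))

/-- **Coprime lifting**: if `g` centralizes the `s`-element `y` modulo a normal subgroup `H` of
order prime to `s`, then some `h * g` with `h ∈ H` centralizes `y`. -/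
theorem exists_mul_comm_of_coprime {G : Type*} [Group G] [Finite G] (H : Subgroup G) [hHn : H.Normal]
    (s : ℕ) [hs : Fact s.Prime] (hsH : ¬ s ∣ Nat.card H) (y g : G) (k : ℕ) (hy : y ^ s ^ k = 1)
    (hg : g * y * g⁻¹ * y⁻¹ ∈ H) : ∃ h ∈ H, (h * g) * y = y * (h * g) := by
  obtain ⟨T, hT⟩ : ∃ T : Subgroup G, T = zpowers y ⊔ H := ⟨_, rfl⟩
  have hyT : y ∈ T := by rw [hT]; exact Subgroup.mem_sup_left (mem_zpowers y)
  have hHT : H ≤ T := by rw [hT]; exact le_sup_right
  obtain ⟨y', hy'⟩ : ∃ y' : G, y' = g * y * g⁻¹ := ⟨_, rfl⟩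
  have hy'T : y' ∈ T := by
    have : y' = (g * y * g⁻¹ * y⁻¹) * y := by rw [hy']; group
    rw [this]
    exact T.mul_mem (hHT hg) hyT
  have hy'pow : y' ^ s ^ k = 1 := by
    rw [hy', conj_pow, hy]; group
  have hpg : ∀ (w : T), (w : G) ^ s ^ k = 1 → IsPGroup s (zpowers w) := by
    intro w hw
    have h1 : orderOf w ∣ s ^ k := by
      apply orderOf_dvd_of_pow_eq_one
      apply Subtype.ext
      simpa using hw
    obtain ⟨i, -, hi⟩ := (Nat.dvd_prime_pow hs.out).mp h1
    exact IsPGroup.of_card (n := i) (by rw [Nat.card_zpowers, hi])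
  obtain ⟨Q₁, hQ₁⟩ := (hpg ⟨y, hyT⟩ hy).exists_le_sylow
  obtain ⟨Q₂, hQ₂⟩ := (hpg ⟨y', hy'T⟩ hy'pow).exists_le_sylow
  obtain ⟨t, ht⟩ := MulAction.exists_smul_eq T Q₂ Q₁
  have h1 : t * ⟨y', hy'T⟩ * t⁻¹ ∈ (Q₁ : Subgroup T) := by
    rw [← ht, Sylow.coe_subgroup_smul]
    have := Subgroup.smul_mem_pointwise_smul (⟨y', hy'T⟩ : T) (MulAut.conj t) (Q₂ : Subgroup T)
      (hQ₂ (mem_zpowers _))
    simpa [MulAut.smul_def] using this
  have h2 : (⟨y, hyT⟩ : T) ∈ (Q₁ : Subgroup T) := hQ₁ (mem_zpowers _)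
  obtain ⟨u, hu⟩ : ∃ u : T, u = (⟨y, hyT⟩ : T)⁻¹ * (t * ⟨y', hy'T⟩ * t⁻¹) := ⟨_, rfl⟩
  have huQ : u ∈ (Q₁ : Subgroup T) := by
    rw [hu]; exact Subgroup.mul_mem _ (Subgroup.inv_mem _ h2) h1
  -- the image of `u` in `G ⧸ H` is trivial
  have htT : (t : G) ∈ zpowers y ⊔ H := by rw [← hT]; exact t.2
  rw [Subgroup.mem_sup_of_normal_right] at htT
  obtain ⟨a, ha, m, hm, ham⟩ := htT
  have hay : a * y = y * a := by
    obtain ⟨i, rfl⟩ := Subgroup.mem_zpowers_iff.mp ha
    exact ((Commute.refl y).zpow_left i).eq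
  have huH : (u : G) ∈ H := by
    have e1 : (u : G) = y⁻¹ * ((t : G) * y' * (t : G)⁻¹) := by rw [hu]; rfl
    rw [e1, ← ham, ← QuotientGroup.eq_one_iff]
    have q1 : ((m : G) : G ⧸ H) = 1 := (QuotientGroup.eq_one_iff m).mpr hm
    have q2 : ((y' : G) : G ⧸ H) = ((y : G) : G ⧸ H) := by
      have : y' = (g * y * g⁻¹ * y⁻¹) * y := by rw [hy']; group
      rw [this, QuotientGroup.mk_mul, (QuotientGroup.eq_one_iff _).mpr hg, one_mul]
    have q3 : ((a : G) : G ⧸ H) * ((y : G) : G ⧸ H) = ((y : G) : G ⧸ H) * ((a : G) : G ⧸ H) := by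
      rw [← QuotientGroup.mk_mul, ← QuotientGroup.mk_mul, hay]
    simp only [QuotientGroup.mk_mul, QuotientGroup.mk_inv, q1, q2, mul_one, inv_one]
    rw [q3]; group
  have hu1 : u = 1 := by
    obtain ⟨j, hj⟩ := (Q₁.2 ⟨u, huQ⟩)
    have hj' : (u : G) ^ s ^ j = 1 := by
      have := congrArg (fun w : (Q₁ : Subgroup T) => ((w : T) : G)) hj
      simpa using this
    have h3 : orderOf (u : G) ∣ s ^ j := orderOf_dvd_of_pow_eq_one hj'
    have h4 : orderOf (u : G) ∣ Nat.card H := by
      have := orderOf_dvd_natCard (⟨(u : G), huH⟩ : H)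
      rwa [Subgroup.orderOf_mk] at this
    have hcop : (s ^ j).Coprime (Nat.card H) :=
      Nat.Coprime.pow_left _ ((Nat.Prime.coprime_iff_not_dvd hs.out).mpr hsH)
    have h5 : orderOf (u : G) = 1 := Nat.eq_one_of_dvd_coprimes hcop h3 h4
    apply Subtype.ext
    exact orderOf_eq_one_iff.mp h5
  -- conclude
  have h6 : (t : G) * y' * (t : G)⁻¹ = y := by
    have e1 : (u : G) = y⁻¹ * ((t : G) * y' * (t : G)⁻¹) := by rw [hu]; rfl
    rw [hu1] at e1
    have e2 : y * ((1 : T) : G) = y * (y⁻¹ * ((t : G) * y' * (t : G)⁻¹)) := by rw [e1]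
    simpa using e2.symm
  refine ⟨m, hm, ?_⟩
  have h7 : ((t : G) * g) * y = y * ((t : G) * g) := by
    have : (t : G) * g * y = ((t : G) * y' * (t : G)⁻¹) * ((t : G) * g) := by rw [hy']; group
    rw [this, h6]
  have h8 : m * g = a⁻¹ * ((t : G) * g) := by rw [← ham]; group
  have hay' : a⁻¹ * y = y * a⁻¹ := by
    have : a⁻¹ * y = a⁻¹ * (y * a) * a⁻¹ := by group
    rw [this, ← hay]; group
  rw [h8, mul_assoc, h7, ← mul_assoc, hay', mul_assoc]

/-- A CN-group with a nontrivial normal `p`-subgroup `H` such that some `x ∉ H` with `x ^ p ∈ H`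
is central modulo `H` is nilpotent. -/
theorem isNilpotent_of_cn_of_central_mod {G : Type*} [Group G] [Finite G]
    (hCN : Cfsg.IsCNGroup G) (H : Subgroup G) [hHn : H.Normal] (p : ℕ) [hp : Fact p.Prime]
    (hHp : IsPGroup p H) (hHne : H ≠ ⊥) (x : G) (hxH : x ∉ H) (hxp : x ^ p ∈ H)
    (hcent : ∀ g : G, g * x * g⁻¹ * x⁻¹ ∈ H) : Group.IsNilpotent G := by
  have hpp : p.Prime := hp.out
  obtain ⟨a, hcardH⟩ := IsPGroup.iff_card.mp hHp
  -- the centre of `H`, as a subgroup of `G`
  obtain ⟨Z, hZ⟩ : ∃ Z : Subgroup G, Z = H ⊓ centralizer (H : Set G) := ⟨_, rfl⟩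
  have hZn : Z.Normal := by rw [hZ]; infer_instance
  have hZp : IsPGroup p Z := hHp.to_le (by rw [hZ]; exact inf_le_left)
  have hZne : Z ≠ ⊥ := by
    have hnt : Nontrivial H := (Subgroup.nontrivial_iff_ne_bot H).mpr hHne
    have hc : Nontrivial (center H) := hHp.center_nontrivial
    obtain ⟨⟨z, hz⟩, hz1⟩ := exists_ne (1 : center H)
    intro hbot
    apply hz1
    apply Subtype.ext
    have hzZ : (z : G) ∈ Z := by
      rw [hZ]
      refine ⟨z.2, ?_⟩
      show (z : G) ∈ centralizer (H : Set G)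
      rw [Subgroup.mem_centralizer_iff]
      intro h hh
      have := (Subgroup.mem_center_iff.mp hz) ⟨h, hh⟩
      exact congrArg Subtype.val this
    rw [hbot, Subgroup.mem_bot] at hzZ
    exact Subtype.ext hzZ
  -- Step 1: elements of prime power order prime to `p` centralize `H`
  have step1 : ∀ (s : ℕ), s.Prime → s ≠ p → ∀ (y : G) (k : ℕ), y ^ s ^ k = 1 →
      ∀ h ∈ H, h * y = y * h := by
    intro s hs hsp y k hy
    have hsf : Fact s.Prime := ⟨hs⟩
    have hsH : ¬ s ∣ Nat.card H := by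
      rw [hcardH]
      intro hdvd
      exact hsp ((Nat.prime_dvd_prime_iff_eq hs hpp).mp (hs.dvd_of_dvd_pow hdvd))
    have hg : x * y * x⁻¹ * y⁻¹ ∈ H := by
      have h1 := H.inv_mem (hcent y)
      have : (y * x * y⁻¹ * x⁻¹)⁻¹ = x * y * x⁻¹ * y⁻¹ := by group
      rwa [this] at h1
    obtain ⟨h₀, hh₀, hc⟩ := exists_mul_comm_of_coprime H s hsH y x k hy hg
    obtain ⟨c, hcdef⟩ : ∃ c : G, c = h₀ * x := ⟨_, rfl⟩
    rw [← hcdef] at hc
    have hcH : c ∉ H := by
      intro h
      apply hxH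
      have : x = h₀⁻¹ * c := by rw [hcdef]; group
      rw [this]
      exact H.mul_mem (H.inv_mem hh₀) h
    have hc1 : c ≠ 1 := fun h => hcH (h ▸ H.one_mem)
    have hcpH : c ^ p ∈ H := by
      rw [← QuotientGroup.eq_one_iff, QuotientGroup.mk_pow, hcdef, QuotientGroup.mk_mul,
        (QuotientGroup.eq_one_iff h₀).mpr hh₀, one_mul, ← QuotientGroup.mk_pow]
      exact (QuotientGroup.eq_one_iff _).mpr hxp
    have hcpow : c ^ p ^ (a + 1) = 1 := by
      have h1 : (⟨c ^ p, hcpH⟩ : H) ^ p ^ a = 1 := by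
        rw [← hcardH]; exact pow_card_eq_one'
      have h2 := congrArg Subtype.val h1
      rw [pow_succ', pow_mul]
      simpa using h2
    have hcpg : IsPGroup p (zpowers c) := by
      have h1 : orderOf c ∣ p ^ (a + 1) := orderOf_dvd_of_pow_eq_one hcpow
      obtain ⟨i, -, hi⟩ := (Nat.dvd_prime_pow hpp).mp h1
      exact IsPGroup.of_card (n := i) (by rw [Nat.card_zpowers, hi])
    have hcZ : zpowers c ≤ normalizer (Z : Set G) := by
      rw [Subgroup.normalizer_eq_top_iff.mpr hZn]; exact le_top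
    have hne := inf_centralizer_ne_bot_of_isPGroup p (zpowers c) Z hcpg hZp hZne hcZ
    obtain ⟨⟨z, hz⟩, hz1⟩ := (Subgroup.ne_bot_iff_exists_ne_one).mp hne
    have hz1' : z ≠ 1 := fun h => hz1 (Subtype.ext h)
    have hzZ : z ∈ Z := hz.1
    have hzc : z * c = c * z := by
      have := (Subgroup.mem_centralizer_iff.mp hz.2) c (mem_zpowers c)
      exact this.symm
    rw [hZ] at hzZ
    have hzH : z ∈ H := hzZ.1
    have hzcent : ∀ h ∈ H, h * z = z * h := Subgroup.mem_centralizer_iff.mp hzZ.2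
    -- `z` is a `p`-element, `y` a `p'`-element of the nilpotent group `C(c)`
    have hzpow : ∃ j, z ^ p ^ j = 1 := by
      obtain ⟨j, hj⟩ := hHp ⟨z, hzH⟩
      exact ⟨j, by simpa using congrArg Subtype.val hj⟩
    have hyord : ¬ p ∣ orderOf y := by
      intro hdvd
      have h1 : orderOf y ∣ s ^ k := orderOf_dvd_of_pow_eq_one hy
      have h2 := hpp.dvd_of_dvd_pow (dvd_trans hdvd h1)
      exact hsp ((Nat.prime_dvd_prime_iff_eq hpp hs).mp h2).symm
    have hzy : z * y = y * z := by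
      apply Cfsg.Agent.Helper95.CN.commute_in_nilpotent (hCN c hc1) hpp (a := z) (b := y) _ _ hzpow
        hyord
      · rw [Subgroup.mem_centralizer_singleton_iff]; exact hzc
      · rw [Subgroup.mem_centralizer_singleton_iff]; exact hc.symm
    intro h hh
    obtain ⟨j, hj⟩ := hHp ⟨h, hh⟩
    have hhpow : ∃ j, h ^ p ^ j = 1 := ⟨j, by simpa using congrArg Subtype.val hj⟩
    apply Cfsg.Agent.Helper95.CN.commute_in_nilpotent (hCN z hz1') hpp (a := h) (b := y) _ _ hhpow
      hyord
    · rw [Subgroup.mem_centralizer_singleton_iff]; exact hzcent h hh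
    · rw [Subgroup.mem_centralizer_singleton_iff]; exact hzy.symm
  -- Step 2: a Sylow `p`-subgroup and a central element
  obtain ⟨S⟩ : Nonempty (Sylow p G) := inferInstance
  have hHS : H ≤ S := Cfsg.Agent.Lib.normal_pGroup_le_sylow hHn hHp S
  have hSH : (S : Subgroup G) ≤ normalizer (H : Set G) := by
    rw [Subgroup.normalizer_eq_top_iff.mpr hHn]; exact le_top
  have hne := inf_centralizer_ne_bot_of_isPGroup p (S : Subgroup G) H S.2 hHp hHne hSH
  obtain ⟨⟨z', hz'⟩, hz'1⟩ := (Subgroup.ne_bot_iff_exists_ne_one).mp hne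
  have hz'1' : z' ≠ 1 := fun h => hz'1 (Subtype.ext h)
  have hz'H : z' ∈ H := hz'.1
  have hz'S : ∀ g ∈ (S : Subgroup G), g * z' = z' * g := Subgroup.mem_centralizer_iff.mp hz'.2
  -- Step 3
  have htop : centralizer ({z'} : Set G) = ⊤ := by
    apply eq_top_of_forall_sylow_le
    intro s hsf
    by_cases hsp : s = p
    · subst hsp
      refine ⟨S, fun g hg => ?_⟩
      rw [Subgroup.mem_centralizer_singleton_iff]
      exact hz'S g hg
    · obtain ⟨Q⟩ : Nonempty (Sylow s G) := inferInstance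
      refine ⟨Q, fun g hg => ?_⟩
      rw [Subgroup.mem_centralizer_singleton_iff]
      obtain ⟨j, hj⟩ := Q.2 ⟨g, hg⟩
      have hgpow : g ^ s ^ j = 1 := by simpa using congrArg Subtype.val hj
      exact (step1 s hsf.out hsp g j hgpow z' hz'H).symm
  have hnil := hCN z' hz'1'
  rw [htop] at hnil
  exact Group.nilpotent_of_mulEquiv (Subgroup.topEquiv (G := G))

/-- Subgroups of a nilpotent subgroup are nilpotent. -/
theorem isNilpotent_of_le_of_isNilpotent {G : Type*} [Group G] {K K' : Subgroup G} (h : K ≤ K')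
    (hK' : Group.IsNilpotent K') : Group.IsNilpotent K := by
  haveI := hK'
  exact Subgroup.isNilpotent_of_ker_le_center (Subgroup.inclusion h)
    (by rw [(MonoidHom.ker_eq_bot_iff _).mpr (Subgroup.inclusion_injective h)]; exact bot_le)

/-- The quotient of a CN-group by a nontrivial normal `p`-subgroup is a CN-group. -/
theorem cn_quotient_of_isPGroup {G : Type*} [Group G] [Finite G] (hCN : Cfsg.IsCNGroup G)
    (H : Subgroup G) [hHn : H.Normal] (p : ℕ) [hp : Fact p.Prime] (hHp : IsPGroup p H)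
    (hHne : H ≠ ⊥) : Cfsg.IsCNGroup (G ⧸ H) := by
  have hpp : p.Prime := hp.out
  intro ybar hybar
  -- a power of prime order
  obtain ⟨n, hn⟩ : ∃ n, n = orderOf ybar := ⟨_, rfl⟩
  have hn1 : n ≠ 1 := by
    rw [hn]; intro h; exact hybar (orderOf_eq_one_iff.mp h)
  have hn0 : n ≠ 0 := by rw [hn]; exact (orderOf_pos ybar).ne'
  obtain ⟨r, hrdef⟩ : ∃ r, r = n.minFac := ⟨_, rfl⟩
  have hr : r.Prime := by rw [hrdef]; exact Nat.minFac_prime hn1
  have hrn : r ∣ n := by rw [hrdef]; exact Nat.minFac_dvd n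
  obtain ⟨xbar, hxbar⟩ : ∃ xbar : G ⧸ H, xbar = ybar ^ (n / r) := ⟨_, rfl⟩
  have hxord : orderOf xbar = r := by
    rw [hxbar, hn]
    exact orderOf_pow_orderOf_div (by rw [← hn]; exact hn0) (by rw [← hn]; exact hrn)
  have hxbar1 : xbar ≠ 1 := by
    intro h
    rw [h, orderOf_one] at hxord
    exact hr.one_lt.ne hxord
  have hle : centralizer ({ybar} : Set (G ⧸ H)) ≤ centralizer ({xbar} : Set (G ⧸ H)) := by
    intro g hg
    rw [Subgroup.mem_centralizer_singleton_iff] at hg ⊢
    rw [hxbar]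
    exact ((Commute.pow_right (show Commute g ybar from hg) _)).eq
  suffices hnil : Group.IsNilpotent (centralizer ({xbar} : Set (G ⧸ H))) from
    isNilpotent_of_le_of_isNilpotent hle hnil
  obtain ⟨x₀, hx₀⟩ := QuotientGroup.mk_surjective xbar
  by_cases hrp : r = p
  · -- the `p`-case
    obtain ⟨L, hL⟩ : ∃ L : Subgroup G,
        L = (centralizer ({xbar} : Set (G ⧸ H))).comap (QuotientGroup.mk' H) := ⟨_, rfl⟩
    have hLmem : ∀ z : G, z ∈ L ↔ (z : G ⧸ H) * xbar = xbar * (z : G ⧸ H) := by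
      intro z
      rw [hL, Subgroup.mem_comap, QuotientGroup.mk'_apply, Subgroup.mem_centralizer_singleton_iff]
    have hHL : H ≤ L := by
      intro h hh
      rw [hL, Subgroup.mem_comap, QuotientGroup.mk'_apply, (QuotientGroup.eq_one_iff h).mpr hh]
      exact Subgroup.one_mem _
    have hx₀L : x₀ ∈ L := by
      rw [hL, Subgroup.mem_comap, QuotientGroup.mk'_apply, hx₀,
        Subgroup.mem_centralizer_singleton_iff]
    have hLcn : Cfsg.IsCNGroup L := Cfsg.Agent.Helper95.Fpf.cn_subgroup hCN L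
    have hH'p : IsPGroup p (H.subgroupOf L) := hHp.comap_subtype
    have hH'ne : H.subgroupOf L ≠ ⊥ := by
      intro h
      apply hHne
      rw [eq_bot_iff]
      intro z hz
      have : (⟨z, hHL hz⟩ : L) ∈ H.subgroupOf L := Subgroup.mem_subgroupOf.mpr hz
      rw [h, Subgroup.mem_bot] at this
      rw [Subgroup.mem_bot]
      exact congrArg Subtype.val this
    have hx₀H : x₀ ∉ H := by
      intro h
      apply hxbar1
      rw [← hx₀]
      exact (QuotientGroup.eq_one_iff x₀).mpr h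
    have hnilL : Group.IsNilpotent L := by
      apply isNilpotent_of_cn_of_central_mod hLcn (H.subgroupOf L) p hH'p hH'ne ⟨x₀, hx₀L⟩
      · rw [Subgroup.mem_subgroupOf]; exact hx₀H
      · rw [Subgroup.mem_subgroupOf]
        show x₀ ^ p ∈ H
        rw [← QuotientGroup.eq_one_iff, QuotientGroup.mk_pow, hx₀, ← hrp, ← hxord]
        exact pow_orderOf_eq_one xbar
      · intro g
        rw [Subgroup.mem_subgroupOf]
        show (g : G) * x₀ * (g : G)⁻¹ * x₀⁻¹ ∈ H
        have hgL := (hLmem (g : G)).mp g.2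
        rw [← QuotientGroup.eq_one_iff]
        simp only [QuotientGroup.mk_mul, QuotientGroup.mk_inv, hx₀]
        rw [hgL]; group
    have hmap : L.map (QuotientGroup.mk' H) = centralizer ({xbar} : Set (G ⧸ H)) := by
      rw [hL]
      exact Subgroup.map_comap_eq_self_of_surjective (QuotientGroup.mk'_surjective H) _
    rw [← hmap]
    exact Group.nilpotent_of_surjective ((QuotientGroup.mk' H).subgroupMap L)
      ((QuotientGroup.mk' H).subgroupMap_surjective L)
  · -- the coprime case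
    have hrf : Fact r.Prime := ⟨hr⟩
    obtain ⟨a, hcardH⟩ := IsPGroup.iff_card.mp hHp
    have hrH : ¬ r ∣ Nat.card H := by
      rw [hcardH]
      intro hdvd
      exact hrp ((Nat.prime_dvd_prime_iff_eq hr hpp).mp (hr.dvd_of_dvd_pow hdvd))
    obtain ⟨x, b, hxz, hbz, hxb, ⟨k, hxk⟩, hbord⟩ := Cfsg.Agent.Helper95.CN.exists_parts r hr x₀
    have hbbar : ((b : G) : G ⧸ H) = 1 := by
      obtain ⟨i, hi⟩ := Subgroup.mem_zpowers_iff.mp hbz
      have h1 : ((b : G) : G ⧸ H) = xbar ^ i := by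
        rw [← hi, QuotientGroup.mk_zpow, hx₀]
      have h2 : ((b : G) : G ⧸ H) ^ r = 1 := by
        rw [h1, ← zpow_natCast, ← zpow_mul, mul_comm, zpow_mul, zpow_natCast, ← hxord,
          pow_orderOf_eq_one, one_zpow]
      have h3 : orderOf ((b : G) : G ⧸ H) ∣ r := orderOf_dvd_of_pow_eq_one h2
      have h4 : orderOf ((b : G) : G ⧸ H) ∣ orderOf b := by
        have := orderOf_map_dvd (QuotientGroup.mk' H) b
        simpa using this
      rcases (Nat.dvd_prime hr).mp h3 with h5 | h5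
      · exact orderOf_eq_one_iff.mp h5
      · exact absurd (h5 ▸ h4) hbord
    have hxbar' : ((x : G) : G ⧸ H) = xbar := by
      rw [← hx₀, ← hxb, QuotientGroup.mk_mul, hbbar, mul_one]
    have hx1 : x ≠ 1 := by
      intro h
      apply hxbar1
      rw [← hxbar', h]; rfl
    have hnilx := hCN x hx1
    have hle2 : centralizer ({xbar} : Set (G ⧸ H)) ≤
        (centralizer ({x} : Set G)).map (QuotientGroup.mk' H) := by
      intro gbar hgbar
      obtain ⟨g, rfl⟩ := QuotientGroup.mk_surjective gbar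
      rw [Subgroup.mem_centralizer_singleton_iff, ← hxbar'] at hgbar
      have hg : g * x * g⁻¹ * x⁻¹ ∈ H := by
        rw [← QuotientGroup.eq_one_iff]
        simp only [QuotientGroup.mk_mul, QuotientGroup.mk_inv]
        rw [hgbar]; group
      obtain ⟨h, hh, hc⟩ := exists_mul_comm_of_coprime H r hrH x g k hxk hg
      refine ⟨h * g, ?_, ?_⟩
      · rw [SetLike.mem_coe, Subgroup.mem_centralizer_singleton_iff]; exact hc
      · rw [QuotientGroup.mk'_apply, QuotientGroup.mk_mul, (QuotientGroup.eq_one_iff h).mpr hh,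
          one_mul]
    have hnilmap : Group.IsNilpotent ((centralizer ({x} : Set G)).map (QuotientGroup.mk' H)) :=
      Group.nilpotent_of_surjective ((QuotientGroup.mk' H).subgroupMap _)
        ((QuotientGroup.mk' H).subgroupMap_surjective _)
    exact isNilpotent_of_le_of_isNilpotent hle2 hnilmap

/-- The CN property transfers along isomorphisms. -/
theorem cn_of_mulEquiv {G G' : Type*} [Group G] [Group G'] (e : G ≃* G')
    (hCN : Cfsg.IsCNGroup G) : Cfsg.IsCNGroup G' := by
  intro g' hg'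
  have hne : e.symm g' ≠ 1 := by
    intro h
    apply hg'
    have := congrArg e h
    simpa using this
  have hnil := hCN (e.symm g') hne
  have hmap : (centralizer ({e.symm g'} : Set G)).map e.toMonoidHom =
      centralizer ({g'} : Set G') := by
    ext y
    rw [Subgroup.mem_map, Subgroup.mem_centralizer_singleton_iff]
    constructor
    · rintro ⟨z, hz, rfl⟩
      rw [Subgroup.mem_centralizer_singleton_iff] at hz
      have := congrArg e hz
      simpa using this
    · intro hy
      refine ⟨e.symm y, ?_, by simp⟩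
      rw [Subgroup.mem_centralizer_singleton_iff, ← map_mul, ← map_mul, hy]
  rw [← hmap]
  exact Group.nilpotent_of_mulEquiv (e.subgroupMap (centralizer ({e.symm g'} : Set G)))

/-- **Feit–Hall–Thompson**: the quotient of a finite CN-group by a solvable normal subgroup is a
CN-group. -/
theorem cn_quotient_aux : ∀ (n : ℕ) (G : Type u) [Group G] [Finite G], Cfsg.IsCNGroup G →
    ∀ (H : Subgroup G) [H.Normal], Group.IsSolvable H → Nat.card H = n →
    Cfsg.IsCNGroup (G ⧸ H) := by
  intro n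
  induction n using Nat.strong_induction_on with
  | _ n ih =>
  intro G _ _ hCN H hHn hHs hn
  by_cases hHbot : H = ⊥
  · subst hHbot
    exact cn_of_mulEquiv (QuotientGroup.quotientBot (G := G)).symm hCN
  have hnt : Nontrivial H := (Subgroup.nontrivial_iff_ne_bot H).mpr hHbot
  obtain ⟨p, hp, R, hRn, hRne, hRp⟩ := Cfsg.Agent.Helper1.exists_normal_pSubgroup H
  have hpf : Fact p.Prime := ⟨hp⟩
  have hchar : (Cfsg.pCore p H).Characteristic := Cfsg.Agent.Lib.pCore_characteristic p
  obtain ⟨N, hN⟩ : ∃ N : Subgroup G, N = (Cfsg.pCore p H).map H.subtype := ⟨_, rfl⟩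
  have hNn : N.Normal := by rw [hN]; infer_instance
  have hNH : N ≤ H := by
    rw [hN]
    intro z hz
    obtain ⟨w, -, rfl⟩ := hz
    exact w.2
  have hNp : IsPGroup p N := by
    rw [hN]
    exact (Cfsg.Agent.Lib.isPGroup_pCore p).map H.subtype
  have hNne : N ≠ ⊥ := by
    intro h
    apply hRne
    have hRle : R ≤ Cfsg.pCore p H := Cfsg.Agent.Lib.le_pCore hRn hRp
    rw [eq_bot_iff]
    intro w hw
    have : (w : G) ∈ N := by rw [hN]; exact Subgroup.mem_map_of_mem _ (hRle hw)
    rw [h, Subgroup.mem_bot] at this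
    rw [Subgroup.mem_bot]
    exact Subtype.ext this
  have hCN1 : Cfsg.IsCNGroup (G ⧸ N) := cn_quotient_of_isPGroup hCN N p hNp hNne
  have hHbars : Group.IsSolvable (H.map (QuotientGroup.mk' N)) :=
    Group.isSolvable_of_surjective (f := (QuotientGroup.mk' N).subgroupMap H)
      ((QuotientGroup.mk' N).subgroupMap_surjective H)
  have hlt : Nat.card (H.map (QuotientGroup.mk' N)) < n := by
    rw [← hn]
    have h1 : Nat.card (H.map (QuotientGroup.mk' N)) * Nat.card (N.subgroupOf H) = Nat.card H := by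
      have h2 := Subgroup.card_mul_index ((QuotientGroup.mk' N).subgroupMap H).ker
      rw [Subgroup.index_ker, MonoidHom.range_eq_top.mpr
        ((QuotientGroup.mk' N).subgroupMap_surjective H), Subgroup.card_top] at h2
      have h3 : ((QuotientGroup.mk' N).subgroupMap H).ker = N.subgroupOf H := by
        ext w
        rw [MonoidHom.mem_ker, Subgroup.mem_subgroupOf]
        constructor
        · intro h
          have := congrArg Subtype.val h
          simpa using this
        · intro h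
          apply Subtype.ext
          simpa using h
      rw [h3, mul_comm] at h2
      exact h2
    have h4 : 1 < Nat.card (N.subgroupOf H) := by
      rw [Nat.card_congr (Subgroup.subgroupOfEquivOfLe hNH).toEquiv]
      exact (Subgroup.one_lt_card_iff_ne_bot _).mpr hNne
    have h5 : 0 < Nat.card (H.map (QuotientGroup.mk' N)) := Nat.card_pos
    nlinarith
  have h6 := ih _ hlt (G ⧸ N) hCN1 (H.map (QuotientGroup.mk' N)) hHbars rfl
  exact cn_of_mulEquiv (QuotientGroup.quotientQuotientEquivQuotient N H hNH) h6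

end Cfsg.Agent.Helper9
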