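/-
helper9: solvable CN-groups, part 1.  In a CN-group without a nontrivial normal Sylow subgroup,
`p'`-elements act fixed-point-freely on `O_p(G)` and no nonidentity `p`-element commutes with a
nonidentity `p'`-element.
-/
import Mathlib
import Cfsg.Agent.S1474
import Cfsg.Agent.S0040
import Cfsg.Agent.Helper73.PGroupCyclic

set_option autoImplicit false

namespace Cfsg.Agent.Helper9

open Subgroup Cfsg.Agent.Helper95
open scoped Pointwise

/-- Some Sylow subgroup of `G` is nontrivial and normal. -/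
def HasNormalSylow (G : Type*) [Group G] : Prop :=
  ∃ (r : ℕ) (_ : Fact r.Prime) (R : Sylow r G), (R : Subgroup G) ≠ ⊥ ∧ (R : Subgroup G).Normal

section
variable {G : Type*} [Group G] [Finite G]

/-- In a CN-group, if a nonidentity `p'`-element commutes with a nonidentity element of `O_p(G)`,
then some Sylow subgroup is nontrivial and normal. -/
lemma hasNormalSylow_of_commute_pCore (hCN : Cfsg.IsCNGroup G) {p : ℕ} (hp : p.Prime) {x h : G}
    (hx1 : x ≠ 1) (hxp : ¬ p ∣ orderOf x) (hh : h ∈ Cfsg.pCore p G) (hh1 : h ≠ 1)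
    (hxh : x * h = h * x) : HasNormalSylow G := by
  obtain ⟨r, n, hr, her⟩ := S1477.exists_prime_order_pow hx1
  have hFr := Fact.mk hr
  have := Fact.mk hp
  have hrp : r ≠ p := by
    intro h
    apply hxp
    rw [← h, ← her]
    exact orderOf_pow_dvd n
  have he'1 : x ^ n ≠ 1 := by
    intro h
    rw [h, orderOf_one] at her
    exact hr.ne_one her.symm
  have he'p : ¬ p ∣ orderOf (x ^ n) := by
    rw [her]
    intro h
    exact hrp ((Nat.prime_dvd_prime_iff_eq hp hr).mp h).symm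
  have hcomm : x ^ n * h = h * x ^ n := ((show Commute x h from hxh).pow_left n).eq
  have hcent : ∀ u ∈ Cfsg.pCore p G, x ^ n * u = u * x ^ n :=
    S1474.cent_of_fix hCN hp _ (Lib.isPGroup_pCore p) he'p hh hh1 hcomm
  have hOpn : (Cfsg.pCore p G).Normal := by
    have := Lib.pCore_characteristic (G := G) p
    infer_instance
  have hCn : (centralizer (Cfsg.pCore p G : Set G)).Normal := Subgroup.normal_centralizer
  have hCnil : Group.IsNilpotent (centralizer (Cfsg.pCore p G : Set G)) := by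
    refine S0581.nilpotent_of_le ?_ (hCN _ hh1)
    intro g hg
    rw [mem_centralizer_singleton_iff]
    exact ((mem_centralizer_iff.mp hg) _ hh).symm
  have he'C : x ^ n ∈ centralizer (Cfsg.pCore p G : Set G) := by
    rw [mem_centralizer_iff]
    intro u hu
    exact (hcent u hu).symm
  have he'O : x ^ n ∈ Cfsg.pCore r G :=
    S1474.mem_pCore_of_mem_nilpotent_normal hCnil he'C
      ⟨1, by rw [pow_one, ← her]; exact pow_orderOf_eq_one _⟩
  let R : Sylow r G := default
  have hOR : Cfsg.pCore r G ≤ R := Lib.pCore_le_sylow R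
  have hOrn : (Cfsg.pCore r G).Normal := by
    have := Lib.pCore_characteristic (G := G) r
    infer_instance
  have hRnil : Group.IsNilpotent (R : Subgroup G) := R.2.isNilpotent
  have hne : (Cfsg.pCore r G).subgroupOf (R : Subgroup G) ≠ ⊥ := by
    intro h
    rw [Subgroup.subgroupOf_eq_bot, disjoint_iff, inf_eq_left.mpr hOR] at h
    rw [h, Subgroup.mem_bot] at he'O
    exact he'1 he'O
  have h1 := Lib.normal_inf_center_ne_bot ((Cfsg.pCore r G).subgroupOf (R : Subgroup G)) hne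
  rw [Ne, Subgroup.eq_bot_iff_forall] at h1
  push Not at h1
  obtain ⟨z, hz, hz1⟩ := h1
  obtain ⟨hzO, hzc⟩ := Subgroup.mem_inf.mp hz
  have hzO' : (z : G) ∈ Cfsg.pCore r G := Subgroup.mem_subgroupOf.mp hzO
  have hz1' : (z : G) ≠ 1 := fun h => hz1 (Subtype.ext h)
  have hzR : ∀ u ∈ (R : Subgroup G), u * (z : G) = (z : G) * u := by
    intro u hu
    have := (Subgroup.mem_center_iff.mp hzc) ⟨u, hu⟩
    exact congrArg Subtype.val this
  obtain ⟨k, hk⟩ := (IsPGroup.iff_card.mp (Lib.isPGroup_pCore (G := G) r))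
  obtain ⟨l, hl⟩ := (IsPGroup.iff_card.mp (Lib.isPGroup_pCore (G := G) p))
  have hdisj : Disjoint (Cfsg.pCore r G) (Cfsg.pCore p G) := by
    apply Subgroup.disjoint_of_coprime_natCard
    rw [hk, hl]
    exact Nat.Coprime.pow _ _ ((Nat.coprime_primes hr hp).mpr hrp)
  have hzF : ∀ f₀ ∈ Cfsg.pCore p G, f₀ * (z : G) = (z : G) * f₀ := by
    intro f₀ hf₀
    exact (Subgroup.commute_of_normal_of_disjoint _ _ hOrn hOpn hdisj (z : G) f₀ hzO'
      hf₀).eq.symm
  have hD := hCN (z : G) hz1'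
  have hRF : ∀ u ∈ (R : Subgroup G), ∀ f₀ ∈ Cfsg.pCore p G, u * f₀ = f₀ * u := by
    intro u hu f₀ hf₀
    have hur : ∃ k, u ^ r ^ k = 1 := by
      obtain ⟨k, hk⟩ := R.2 ⟨u, hu⟩
      exact ⟨k, by simpa using congrArg Subtype.val hk⟩
    have hf₀r : ¬ r ∣ orderOf f₀ := by
      intro h
      have h2 : r ∣ p ^ l := hl ▸ h.trans (Subgroup.orderOf_dvd_natCard _ hf₀)
      exact hrp ((Nat.prime_dvd_prime_iff_eq hr hp).mp (hr.dvd_of_dvd_pow h2))
    exact CN.commute_in_nilpotent hD hr (mem_centralizer_singleton_iff.mpr (hzR u hu))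
      (mem_centralizer_singleton_iff.mpr (hzF f₀ hf₀)) hur hf₀r
  have hRO : (R : Subgroup G) ≤ Cfsg.pCore r G := by
    intro u hu
    have hur : ∃ k, u ^ r ^ k = 1 := by
      obtain ⟨k, hk⟩ := R.2 ⟨u, hu⟩
      exact ⟨k, by simpa using congrArg Subtype.val hk⟩
    refine S1474.mem_pCore_of_mem_nilpotent_normal hCnil ?_ hur
    rw [mem_centralizer_iff]
    intro f₀ hf₀
    exact (hRF u hu f₀ hf₀).symm
  have hReq : (R : Subgroup G) = Cfsg.pCore r G := le_antisymm hRO hOR
  refine ⟨r, hFr, R, ?_, hReq ▸ hOrn⟩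
  intro hbot
  rw [hReq] at hbot
  rw [hbot, Subgroup.mem_bot] at he'O
  exact he'1 he'O

/-- In a CN-group with `O_p(G) ≠ 1`, if a nonidentity `p`-element commutes with a nonidentity
`p'`-element then some Sylow subgroup is nontrivial and normal. -/
lemma hasNormalSylow_of_commute_mixed (hCN : Cfsg.IsCNGroup G) {p : ℕ} (hp : p.Prime)
    (hO : Cfsg.pCore p G ≠ ⊥) {a b : G} (ha1 : a ≠ 1) (hap : ∃ k, a ^ p ^ k = 1) (hb1 : b ≠ 1)
    (hbp : ¬ p ∣ orderOf b) (hab : a * b = b * a) : HasNormalSylow G := by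
  have hFp := Fact.mk hp
  obtain ⟨k, hk⟩ := hap
  obtain ⟨j, hj, hoa⟩ := (Nat.dvd_prime_pow hp).mp (orderOf_dvd_of_pow_eq_one hk)
  have hj1 : 1 ≤ j := by
    by_contra h0
    have : j = 0 := by omega
    rw [this, pow_zero, orderOf_eq_one_iff] at hoa
    exact ha1 hoa
  have ha'ord : orderOf (a ^ p ^ (j - 1)) = p := Helper73.orderOf_pow_pred hoa hj1
  obtain ⟨a', ha'⟩ : ∃ a', a' = a ^ p ^ (j - 1) := ⟨_, rfl⟩
  rw [← ha'] at ha'ord
  have ha'1 : a' ≠ 1 := by
    intro h
    rw [h, orderOf_one] at ha'ord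
    exact hp.ne_one ha'ord.symm
  have ha'p : a' ^ p = 1 := by
    rw [← ha'ord]; exact pow_orderOf_eq_one _
  have ha'b : a' * b = b * a' := by
    rw [ha']
    exact ((show Commute a b from hab).pow_left _).eq
  have hOpn : (Cfsg.pCore p G).Normal := by
    have := Lib.pCore_characteristic (G := G) p
    infer_instance
  have hpdvd : p ∣ Nat.card (Cfsg.pCore p G) := by
    obtain ⟨l, hl⟩ := (IsPGroup.iff_card.mp (Lib.isPGroup_pCore (G := G) p))
    rw [hl]
    apply dvd_pow_self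
    rintro rfl
    rw [pow_zero] at hl
    exact hO (Subgroup.card_eq_one.mp hl)
  have hne : Cfsg.pCore p G ⊓ centralizer {a'} ≠ ⊥ := by
    intro h
    exact S0040.not_dvd_card_of_fpf (Cfsg.pCore p G) a' ha'p h hpdvd
  rw [Ne, Subgroup.eq_bot_iff_forall] at hne
  push Not at hne
  obtain ⟨h, hh, hh1⟩ := hne
  obtain ⟨hhO, hhc⟩ := Subgroup.mem_inf.mp hh
  have hhp : ∃ k, h ^ p ^ k = 1 := by
    obtain ⟨k, hk⟩ := (Lib.isPGroup_pCore (G := G) p) ⟨h, hhO⟩
    exact ⟨k, by simpa using congrArg Subtype.val hk⟩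
  have hD := hCN a' ha'1
  have hhb : h * b = b * h :=
    CN.commute_in_nilpotent hD hp hhc (mem_centralizer_singleton_iff.mpr ha'b.symm) hhp hbp
  exact hasNormalSylow_of_commute_pCore hCN hp hb1 hbp hhO hh1 hhb.symm

/-- No element of mixed order. -/
lemma noMixed_of_cn (hCN : Cfsg.IsCNGroup G) {p : ℕ} (hp : p.Prime)
    (hO : Cfsg.pCore p G ≠ ⊥) (hns : ¬ HasNormalSylow G) (g : G) (s : ℕ) (hs : s.Prime)
    (hsp : s ≠ p) (hpg : p ∣ orderOf g) (hsg : s ∣ orderOf g) : False := by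
  obtain ⟨a, b, ha, hb, hab, hap, hbp⟩ := CN.exists_parts p hp g
  have hcomm : a * b = b * a := by
    obtain ⟨i, rfl⟩ := mem_zpowers_iff.mp ha
    obtain ⟨j, rfl⟩ := mem_zpowers_iff.mp hb
    rw [← zpow_add, ← zpow_add, add_comm]
  apply hns
  refine hasNormalSylow_of_commute_mixed hCN hp hO ?_ hap ?_ hbp hcomm
  · rintro rfl
    rw [one_mul] at hab
    rw [hab] at hbp
    exact hbp hpg
  · rintro rfl
    rw [mul_one] at hab
    obtain ⟨k, hk⟩ := hap
    rw [hab] at hk
    have h2 : s ∣ p ^ k := hsg.trans (orderOf_dvd_of_pow_eq_one hk)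
    exact hsp ((Nat.prime_dvd_prime_iff_eq hs hp).mp (hs.dvd_of_dvd_pow h2))

end

end Cfsg.Agent.Helper9
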