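/-
helper9: solvable CN-groups, part 3.  Groups without elements of mixed order: a Hall `p'`-subgroup
with unique central subgroups of prime order is the centralizer of each of its elements of prime
order all of whose conjugates it contains.
-/
import Mathlib
import Cfsg.Agent.Helper73.PGroupCyclic

set_option autoImplicit false

namespace Cfsg.Agent.Helper9

open Subgroup

/-- No element of `X` has order divisible by `p` and by another prime. -/
def NoMixed (p : ℕ) (X : Type*) [Group X] : Prop :=
  ∀ (g : X) (s : ℕ), s.Prime → s ≠ p → p ∣ orderOf g → s ∣ orderOf g → False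

lemma NoMixed.of_surjective {X Y : Type*} [Group X] [Group Y] {p : ℕ} (h : NoMixed p X)
    (f : X →* Y) (hf : Function.Surjective f) : NoMixed p Y := by
  intro y s hs hsp hpy hsy
  obtain ⟨x, rfl⟩ := hf y
  exact h x s hs hsp (hpy.trans (orderOf_map_dvd f x)) (hsy.trans (orderOf_map_dvd f x))

/-- A subgroup of `p`-power index is a maximal `p'`-subgroup. -/
lemma eq_of_le_of_index_pow {X : Type*} [Group X] [Finite X] {p b : ℕ} {M K : Subgroup X}
    (hMK : M ≤ K) (hidx : M.index = p ^ b) (hK : (Nat.card K).Coprime p) : K = M := by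
  apply le_antisymm _ hMK
  rw [← Subgroup.relIndex_eq_one]
  have h1 : M.relIndex K ∣ p ^ b := by
    rw [← hidx, ← Subgroup.relIndex_mul_index hMK]
    exact dvd_mul_right _ _
  have h2 : M.relIndex K ∣ Nat.card K := Subgroup.index_dvd_card _
  exact Nat.eq_one_of_dvd_coprimes (hK.pow_right b) h2 h1

/-- The isomorphism of a subgroup meeting the kernel trivially onto its image. -/
noncomputable def mapEquivOfDisjoint {G Y : Type*} [Group G] [Group Y] (f : G →* Y)
    (L : Subgroup G) (h : Disjoint f.ker L) : L ≃* L.map f :=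
  MulEquiv.ofBijective (f.subgroupMap L) ⟨by
    intro x y hxy
    have h1 : f (x : G) = f (y : G) := congrArg Subtype.val hxy
    have h2 : (x : G) * (y : G)⁻¹ ∈ f.ker := by
      rw [MonoidHom.mem_ker, map_mul, map_inv, h1, mul_inv_cancel]
    have h3 : (x : G) * (y : G)⁻¹ ∈ L := L.mul_mem x.2 (L.inv_mem y.2)
    have h4 := (Subgroup.disjoint_def.mp h) h2 h3
    apply Subtype.ext
    exact mul_inv_eq_one.mp h4, f.subgroupMap_surjective L⟩

@[simp] lemma mapEquivOfDisjoint_coe {G Y : Type*} [Group G] [Group Y] (f : G →* Y)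
    (L : Subgroup G) (h : Disjoint f.ker L) (x : L) :
    ((mapEquivOfDisjoint f L h x : L.map f) : Y) = f (x : G) := rfl

/-- Transfer of "unique central subgroups of prime order" along an isomorphism. -/
lemma uniqueOrderP_central_of_mulEquiv {A B : Type*} [Group A] [Group B] (e : A ≃* B) {s : ℕ}
    (h : Helper73.UniqueOrderP s A ∧ ∀ z : A, orderOf z = s → z ∈ Subgroup.center A) :
    Helper73.UniqueOrderP s B ∧ ∀ z : B, orderOf z = s → z ∈ Subgroup.center B := by
  constructor
  · intro x y hx hy
    have hx' : orderOf (e.symm x) = s := by rw [MulEquiv.orderOf_eq]; exact hx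
    have hy' : orderOf (e.symm y) = s := by rw [MulEquiv.orderOf_eq]; exact hy
    obtain ⟨k, hk⟩ := mem_zpowers_iff.1 (h.1 _ _ hx' hy')
    refine mem_zpowers_iff.2 ⟨k, ?_⟩
    have := congrArg e hk
    simpa using this
  · intro z hz
    have hz' : orderOf (e.symm z) = s := by rw [MulEquiv.orderOf_eq]; exact hz
    have hc := h.2 _ hz'
    rw [Subgroup.mem_center_iff] at hc ⊢
    intro g
    have := congrArg e (hc (e.symm g))
    simpa using this

section main
variable {X : Type*} [Group X] [Finite X]

/-- The key centralizer lemma. -/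
lemma centralizer_eq_of_noMixed {p b : ℕ} (hp : p.Prime) (hX : NoMixed p X) (M : Subgroup X)
    (hMcop : (Nat.card M).Coprime p) (hidx : M.index = p ^ b)
    (hU : ∀ s : ℕ, s.Prime →
      (Helper73.UniqueOrderP s M ∧ ∀ z : M, orderOf z = s → z ∈ Subgroup.center M))
    {s : ℕ} (hs : s.Prime) (z : X) (hzM : z ∈ M) (hzs : orderOf z = s)
    (hconj : ∀ g : X, g * z * g⁻¹ ∈ M) :
    centralizer {z} = M ∧ M.Normal ∧ ∀ g : X, g * z * g⁻¹ ∈ zpowers z := by
  have hsp : s ≠ p := by
    rintro rfl
    have h1 : s ∣ Nat.card M := hzs ▸ Subgroup.orderOf_dvd_natCard _ hzM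
    exact hs.one_lt.ne' (Nat.eq_one_of_dvd_coprimes hMcop h1 dvd_rfl)
  have hzs' : orderOf (⟨z, hzM⟩ : M) = s := by rw [Subgroup.orderOf_mk]; exact hzs
  have hzc : ∀ x ∈ M, x * z = z * x := by
    intro x hx
    have := Subgroup.mem_center_iff.mp ((hU s hs).2 ⟨z, hzM⟩ hzs') ⟨x, hx⟩
    exact congrArg Subtype.val this
  have hzu : ∀ x ∈ M, x ^ s = 1 → x ∈ zpowers z := by
    intro x hx hxs
    by_cases hx1 : x = 1
    · rw [hx1]; exact one_mem _
    · haveI := Fact.mk hs
      have hox : orderOf x = s := orderOf_eq_prime hxs hx1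
      have hox' : orderOf (⟨x, hx⟩ : M) = s := by rw [Subgroup.orderOf_mk]; exact hox
      obtain ⟨k, hk⟩ := mem_zpowers_iff.1 ((hU s hs).1 ⟨z, hzM⟩ ⟨x, hx⟩ hzs' hox')
      exact mem_zpowers_iff.2 ⟨k, by simpa using congrArg Subtype.val hk⟩
  have hconjz : ∀ g : X, g * z * g⁻¹ ∈ zpowers z := by
    intro g
    apply hzu _ (hconj g)
    rw [conj_pow, ← hzs, pow_orderOf_eq_one, mul_one, mul_inv_cancel]
  have hNz : (zpowers z).Normal := by
    constructor
    intro n hn g
    obtain ⟨k, rfl⟩ := mem_zpowers_iff.1 hn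
    rw [← conj_zpow]
    exact (zpowers z).zpow_mem (hconjz g) k
  have hCn : (centralizer ((zpowers z : Subgroup X) : Set X)).Normal := Subgroup.normal_centralizer
  have hCeq : centralizer ((zpowers z : Subgroup X) : Set X) = centralizer {z} := by
    ext x
    rw [mem_centralizer_iff, mem_centralizer_singleton_iff]
    constructor
    · intro h
      exact (h z (mem_zpowers z)).symm
    · intro h y hy
      obtain ⟨k, rfl⟩ := mem_zpowers_iff.1 hy
      exact ((show Commute x z from h).zpow_right k).eq.symm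
  rw [hCeq] at hCn
  have hMC : M ≤ centralizer {z} := by
    intro x hx
    rw [mem_centralizer_singleton_iff]
    exact hzc x hx
  have hCcop : (Nat.card (centralizer {z} : Subgroup X)).Coprime p := by
    rw [Nat.coprime_comm, Nat.Prime.coprime_iff_not_dvd hp]
    intro hdvd
    haveI := Fact.mk hp
    obtain ⟨y, hy⟩ := exists_prime_orderOf_dvd_card' p hdvd
    have hy' : orderOf (y : X) = p := by rw [Subgroup.orderOf_coe]; exact hy
    have hyz : Commute (y : X) z := mem_centralizer_singleton_iff.mp y.2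
    have hcop : (orderOf (y : X)).Coprime (orderOf z) := by
      rw [hy', hzs]
      exact (Nat.coprime_primes hp hs).mpr hsp.symm
    have ho := hyz.orderOf_mul_eq_mul_orderOf_of_coprime hcop
    rw [hy', hzs] at ho
    exact hX ((y : X) * z) s hs hsp (ho ▸ dvd_mul_right p s) (ho ▸ dvd_mul_left s p)
  have hCM : centralizer {z} = M := eq_of_le_of_index_pow hMC hidx hCcop
  exact ⟨hCM, hCM ▸ hCn, hconjz⟩

end main

end Cfsg.Agent.Helper9
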