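/-
helper9: solvable CN-groups, part 4.  The three-step structure when no Sylow subgroup is normal.
-/
import Mathlib
import Cfsg.Prelude.Def_OddOrderLocal
import Cfsg.Agent.Helper9.CNSolv1
import Cfsg.Agent.Helper9.CNSolv2
import Cfsg.Agent.Helper9.CNSolv3
import Cfsg.Agent.Helper62.PSolvDual
import Cfsg.Agent.Helper1.SZ
import Cfsg.Agent.Lib.Hall

set_option autoImplicit false

namespace Cfsg.Agent.Helper9

open Subgroup

universe u

/-- Core of the three-step structure theorem, for a normal `p`-subgroup `H` on which all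
`p'`-elements act fixed-point-freely, in a solvable CN-group without elements of mixed order. -/
theorem threeStep_core {G : Type u} [Group G] [Finite G] [Group.IsSolvable G]
    (hCN : Cfsg.IsCNGroup G) (hnn : ¬ Group.IsNilpotent G) {p : ℕ} (hp : p.Prime)
    (H : Subgroup G) [hHn : H.Normal] (hHp : IsPGroup p H) (hH1 : H ≠ ⊥) (hHS : p ∣ H.index)
    (hfpf : ∀ e : G, e ≠ 1 → ¬ p ∣ orderOf e → ∀ v ∈ H, e * v = v * e → v = 1)
    (hGnm : NoMixed p G)
    (hOq : ∀ N : Subgroup (G ⧸ H), N.Normal → IsPGroup p N → N = ⊥) :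
    ∃ A : Subgroup G, A ≠ ⊥ ∧ IsCyclic A ∧ Odd (Nat.card A) ∧ (Nat.card A).Coprime p ∧
      (H ⊔ A).Normal ∧ H ⊔ A ≠ ⊤ ∧ (∃ n : ℕ, (H ⊔ A).index = p ^ n) ∧
      (∀ a ∈ A, a ≠ 1 → H ⊓ Subgroup.centralizer ({a} : Set G) = ⊥) ∧
      ∀ x : G, x ∉ H ⊔ A → ∀ a ∈ A, a ≠ 1 → x * a * x⁻¹ * a⁻¹ ∉ H := by
  haveI hFp := Fact.mk hp
  obtain ⟨c, hc⟩ := IsPGroup.iff_card.mp hHp
  obtain ⟨a, m, hm, ham⟩ :=
    Nat.exists_eq_pow_mul_and_not_dvd (Nat.card_pos (α := G)).ne' p hp.ne_one
  have hm0 : m ≠ 0 := by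
    rintro rfl
    exact hm (dvd_zero p)
  have hmcop : m.Coprime p := ((Nat.Prime.coprime_iff_not_dvd hp).mpr hm).symm
  obtain ⟨L, hL⟩ := Lib.hall_exists m (p ^ a) (by rw [ham, mul_comm]) (hmcop.pow_right a)
  -- the centre of `H`
  have hCHn : (centralizer (H : Set G)).Normal := Subgroup.normal_centralizer
  obtain ⟨Z, hZ⟩ : ∃ Z : Subgroup G, Z = H ⊓ centralizer (H : Set G) := ⟨_, rfl⟩
  have hZn : Z.Normal := by
    rw [hZ]
    exact Subgroup.normal_inf_normal _ _
  have hZH : Z ≤ H := by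
    rw [hZ]
    exact inf_le_left
  have hZc : ∀ a ∈ Z, ∀ b ∈ Z, a * b = b * a := by
    intro a ha b hb
    rw [hZ] at ha hb
    exact ((mem_centralizer_iff.mp (Subgroup.mem_inf.mp ha).2) b (Subgroup.mem_inf.mp hb).1).symm
  have hZ1 : Z ≠ ⊥ := by
    have : Nontrivial H := (Subgroup.nontrivial_iff_ne_bot _).mpr hH1
    have := hHp.center_nontrivial
    obtain ⟨w, hw1⟩ := exists_ne (1 : Subgroup.center H)
    have hwZ : ((w : H) : G) ∈ Z := by
      rw [hZ]
      refine Subgroup.mem_inf.mpr ⟨(w : H).2, ?_⟩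
      rw [mem_centralizer_iff]
      intro u hu
      have := (Subgroup.mem_center_iff.mp w.2) ⟨u, hu⟩
      exact congrArg Subtype.val this
    intro hbot
    rw [hbot, Subgroup.mem_bot] at hwZ
    apply hw1
    apply Subtype.ext
    apply Subtype.ext
    exact hwZ
  -- `L` acts fixed-point-freely on `H`
  have hLp : ∀ e ∈ L, ¬ p ∣ orderOf e := by
    intro e he h
    have h1 : p ∣ m := hL ▸ h.trans (Subgroup.orderOf_dvd_natCard _ he)
    exact hm h1
  have hfpfH : ∀ e ∈ L, e ≠ 1 → ∀ v ∈ H, e * v = v * e → v = 1 :=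
    fun e he he1 v hv hev => hfpf e he1 (hLp e he) v hv hev
  have hcopLZ : (Nat.card L).Coprime (Nat.card Z) := by
    rw [hL]
    have h1 : Nat.card Z ∣ p ^ c := hc ▸ Subgroup.card_dvd_of_le hZH
    exact Nat.Coprime.coprime_dvd_right h1 (hmcop.pow_right c)
  obtain ⟨hLnil, hLU⟩ := nilpotent_uniqueOrderP_of_fpf_conj hCN Z L hZc hZ1 hcopLZ
    (fun e he he1 v hv => hfpfH e he he1 v (hZH hv))
  have hL1 : L ≠ ⊥ := by
    intro h
    rw [h, Subgroup.card_bot] at hL
    apply hnn
    have : IsPGroup p G := IsPGroup.of_card (n := a) (by rw [ham, ← hL, mul_one])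
    exact this.isNilpotent
  have hdisj : Disjoint H L := by
    apply Subgroup.disjoint_of_coprime_natCard
    rw [hc, hL]
    exact (hmcop.pow_right c).symm
  -- the quotient
  obtain ⟨π, hπ⟩ : ∃ π : G →* G ⧸ H, π = QuotientGroup.mk' H := ⟨_, rfl⟩
  have hπs : Function.Surjective π := hπ ▸ QuotientGroup.mk'_surjective H
  have hker : π.ker = H := hπ ▸ QuotientGroup.ker_mk' H
  have hXnm : NoMixed p (G ⧸ H) := hGnm.of_surjective π hπs
  have hdisj' : Disjoint π.ker L := by rw [hker]; exact hdisj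
  obtain ⟨e, he⟩ : ∃ e : L ≃* L.map π, e = mapEquivOfDisjoint π L hdisj' := ⟨_, rfl⟩
  have hecoe : ∀ x : L, ((e x : L.map π) : G ⧸ H) = π (x : G) := by
    intro x
    rw [he]
    rfl
  obtain ⟨Lb, hLb⟩ : ∃ Lb : Subgroup (G ⧸ H), Lb = L.map π := ⟨_, rfl⟩
  have hLbcard : Nat.card Lb = m := by rw [hLb, ← Nat.card_congr e.toEquiv, hL]
  have h1 : Lb.index * Nat.card Lb = Nat.card (G ⧸ H) := Lb.index_mul_card
  have h2 : Nat.card G = Nat.card (G ⧸ H) * Nat.card H :=
    Subgroup.card_eq_card_quotient_mul_card_subgroup H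
  have h3 : Lb.index * p ^ c = p ^ a := by
    have : m * (Lb.index * p ^ c) = m * p ^ a := by
      calc m * (Lb.index * p ^ c) = (Lb.index * m) * p ^ c := by ring
        _ = Nat.card G := by rw [h2, ← h1, hLbcard, hc]
        _ = m * p ^ a := by rw [ham]; ring
    exact Nat.eq_of_mul_eq_mul_left (Nat.pos_of_ne_zero hm0) this
  obtain ⟨b, -, hb⟩ := (Nat.dvd_prime_pow hp).mp (Dvd.intro _ h3)
  have hb0 : b ≠ 0 := by
    rintro rfl
    rw [pow_zero] at hb
    have : H.index = m := by rw [Subgroup.index_eq_card, ← h1, hb, hLbcard, one_mul]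
    exact hm (this ▸ hHS)
  have hb1 : 1 < p ^ b := Nat.one_lt_pow hb0 hp.one_lt
  have hLbcop : (Nat.card Lb).Coprime p := by rw [hLbcard]; exact hmcop
  have hLbU : ∀ s : ℕ, s.Prime → (Helper73.UniqueOrderP s Lb ∧
      ∀ z : Lb, orderOf z = s → z ∈ Subgroup.center Lb) := by
    intro s hs
    rw [hLb]
    exact uniqueOrderP_central_of_mulEquiv e (hLU s hs)
  have hXnt : Nontrivial (G ⧸ H) := by
    by_contra h
    rw [not_nontrivial_iff_subsingleton] at h
    have : Lb = ⊤ := Subsingleton.elim _ _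
    rw [this, Subgroup.index_top] at hb
    omega
  -- a nontrivial normal `s`-subgroup of the quotient
  obtain ⟨s, hs, N, hNn, hN1, hNs⟩ := Helper1.exists_normal_pSubgroup (G ⧸ H)
  have hsp : s ≠ p := by
    rintro rfl
    exact hN1 (hOq N hNn hNs)
  haveI hFs := Fact.mk hs
  obtain ⟨k, hk⟩ := IsPGroup.iff_card.mp hNs
  have hNcop : (Nat.card N).Coprime p := by
    rw [hk]
    exact ((Nat.coprime_primes hs hp).mpr hsp).pow_left k
  have hNLb : N ≤ Lb := by
    have h5 : (Nat.card (Lb ⊔ N : Subgroup (G ⧸ H))).Coprime p :=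
      Lib.card_sup_coprime_of_normal hLbcop hNcop
    have h6 := eq_of_le_of_index_pow (le_sup_left : Lb ≤ Lb ⊔ N) hb h5
    rw [← h6]
    exact le_sup_right
  have hsN : s ∣ Nat.card N := by
    rw [hk]
    apply dvd_pow_self
    rintro rfl
    rw [pow_zero] at hk
    exact hN1 (Subgroup.card_eq_one.mp hk)
  obtain ⟨zN, hzN⟩ := exists_prime_orderOf_dvd_card' s hsN
  have hz_ord : orderOf (zN : G ⧸ H) = s := by rw [Subgroup.orderOf_coe]; exact hzN
  have hLbn : Lb.Normal :=
    (centralizer_eq_of_noMixed hp hXnm Lb hLbcop hb hLbU hs (zN : G ⧸ H) (hNLb zN.2) hz_ord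
      (fun g => hNLb (hNn.conj_mem _ zN.2 g))).2.1
  have hkey : ∀ z ∈ L, ∀ s : ℕ, s.Prime → orderOf z = s →
      orderOf (π z) = s ∧ centralizer {π z} = Lb ∧
        ∀ g : G ⧸ H, g * π z * g⁻¹ ∈ zpowers (π z) := by
    intro z hz s hs hzs
    have hz' : π z ∈ Lb := by
      rw [hLb]
      exact Subgroup.mem_map_of_mem π hz
    have hord : orderOf (π z) = s := by
      have h6 : orderOf (⟨z, hz⟩ : L) = s := by
        rw [← hzs]
        exact Subgroup.orderOf_mk z hz
      have h7 : orderOf (e ⟨z, hz⟩) = s := by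
        rw [MulEquiv.orderOf_eq e _]
        exact h6
      rw [← Subgroup.orderOf_coe, hecoe] at h7
      exact h7
    obtain ⟨h8, -, h9⟩ := centralizer_eq_of_noMixed hp hXnm Lb hLbcop hb hLbU hs (π z) hz' hord
      (fun g => hLbn.conj_mem _ hz' g)
    exact ⟨hord, h8, h9⟩
  have hcomap : Lb.comap π = H ⊔ L := by
    rw [hLb, Subgroup.comap_map_eq, hker, sup_comm]
  have hidx : (H ⊔ L).index = p ^ b := by
    rw [← hcomap, Subgroup.index_comap_of_surjective _ hπs]
    exact hb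
  have hodd : Odd (Nat.card L) := by
    rw [← Nat.not_even_iff_odd, even_iff_two_dvd]
    intro h2
    haveI : Fact (Nat.Prime 2) := ⟨Nat.prime_two⟩
    obtain ⟨t, ht⟩ := exists_prime_orderOf_dvd_card' 2 h2
    have ht' : orderOf (t : G) = 2 := by rw [Subgroup.orderOf_coe]; exact ht
    obtain ⟨hord, hc1, hc2⟩ := hkey (t : G) t.2 2 Nat.prime_two ht'
    have htop : Lb = ⊤ := by
      rw [eq_top_iff]
      intro g _
      rw [← hc1, mem_centralizer_singleton_iff]
      obtain ⟨k, hk⟩ := mem_zpowers_iff.1 (hc2 g)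
      have h2' : (π (t : G)) ^ k = (π (t : G)) ^ (k % 2) := by
        have := (zpow_mod_orderOf (π (t : G)) k).symm
        rw [hord] at this
        exact_mod_cast this
      rcases Int.emod_two_eq_zero_or_one k with h0 | h1'
      · exfalso
        rw [h2', h0, zpow_zero] at hk
        have h10 : π (t : G) = 1 := by
          have : π (t : G) = g⁻¹ * (g * π (t : G) * g⁻¹) * g := by group
          rw [this, ← hk]
          group
        rw [h10, orderOf_one] at hord
        omega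
      · rw [h2', h1', zpow_one] at hk
        calc g * π (t : G) = (g * π (t : G) * g⁻¹) * g := by group
          _ = π (t : G) * g := by rw [← hk]
    rw [htop, Subgroup.index_top] at hb
    omega
  refine ⟨L, hL1, ?_, hodd, hL ▸ hmcop, ?_, ?_, ⟨b, hidx⟩, ?_, ?_⟩
  · haveI := hLnil
    exact isCyclic_of_odd_of_uniqueOrderP hodd (fun r hr => (hLU r hr).1)
  · rw [← hcomap]
    exact hLbn.comap π
  · intro h
    rw [h, Subgroup.index_top] at hidx
    omega
  · intro a ha ha1
    rw [Subgroup.eq_bot_iff_forall]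
    intro v hv
    obtain ⟨hvH, hvc⟩ := Subgroup.mem_inf.mp hv
    exact hfpfH a ha ha1 v hvH (mem_centralizer_singleton_iff.mp hvc).symm
  · intro x hx a ha ha1 hmem
    obtain ⟨s, n, hs, hsn⟩ := S1477.exists_prime_order_pow ha1
    obtain ⟨-, hc1, -⟩ := hkey (a ^ n) (L.pow_mem ha n) s hs hsn
    apply hx
    rw [← hcomap, Subgroup.mem_comap, ← hc1, mem_centralizer_singleton_iff]
    have h10 : π (x * a * x⁻¹ * a⁻¹) = 1 := by
      rw [← MonoidHom.mem_ker, hker]
      exact hmem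
    have h11 : π x * π a = π a * π x := by
      rw [map_mul, map_mul, map_mul, map_inv, map_inv] at h10
      calc π x * π a = (π x * π a * (π x)⁻¹ * (π a)⁻¹) * (π a * π x) := by group
        _ = π a * π x := by rw [h10, one_mul]
    rw [map_pow]
    exact ((show Commute (π x) (π a) from h11).pow_right n).eq

end Cfsg.Agent.Helper9
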