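/-
helper9: solvable CN-groups, part 5.  Three-step groups with respect to a given prime, a refined
version of `hasNormalSylow_of_commute_pCore`, and: a CN-group that is a three-step group (for any
natural number `p`) is not nilpotent and has no nontrivial normal Sylow subgroup.
-/
import Mathlib
import Cfsg.Agent.Helper9.CNSolv4

set_option autoImplicit false

namespace Cfsg.Agent.Helper9

open Subgroup Cfsg.Agent.Helper95

universe u

/-- A solvable CN-group that is not nilpotent, has no nontrivial normal Sylow subgroup and has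
`O_p(G) ≠ 1` is a three-step group with respect to `p`. -/
theorem isThreeStepGroup_of_pCore_ne_bot {G : Type u} [Group G] [Finite G] [Group.IsSolvable G]
    (hCN : Cfsg.IsCNGroup G) (hnil : ¬ Group.IsNilpotent G) (hns : ¬ HasNormalSylow G) {p : ℕ}
    (hp : p.Prime) (hO : Cfsg.pCore p G ≠ ⊥) : Cfsg.IsThreeStepGroup p G := by
  haveI hFp := Fact.mk hp
  have hHS : p ∣ (Cfsg.pCore p G).index := by
    by_contra h
    apply hns
    refine ⟨p, hFp, (Lib.isPGroup_pCore p).toSylow h, ?_, ?_⟩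
    · rw [IsPGroup.toSylow_coe]
      exact hO
    · rw [IsPGroup.toSylow_coe]
      infer_instance
  unfold Cfsg.IsThreeStepGroup
  refine ⟨hO, ?_⟩
  refine threeStep_core hCN hnil hp (Cfsg.pCore p G) (Lib.isPGroup_pCore p) hO hHS ?_ ?_ ?_
  · intro e he1 hep v hv hev
    by_contra hv1
    exact hns (hasNormalSylow_of_commute_pCore hCN hp he1 hep hv hv1 hev)
  · intro g s hs hsp hpg hsg
    exact noMixed_of_cn hCN hp hO hns g s hs hsp hpg hsg
  · intro N hNn hNp
    have := Lib.le_pCore hNn hNp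
    rwa [Helper62.pCore_quotient_pCore_eq_bot, le_bot_iff] at this

section
variable {G : Type*} [Group G] [Finite G]

/-- Refined form of `hasNormalSylow_of_commute_pCore`: the normal Sylow subgroup belongs to a
prime dividing the order of `x`. -/
lemma normal_sylow_of_commute_pCore (hCN : Cfsg.IsCNGroup G) {p : ℕ} (hp : p.Prime) {x h : G}
    (hx1 : x ≠ 1) (hxp : ¬ p ∣ orderOf x) (hh : h ∈ Cfsg.pCore p G) (hh1 : h ≠ 1)
    (hxh : x * h = h * x) :
    ∃ (r : ℕ) (_ : Fact r.Prime) (R : Sylow r G), r ∣ orderOf x ∧ (R : Subgroup G) ≠ ⊥ ∧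
      (R : Subgroup G).Normal := by
  obtain ⟨r, n, hr, her⟩ := S1477.exists_prime_order_pow hx1
  have hFr := Fact.mk hr
  have := Fact.mk hp
  have hrx : r ∣ orderOf x := by
    rw [← her]
    exact orderOf_pow_dvd n
  have hrp : r ≠ p := by
    intro h
    apply hxp
    rw [← h]
    exact hrx
  have he'1 : x ^ n ≠ 1 := by
    intro h
    rw [h, orderOf_one] at her
    exact hr.ne_one her.symm
  have he'p : ¬ p ∣ orderOf (x ^ n) := by
    rw [her]
    intro h
    exact hrp ((Nat.prime_dvd_prime_iff_eq hp hr).mp h).symm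
  have hcomm : x ^ n * h = h * x ^ n := ((show Commute x h from hxh).pow_left n).eq
  have hcent : ∀ u ∈ Cfsg.pCore p G, x ^ n * u = u * x ^ n :=
    S1474.cent_of_fix hCN hp _ (Lib.isPGroup_pCore p) he'p hh hh1 hcomm
  have hOpn : (Cfsg.pCore p G).Normal := by
    have := Lib.pCore_characteristic (G := G) p
    infer_instance
  have hCn : (centralizer (Cfsg.pCore p G : Set G)).Normal := Subgroup.normal_centralizer
  have hCnil : Group.IsNilpotent (centralizer (Cfsg.pCore p G : Set G)) := by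
    refine S0581.nilpotent_of_le ?_ (hCN _ hh1)
    intro g hg
    rw [mem_centralizer_singleton_iff]
    exact ((mem_centralizer_iff.mp hg) _ hh).symm
  have he'C : x ^ n ∈ centralizer (Cfsg.pCore p G : Set G) := by
    rw [mem_centralizer_iff]
    intro u hu
    exact (hcent u hu).symm
  have he'O : x ^ n ∈ Cfsg.pCore r G :=
    S1474.mem_pCore_of_mem_nilpotent_normal hCnil he'C
      ⟨1, by rw [pow_one, ← her]; exact pow_orderOf_eq_one _⟩
  let R : Sylow r G := default
  have hOR : Cfsg.pCore r G ≤ R := Lib.pCore_le_sylow R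
  have hOrn : (Cfsg.pCore r G).Normal := by
    have := Lib.pCore_characteristic (G := G) r
    infer_instance
  have hRnil : Group.IsNilpotent (R : Subgroup G) := R.2.isNilpotent
  have hne : (Cfsg.pCore r G).subgroupOf (R : Subgroup G) ≠ ⊥ := by
    intro h
    rw [Subgroup.subgroupOf_eq_bot, disjoint_iff, inf_eq_left.mpr hOR] at h
    rw [h, Subgroup.mem_bot] at he'O
    exact he'1 he'O
  have h1 := Lib.normal_inf_center_ne_bot ((Cfsg.pCore r G).subgroupOf (R : Subgroup G)) hne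
  rw [Ne, Subgroup.eq_bot_iff_forall] at h1
  push Not at h1
  obtain ⟨z, hz, hz1⟩ := h1
  obtain ⟨hzO, hzc⟩ := Subgroup.mem_inf.mp hz
  have hzO' : (z : G) ∈ Cfsg.pCore r G := Subgroup.mem_subgroupOf.mp hzO
  have hz1' : (z : G) ≠ 1 := fun h => hz1 (Subtype.ext h)
  have hzR : ∀ u ∈ (R : Subgroup G), u * (z : G) = (z : G) * u := by
    intro u hu
    have := (Subgroup.mem_center_iff.mp hzc) ⟨u, hu⟩
    exact congrArg Subtype.val this
  obtain ⟨k, hk⟩ := (IsPGroup.iff_card.mp (Lib.isPGroup_pCore (G := G) r))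
  obtain ⟨l, hl⟩ := (IsPGroup.iff_card.mp (Lib.isPGroup_pCore (G := G) p))
  have hdisj : Disjoint (Cfsg.pCore r G) (Cfsg.pCore p G) := by
    apply Subgroup.disjoint_of_coprime_natCard
    rw [hk, hl]
    exact Nat.Coprime.pow _ _ ((Nat.coprime_primes hr hp).mpr hrp)
  have hzF : ∀ f₀ ∈ Cfsg.pCore p G, f₀ * (z : G) = (z : G) * f₀ := by
    intro f₀ hf₀
    exact (Subgroup.commute_of_normal_of_disjoint _ _ hOrn hOpn hdisj (z : G) f₀ hzO'
      hf₀).eq.symm
  have hD := hCN (z : G) hz1'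
  have hRF : ∀ u ∈ (R : Subgroup G), ∀ f₀ ∈ Cfsg.pCore p G, u * f₀ = f₀ * u := by
    intro u hu f₀ hf₀
    have hur : ∃ k, u ^ r ^ k = 1 := by
      obtain ⟨k, hk⟩ := R.2 ⟨u, hu⟩
      exact ⟨k, by simpa using congrArg Subtype.val hk⟩
    have hf₀r : ¬ r ∣ orderOf f₀ := by
      intro h
      have h2 : r ∣ p ^ l := hl ▸ h.trans (Subgroup.orderOf_dvd_natCard _ hf₀)
      exact hrp ((Nat.prime_dvd_prime_iff_eq hr hp).mp (hr.dvd_of_dvd_pow h2))
    exact CN.commute_in_nilpotent hD hr (mem_centralizer_singleton_iff.mpr (hzR u hu))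
      (mem_centralizer_singleton_iff.mpr (hzF f₀ hf₀)) hur hf₀r
  have hRO : (R : Subgroup G) ≤ Cfsg.pCore r G := by
    intro u hu
    have hur : ∃ k, u ^ r ^ k = 1 := by
      obtain ⟨k, hk⟩ := R.2 ⟨u, hu⟩
      exact ⟨k, by simpa using congrArg Subtype.val hk⟩
    refine S1474.mem_pCore_of_mem_nilpotent_normal hCnil ?_ hur
    rw [mem_centralizer_iff]
    intro f₀ hf₀
    exact (hRF u hu f₀ hf₀).symm
  have hReq : (R : Subgroup G) = Cfsg.pCore r G := le_antisymm hRO hOR
  refine ⟨r, hFr, R, hrx, ?_, hReq ▸ hOrn⟩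
  intro hbot
  rw [hReq] at hbot
  rw [hbot, Subgroup.mem_bot] at he'O
  exact he'1 he'O

end

/-- A CN-group that is a three-step group with respect to a natural number `p` is not nilpotent
and has no nontrivial normal Sylow subgroup. -/
theorem not_nilpotent_of_isThreeStepGroup {X : Type u} [Group X] [Finite X]
    (hCN : Cfsg.IsCNGroup X) {p : ℕ} (h3 : Cfsg.IsThreeStepGroup p X) :
    ¬ Group.IsNilpotent X ∧ ¬ HasNormalSylow X := by
  obtain ⟨hK1, A, hA1, hAcyc, hAodd, hAcop, hBn, hBtop, ⟨n, hidx⟩, hfpf, hlast⟩ := h3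
  have hn0 : n ≠ 0 := by
    rintro rfl
    rw [pow_zero] at hidx
    exact hBtop (Subgroup.index_eq_one.mp hidx)
  have hKp : IsPGroup p (Cfsg.pCore p X) := Lib.isPGroup_pCore p
  have hstar : ∀ (s : ℕ) [Fact s.Prime] (S : Sylow s X), s ∣ p → (S : Subgroup X).Normal →
      False := by
    intro s _ S hsp hSn
    have hSK : (S : Subgroup X) ≤ Cfsg.pCore p X := by
      apply Lib.le_pCore hSn
      intro g
      obtain ⟨k, hk⟩ := S.2 g
      refine ⟨k, ?_⟩
      obtain ⟨m, hm⟩ := pow_dvd_pow_of_dvd hsp k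
      rw [hm, pow_mul, hk, one_pow]
    have h1 : s ∣ (Cfsg.pCore p X ⊔ A).index := by
      rw [hidx]
      exact dvd_pow hsp hn0
    have h2 : (Cfsg.pCore p X ⊔ A).index ∣ (S : Subgroup X).index :=
      Subgroup.index_dvd_of_le (hSK.trans le_sup_left)
    exact S.not_dvd_index (h1.trans h2)
  have hp1 : p ≠ 1 := by
    rintro rfl
    rw [one_pow] at hidx
    exact hBtop (Subgroup.index_eq_one.mp hidx)
  obtain ⟨s, hs, hsp⟩ := Nat.exists_prime_and_dvd hp1
  constructor
  · intro hnil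
    haveI := Fact.mk hs
    exact hstar s (default : Sylow s X) hsp
      (Sylow.normal_of_normalizerCondition Group.normalizerCondition_of_isNilpotent _)
  · rintro ⟨s', hs', S, hS1, hSn⟩
    have hs'p : ¬ s' ∣ p := fun h => hstar s' S h hSn
    rw [Ne, Subgroup.eq_bot_iff_forall] at hS1 hK1
    push Not at hS1 hK1
    obtain ⟨z, hzS, hz1⟩ := hS1
    obtain ⟨k₀, hk₀K, hk₀1⟩ := hK1
    obtain ⟨j, hj⟩ := hKp ⟨k₀, hk₀K⟩
    have hj' : k₀ ^ p ^ j = 1 := by simpa using congrArg Subtype.val hj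
    have hk₀dvd : orderOf k₀ ∣ p ^ j := orderOf_dvd_of_pow_eq_one hj'
    have hk₀s : ¬ s' ∣ orderOf k₀ := by
      intro h
      exact hs'p (hs'.out.dvd_of_dvd_pow (h.trans hk₀dvd))
    have hzO : z ∈ Cfsg.pCore s' X := Lib.le_pCore hSn S.2 hzS
    have hKn : (Cfsg.pCore p X).Normal := inferInstance
    have hdisj : Disjoint (Cfsg.pCore p X) (S : Subgroup X) := by
      rw [Subgroup.disjoint_def]
      intro x hxK hxS
      obtain ⟨i, hi⟩ := hKp ⟨x, hxK⟩
      have hi' : x ^ p ^ i = 1 := by simpa using congrArg Subtype.val hi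
      obtain ⟨i2, hi2⟩ := S.2 ⟨x, hxS⟩
      have hi2' : x ^ s' ^ i2 = 1 := by simpa using congrArg Subtype.val hi2
      have h1 : orderOf x ∣ p ^ i := orderOf_dvd_of_pow_eq_one hi'
      have h2 : orderOf x ∣ s' ^ i2 := orderOf_dvd_of_pow_eq_one hi2'
      have hcop : (p ^ i).Coprime (s' ^ i2) :=
        Nat.Coprime.pow _ _ ((Nat.Prime.coprime_iff_not_dvd hs'.out).mpr hs'p).symm
      exact orderOf_eq_one_iff.mp (Nat.eq_one_of_dvd_coprimes hcop h1 h2)
    have hcomm : k₀ * z = z * k₀ :=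
      (Subgroup.commute_of_normal_of_disjoint _ _ hKn hSn hdisj k₀ z hk₀K hzS).eq
    obtain ⟨r, hr, R, hro, hR1, hRn⟩ :=
      normal_sylow_of_commute_pCore hCN hs'.out hk₀1 hk₀s hzO hz1 hcomm
    have hrp : r ∣ p := hr.out.dvd_of_dvd_pow (hro.trans hk₀dvd)
    exact hstar r R hrp hRn

end Cfsg.Agent.Helper9
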