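/-
helper9: minimal simple CN-groups of odd order, part 1: basic lemmas.
-/
import Mathlib
import Cfsg.Prelude.Def_OddOrder
import Cfsg.Agent.Helper9.CNSolv5
import Cfsg.Agent.Helper9.CNSolv6
import Cfsg.Agent.Helper48.StronglyEmbedded
import Cfsg.Agent.S1477

set_option autoImplicit false

namespace Cfsg.Agent.Helper9

open Subgroup Cfsg.Agent.Helper95
open scoped Pointwise

universe u

section
variable {G : Type u} [Group G] [Finite G]

/-- A `p`-subgroup of a nilpotent subgroup `T` containing the Sylow `p`-subgroup `P` lies in `P`. -/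
lemma le_sylow_of_le_nilpotent {p : ℕ} [Fact p.Prime] {T : Subgroup G} (hT : Group.IsNilpotent T)
    (P : Sylow p G) (hPT : (P : Subgroup G) ≤ T) {Q : Subgroup G} (hQT : Q ≤ T)
    (hQ : IsPGroup p Q) : Q ≤ P := by
  haveI := hT
  let P' : Sylow p T := P.subtype hPT
  have hP'n : (P' : Subgroup T).Normal :=
    Sylow.normal_of_normalizerCondition Group.normalizerCondition_of_isNilpotent P'
  have hQ' : IsPGroup p (Q.subgroupOf T) := hQ.comap_subtype
  obtain ⟨S, hS⟩ := hQ'.exists_le_sylow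
  haveI := Sylow.unique_of_normal P' hP'n
  have hSP : S = P' := Subsingleton.elim _ _
  intro x hx
  have h1 : (⟨x, hQT hx⟩ : T) ∈ (S : Subgroup T) := hS (Subgroup.mem_subgroupOf.mpr hx)
  rw [hSP] at h1
  have h2 : (⟨x, hQT hx⟩ : T) ∈ (P : Subgroup G).subgroupOf T := h1
  exact Subgroup.mem_subgroupOf.mp h2

/-- In a minimal simple group of odd order, the normalizer of a nontrivial `p`-subgroup is
proper. -/
lemma normalizer_ne_top_of_minSimple (hG : Cfsg.IsMinSimpleOddOrder G) {p : ℕ} [Fact p.Prime]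
    {Q : Subgroup G} (hQ : IsPGroup p Q) (hQ1 : Q ≠ ⊥) : normalizer (Q : Set G) ≠ ⊤ := by
  intro h
  have hQn : Q.Normal := Subgroup.normalizer_eq_top_iff.mp h
  obtain ⟨-, hsimple, hnc, -⟩ := hG
  haveI := hsimple
  rcases hQn.eq_bot_or_eq_top with h1 | h1
  · exact hQ1 h1
  · have hGp : IsPGroup p G := by
      intro g
      obtain ⟨k, hk⟩ := hQ ⟨g, h1 ▸ Subgroup.mem_top g⟩
      exact ⟨k, by simpa using congrArg Subtype.val hk⟩
    haveI := hGp.isNilpotent
    have hsol : Group.IsSolvable G := inferInstance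
    apply hnc
    have hc := IsSimpleGroup.comm_iff_isSolvable.mpr hsol
    exact ⟨⟨hc⟩⟩

/-- A minimal simple group is perfect. -/
lemma commutator_eq_top_of_minSimple (hG : Cfsg.IsMinSimpleOddOrder G) : commutator G = ⊤ := by
  obtain ⟨-, hsimple, hnc, -⟩ := hG
  haveI := hsimple
  have hn : (commutator G).Normal := inferInstance
  rcases hn.eq_bot_or_eq_top with h1 | h1
  · exfalso
    apply hnc
    rw [commutator_eq_bot_iff_center_eq_top] at h1
    refine ⟨⟨fun a b => ?_⟩⟩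
    have : b ∈ Subgroup.center G := h1 ▸ Subgroup.mem_top b
    exact (Subgroup.mem_center_iff.mp this a)
  · exact h1

/-- If `H ≤ N_G(P)` for a Sylow `p`-subgroup `P` of `G` containing a Sylow `p`-subgroup of `H`, and
`O_p(H) ≠ 1`, then `H` has a nontrivial normal Sylow subgroup. -/
lemma hasNormalSylow_of_le_normalizer_sylow {p : ℕ} [hp : Fact p.Prime] (H : Subgroup G)
    (hHO : Cfsg.pCore p ↥H ≠ ⊥) (P : Sylow p G) (P₁ : Sylow p ↥H)
    (hP₁P : (P₁ : Subgroup ↥H).map H.subtype ≤ P)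
    (hHN : H ≤ normalizer ((P : Subgroup G) : Set G)) : HasNormalSylow ↥H := by
  have hDn : ((P : Subgroup G).subgroupOf H).Normal :=
    Subgroup.normal_subgroupOf_of_le_normalizer hHN
  have hDp : IsPGroup p ((P : Subgroup G).subgroupOf H) := P.2.comap_subtype
  have hle : (P₁ : Subgroup ↥H) ≤ (P : Subgroup G).subgroupOf H := by
    intro x hx
    rw [Subgroup.mem_subgroupOf]
    exact hP₁P (Subgroup.mem_map_of_mem H.subtype hx)
  have heq : (P : Subgroup G).subgroupOf H = P₁ := P₁.is_maximal' hDp hle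
  refine ⟨p, hp, P₁, ?_, heq ▸ hDn⟩
  intro hbot
  apply hHO
  have := Lib.pCore_le_sylow P₁
  rw [hbot] at this
  exact le_bot_iff.mp this

/-- If the Sylow `p`-subgroup `P` of the CN-group `G` is a maximal nilpotent subgroup, then no
nonidentity `p`-element commutes with a nonidentity `p'`-element. -/
lemma eq_one_of_commute_of_sylow_maxNilpotent (hCN : Cfsg.IsCNGroup G) {p : ℕ} [hp : Fact p.Prime]
    (P : Sylow p G) (hP1 : (P : Subgroup G) ≠ ⊥)
    (hmaxP : ∀ L : Subgroup G, Group.IsNilpotent L → (P : Subgroup G) ≤ L → L = P) {x y : G}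
    (hx1 : x ≠ 1) (hxp : ∃ k, x ^ p ^ k = 1) (hxy : x * y = y * x) (hyp : ¬ p ∣ orderOf y) :
    y = 1 := by
  have hpp := hp.out
  have hnt : Nontrivial (P : Subgroup G) := (Subgroup.nontrivial_iff_ne_bot _).mpr hP1
  have hcn := P.2.center_nontrivial
  obtain ⟨w, hw1⟩ := exists_ne (1 : Subgroup.center (P : Subgroup G))
  obtain ⟨z, hz⟩ : ∃ z : G, z = ((w : (P : Subgroup G)) : G) := ⟨_, rfl⟩
  have hz1 : z ≠ 1 := by
    intro h
    apply hw1
    apply Subtype.ext
    apply Subtype.ext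
    rw [← hz]
    exact h
  have hzP : z ∈ (P : Subgroup G) := by rw [hz]; exact (w : (P : Subgroup G)).2
  have hzc : ∀ u ∈ (P : Subgroup G), u * z = z * u := by
    intro u hu
    have := (Subgroup.mem_center_iff.mp w.2) ⟨u, hu⟩
    rw [hz]
    exact congrArg Subtype.val this
  have hCz : centralizer {z} = (P : Subgroup G) :=
    hmaxP _ (hCN z hz1) (fun u hu => mem_centralizer_singleton_iff.mpr (hzc u hu))
  have hzp : ∃ k, z ^ p ^ k = 1 := by
    obtain ⟨k, hk⟩ := P.2 ⟨z, hzP⟩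
    exact ⟨k, by simpa using congrArg Subtype.val hk⟩
  have key : ∀ x' ∈ (P : Subgroup G), x' ≠ 1 → ∀ y', x' * y' = y' * x' → ¬ p ∣ orderOf y' →
      y' = 1 := by
    intro x' hx' hx'1 y' hxy' hy'
    have hD := hCN x' hx'1
    have hzD : z ∈ centralizer {x'} := mem_centralizer_singleton_iff.mpr (hzc x' hx').symm
    have hyD : y' ∈ centralizer {x'} := mem_centralizer_singleton_iff.mpr hxy'.symm
    have hzy : z * y' = y' * z := CN.commute_in_nilpotent hD hpp hzD hyD hzp hy'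
    have hyP : y' ∈ (P : Subgroup G) := by
      rw [← hCz, mem_centralizer_singleton_iff]
      exact hzy.symm
    obtain ⟨k, hk⟩ := P.2 ⟨y', hyP⟩
    have hk' : y' ^ p ^ k = 1 := by simpa using congrArg Subtype.val hk
    have h1 : orderOf y' ∣ p ^ k := orderOf_dvd_of_pow_eq_one hk'
    obtain ⟨i, -, hi⟩ := (Nat.dvd_prime_pow hpp).mp h1
    rcases Nat.eq_zero_or_pos i with h0 | h0
    · rw [h0, pow_zero] at hi
      exact orderOf_eq_one_iff.mp hi
    · exfalso
      apply hy'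
      rw [hi]
      exact dvd_pow_self p h0.ne'
  obtain ⟨k, hk⟩ := hxp
  have hzpx : IsPGroup p (zpowers x) := by
    have h1 : orderOf x ∣ p ^ k := orderOf_dvd_of_pow_eq_one hk
    obtain ⟨i, -, hi⟩ := (Nat.dvd_prime_pow hpp).mp h1
    exact IsPGroup.of_card (n := i) (by rw [Nat.card_zpowers, hi])
  obtain ⟨P₂, hP₂⟩ := hzpx.exists_le_sylow
  obtain ⟨g, hg⟩ := MulAction.exists_smul_eq G P P₂
  have hxP₂ : x ∈ (P₂ : Subgroup G) := hP₂ (mem_zpowers x)
  rw [← hg, Sylow.coe_subgroup_smul, Subgroup.mem_smul_pointwise_iff_exists] at hxP₂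
  obtain ⟨s, hsP, hsx⟩ := hxP₂
  rw [MulAut.smul_def, MulAut.conj_apply] at hsx
  have hs1 : s ≠ 1 := by
    rintro rfl
    apply hx1
    rw [← hsx]
    group
  have hsy : s * (g⁻¹ * y * g) = (g⁻¹ * y * g) * s := by
    have e1 : s = g⁻¹ * x * g := by rw [← hsx]; group
    rw [e1]
    calc g⁻¹ * x * g * (g⁻¹ * y * g) = g⁻¹ * (x * y) * g := by group
      _ = g⁻¹ * (y * x) * g := by rw [hxy]
      _ = g⁻¹ * y * g * (g⁻¹ * x * g) := by group
  have hord : orderOf (g⁻¹ * y * g) = orderOf y := by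
    have := Helper48.orderOf_conj' g⁻¹ y
    rwa [inv_inv] at this
  have h1 := key s hsP hs1 (g⁻¹ * y * g) hsy (by rw [hord]; exact hyp)
  calc y = g * (g⁻¹ * y * g) * g⁻¹ := by group
    _ = 1 := by rw [h1]; group

/-- Under the conclusion of the previous lemma, every `p`-local `N` satisfies
`C_N(O_p(N)) ≤ O_p(N)`. -/
lemma centralizer_pCore_le_of_local {p : ℕ} [hp : Fact p.Prime]
    (hP1' : ∀ x y : G, x ≠ 1 → (∃ k, x ^ p ^ k = 1) → x * y = y * x → ¬ p ∣ orderOf y → y = 1)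
    (Q : Subgroup G) (hQ : IsPGroup p Q) (hQ1 : Q ≠ ⊥) :
    centralizer (Cfsg.pCore p ↥(normalizer (Q : Set G)) : Set ↥(normalizer (Q : Set G))) ≤
      Cfsg.pCore p ↥(normalizer (Q : Set G)) := by
  have hpp := hp.out
  have hQn : (Q.subgroupOf (normalizer (Q : Set G))).Normal := Subgroup.normal_in_normalizer
  have hQp : IsPGroup p (Q.subgroupOf (normalizer (Q : Set G))) := hQ.comap_subtype
  have hQle := Lib.le_pCore hQn hQp
  rw [Ne, Subgroup.eq_bot_iff_forall] at hQ1
  push Not at hQ1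
  obtain ⟨x₀, hx₀Q, hx₀1⟩ := hQ1
  have hx₀p : ∃ k, x₀ ^ p ^ k = 1 := by
    obtain ⟨k, hk⟩ := hQ ⟨x₀, hx₀Q⟩
    exact ⟨k, by simpa using congrArg Subtype.val hk⟩
  have hCn : (centralizer (Cfsg.pCore p ↥(normalizer (Q : Set G)) :
      Set ↥(normalizer (Q : Set G)))).Normal := Subgroup.normal_centralizer
  apply Lib.le_pCore hCn
  rintro ⟨c, hc⟩
  have hcx : (c : G) * x₀ = x₀ * (c : G) := by
    have h1 : (⟨x₀, Subgroup.le_normalizer hx₀Q⟩ : normalizer (Q : Set G)) ∈
        Cfsg.pCore p ↥(normalizer (Q : Set G)) := hQle (Subgroup.mem_subgroupOf.mpr hx₀Q)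
    have h2 := (mem_centralizer_iff.mp hc) _ h1
    exact (congrArg Subtype.val h2).symm
  obtain ⟨a, b, ha, hb, hab, hap, hbp⟩ := CN.exists_parts p hpp (c : G)
  have hbx : x₀ * b = b * x₀ := by
    obtain ⟨i, rfl⟩ := mem_zpowers_iff.mp hb
    exact ((show Commute x₀ (c : G) from hcx.symm).zpow_right i).eq
  have hb1 : b = 1 := hP1' x₀ b hx₀1 hx₀p hbx hbp
  rw [hb1, mul_one] at hab
  obtain ⟨k, hk⟩ := hap
  refine ⟨k, ?_⟩
  apply Subtype.ext
  apply Subtype.ext
  rw [hab] at hk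
  simpa using hk

end

end Cfsg.Agent.Helper9
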