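/-
helper9: minimal simple CN-groups of odd order, part 2: no subgroup is a three-step group.
-/
import Mathlib
import Cfsg.Agent.Helper9.CNSolv7

set_option autoImplicit false
set_option maxHeartbeats 800000

namespace Cfsg.Agent.Helper9

open Subgroup Cfsg.Agent.Helper95
open scoped Pointwise commutatorElement

universe u

/-- In a minimal simple CN-group of odd order no subgroup is non-nilpotent, without nontrivial
normal Sylow subgroup, and with `O_p ≠ 1` (i.e. no subgroup is a three-step group w.r.t. `p`). -/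
theorem false_of_threeStep_candidate {G : Type u} [Group G] [Finite G]
    (hG : Cfsg.IsMinSimpleOddOrder G) (hCN : Cfsg.IsCNGroup G) {p : ℕ} (hp : p.Prime)
    (H : Subgroup G) (hHnil : ¬ Group.IsNilpotent H) (hHns : ¬ HasNormalSylow H)
    (hHO : Cfsg.pCore p ↥H ≠ ⊥) : False := by
  haveI hFp := Fact.mk hp
  obtain ⟨hodd, hsimple, hnc, hsolv⟩ := id hG
  have hp2 : p ≠ 2 := by
    have hoddH : Odd (Nat.card H) := Odd.of_dvd_nat hodd (Subgroup.card_subgroup_dvd_card H)
    exact Helper64.prime_ne_two_of_odd hoddH (Cfsg.pCore p ↥H) (Lib.isPGroup_pCore p) hHO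
  let P₁ : Sylow p ↥H := default
  have hP₁p : IsPGroup p ((P₁ : Subgroup ↥H).map H.subtype) := P₁.2.map _
  obtain ⟨P, hP₁P⟩ := hP₁p.exists_le_sylow
  obtain ⟨O, hO⟩ : ∃ O : Subgroup G, O = (Cfsg.pCore p ↥H).map H.subtype := ⟨_, rfl⟩
  have hOp : IsPGroup p O := hO ▸ (Lib.isPGroup_pCore p).map _
  have hO1 : O ≠ ⊥ := by
    rw [hO]
    intro h
    exact hHO ((Subgroup.map_eq_bot_iff_of_injective _ H.subtype_injective).mp h)
  have hOP : O ≤ P := by
    rw [hO]
    exact (Subgroup.map_mono (Lib.pCore_le_sylow P₁)).trans hP₁P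
  have hHNO : H ≤ normalizer (O : Set G) := by
    have h1 := Subgroup.le_normalizer_map (H := Cfsg.pCore p ↥H) H.subtype
    rw [Subgroup.normalizer_eq_top, ← MonoidHom.range_eq_map, Subgroup.range_subtype] at h1
    rw [hO]
    exact h1
  have hP1 : (P : Subgroup G) ≠ ⊥ := fun h => hO1 (le_bot_iff.mp (h ▸ hOP))
  have hKS : ¬ H ≤ normalizer ((P : Subgroup G) : Set G) :=
    fun h => hHns (hasNormalSylow_of_le_normalizer_sylow H hHO P P₁ hP₁P h)
  obtain ⟨T, hPT, hTmax⟩ := Finite.exists_le_maximal
    (p := fun L : Subgroup G => Group.IsNilpotent L) (a := (P : Subgroup G)) P.2.isNilpotent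
  have hTnil : Group.IsNilpotent T := hTmax.prop
  have hTmax' : ∀ L : Subgroup G, Group.IsNilpotent L → T ≤ L → L = T :=
    fun L hL hTL => le_antisymm (hTmax.le_of_ge hL hTL) hTL
  obtain ⟨hcop, hTI, -⟩ := S1477.result hCN T hTnil hTmax'
  by_cases hpp : IsPrimePow (Nat.card T)
  · -- `T = P` is a maximal nilpotent subgroup
    have hTP : T = (P : Subgroup G) := by
      obtain ⟨q, k, hq, hk, hqk⟩ := hpp
      have hq' : q.Prime := hq.nat_prime
      have hpT : p ∣ Nat.card T := by
        have h1 : Nat.card (P : Subgroup G) ∣ Nat.card T := Subgroup.card_dvd_of_le hPT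
        obtain ⟨j, hj⟩ := IsPGroup.iff_card.mp P.2
        have hj0 : j ≠ 0 := by
          rintro rfl
          rw [pow_zero] at hj
          exact hP1 (Subgroup.card_eq_one.mp hj)
        exact (hj ▸ dvd_pow_self p hj0).trans h1
      rw [← hqk] at hpT
      have hpq : p = q := (Nat.prime_dvd_prime_iff_eq hp hq').mp (hp.dvd_of_dvd_pow hpT)
      rw [← hpq] at hqk
      have hTp : IsPGroup p T := IsPGroup.of_card hqk.symm
      exact P.is_maximal' hTp hPT
    have hmaxP : ∀ L : Subgroup G, Group.IsNilpotent L → (P : Subgroup G) ≤ L → L = P := by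
      intro L hL hPL
      rw [← hTP]
      exact hTmax' L hL (hTP ▸ hPL)
    have hP1' : ∀ x y : G, x ≠ 1 → (∃ k, x ^ p ^ k = 1) → x * y = y * x → ¬ p ∣ orderOf y →
        y = 1 :=
      fun x y hx1 hxp hxy hyp =>
        eq_one_of_commute_of_sylow_maxNilpotent hCN P hP1 hmaxP hx1 hxp hxy hyp
    have hloc : ∀ Q : Subgroup G, IsPGroup p Q → Q ≠ ⊥ →
        ∀ T' : Sylow p ↥(normalizer (Q : Set G)), normalizer (Q : Set G) ≤
          normalizer (Cfsg.centerThompsonAOf
            ((T' : Subgroup ↥(normalizer (Q : Set G))).map (normalizer (Q : Set G)).subtype) :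
              Set G) := by
      intro Q hQ hQ1 T'
      have hNtop := normalizer_ne_top_of_minSimple hG hQ hQ1
      have hNsolv : Group.IsSolvable (normalizer (Q : Set G)) := hsolv _ hNtop
      have hNodd : Odd (Nat.card (normalizer (Q : Set G))) :=
        Odd.of_dvd_nat hodd (Subgroup.card_subgroup_dvd_card _)
      exact le_normalizer_zj_sylow_of_odd_solvable hp2 _ hNsolv hNodd
        (centralizer_pCore_le_of_local hP1' Q hQ hQ1) T'
    obtain ⟨Z, hZ⟩ : ∃ Z : Subgroup G, Z = Cfsg.centerThompsonAOf (P : Subgroup G) := ⟨_, rfl⟩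
    obtain ⟨M, hM⟩ : ∃ M : Subgroup G, M = normalizer (Z : Set G) := ⟨_, rfl⟩
    have hstep4 : ∀ Q : Subgroup G, Q ≤ (P : Subgroup G) → Q ≠ ⊥ →
        normalizer (Q : Set G) ≤ M := by
      intro Q hQP hQ1
      rw [hM, hZ]
      exact normalizer_le_normalizer_zj_of_local hloc P _ Q hQP hQ1 rfl
    have hZ1 : Z ≠ ⊥ := hZ ▸ Lib.ZJ.centerThompsonAOf_ne_bot P.2 hP1
    have hZP : Z ≤ P := hZ ▸ Lib.ZJ.centerThompsonAOf_le _
    have hZp : IsPGroup p Z := P.2.to_le hZP
    have hMtop : M ≠ ⊤ := hM ▸ normalizer_ne_top_of_minSimple hG hZp hZ1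
    have hPM : (P : Subgroup G) ≤ M := by
      rw [hM, hZ]
      exact Subgroup.le_normalizer.trans (Lib.ZJ.normalizer_le_normalizer_centerThompsonAOf _)
    have hHM : H ≤ M := hHNO.trans (hstep4 O hOP hO1)
    haveI hMsolv : Group.IsSolvable M := hsolv M hMtop
    have hMCN : Cfsg.IsCNGroup M := Fpf.cn_subgroup hCN M
    have hMnil : ¬ Group.IsNilpotent M := fun h => hHnil (S0581.nilpotent_of_le hHM h)
    have hZn : (Z.subgroupOf M).Normal := by
      rw [hM]
      exact Subgroup.normal_in_normalizer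
    have hZmp : IsPGroup p (Z.subgroupOf M) := hZp.comap_subtype
    have hZM : Z ≤ M := hZP.trans hPM
    have hZm1 : Z.subgroupOf M ≠ ⊥ := by
      intro h
      rw [Subgroup.subgroupOf_eq_bot, disjoint_iff, inf_eq_left.mpr hZM] at h
      exact hZ1 h
    have hMns : ¬ HasNormalSylow M := by
      rintro ⟨s, hs, S, hS1, hSn⟩
      by_cases hsp : s = p
      · subst hsp
        haveI := Sylow.unique_of_normal S hSn
        have hSP : S = P.subtype hPM := Subsingleton.elim _ _
        apply hKS
        intro h hh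
        have hhM := hHM hh
        rw [hSP] at hSn
        have hn : ((P : Subgroup G).subgroupOf M).Normal := hSn
        rw [Subgroup.mem_normalizer_iff]
        intro x
        constructor
        · intro hx
          have := hn.conj_mem ⟨x, hPM hx⟩ (Subgroup.mem_subgroupOf.mpr hx) ⟨h, hhM⟩
          exact Subgroup.mem_subgroupOf.mp this
        · intro hx
          have hx' : h * x * h⁻¹ ∈ M := hPM hx
          have := hn.conj_mem ⟨h * x * h⁻¹, hx'⟩ (Subgroup.mem_subgroupOf.mpr hx) ⟨h, hhM⟩⁻¹
          have h2 := Subgroup.mem_subgroupOf.mp this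
          have e : ((⟨h, hhM⟩⁻¹ * ⟨h * x * h⁻¹, hx'⟩ * (⟨h, hhM⟩⁻¹)⁻¹ : M) : G) = x := by
            simp only [Subgroup.coe_mul, Subgroup.coe_inv]
            group
          rwa [e] at h2
      · have hdisj : Disjoint (S : Subgroup M) (Z.subgroupOf M) := by
          apply Subgroup.disjoint_of_coprime_natCard
          obtain ⟨i, hi⟩ := IsPGroup.iff_card.mp S.2
          obtain ⟨j, hj⟩ := IsPGroup.iff_card.mp hZmp
          rw [hi, hj]
          exact Nat.Coprime.pow _ _ ((Nat.coprime_primes hs.out hp).mpr hsp)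
        rw [Ne, Subgroup.eq_bot_iff_forall] at hS1 hZm1
        push Not at hS1 hZm1
        obtain ⟨y, hyS, hy1⟩ := hS1
        obtain ⟨x₀, hx₀Z, hx₀1⟩ := hZm1
        have hc := Subgroup.commute_of_normal_of_disjoint _ _ hSn hZn hdisj y x₀ hyS hx₀Z
        have hc' : (x₀ : G) * (y : G) = (y : G) * (x₀ : G) := (congrArg Subtype.val hc.eq).symm
        have hx₀1' : (x₀ : G) ≠ 1 := fun h => hx₀1 (Subtype.ext h)
        have hx₀p : ∃ k, (x₀ : G) ^ p ^ k = 1 := by
          obtain ⟨k, hk⟩ := hZp ⟨(x₀ : G), Subgroup.mem_subgroupOf.mp hx₀Z⟩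
          exact ⟨k, by simpa using congrArg Subtype.val hk⟩
        have hyp : ¬ p ∣ orderOf (y : G) := by
          obtain ⟨k, hk⟩ := S.2 ⟨y, hyS⟩
          have hk' : (y : G) ^ s ^ k = 1 := by
            have := congrArg Subtype.val (congrArg Subtype.val hk)
            simpa using this
          intro hdvd
          have h2 : p ∣ s ^ k := hdvd.trans (orderOf_dvd_of_pow_eq_one hk')
          exact hsp ((Nat.prime_dvd_prime_iff_eq hp hs.out).mp (hp.dvd_of_dvd_pow h2)).symm
        have := hP1' (x₀ : G) (y : G) hx₀1' hx₀p hc' hyp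
        exact hy1 (Subtype.ext this)
    have hMO : Cfsg.pCore p ↥M ≠ ⊥ :=
      fun h => hZm1 (le_bot_iff.mp (h ▸ Lib.le_pCore hZn hZmp))
    have h3 := isThreeStepGroup_of_pCore_ne_bot hMCN hMnil hMns hp hMO
    obtain ⟨-, A, -, -, -, -, hBn, hBtop, ⟨n, hidx⟩, -, -⟩ := h3
    obtain ⟨B, hB⟩ : ∃ B : Subgroup M, B = Cfsg.pCore p ↥M ⊔ A := ⟨_, rfl⟩
    rw [← hB] at hBn hBtop hidx
    -- `M` is strongly `p`-embedded
    have hpG : p ∣ Nat.card G := by
      obtain ⟨j, hj⟩ := IsPGroup.iff_card.mp P.2
      have hj0 : j ≠ 0 := by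
        rintro rfl
        rw [pow_zero] at hj
        exact hP1 (Subgroup.card_eq_one.mp hj)
      exact (hj ▸ dvd_pow_self p hj0).trans (Subgroup.card_subgroup_dvd_card _)
    have hSE : Cfsg.IsStronglyPEmbedded p M := by
      refine ⟨hpG, hMtop, P, ?_⟩
      unfold Cfsg.kGeneratedCore
      apply iSup_le
      rintro ⟨Q, hQP, hQr⟩
      apply hstep4 Q hQP
      rintro rfl
      apply hQr
      intro A' _ _
      rw [pow_zero]
      exact Finite.card_le_one_iff_subsingleton.mpr inferInstance
    -- the focal subgroup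
    have hfocal : (P : Subgroup G) ≤ (commutator M).map M.subtype := by
      have h1 := Subgroup.commutator_inf_eq_focalSubgroup P
      rw [commutator_eq_top_of_minSimple hG, top_inf_eq] at h1
      intro g₀ hg₀
      rw [h1, Subgroup.focalSubgroup_def] at hg₀
      revert g₀
      rw [← SetLike.le_def, Subgroup.closure_le]
      rintro g ⟨hgP, x, hxP, u, rfl⟩
      by_cases hx1 : x = 1
      · subst hx1
        have : ⁅(1 : G), u⁆ = 1 := by rw [commutatorElement_def]; group
        rw [this]
        exact one_mem _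
      · have huM : u ∈ M := by
          apply Helper48.mem_of_conjSub_le hSE (Q := zpowers x) ((zpowers_le.mpr hxP).trans hPM)
            (P.2.to_le (zpowers_le.mpr hxP)) (by simpa using hx1)
          rintro _ ⟨y, hy, rfl⟩
          obtain ⟨i, rfl⟩ := mem_zpowers_iff.mp hy
          have h2 : u * x * u⁻¹ ∈ (P : Subgroup G) := by
            have h3 : x⁻¹ * ⁅x, u⁆ ∈ (P : Subgroup G) := mul_mem (inv_mem hxP) hgP
            have h4 : (x⁻¹ * ⁅x, u⁆)⁻¹ = u * x * u⁻¹ := by rw [commutatorElement_def]; group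
            rw [← h4]
            exact inv_mem h3
          apply hPM
          simp only [MulEquiv.coe_toMonoidHom, MulAut.conj_apply]
          rw [← conj_zpow]
          exact zpow_mem h2 i
        exact ⟨⁅(⟨x, hPM hxP⟩ : M), ⟨u, huM⟩⁆,
          commutator_mem_commutator (mem_top _) (mem_top _), rfl⟩
    let P' : Sylow p M := P.subtype hPM
    have hP'le : (P' : Subgroup M) ≤ commutator M := by
      intro y hy
      have hyP : (y : G) ∈ (P : Subgroup G) := Subgroup.mem_subgroupOf.mp hy
      obtain ⟨c, hc, hcy⟩ := hfocal hyP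
      have : c = y := Subtype.ext hcy
      rwa [← this]
    have hsup : (P' : Subgroup M) ⊔ B = ⊤ := by
      rw [← Subgroup.index_eq_one]
      have h1 : ((P' : Subgroup M) ⊔ B).index ∣ p ^ n :=
        hidx ▸ Subgroup.index_dvd_of_le le_sup_right
      have h2 : ((P' : Subgroup M) ⊔ B).index ∣ (P' : Subgroup M).index :=
        Subgroup.index_dvd_of_le le_sup_left
      have hcop' : (p ^ n).Coprime (P' : Subgroup M).index :=
        Nat.Coprime.pow_left n ((Nat.Prime.coprime_iff_not_dvd hp).mpr P'.not_dvd_index)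
      exact Nat.eq_one_of_dvd_coprimes hcop' h1 h2
    haveI := hBn
    have hQcard : Nat.card (M ⧸ B) = p ^ n := by
      rw [← Subgroup.index_eq_card]
      exact hidx
    have hn0 : n ≠ 0 := by
      rintro rfl
      rw [pow_zero] at hidx
      exact hBtop (Subgroup.index_eq_one.mp hidx)
    have hQp : IsPGroup p (M ⧸ B) := IsPGroup.of_card hQcard
    haveI : Nontrivial (M ⧸ B) := by
      rw [← Finite.one_lt_card_iff_nontrivial, hQcard]
      exact Nat.one_lt_pow hn0 hp.one_lt
    haveI := hQp.isNilpotent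
    have hlt : commutator (M ⧸ B) < ⊤ := Group.IsSolvable.commutator_lt_top_of_nontrivial (M ⧸ B)
    apply hlt.ne
    rw [eq_top_iff]
    have h1 : Subgroup.map (QuotientGroup.mk' B) ((P' : Subgroup M) ⊔ B) = ⊤ := by
      rw [hsup, ← MonoidHom.range_eq_map, MonoidHom.range_eq_top]
      exact QuotientGroup.mk'_surjective B
    have h2 : Subgroup.map (QuotientGroup.mk' B) B = ⊥ := by
      rw [Subgroup.map_eq_bot_iff, QuotientGroup.ker_mk']
    rw [← h1, Subgroup.map_sup, h2, sup_bot_eq]
    calc Subgroup.map (QuotientGroup.mk' B) (P' : Subgroup M)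
        ≤ Subgroup.map (QuotientGroup.mk' B) (commutator M) := Subgroup.map_mono hP'le
      _ ≤ commutator (M ⧸ B) := by
          rw [commutator_def, Subgroup.map_commutator, commutator_def]
          exact Subgroup.commutator_mono le_top le_top
  · -- `T` is not of prime power order, hence a TI-subgroup
    apply hKS
    have hT1 : Nat.card T ≠ 1 := by
      intro h
      have hTbot : T = ⊥ := Subgroup.card_eq_one.mp h
      exact hP1 (le_bot_iff.mp (hTbot ▸ hPT))
    intro h hh
    have hhO := hHNO hh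
    have hTh : T.map (MulAut.conj h).toMonoidHom = T := by
      by_contra hne
      have h0 := hTI hpp hT1 h hne
      apply hO1
      rw [eq_bot_iff, ← h0]
      refine le_inf (hOP.trans hPT) ?_
      intro x hx
      have h1 : h⁻¹ * x * h ∈ O := by
        have := (Subgroup.mem_normalizer_iff.mp (inv_mem hhO) x).mp hx
        simpa using this
      refine ⟨h⁻¹ * x * h, hPT (hOP h1), ?_⟩
      simp only [MulEquiv.coe_toMonoidHom, MulAut.conj_apply]
      group
    have hPh : (P : Subgroup G).map (MulAut.conj h).toMonoidHom ≤ P := by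
      apply le_sylow_of_le_nilpotent hTnil P hPT _ (P.2.map _)
      rw [← hTh]
      exact Subgroup.map_mono hPT
    exact Helper48.mem_normalizer_of_conjSub_le hPh

end Cfsg.Agent.Helper9
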