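/-
helper9: minimal simple CN-groups of odd order, part 3: maximal nilpotent subgroups of prime
power order.
-/
import Mathlib
import Cfsg.Agent.Helper9.CNSolv8

set_option autoImplicit false
set_option maxHeartbeats 800000

namespace Cfsg.Agent.Helper9

open Subgroup Cfsg.Agent.Helper95
open scoped Pointwise commutatorElement

universe u

/-- If `P ≤ M` and `P.subgroupOf M` is normal in `M`, then `M ≤ N_G(P)`. -/
lemma le_normalizer_of_subgroupOf_normal {G : Type u} [Group G] {P M : Subgroup G} (hPM : P ≤ M)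
    (hn : (P.subgroupOf M).Normal) : M ≤ normalizer (P : Set G) := by
  intro h hhM
  rw [Subgroup.mem_normalizer_iff]
  intro x
  constructor
  · intro hx
    have := hn.conj_mem ⟨x, hPM hx⟩ (Subgroup.mem_subgroupOf.mpr hx) ⟨h, hhM⟩
    exact Subgroup.mem_subgroupOf.mp this
  · intro hx
    have hx' : h * x * h⁻¹ ∈ M := hPM hx
    have := hn.conj_mem ⟨h * x * h⁻¹, hx'⟩ (Subgroup.mem_subgroupOf.mpr hx) ⟨h, hhM⟩⁻¹
    have h2 := Subgroup.mem_subgroupOf.mp this
    have e : ((⟨h, hhM⟩⁻¹ * ⟨h * x * h⁻¹, hx'⟩ * (⟨h, hhM⟩⁻¹)⁻¹ : M) : G) = x := by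
      simp only [Subgroup.coe_mul, Subgroup.coe_inv]
      group
    rwa [e] at h2

/-- In a minimal simple CN-group of odd order, let `P ≠ 1` be a Sylow `p`-subgroup which is a
maximal nilpotent subgroup.  Then `N_G(Q) ≤ N_G(P)` for every `1 ≠ Q ≤ P`. -/
theorem normalizer_le_normalizer_sylow_of_maxNilpotent {G : Type u} [Group G] [Finite G]
    (hG : Cfsg.IsMinSimpleOddOrder G) (hCN : Cfsg.IsCNGroup G) {p : ℕ} [hFp : Fact p.Prime]
    (P : Sylow p G) (hP1 : (P : Subgroup G) ≠ ⊥)
    (hmaxP : ∀ L : Subgroup G, Group.IsNilpotent L → (P : Subgroup G) ≤ L → L = P) :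
    ∀ Q : Subgroup G, Q ≤ (P : Subgroup G) → Q ≠ ⊥ →
      normalizer (Q : Set G) ≤ normalizer ((P : Subgroup G) : Set G) := by
  have hp : p.Prime := hFp.out
  obtain ⟨hodd, hsimple, hnc, hsolv⟩ := id hG
  have hp2 : p ≠ 2 := Helper64.prime_ne_two_of_odd hodd (P : Subgroup G) P.2 hP1
  have hP1' : ∀ x y : G, x ≠ 1 → (∃ k, x ^ p ^ k = 1) → x * y = y * x → ¬ p ∣ orderOf y →
      y = 1 :=
    fun x y hx1 hxp hxy hyp =>
      eq_one_of_commute_of_sylow_maxNilpotent hCN P hP1 hmaxP hx1 hxp hxy hyp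
  have hloc : ∀ Q : Subgroup G, IsPGroup p Q → Q ≠ ⊥ →
      ∀ T' : Sylow p ↥(normalizer (Q : Set G)), normalizer (Q : Set G) ≤
        normalizer (Cfsg.centerThompsonAOf
          ((T' : Subgroup ↥(normalizer (Q : Set G))).map (normalizer (Q : Set G)).subtype) :
            Set G) := by
    intro Q hQ hQ1 T'
    have hNtop := normalizer_ne_top_of_minSimple hG hQ hQ1
    have hNsolv : Group.IsSolvable (normalizer (Q : Set G)) := hsolv _ hNtop
    have hNodd : Odd (Nat.card (normalizer (Q : Set G))) :=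
      Odd.of_dvd_nat hodd (Subgroup.card_subgroup_dvd_card _)
    exact le_normalizer_zj_sylow_of_odd_solvable hp2 _ hNsolv hNodd
      (centralizer_pCore_le_of_local hP1' Q hQ hQ1) T'
  obtain ⟨Z, hZ⟩ : ∃ Z : Subgroup G, Z = Cfsg.centerThompsonAOf (P : Subgroup G) := ⟨_, rfl⟩
  obtain ⟨M, hM⟩ : ∃ M : Subgroup G, M = normalizer (Z : Set G) := ⟨_, rfl⟩
  have hstep4 : ∀ Q : Subgroup G, Q ≤ (P : Subgroup G) → Q ≠ ⊥ →
      normalizer (Q : Set G) ≤ M := by
    intro Q hQP hQ1
    rw [hM, hZ]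
    exact normalizer_le_normalizer_zj_of_local hloc P _ Q hQP hQ1 rfl
  have hZ1 : Z ≠ ⊥ := hZ ▸ Lib.ZJ.centerThompsonAOf_ne_bot P.2 hP1
  have hZP : Z ≤ P := hZ ▸ Lib.ZJ.centerThompsonAOf_le _
  have hZp : IsPGroup p Z := P.2.to_le hZP
  have hMtop : M ≠ ⊤ := hM ▸ normalizer_ne_top_of_minSimple hG hZp hZ1
  have hPM : (P : Subgroup G) ≤ M := by
    rw [hM, hZ]
    exact Subgroup.le_normalizer.trans (Lib.ZJ.normalizer_le_normalizer_centerThompsonAOf _)
  haveI hMsolv : Group.IsSolvable M := hsolv M hMtop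
  have hMCN : Cfsg.IsCNGroup M := Fpf.cn_subgroup hCN M
  have hZn : (Z.subgroupOf M).Normal := by
    rw [hM]
    exact Subgroup.normal_in_normalizer
  have hZmp : IsPGroup p (Z.subgroupOf M) := hZp.comap_subtype
  have hZM : Z ≤ M := hZP.trans hPM
  have hZm1 : Z.subgroupOf M ≠ ⊥ := by
    intro h
    rw [Subgroup.subgroupOf_eq_bot, disjoint_iff, inf_eq_left.mpr hZM] at h
    exact hZ1 h
  have hMO : Cfsg.pCore p ↥M ≠ ⊥ :=
    fun h => hZm1 (le_bot_iff.mp (h ▸ Lib.le_pCore hZn hZmp))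
  have hMP : M ≤ normalizer ((P : Subgroup G) : Set G) := by
    by_cases hMnil : Group.IsNilpotent M
    · rw [hmaxP M hMnil hPM]
      exact Subgroup.le_normalizer
    · by_cases hMns : HasNormalSylow M
      · obtain ⟨s, hs, S, hS1, hSn⟩ := hMns
        by_cases hsp : s = p
        · subst hsp
          haveI := Sylow.unique_of_normal S hSn
          have hSP : S = P.subtype hPM := Subsingleton.elim _ _
          rw [hSP] at hSn
          have hn : ((P : Subgroup G).subgroupOf M).Normal := hSn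
          exact le_normalizer_of_subgroupOf_normal hPM hn
        · exfalso
          have hdisj : Disjoint (S : Subgroup M) (Z.subgroupOf M) := by
            apply Subgroup.disjoint_of_coprime_natCard
            obtain ⟨i, hi⟩ := IsPGroup.iff_card.mp S.2
            obtain ⟨j, hj⟩ := IsPGroup.iff_card.mp hZmp
            rw [hi, hj]
            exact Nat.Coprime.pow _ _ ((Nat.coprime_primes hs.out hp).mpr hsp)
          rw [Ne, Subgroup.eq_bot_iff_forall] at hS1 hZm1
          push Not at hS1 hZm1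
          obtain ⟨y, hyS, hy1⟩ := hS1
          obtain ⟨x₀, hx₀Z, hx₀1⟩ := hZm1
          have hc := Subgroup.commute_of_normal_of_disjoint _ _ hSn hZn hdisj y x₀ hyS hx₀Z
          have hc' : (x₀ : G) * (y : G) = (y : G) * (x₀ : G) :=
            (congrArg Subtype.val hc.eq).symm
          have hx₀1' : (x₀ : G) ≠ 1 := fun h => hx₀1 (Subtype.ext h)
          have hx₀p : ∃ k, (x₀ : G) ^ p ^ k = 1 := by
            obtain ⟨k, hk⟩ := hZp ⟨(x₀ : G), Subgroup.mem_subgroupOf.mp hx₀Z⟩
            exact ⟨k, by simpa using congrArg Subtype.val hk⟩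
          have hyp : ¬ p ∣ orderOf (y : G) := by
            obtain ⟨k, hk⟩ := S.2 ⟨y, hyS⟩
            have hk' : (y : G) ^ s ^ k = 1 := by
              have := congrArg Subtype.val (congrArg Subtype.val hk)
              simpa using this
            intro hdvd
            have h2 : p ∣ s ^ k := hdvd.trans (orderOf_dvd_of_pow_eq_one hk')
            exact hsp ((Nat.prime_dvd_prime_iff_eq hp hs.out).mp (hp.dvd_of_dvd_pow h2)).symm
          have := hP1' (x₀ : G) (y : G) hx₀1' hx₀p hc' hyp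
          exact hy1 (Subtype.ext this)
      · exact (false_of_threeStep_candidate hG hCN hp M hMnil hMns hMO).elim
  intro Q hQP hQ1
  exact (hstep4 Q hQP hQ1).trans hMP

end Cfsg.Agent.Helper9
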