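/-
helper9: minimal simple CN-groups of odd order, part 4: maximal nilpotent subgroups are TI,
contain the centralizers of their nonidentity elements, and are not self-normalizing.
-/
import Mathlib
import Cfsg.Agent.Helper9.CNSolv9
import Cfsg.Agent.S0659

set_option autoImplicit false
set_option maxHeartbeats 800000

namespace Cfsg.Agent.Helper9

open Subgroup Cfsg.Agent.Helper95 Cfsg.Agent.Helper48

universe u

/-- `H` is a maximal nilpotent subgroup of `G`. -/
def MaxNil {G : Type*} [Group G] (H : Subgroup G) : Prop :=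
  Group.IsNilpotent H ∧ ∀ L : Subgroup G, Group.IsNilpotent L → H ≤ L → L = H

section
variable {G : Type u} [Group G]

lemma isNilpotent_zpowers (x : G) : Group.IsNilpotent (zpowers x) := by
  letI : CommGroup (zpowers x) :=
    { (inferInstance : Group (zpowers x)) with mul_comm := fun a b => mul_comm' a b }
  infer_instance

lemma isNilpotent_conjSub {H : Subgroup G} (hH : Group.IsNilpotent H) (g : G) :
    Group.IsNilpotent (conjSub g H) := by
  haveI := hH
  exact Group.nilpotent_of_mulEquiv ((MulAut.conj g).subgroupMap H)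

lemma MaxNil.conj {H : Subgroup G} (h : MaxNil H) (g : G) : MaxNil (conjSub g H) := by
  refine ⟨isNilpotent_conjSub h.1 g, ?_⟩
  intro L hL hle
  have h1 : H ≤ conjSub g⁻¹ L := by
    intro x hx
    rw [mem_conjSub]
    have := hle (conj_mem_conjSub (g := g) hx)
    simpa using this
  have h2 := h.2 _ (isNilpotent_conjSub hL g⁻¹) h1
  rw [← h2, conjSub_conjSub, mul_inv_cancel, conjSub_one]

lemma MaxNil.ne_bot [Nontrivial G] {H : Subgroup G} (h : MaxNil H) : H ≠ ⊥ := by
  rintro rfl
  obtain ⟨x, hx⟩ := exists_ne (1 : G)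
  have := h.2 (zpowers x) (isNilpotent_zpowers x) bot_le
  exact hx (zpowers_eq_bot.mp this)

lemma not_isNilpotent_of_minSimple (hG : Cfsg.IsMinSimpleOddOrder G) : ¬ Group.IsNilpotent G := by
  intro h
  obtain ⟨-, hsimple, hnc, -⟩ := hG
  haveI := hsimple
  haveI := h
  have hsol : Group.IsSolvable G := inferInstance
  have hc := IsSimpleGroup.comm_iff_isSolvable.mpr hsol
  exact hnc ⟨⟨hc⟩⟩

lemma MaxNil.ne_top (hG : Cfsg.IsMinSimpleOddOrder G) {H : Subgroup G} (h : MaxNil H) : H ≠ ⊤ := by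
  rintro rfl
  exact not_isNilpotent_of_minSimple hG (Group.isNilpotent_top.mp h.1)

/-- Every nilpotent subgroup lies in a maximal nilpotent subgroup. -/
lemma exists_maxNil_ge [Finite G] {K : Subgroup G} (hK : Group.IsNilpotent K) :
    ∃ T : Subgroup G, K ≤ T ∧ MaxNil T := by
  obtain ⟨T, hKT, hTmax⟩ := Finite.exists_le_maximal
    (p := fun L : Subgroup G => Group.IsNilpotent L) (a := K) hK
  exact ⟨T, hKT, hTmax.prop, fun L hL hTL => le_antisymm (hTmax.le_of_ge hL hTL) hTL⟩

/-- A subgroup whose order is coprime to its index contains a Sylow `p`-subgroup of `G` for each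
prime `p` dividing its order. -/
lemma exists_sylow_le_of_coprime_index [Finite G] {p : ℕ} [hp : Fact p.Prime] (H : Subgroup G)
    (hcop : (Nat.card H).Coprime H.index) (hpH : p ∣ Nat.card H) :
    ∃ P : Sylow p G, (P : Subgroup G) ≤ H ∧ (P : Subgroup G) ≠ ⊥ := by
  let P₀ : Sylow p ↥H := default
  have hc0 : Nat.card (P₀ : Subgroup ↥H) = p ^ (Nat.card H).factorization p :=
    P₀.card_eq_multiplicity
  have hc1 : Nat.card ((P₀ : Subgroup ↥H).map H.subtype) = p ^ (Nat.card H).factorization p := by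
    rw [Subgroup.card_map_of_injective H.subtype_injective, hc0]
  have hpi : ¬ p ∣ H.index := fun h => hp.out.ne_one (Nat.eq_one_of_dvd_coprimes hcop hpH h)
  have hfac : (Nat.card G).factorization p = (Nat.card H).factorization p := by
    rw [← H.card_mul_index, Nat.factorization_mul Nat.card_pos.ne' Subgroup.index_ne_zero_of_finite,
      Finsupp.add_apply, Nat.factorization_eq_zero_of_not_dvd hpi, add_zero]
  refine ⟨Sylow.ofCard _ (hfac ▸ hc1), ?_, ?_⟩
  · show (P₀ : Subgroup ↥H).map H.subtype ≤ H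
    exact Subgroup.map_subtype_le _
  · show (P₀ : Subgroup ↥H).map H.subtype ≠ ⊥
    intro h
    rw [h, Subgroup.card_bot] at hc1
    have hk : 0 < (Nat.card H).factorization p :=
      hp.out.factorization_pos_of_dvd Nat.card_pos.ne' hpH
    have := Nat.one_lt_pow hk.ne' hp.out.one_lt
    omega

variable [Finite G]

/-- Maximal nilpotent subgroups of a minimal simple CN-group of odd order are TI-subgroups. -/
theorem MaxNil.ti (hG : Cfsg.IsMinSimpleOddOrder G) (hCN : Cfsg.IsCNGroup G) {H : Subgroup G}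
    (h : MaxNil H) : ∀ g : G, conjSub g H ≠ H → H ⊓ conjSub g H = ⊥ := by
  obtain ⟨hcop, hTI, -⟩ := S1477.result hCN H h.1 h.2
  haveI := hG.2.1
  haveI : Nontrivial G := inferInstance
  have hH1 : H ≠ ⊥ := h.ne_bot
  have hcard1 : Nat.card H ≠ 1 := fun hc => hH1 (Subgroup.card_eq_one.mp hc)
  by_cases hpp : IsPrimePow (Nat.card H)
  · obtain ⟨p, k, hp, hk, hpk⟩ := hpp
    have hp' : p.Prime := hp.nat_prime
    haveI := Fact.mk hp'
    have hpH : p ∣ Nat.card H := hpk ▸ dvd_pow_self p hk.ne'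
    obtain ⟨P, hPH, hP1⟩ := exists_sylow_le_of_coprime_index H hcop hpH
    have hHp : IsPGroup p H := IsPGroup.of_card hpk.symm
    have hPeq : (P : Subgroup G) = H := (P.is_maximal' hHp hPH).symm
    have hmaxP : ∀ L : Subgroup G, Group.IsNilpotent L → (P : Subgroup G) ≤ L → L = P := by
      rw [hPeq]
      exact h.2
    have hloc := normalizer_le_normalizer_sylow_of_maxNilpotent hG hCN P hP1 hmaxP
    obtain ⟨N, hN⟩ : ∃ N : Subgroup G, N = normalizer ((P : Subgroup G) : Set G) := ⟨_, rfl⟩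
    have hNtop : N ≠ ⊤ := hN ▸ normalizer_ne_top_of_minSimple hG P.2 hP1
    have hpG : p ∣ Nat.card G := hpH.trans (Subgroup.card_subgroup_dvd_card H)
    have hSE : Cfsg.IsStronglyPEmbedded p N := by
      refine ⟨hpG, hNtop, P, ?_⟩
      unfold Cfsg.kGeneratedCore
      apply iSup_le
      rintro ⟨Q, hQP, hQr⟩
      rw [hN]
      apply hloc Q hQP
      rintro rfl
      apply hQr
      intro A' _ _
      rw [pow_zero]
      exact Finite.card_le_one_iff_subsingleton.mpr inferInstance
    intro g hg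
    by_contra hne
    have hYp : IsPGroup p (conjSub g H) := isPGroup_conjSub hHp
    have hHN : H ≤ N := by
      rw [hN, ← hPeq]
      exact le_normalizer
    have hYN : conjSub g H ≤ N := by
      apply pSubgroup_le_of_inf_ne_bot hSE hYp
      intro hbot
      apply hne
      rw [eq_bot_iff, ← hbot]
      exact le_inf inf_le_right (inf_le_left.trans hHN)
    have hsup : IsPGroup p (conjSub g H ⊔ (P : Subgroup G) : Subgroup G) :=
      IsPGroup.to_sup_of_normal_right' hYp P.2 (hN ▸ hYN)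
    have h1 : conjSub g H ⊔ (P : Subgroup G) = P := P.is_maximal' hsup le_sup_right
    have h2 : conjSub g H ≤ H :=
      calc conjSub g H ≤ conjSub g H ⊔ (P : Subgroup G) := le_sup_left
        _ = P := h1
        _ = H := hPeq
    apply hg
    exact Subgroup.eq_of_le_of_card_ge h2 (card_conjSub g H).ge
  · intro g hg
    exact hTI hpp hcard1 g hg

/-- `C_G(x) ≤ H` for `x ∈ H#`, `H` maximal nilpotent. -/
theorem MaxNil.centralizer_le (hG : Cfsg.IsMinSimpleOddOrder G) (hCN : Cfsg.IsCNGroup G)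
    {H : Subgroup G} (h : MaxNil H) : ∀ x ∈ H, x ≠ 1 → centralizer ({x} : Set G) ≤ H := by
  obtain ⟨-, -, hC⟩ := S1477.result hCN H h.1 h.2
  exact hC (h.ti hG hCN)

/-- Two maximal nilpotent subgroups with nontrivial intersection coincide. -/
theorem MaxNil.eq_of_inf_ne_bot (hG : Cfsg.IsMinSimpleOddOrder G) (hCN : Cfsg.IsCNGroup G)
    {H H' : Subgroup G} (h : MaxNil H) (h' : MaxNil H') (hne : H ⊓ H' ≠ ⊥) : H = H' := by
  rw [Ne, Subgroup.eq_bot_iff_forall] at hne
  push Not at hne
  obtain ⟨z, hz, hz1⟩ := hne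
  have hC := h.centralizer_le hG hCN
  haveI := h'.1
  haveI : Nontrivial H' := ⟨⟨⟨z, hz.2⟩, 1, fun e => hz1 (congrArg Subtype.val e)⟩⟩
  have hcen := Group.IsNilpotent.center_ne_bot (G := H')
  rw [Ne, Subgroup.eq_bot_iff_forall] at hcen
  push Not at hcen
  obtain ⟨w, hwc, hw1⟩ := hcen
  have hwH : (w : G) ∈ H := by
    apply hC z hz.1 hz1
    rw [mem_centralizer_singleton_iff]
    have := Subgroup.mem_center_iff.mp hwc ⟨z, hz.2⟩
    exact (congrArg Subtype.val this).symm
  have hw1' : (w : G) ≠ 1 := fun e => hw1 (Subtype.ext e)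
  have hH'H : H' ≤ H := by
    intro y hy
    apply hC (w : G) hwH hw1'
    rw [mem_centralizer_singleton_iff]
    have := Subgroup.mem_center_iff.mp hwc ⟨y, hy⟩
    exact congrArg Subtype.val this
  exact h'.2 H h.1 hH'H

/-- `N_G(Q) ≤ N_G(H)` for `1 ≠ Q ≤ H`, `H` maximal nilpotent. -/
theorem MaxNil.normalizer_le (hG : Cfsg.IsMinSimpleOddOrder G) (hCN : Cfsg.IsCNGroup G)
    {H : Subgroup G} (h : MaxNil H) {Q : Subgroup G} (hQH : Q ≤ H) (hQ1 : Q ≠ ⊥) :
    normalizer (Q : Set G) ≤ normalizer (H : Set G) := by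
  intro g hg
  have hTI := h.ti hG hCN g
  by_contra hgN
  have hne : conjSub g H ≠ H := by
    intro e
    apply hgN
    exact mem_normalizer_of_conjSub_le e.le
  apply hQ1
  rw [eq_bot_iff, ← hTI hne]
  refine le_inf hQH ?_
  intro x hx
  rw [mem_conjSub]
  apply hQH
  have := (Subgroup.mem_normalizer_iff.mp (inv_mem hg) x).mp hx
  simpa using this

/-- A maximal nilpotent subgroup is not self-normalizing. -/
theorem MaxNil.normalizer_ne (hG : Cfsg.IsMinSimpleOddOrder G) (hCN : Cfsg.IsCNGroup G)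
    {H : Subgroup G} (h : MaxNil H) : normalizer (H : Set G) ≠ H := by
  intro hNH
  obtain ⟨hodd, hsimple, hnc, hsolv⟩ := id hG
  haveI := hsimple
  haveI : Nontrivial G := inferInstance
  have hH1 := h.ne_bot
  obtain ⟨hcop, -, -⟩ := S1477.result hCN H h.1 h.2
  have hcard1 : Nat.card H ≠ 1 := fun hc => hH1 (Subgroup.card_eq_one.mp hc)
  obtain ⟨p, hp, hpH⟩ := Nat.exists_prime_and_dvd hcard1
  haveI := Fact.mk hp
  obtain ⟨P, hPH, hP1⟩ := exists_sylow_le_of_coprime_index H hcop hpH
  have hp2 : p ≠ 2 := Helper64.prime_ne_two_of_odd hodd (P : Subgroup G) P.2 hP1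
  obtain ⟨Z, hZ⟩ : ∃ Z : Subgroup G, Z = Cfsg.centerThompsonAOf (P : Subgroup G) := ⟨_, rfl⟩
  have hZ1 : Z ≠ ⊥ := hZ ▸ Lib.ZJ.centerThompsonAOf_ne_bot P.2 hP1
  have hZP : Z ≤ P := hZ ▸ Lib.ZJ.centerThompsonAOf_le _
  have hNZ : normalizer (Z : Set G) ≤ H := by
    have := h.normalizer_le hG hCN (hZP.trans hPH) hZ1
    rwa [hNH] at this
  have hNnil : Group.IsNilpotent (normalizer (Z : Set G)) := S0581.nilpotent_of_le hNZ h.1
  have hpn : Cfsg.HasNormalPComplement p ↥(normalizer (Z : Set G)) := by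
    haveI := hNnil
    obtain ⟨T, hTn, hTc, k, hk⟩ := S0581.exists_normal_compl (M := ↥(normalizer (Z : Set G))) p
    exact Helper34.pnil_iff.mp
      ⟨T, hTn, ((Nat.Prime.coprime_iff_not_dvd hp).mpr hTc).symm, k, hk⟩
  rw [hZ] at hpn
  obtain ⟨P', K, hKn, hK⟩ := S0659.result hp2 P hpn
  rcases hKn.eq_bot_or_eq_top with hK0 | hK0
  · rw [hK0] at hK
    have hP't : (P' : Subgroup G) = ⊤ := Subgroup.isComplement'_bot_left.mp hK
    apply not_isNilpotent_of_minSimple hG
    have hGp : IsPGroup p G := fun g => by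
      obtain ⟨k, hk⟩ := P'.2 ⟨g, hP't ▸ mem_top g⟩
      exact ⟨k, by simpa using congrArg Subtype.val hk⟩
    exact hGp.isNilpotent
  · rw [hK0] at hK
    have hP'b : (P' : Subgroup G) = ⊥ := Subgroup.isComplement'_top_left.mp hK
    have hc : Nat.card (P' : Subgroup G) = Nat.card (P : Subgroup G) := by
      rw [P'.card_eq_multiplicity, P.card_eq_multiplicity]
    rw [hP'b, Subgroup.card_bot] at hc
    exact hP1 (Subgroup.card_eq_one.mp hc.symm)

end

end Cfsg.Agent.Helper9
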