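/-
helper9: minimal simple CN-groups of odd order, part 5: normalizers of maximal nilpotent
subgroups are Frobenius groups and are exactly the maximal subgroups.
-/
import Mathlib
import Cfsg.Agent.Helper9.CNSolv10
import Cfsg.Agent.S1474
import Cfsg.Agent.Helper23.FittingHall

set_option autoImplicit false
set_option maxHeartbeats 800000

namespace Cfsg.Agent.Helper9

open Subgroup Cfsg.Agent.Helper95 Cfsg.Agent.Helper48

universe u

section
variable {G : Type u} [Group G] [Finite G]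

/-- A proper non-nilpotent subgroup of a minimal simple CN-group of odd order has a nontrivial
normal Sylow subgroup. -/
theorem hasNormalSylow_of_proper (hG : Cfsg.IsMinSimpleOddOrder G) (hCN : Cfsg.IsCNGroup G)
    (K : Subgroup G) (hK : K ≠ ⊤) (hKnil : ¬ Group.IsNilpotent K) : HasNormalSylow K := by
  by_contra hns
  haveI hsolv : Group.IsSolvable K := hG.2.2.2 K hK
  haveI : Nontrivial K := by
    by_contra h
    rw [not_nontrivial_iff_subsingleton] at h
    exact hKnil inferInstance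
  obtain ⟨r, hr, R0, hR0n, hR01, hR0p⟩ := Helper1.exists_normal_pSubgroup K
  have hO : Cfsg.pCore r ↥K ≠ ⊥ :=
    fun h => hR01 (le_bot_iff.mp (h ▸ Lib.le_pCore hR0n hR0p))
  exact false_of_threeStep_candidate hG hCN hr K hKnil hns hO

/-- `fittingHallOf K` is nilpotent. -/
lemma isNilpotent_fittingHallOf (K : Subgroup G) : Group.IsNilpotent (Cfsg.fittingHallOf K) := by
  haveI := S1474.fittingHall_nilpotent (G := ↥K)
  exact Group.nilpotent_of_mulEquiv
    (Subgroup.equivMapOfInjective _ K.subtype K.subtype_injective)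

/-- Frobenius structure of proper non-nilpotent subgroups, stated inside `G`. -/
theorem frob_structure_in (hG : Cfsg.IsMinSimpleOddOrder G) (hCN : Cfsg.IsCNGroup G)
    (K : Subgroup G) (hK : K ≠ ⊤) (hKnil : ¬ Group.IsNilpotent K) :
    Cfsg.fittingHallOf K ≠ ⊥ ∧
      (∃ E : Subgroup G, Cfsg.IsComplIn (Cfsg.fittingHallOf K) E K ∧ E ≠ ⊥ ∧
        ∀ e ∈ E, e ≠ 1 → Cfsg.fittingHallOf K ⊓ centralizer ({e} : Set G) = ⊥) ∧
      Group.IsNilpotent (↥K ⧸ Cfsg.fittingHall ↥K) := by
  obtain ⟨s, hs, S, hS1, hSn⟩ := hasNormalSylow_of_proper hG hCN K hK hKnil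
  obtain ⟨hF1, hFtop, ⟨E', hcompl, -, hfpf⟩, hquot⟩ :=
    S1474.result (Fpf.cn_subgroup hCN K) hKnil s S hS1 hSn
  refine ⟨?_, ⟨E'.map K.subtype, ⟨?_, ?_, ?_, ?_⟩, ?_, ?_⟩, hquot⟩
  · unfold Cfsg.fittingHallOf
    intro e
    exact hF1 ((Subgroup.map_eq_bot_iff_of_injective _ K.subtype_injective).mp e)
  · exact Subgroup.map_subtype_le _
  · exact Subgroup.map_subtype_le _
  · rw [eq_bot_iff]
    rintro x ⟨⟨f, hf, rfl⟩, ⟨e, he, hfe⟩⟩
    have hef : e = f := Subtype.ext hfe
    subst hef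
    have h1 : e ∈ Cfsg.fittingHall ↥K ⊓ E' := ⟨hf, he⟩
    rw [hcompl.disjoint.eq_bot, Subgroup.mem_bot] at h1
    rw [h1]
    simp
  · intro m hm
    obtain ⟨⟨⟨a, ha⟩, ⟨b, hb⟩⟩, hab, -⟩ := hcompl.existsUnique ⟨m, hm⟩
    refine ⟨(a : G), ⟨a, ha, rfl⟩, (b : G), ⟨b, hb, rfl⟩, ?_⟩
    have := congrArg Subtype.val hab
    simpa using this.symm
  · intro e
    have hE' : E' = ⊥ := (Subgroup.map_eq_bot_iff_of_injective _ K.subtype_injective).mp e
    rw [hE'] at hcompl
    exact hFtop (Subgroup.isComplement'_bot_right.mp hcompl)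
  · rintro _ ⟨e', he', rfl⟩ he1
    have he'1 : e' ≠ 1 := by
      rintro rfl
      exact he1 rfl
    rw [eq_bot_iff]
    rintro x ⟨⟨f, hf, rfl⟩, hxc⟩
    have hxc' : K.subtype f ∈ centralizer ({K.subtype e'} : Set G) := hxc
    have h1 : f ∈ Cfsg.fittingHall ↥K ⊓ centralizer ({e'} : Set ↥K) := by
      refine ⟨hf, ?_⟩
      show f ∈ centralizer ({e'} : Set ↥K)
      rw [mem_centralizer_singleton_iff]
      apply Subtype.ext
      exact mem_centralizer_singleton_iff.mp hxc'
    rw [hfpf e' he' he'1, Subgroup.mem_bot] at h1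
    rw [h1]
    simp

/-- If `H ≤ K ≤ N_G(H)` for a maximal nilpotent subgroup `H` of a CN-group then
`fittingHallOf K = H`. -/
theorem fittingHallOf_eq_of_maxNil (hCN : Cfsg.IsCNGroup G) {H : Subgroup G} (h : MaxNil H)
    {K : Subgroup G} (hHK : H ≤ K) (hKN : K ≤ normalizer (H : Set G)) :
    Cfsg.fittingHallOf K = H := by
  obtain ⟨hcop, -, -⟩ := S1477.result hCN H h.1 h.2
  have hn : (H.subgroupOf K).Normal := normal_subgroupOf_of_le_normalizer hKN
  have hnil : Group.IsNilpotent (H.subgroupOf K) := by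
    haveI := h.1
    exact Group.nilpotent_of_mulEquiv (Subgroup.subgroupOfEquivOfLe hHK).symm
  have hcard : Nat.card (H.subgroupOf K) = Nat.card H :=
    Nat.card_congr (Subgroup.subgroupOfEquivOfLe hHK).toEquiv
  have hidx : (H.subgroupOf K).index ∣ H.index := Subgroup.relIndex_dvd_index_of_le hHK
  have hc : (Nat.card (H.subgroupOf K)).Coprime (H.subgroupOf K).index := by
    rw [hcard]
    exact Nat.Coprime.coprime_dvd_right hidx hcop
  have hle := Helper23.le_fittingHall hn hnil hc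
  apply h.2 _ (isNilpotent_fittingHallOf K)
  intro x hx
  exact ⟨⟨x, hHK hx⟩, hle (mem_subgroupOf.mpr hx), rfl⟩

/-- A subgroup of `N` meeting `fittingHallOf N` trivially is nilpotent when
`N / fittingHall N` is. -/
theorem nilpotent_of_disjoint_fittingHallOf {N K : Subgroup G}
    (hq : Group.IsNilpotent (↥N ⧸ Cfsg.fittingHall ↥N)) (hKN : K ≤ N)
    (hd : K ⊓ Cfsg.fittingHallOf N = ⊥) : Group.IsNilpotent K := by
  let φ : ↥K →* ↥N ⧸ Cfsg.fittingHall ↥N :=
    (QuotientGroup.mk' _).comp (Subgroup.inclusion hKN)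
  haveI := hq
  apply Subgroup.isNilpotent_of_ker_le_center φ
  have hker : φ.ker = ⊥ := by
    rw [eq_bot_iff]
    intro k hk
    rw [MonoidHom.mem_ker] at hk
    have h1 : Subgroup.inclusion hKN k ∈ Cfsg.fittingHall ↥N := by
      rw [← QuotientGroup.eq_one_iff]
      exact hk
    have h2 : (k : G) ∈ K ⊓ Cfsg.fittingHallOf N := ⟨k.2, ⟨_, h1, rfl⟩⟩
    rw [hd, Subgroup.mem_bot] at h2
    rw [Subgroup.mem_bot]
    exact Subtype.ext h2
  rw [hker]
  exact bot_le

lemma MaxNil.normalizer_ne_top (hG : Cfsg.IsMinSimpleOddOrder G) {H : Subgroup G}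
    (h : MaxNil H) : normalizer (H : Set G) ≠ ⊤ := by
  intro ht
  have hn : H.Normal := normalizer_eq_top_iff.mp ht
  haveI := hG.2.1
  haveI : Nontrivial G := inferInstance
  rcases hn.eq_bot_or_eq_top with h0 | h0
  · exact h.ne_bot h0
  · exact h.ne_top hG h0

lemma MaxNil.not_isNilpotent_normalizer (hG : Cfsg.IsMinSimpleOddOrder G)
    (hCN : Cfsg.IsCNGroup G) {H : Subgroup G} (h : MaxNil H) :
    ¬ Group.IsNilpotent (normalizer (H : Set G)) := by
  intro hnil
  exact h.normalizer_ne hG hCN (h.2 _ hnil le_normalizer)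

/-- The structure of `N_G(H)` for a maximal nilpotent subgroup `H`. -/
theorem MaxNil.structure (hG : Cfsg.IsMinSimpleOddOrder G) (hCN : Cfsg.IsCNGroup G)
    {H : Subgroup G} (h : MaxNil H) :
    Cfsg.fittingHallOf (normalizer (H : Set G)) = H ∧
      (∃ E : Subgroup G, Cfsg.IsComplIn H E (normalizer (H : Set G)) ∧ E ≠ ⊥ ∧
        ∀ e ∈ E, e ≠ 1 → H ⊓ centralizer ({e} : Set G) = ⊥) ∧
      Group.IsNilpotent
        (↥(normalizer (H : Set G)) ⧸ Cfsg.fittingHall ↥(normalizer (H : Set G))) := by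
  have hFH := fittingHallOf_eq_of_maxNil hCN h le_normalizer le_rfl
  obtain ⟨-, hE, hq⟩ := frob_structure_in hG hCN _ (h.normalizer_ne_top hG)
    (h.not_isNilpotent_normalizer hG hCN)
  rw [hFH] at hE
  exact ⟨hFH, hE, hq⟩

/-- If `N_G(H) ≤ N_G(H')` for maximal nilpotent subgroups `H`, `H'`, then `H = H'`. -/
theorem MaxNil.eq_of_normalizer_le (hG : Cfsg.IsMinSimpleOddOrder G) (hCN : Cfsg.IsCNGroup G)
    {H H' : Subgroup G} (h : MaxNil H) (h' : MaxNil H')
    (hNN : normalizer (H : Set G) ≤ normalizer (H' : Set G)) : H = H' := by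
  by_contra hne
  have hdisj : H ⊓ H' = ⊥ := by
    by_contra h0
    exact hne (h.eq_of_inf_ne_bot hG hCN h' h0)
  haveI := hG.2.1
  haveI : Nontrivial G := inferInstance
  have hH1 := h.ne_bot
  rw [Ne, Subgroup.eq_bot_iff_forall] at hH1
  push Not at hH1
  obtain ⟨x, hxH, hx1⟩ := hH1
  have hC := h.centralizer_le hG hCN x hxH hx1
  obtain ⟨hFH', -, hq'⟩ := h'.structure hG hCN
  have hd : normalizer (H : Set G) ⊓ Cfsg.fittingHallOf (normalizer (H' : Set G)) = ⊥ := by
    rw [hFH', eq_bot_iff]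
    intro d hd
    have hdN : d ∈ normalizer (H : Set G) := hd.1
    have hdH' : d ∈ H' := hd.2
    have hcomm : d * x * d⁻¹ * x⁻¹ ∈ H ⊓ H' := by
      constructor
      · exact H.mul_mem ((mem_normalizer_iff.mp hdN x).mp hxH) (H.inv_mem hxH)
      · have hxN' : x ∈ normalizer (H' : Set G) := hNN (le_normalizer hxH)
        have h1 : x * d⁻¹ * x⁻¹ ∈ H' := (mem_normalizer_iff.mp hxN' d⁻¹).mp (H'.inv_mem hdH')
        have e : d * x * d⁻¹ * x⁻¹ = d * (x * d⁻¹ * x⁻¹) := by group
        rw [e]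
        exact H'.mul_mem hdH' h1
    rw [hdisj, Subgroup.mem_bot] at hcomm
    have hdx : d * x = x * d := by
      have e : d * x = (d * x * d⁻¹ * x⁻¹) * (x * d) := by group
      rw [e, hcomm, one_mul]
    have hdH : d ∈ H := hC (mem_centralizer_singleton_iff.mpr hdx)
    have h2 : d ∈ H ⊓ H' := ⟨hdH, hdH'⟩
    rwa [hdisj] at h2
  have hNnil : Group.IsNilpotent (normalizer (H : Set G)) :=
    nilpotent_of_disjoint_fittingHallOf hq' hNN hd
  exact h.not_isNilpotent_normalizer hG hCN hNnil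

/-- Every proper non-nilpotent subgroup normalizes a maximal nilpotent subgroup. -/
theorem exists_maxNil_normalizer_ge (hG : Cfsg.IsMinSimpleOddOrder G) (hCN : Cfsg.IsCNGroup G)
    (K : Subgroup G) (hK : K ≠ ⊤) (hKnil : ¬ Group.IsNilpotent K) :
    ∃ T : Subgroup G, MaxNil T ∧ K ≤ normalizer (T : Set G) := by
  obtain ⟨s, hs, S, hS1, hSn⟩ := hasNormalSylow_of_proper hG hCN K hK hKnil
  haveI := hs
  haveI := hSn
  obtain ⟨S', hS'⟩ : ∃ S' : Subgroup G, S' = (S : Subgroup K).map K.subtype := ⟨_, rfl⟩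
  have hS'p : IsPGroup s S' := hS' ▸ S.2.map _
  have hS'1 : S' ≠ ⊥ := by
    rw [hS']
    intro e
    exact hS1 ((Subgroup.map_eq_bot_iff_of_injective _ K.subtype_injective).mp e)
  have hKNS : K ≤ normalizer (S' : Set G) := by
    have h1 := Subgroup.le_normalizer_map (H := (S : Subgroup K)) K.subtype
    rw [Subgroup.normalizer_eq_top, ← MonoidHom.range_eq_map, Subgroup.range_subtype] at h1
    rw [hS']
    exact h1
  obtain ⟨T, hS'T, hT⟩ := exists_maxNil_ge hS'p.isNilpotent
  exact ⟨T, hT, hKNS.trans (hT.normalizer_le hG hCN hS'T hS'1)⟩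

/-- The normalizer of a maximal nilpotent subgroup is a maximal subgroup. -/
theorem MaxNil.isCoatom_normalizer (hG : Cfsg.IsMinSimpleOddOrder G) (hCN : Cfsg.IsCNGroup G)
    {H : Subgroup G} (h : MaxNil H) : IsCoatom (normalizer (H : Set G)) := by
  refine ⟨h.normalizer_ne_top hG, ?_⟩
  intro K hNK
  by_contra hKtop
  have hKnil : ¬ Group.IsNilpotent K := by
    intro hK
    have hKH := h.2 K hK (le_normalizer.trans hNK.le)
    rw [hKH] at hNK
    exact absurd (le_normalizer : H ≤ normalizer (H : Set G)) (not_le_of_gt hNK)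
  obtain ⟨T, hT, hKNT⟩ := exists_maxNil_normalizer_ge hG hCN K hKtop hKnil
  have hHT : H = T := h.eq_of_normalizer_le hG hCN hT (hNK.le.trans hKNT)
  rw [← hHT] at hKNT
  exact absurd hKNT (not_le_of_gt hNK)

/-- Every maximal subgroup is the normalizer of a maximal nilpotent subgroup. -/
theorem exists_maxNil_of_isCoatom (hG : Cfsg.IsMinSimpleOddOrder G) (hCN : Cfsg.IsCNGroup G)
    {M : Subgroup G} (hM : IsCoatom M) :
    ∃ T : Subgroup G, MaxNil T ∧ M = normalizer (T : Set G) := by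
  have hMnil : ¬ Group.IsNilpotent M := by
    intro hnil
    have hmax : MaxNil M := by
      refine ⟨hnil, fun L hL hML => ?_⟩
      by_contra hne
      have hlt : M < L := lt_of_le_of_ne hML (Ne.symm hne)
      have hLtop := hM.2 L hlt
      subst hLtop
      exact not_isNilpotent_of_minSimple hG (Group.isNilpotent_top.mp hL)
    have h1 := hmax.normalizer_ne hG hCN
    have h2 : M < normalizer (M : Set G) := lt_of_le_of_ne le_normalizer (Ne.symm h1)
    exact hmax.normalizer_ne_top hG (hM.2 _ h2)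
  obtain ⟨T, hT, hMNT⟩ := exists_maxNil_normalizer_ge hG hCN M hM.1 hMnil
  refine ⟨T, hT, ?_⟩
  by_contra hne
  exact hT.normalizer_ne_top hG (hM.2 _ (lt_of_le_of_ne hMNT hne))

end

end Cfsg.Agent.Helper9
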