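/-
helper9: the CN-theorem for odd order (Feit–Hall–Thompson) reduced to Peterfalvi (7.1).
A minimal counterexample is simple (`cn_quotient_aux`); its maximal nilpotent subgroups are
T.I. Frobenius kernels of pairwise coprime orders (`MaxNil` API) covering the group.
-/
import Mathlib
import Cfsg.Agent.Helper9.CNSolv11
import Cfsg.Agent.Helper9.CNQuotient
import Cfsg.Agent.S1483
import Cfsg.Agent.Helper75.CAMain
import Cfsg.Prelude.Def_OddOrderLocal

set_option autoImplicit false

namespace Cfsg.Agent.Helper9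

open Subgroup Cfsg.Agent.Helper95 Cfsg.Agent.Helper48

universe u

section
variable {G : Type u} [Group G]

/-- The statement of Peterfalvi (7.1) (`S1526`) for the group `G` and index types in `Type u`. -/
def Pet71 (G : Type u) [Group G] : Prop :=
  ∀ (ι : Type u) [Fintype ι], 2 ≤ Fintype.card ι → ∀ (L H : ι → Subgroup G),
    (∀ i, H i < L i) → (∀ i, H i ≠ ⊥) → (∀ i, ∀ x ∈ L i, ∀ h ∈ H i, x * h * x⁻¹ ∈ H i) →
    (∀ i, ∀ h ∈ H i, h ≠ 1 → L i ⊓ Subgroup.centralizer ({h} : Set G) ≤ H i) →
    (∀ i j, i ≠ j → Nat.Coprime (Nat.card (H i)) (Nat.card (H j))) →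
    (∀ i, Cfsg.IsTISubset (H i : Set G) ∧ Subgroup.normalizer (H i : Set G) = L i) →
    (∀ g : G, g ≠ 1 → ∃ i, ∃ x : G, x * g * x⁻¹ ∈ H i) → False

variable [Finite G]

theorem MaxNil.isTISubset (hG : Cfsg.IsMinSimpleOddOrder G) (hCN : Cfsg.IsCNGroup G)
    {H : Subgroup G} (h : MaxNil H) : Cfsg.IsTISubset (H : Set G) := by
  intro g hg x hx hgx
  have hne : conjSub g⁻¹ H ≠ H := by
    intro e
    apply hg
    have h1 : g⁻¹ ∈ normalizer (H : Set G) := mem_normalizer_of_conjSub_le e.le
    have := inv_mem h1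
    rwa [inv_inv] at this
  have h2 := h.ti hG hCN g⁻¹ hne
  have h3 : x ∈ H ⊓ conjSub g⁻¹ H := by
    refine Subgroup.mem_inf.mpr ⟨hx, ?_⟩
    rw [mem_conjSub, inv_inv]
    exact hgx
  rw [h2, Subgroup.mem_bot] at h3
  exact h3

/-- Conjugacy of maximal nilpotent subgroups. -/
def maxNilSetoid (G : Type u) [Group G] : Setoid {H : Subgroup G // MaxNil H} where
  r H H' := ∃ g : G, H'.1 = conjSub g H.1
  iseqv := by
    refine ⟨fun H => ⟨1, (conjSub_one _).symm⟩, ?_, ?_⟩
    · rintro H H' ⟨g, hg⟩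
      refine ⟨g⁻¹, ?_⟩
      rw [hg, conjSub_conjSub, inv_mul_cancel, conjSub_one]
    · rintro H H' H'' ⟨g, hg⟩ ⟨g', hg'⟩
      refine ⟨g' * g, ?_⟩
      rw [hg', hg, conjSub_conjSub]

end

section Main
variable {G : Type u} [Group G] [Finite G]

/-- A minimal simple CN-group of odd order contradicts Peterfalvi (7.1). -/
theorem cn_minSimple_false (hG : Cfsg.IsMinSimpleOddOrder G) (hCN : Cfsg.IsCNGroup G)
    (h71 : Pet71 G) : False := by
  classical
  obtain ⟨hodd, hsimple, hnc, hsolv⟩ := id hG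
  haveI := hsimple
  haveI : Nontrivial G := inferInstance
  let _ : Fintype G := Fintype.ofFinite G
  letI : Setoid {H : Subgroup G // MaxNil H} := maxNilSetoid G
  let ι := Quotient (maxNilSetoid G)
  haveI : Finite ι := inferInstance
  let _ : Fintype ι := Fintype.ofFinite ι
  let H : ι → Subgroup G := fun i => (Quotient.out i).1
  have hH : ∀ i, MaxNil (H i) := fun i => (Quotient.out i).2
  let L : ι → Subgroup G := fun i => Subgroup.normalizer (H i : Set G)
  have hHL : ∀ i, H i < L i := by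
    intro i
    refine lt_of_le_of_ne Subgroup.le_normalizer ?_
    exact fun h => (hH i).normalizer_ne hG hCN h.symm
  have hH1 : ∀ i, H i ≠ ⊥ := fun i => (hH i).ne_bot
  have hHn : ∀ i, ∀ x ∈ L i, ∀ h ∈ H i, x * h * x⁻¹ ∈ H i := by
    intro i x hx h hh
    exact (Subgroup.mem_normalizer_iff.mp hx h).mp hh
  have hfrob : ∀ i, ∀ h ∈ H i, h ≠ 1 → L i ⊓ Subgroup.centralizer ({h} : Set G) ≤ H i := by
    intro i h hh hh1
    exact inf_le_right.trans ((hH i).centralizer_le hG hCN h hh hh1)
  have hcop : ∀ i j, i ≠ j → Nat.Coprime (Nat.card (H i)) (Nat.card (H j)) := by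
    intro i j hij
    rcases Cfsg.Agent.S1483.conj_or_coprime hG hCN (hH i) (hH j) with ⟨g, hg⟩ | h
    · exfalso
      apply hij
      have h1 : (Quotient.out i) ≈ (Quotient.out j) := ⟨g, hg⟩
      have h2 := Quotient.sound h1
      rwa [Quotient.out_eq, Quotient.out_eq] at h2
    · exact h
  have hTI : ∀ i, Cfsg.IsTISubset (H i : Set G) ∧ Subgroup.normalizer (H i : Set G) = L i :=
    fun i => ⟨(hH i).isTISubset hG hCN, rfl⟩
  have hcover : ∀ g : G, g ≠ 1 → ∃ i, ∃ x : G, x * g * x⁻¹ ∈ H i := by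
    intro g _
    obtain ⟨T, hgT, hT⟩ := exists_maxNil_ge (isNilpotent_zpowers g)
    let i : ι := Quotient.mk (maxNilSetoid G) ⟨T, hT⟩
    have h1 : Quotient.out i ≈ ⟨T, hT⟩ := Quotient.exact (Quotient.out_eq i)
    obtain ⟨x, hx⟩ := h1
    -- T = conjSub x (H i)
    refine ⟨i, x⁻¹, ?_⟩
    have h2 : g ∈ conjSub x (H i) := by
      have h3 : g ∈ T := hgT (Subgroup.mem_zpowers g)
      have h4 : T = conjSub x (H i) := hx
      rwa [h4] at h3
    rw [mem_conjSub] at h2
    rw [inv_inv]
    exact h2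
  -- at least two classes
  have hι : 2 ≤ Fintype.card ι := by
    by_contra hlt
    push Not at hlt
    obtain ⟨x₀, hx₀⟩ := exists_ne (1 : G)
    obtain ⟨i₀, y, hy⟩ := hcover x₀ hx₀
    have hall : ∀ i : ι, i = i₀ := by
      intro i
      by_contra hne
      have := Fintype.one_lt_card_iff.mpr ⟨i, i₀, hne⟩
      omega
    -- every non-identity element is conjugate into `H i₀`
    have hfull : ∀ g : G, g ≠ 1 → g ∈ Cfsg.Agent.Helper75.Kconj (H i₀) := by
      intro g hg
      obtain ⟨i, x, hx⟩ := hcover g hg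
      rw [hall i] at hx
      exact Cfsg.Agent.Helper75.mem_Kconj.mpr ⟨hg, x, hx⟩
    have hcardK : (Cfsg.Agent.Helper75.Kconj (H i₀)).card + 1 = Nat.card G := by
      have h1 : Cfsg.Agent.Helper75.Kconj (H i₀) = Finset.univ.erase (1 : G) := by
        ext g
        simp only [Finset.mem_erase, Finset.mem_univ, and_true]
        constructor
        · intro h
          exact (Cfsg.Agent.Helper75.mem_Kconj.mp h).1
        · intro h
          exact hfull g h
      rw [h1, Finset.card_erase_of_mem (Finset.mem_univ _), Finset.card_univ,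
        Nat.card_eq_fintype_card]
      have : 0 < Fintype.card G := Fintype.card_pos
      omega
    have h2 := Cfsg.Agent.Helper75.ca_card_Kconj (K := H i₀) ((hTI i₀).1)
    have h3 := Cfsg.Agent.Helper75.card_Ksharp (H i₀)
    have h4 := Cfsg.Agent.Helper75.ca_card_normalizer_nat (H i₀)
    have h5 := Subgroup.index_mul_card (Subgroup.normalizer (H i₀ : Set G))
    have he : 1 < Cfsg.Agent.Helper75.caE (H i₀) := by
      unfold Cfsg.Agent.Helper75.caE
      have h0 : ((H i₀).subgroupOf (Subgroup.normalizer (H i₀ : Set G))).index ≠ 0 :=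
        Subgroup.index_ne_zero_of_finite
      have h1 : ((H i₀).subgroupOf (Subgroup.normalizer (H i₀ : Set G))).index ≠ 1 := by
        intro h
        rw [Subgroup.index_eq_one, Subgroup.subgroupOf_eq_top] at h
        exact (not_le_of_gt (hHL i₀)) h
      omega
    have hm : 1 ≤ Nat.card (H i₀) := Nat.card_pos
    -- |G| = idx * e * m and |G| - 1 = idx * (m - 1)
    obtain ⟨idx, hidx⟩ : ∃ idx, idx = (Subgroup.normalizer (H i₀ : Set G)).index := ⟨_, rfl⟩
    obtain ⟨e, he'⟩ : ∃ e, e = Cfsg.Agent.Helper75.caE (H i₀) := ⟨_, rfl⟩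
    obtain ⟨m, hm'⟩ : ∃ m, m = Nat.card (H i₀) := ⟨_, rfl⟩
    obtain ⟨s, hs'⟩ : ∃ s, s = (Cfsg.Agent.Helper75.Ksharp (H i₀)).card := ⟨_, rfl⟩
    rw [← hidx, ← hs'] at h2
    rw [← hs', ← hm'] at h3
    rw [← he', ← hm'] at h4
    rw [← hidx, h4] at h5
    rw [h2, ← h5] at hcardK
    rw [← he'] at he
    rw [← hm'] at hm
    have hm2 : m = s + 1 := h3.symm
    subst hm2
    have : idx * s + 1 < idx * (e * (s + 1)) := by
      have hidx1 : 1 ≤ idx := by
        rcases Nat.eq_zero_or_pos idx with h0 | h0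
        · rw [h0] at hcardK; simp at hcardK
        · exact h0
      nlinarith
    omega
  exact h71 ι hι L H hHL hH1 hHn hfrob hcop hTI hcover

/-- **The CN-theorem for odd order**, from Peterfalvi (7.1). -/
theorem cn_solvable_aux (h71 : ∀ (G : Type u) [Group G] [Finite G], Odd (Nat.card G) → Pet71 G) :
    ∀ (n : ℕ) (G : Type u) [Group G] [Finite G], Nat.card G = n → Odd (Nat.card G) →
      Cfsg.IsCNGroup G → Group.IsSolvable G := by
  intro n
  induction n using Nat.strong_induction_on with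
  | _ n ih =>
  intro G _ _ hn hodd hCN
  by_contra hns
  -- proper subgroups are solvable
  have hsub : ∀ H : Subgroup G, H ≠ ⊤ → Group.IsSolvable H := by
    intro H hH
    have hlt : Nat.card H < n := by
      rw [← hn, ← Subgroup.card_mul_index H]
      have h1 : H.index ≠ 1 := fun h => hH (Subgroup.index_eq_one.mp h)
      have h0 : H.index ≠ 0 := Subgroup.index_ne_zero_of_finite
      have h2 : 0 < Nat.card H := Nat.card_pos
      have h3 : 2 ≤ H.index := by omega
      nlinarith
    exact ih _ hlt H rfl (Odd.of_dvd_nat hodd (Subgroup.card_subgroup_dvd_card H))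
      (Helper95.Fpf.cn_subgroup hCN H)
  have hnt : Nontrivial G := by
    by_contra h
    rw [not_nontrivial_iff_subsingleton] at h
    exact hns inferInstance
  have hsimple : IsSimpleGroup G := by
    refine { exists_pair_ne := hnt.exists_pair_ne, eq_bot_or_eq_top_of_normal := ?_ }
    intro N hN
    by_contra hcon
    push Not at hcon
    obtain ⟨hNbot, hNtop⟩ := hcon
    have hNs : Group.IsSolvable N := hsub N hNtop
    have hQCN : Cfsg.IsCNGroup (G ⧸ N) := cn_quotient_aux _ G hCN N hNs rfl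
    have hQlt : Nat.card (G ⧸ N) < n := by
      rw [← hn, ← Subgroup.index_eq_card, ← Subgroup.card_mul_index N]
      have h1 : 1 < Nat.card N := (Subgroup.one_lt_card_iff_ne_bot N).mpr hNbot
      have h2 : 0 < N.index := Nat.pos_of_ne_zero Subgroup.index_ne_zero_of_finite
      nlinarith
    have hQodd : Odd (Nat.card (G ⧸ N)) := by
      rw [← Subgroup.index_eq_card]
      exact Odd.of_dvd_nat hodd (Subgroup.index_dvd_card N)
    have hQs : Group.IsSolvable (G ⧸ N) := ih _ hQlt (G ⧸ N) rfl hQodd hQCN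
    apply hns
    exact Group.isSolvable_of_ker_le_range N.subtype (QuotientGroup.mk' N)
      (by rw [QuotientGroup.ker_mk', Subgroup.range_subtype])
  have hnc : ¬ IsMulCommutative G := by
    intro h
    apply hns
    exact Group.isSolvable_of_comm h.is_comm.comm
  exact cn_minSimple_false ⟨hodd, hsimple, hnc, hsub⟩ hCN (h71 G hodd)

end Main

end Cfsg.Agent.Helper9
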