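import Cfsg.Agent.Helper9.CarterSystem
import Cfsg.Agent.Helper9.SubnormalSylow

/-!
Complement systems reducing into a subgroup; every system normalizer lies in a Carter subgroup
(helper9).
-/

set_option autoImplicit false

namespace Cfsg.Agent.Helper9

open Subgroup Pointwise

universe u

/-- `K` reduces into `H`: for each prime `p` the index of `K p ⊓ H` in `H` is a power of `p`. -/
def ReducesInto {G : Type*} [Group G] (K : Nat.Primes → Subgroup G) (H : Subgroup G) : Prop :=
  ∀ p : Nat.Primes, ∃ k : ℕ, (K p).relIndex H = (p : ℕ) ^ k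

/-- For a normal subgroup `K`, `[HK : H] = [K : H ∩ K]`. -/
theorem relIndex_sup_of_normal_right {G : Type*} [Group G] [Finite G] (H K : Subgroup G)
    [K.Normal] : H.relIndex (H ⊔ K) = H.relIndex K := by
  have h1 : K.relIndex (H ⊔ K) = K.relIndex H := Subgroup.relIndex_sup_right H K
  have a1 : (⊥ : Subgroup G).relIndex (H ⊓ K) * (H ⊓ K).relIndex H = (⊥ : Subgroup G).relIndex H :=
    Subgroup.relIndex_mul_relIndex _ _ _ bot_le inf_le_left
  have a2 : (⊥ : Subgroup G).relIndex (H ⊓ K) * (H ⊓ K).relIndex K = (⊥ : Subgroup G).relIndex K :=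
    Subgroup.relIndex_mul_relIndex _ _ _ bot_le inf_le_right
  have a3 : (⊥ : Subgroup G).relIndex K * K.relIndex (H ⊔ K) = (⊥ : Subgroup G).relIndex (H ⊔ K) :=
    Subgroup.relIndex_mul_relIndex _ _ _ bot_le le_sup_right
  have a4 : (⊥ : Subgroup G).relIndex H * H.relIndex (H ⊔ K) = (⊥ : Subgroup G).relIndex (H ⊔ K) :=
    Subgroup.relIndex_mul_relIndex _ _ _ bot_le le_sup_left
  rw [Subgroup.inf_relIndex_left] at a1
  rw [Subgroup.inf_relIndex_right] at a2
  have hpos : 0 < (⊥ : Subgroup G).relIndex (H ⊓ K) * K.relIndex H := by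
    rw [a1, Subgroup.relIndex_bot_left]; exact Nat.card_pos
  symm
  apply Nat.eq_of_mul_eq_mul_left hpos
  calc (⊥ : Subgroup G).relIndex (H ⊓ K) * K.relIndex H * H.relIndex K
      = ((⊥ : Subgroup G).relIndex (H ⊓ K) * H.relIndex K) * K.relIndex H := by ring
    _ = (⊥ : Subgroup G).relIndex K * K.relIndex (H ⊔ K) := by rw [a2, h1]
    _ = (⊥ : Subgroup G).relIndex H * H.relIndex (H ⊔ K) := by rw [a3, a4]
    _ = (⊥ : Subgroup G).relIndex (H ⊓ K) * K.relIndex H * H.relIndex (H ⊔ K) := by rw [a1]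

/-- Dedekind's modular law for a normal subgroup `M ≤ H`. -/
theorem inf_sup_eq_sup_inf_of_normal {G : Type*} [Group G] (A H M : Subgroup G) [M.Normal]
    (hMH : M ≤ H) : (A ⊓ H) ⊔ M = (A ⊔ M) ⊓ H := by
  apply le_antisymm
  · exact sup_le (inf_le_inf le_sup_left le_rfl) (le_inf le_sup_right hMH)
  · intro x hx
    have hx1 : x ∈ A ⊔ M := hx.1
    have hx2 : x ∈ H := hx.2
    rw [Subgroup.mem_sup_of_normal_right] at hx1
    obtain ⟨a, ha, m, hm, rfl⟩ := hx1
    have haH : a ∈ H := by
      have : a = a * m * m⁻¹ := by group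
      rw [this]
      exact H.mul_mem hx2 (H.inv_mem (hMH hm))
    exact Subgroup.mul_mem _ (Subgroup.mem_sup_left ⟨ha, haH⟩) (Subgroup.mem_sup_right hm)

/-- Multiplicativity of relative indices along a normal subgroup `M ≤ H`. -/
theorem relIndex_eq_mul_relIndex_map {G : Type*} [Group G] [Finite G] (A H M : Subgroup G)
    [M.Normal] (hMH : M ≤ H) :
    A.relIndex H = A.relIndex M *
      (A.map (QuotientGroup.mk' M)).relIndex (H.map (QuotientGroup.mk' M)) := by
  rw [Subgroup.relIndex_map_map, QuotientGroup.ker_mk', sup_eq_left.mpr hMH]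
  have h1 := Subgroup.relIndex_mul_relIndex (A ⊓ H) ((A ⊓ H) ⊔ M) H le_sup_left
    (sup_le inf_le_right hMH)
  rw [Subgroup.inf_relIndex_right, relIndex_sup_of_normal_right,
    inf_sup_eq_sup_inf_of_normal A H M hMH, Subgroup.inf_relIndex_right] at h1
  rw [← h1]
  congr 1
  rw [← Subgroup.inf_relIndex_right (A ⊓ H) M, inf_assoc, inf_eq_right.mpr hMH,
    Subgroup.inf_relIndex_right]

/-- Relative indices can only shrink under a homomorphism. -/
theorem relIndex_map_map_dvd {G G' : Type*} [Group G] [Group G'] (f : G →* G')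
    (A C : Subgroup G) : (A.map f).relIndex (C.map f) ∣ A.relIndex C := by
  rw [← Subgroup.relIndex_comap]
  exact Subgroup.relIndex_dvd_of_le_left C (Subgroup.le_comap_map f A)

theorem ReducesInto.map {G G' : Type*} [Group G] [Group G'] {K : Nat.Primes → Subgroup G}
    {C : Subgroup G} (h : ReducesInto K C) (f : G →* G') :
    ReducesInto (fun p => (K p).map f) (C.map f) := by
  intro p
  obtain ⟨k, hk⟩ := h p
  have h1 := relIndex_map_map_dvd f (K p) C
  rw [hk] at h1
  obtain ⟨a, -, ha⟩ := (Nat.dvd_prime_pow p.2).mp h1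
  exact ⟨a, ha⟩

theorem ReducesInto.sup_normal {G : Type*} [Group G] [Finite G] {K : Nat.Primes → Subgroup G}
    (hK : Cfsg.IsComplementSystem K) {C : Subgroup G} (h : ReducesInto K C) (M : Subgroup G)
    [M.Normal] : ReducesInto K (C ⊔ M) := by
  intro p
  obtain ⟨k, hk⟩ := h p
  have h1 := relIndex_eq_mul_relIndex_map (K p) (C ⊔ M) M le_sup_right
  rw [Subgroup.map_sup, QuotientGroup.map_mk'_self, sup_bot_eq] at h1
  have h2 := relIndex_map_map_dvd (QuotientGroup.mk' M) (K p) C
  rw [hk] at h2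
  obtain ⟨a, -, ha⟩ := (Nat.dvd_prime_pow p.2).mp h2
  have h3 : (K p).relIndex M ∣ (K p).index := relIndex_dvd_index_of_normal_right (K p) M
  rw [hK p] at h3
  obtain ⟨b, -, hb⟩ := (Nat.dvd_prime_pow p.2).mp h3
  exact ⟨b + a, by rw [h1, ha, hb, pow_add]⟩

/-- A complement system reducing into `H` induces a complement system of `H`. -/
theorem cs_subgroupOf_of_reducesInto {G : Type*} [Group G] [Finite G]
    {K : Nat.Primes → Subgroup G} (hK : Cfsg.IsComplementSystem K) (H : Subgroup G)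
    (hred : ReducesInto K H) : Cfsg.IsComplementSystem (fun p => (K p).subgroupOf H) := by
  intro p
  obtain ⟨k, hk⟩ := hred p
  have h1 := Subgroup.card_mul_index ((K p).subgroupOf H)
  have h2 : ¬ (p : ℕ) ∣ Nat.card ((K p).subgroupOf H) := by
    intro h
    apply cs_not_dvd_card hK p
    have e1 : Nat.card ((K p).subgroupOf H) = Nat.card ((K p ⊓ H : Subgroup G)) := by
      rw [← Subgroup.inf_subgroupOf_right]
      exact Nat.card_congr (Subgroup.subgroupOfEquivOfLe inf_le_right).toEquiv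
    rw [e1] at h
    exact dvd_trans h (Subgroup.card_dvd_of_le inf_le_left)
  have h3 : ((K p).subgroupOf H).index = (p : ℕ) ^ k := hk
  show ((K p).subgroupOf H).index = _
  rw [← h1, h3, Nat.factorization_mul Nat.card_pos.ne' (pow_ne_zero _ p.2.ne_zero)]
  simp only [Finsupp.coe_add, Pi.add_apply]
  rw [Nat.factorization_eq_zero_of_not_dvd h2, zero_add, Nat.Prime.factorization_pow p.2]
  simp

/-- Every subgroup of a finite solvable group has a complement system reducing into it. -/
theorem exists_cs_reducesInto {G : Type u} [Group G] [Finite G] [Group.IsSolvable G]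
    (H : Subgroup G) : ∃ K : Nat.Primes → Subgroup G, Cfsg.IsComplementSystem K ∧
      ReducesInto K H := by
  obtain ⟨KH, hKH⟩ := exists_complementSystem (G := H)
  have h : ∀ p : Nat.Primes, ∃ A : Subgroup G,
      A.index = (p : ℕ) ^ (Nat.card G).factorization p ∧ ∃ k : ℕ, A.relIndex H = (p : ℕ) ^ k := by
    intro p
    have hG0 : Nat.card G ≠ 0 := Nat.card_pos.ne'
    obtain ⟨a, ha⟩ : ∃ a, a = (p : ℕ) ^ (Nat.card G).factorization p := ⟨_, rfl⟩
    obtain ⟨m, hm⟩ : ∃ m, m = Nat.card G / a := ⟨_, rfl⟩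
    have h1 : a * m = Nat.card G := by
      rw [hm, ha]; exact Nat.ordProj_mul_ordCompl_eq_self (Nat.card G) p
    have hcop : Nat.Coprime m a := by
      rw [hm, ha]; exact ((Nat.coprime_ordCompl p.2 hG0).pow_left _).symm
    obtain ⟨B, hB⟩ : ∃ B : Subgroup G, B = (KH p).map H.subtype := ⟨_, rfl⟩
    have hBcard : Nat.card B = Nat.card (KH p) := by
      rw [hB]
      exact Subgroup.card_map_of_injective H.subtype_injective
    have hBcop : (Nat.card B).Coprime a := by
      rw [hBcard, ha]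
      exact (((Nat.Prime.coprime_iff_not_dvd p.2).mpr (cs_not_dvd_card hKH p)).pow_left _).symm
    obtain ⟨A, hA, hBA⟩ := Cfsg.Agent.Lib.hall_le m a (by rw [mul_comm]; exact h1.symm) hcop B hBcop
    refine ⟨A, ?_, ?_⟩
    · rw [← ha]
      have h2 := A.card_mul_index
      rw [hA, ← h1] at h2
      have hpos : 0 < m := by
        rcases Nat.eq_zero_or_pos m with h0 | h0
        · rw [h0, mul_zero] at h1; exact absurd h1.symm hG0
        · exact h0
      have h3 : m * A.index = m * a := by rw [h2, mul_comm]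
      exact Nat.eq_of_mul_eq_mul_left hpos h3
    · have h4 : A.relIndex H ∣ B.relIndex H := Subgroup.relIndex_dvd_of_le_left H hBA
      have h5 : B.relIndex H = (KH p).index := by
        have h6 := Subgroup.relIndex_map_map_of_injective (KH p) ⊤ H.subtype_injective
        rw [Subgroup.relIndex_top_right, ← MonoidHom.range_eq_map, Subgroup.range_subtype] at h6
        rw [hB, h6]
      rw [h5, hKH p] at h4
      obtain ⟨k, -, hk⟩ := (Nat.dvd_prime_pow p.2).mp h4
      exact ⟨k, hk⟩
  choose K hK1 hK2 using h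
  exact ⟨K, hK1, hK2⟩

/-- Base case: `G = C M` with `M` an abelian minimal normal `q`-subgroup. -/
theorem systemNormalizer_le_carter_base {G : Type*} [Group G] [Finite G] [Group.IsSolvable G]
    (C M : Subgroup G) [hMn : M.Normal] (q : ℕ) [hq : Fact q.Prime] (hMq : IsPGroup q M)
    (hMcomm : ∀ x ∈ M, ∀ y ∈ M, x * y = y * x)
    (hMmin : ∀ N : Subgroup G, N.Normal → N ≤ M → N = ⊥ ∨ N = M)
    (hC : Cfsg.IsCarterSubgroup C) (hCM : C ⊔ M = ⊤) (K : Nat.Primes → Subgroup G)
    (hK : Cfsg.IsComplementSystem K) (hred : ReducesInto K C) :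
    Cfsg.systemNormalizer K ≤ C := by
  by_cases hMC : M ≤ C
  · rw [sup_eq_left.mpr hMC] at hCM
    rw [hCM]; exact le_top
  -- `C ⊓ M = ⊥`
  have hinf : C ⊓ M = ⊥ := by
    have hn : (C ⊓ M).Normal := by
      rw [← Subgroup.normalizer_eq_top_iff, eq_top_iff, ← hCM]
      refine sup_le ?_ ?_
      · intro c hc
        apply Cfsg.Agent.Helper1.mem_normalizer_of_conj_mem
        intro y hy
        exact ⟨C.mul_mem (C.mul_mem hc hy.1) (C.inv_mem hc), hMn.conj_mem y hy.2 c⟩
      · intro m hm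
        apply Cfsg.Agent.Helper1.mem_normalizer_of_conj_mem
        intro y hy
        have : m * y * m⁻¹ = y := by rw [hMcomm m hm y hy.2]; group
        rw [this]; exact hy
    rcases hMmin (C ⊓ M) hn inf_le_right with h | h
    · exact h
    · exact absurd (inf_eq_right.mp h) hMC
  have hqp : q.Prime := hq.out
  obtain ⟨qq, hqq⟩ : ∃ qq : Nat.Primes, (qq : ℕ) = q := ⟨⟨q, hqp⟩, rfl⟩
  obtain ⟨A, hA⟩ : ∃ A : Subgroup G, A = K qq := ⟨_, rfl⟩
  obtain ⟨k, hk⟩ := hred qq
  rw [← hA, hqq] at hk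
  have hAq : ¬ q ∣ Nat.card A := by
    have := cs_not_dvd_card hK qq
    rwa [← hA, hqq] at this
  have hAidx : A.index = q ^ (Nat.card G).factorization q := by
    have := hK qq
    rwa [← hA, hqq] at this
  -- `A ≤ C`
  have hAC : A ≤ C := by
    have h1 : C.index ∣ Nat.card M := by
      rw [← Subgroup.relIndex_top_right, ← hCM, relIndex_sup_of_normal_right]
      exact Subgroup.relIndex_dvd_card C M
    obtain ⟨j, hj⟩ := IsPGroup.iff_card.mp hMq
    rw [hj] at h1
    obtain ⟨j', -, hj'⟩ := (Nat.dvd_prime_pow hqp).mp h1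
    have h2 := Subgroup.relIndex_mul_index (inf_le_right : A ⊓ C ≤ C)
    rw [Subgroup.inf_relIndex_right, hk, hj'] at h2
    have h3 := Subgroup.relIndex_mul_index (inf_le_left : A ⊓ C ≤ A)
    rw [← h2, ← pow_add] at h3
    have h4 : (A ⊓ C).relIndex A ∣ q ^ (k + j') := Dvd.intro _ h3
    obtain ⟨t, -, ht⟩ := (Nat.dvd_prime_pow hqp).mp h4
    have h5 : (A ⊓ C).relIndex A ∣ Nat.card A := Subgroup.relIndex_dvd_card _ _
    have ht0 : t = 0 := by
      by_contra hne
      apply hAq
      refine dvd_trans ?_ h5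
      rw [ht]
      exact dvd_pow_self q hne
    rw [ht0, pow_zero, Subgroup.relIndex_eq_one] at ht
    exact ht.trans inf_le_right
  -- `C` normalizes `A`
  haveI : Group.IsNilpotent C := hC.1
  have hQidx : (A.subgroupOf C).index = q ^ k := hk
  have hQcard : Nat.card (A.subgroupOf C) = Nat.card A :=
    Nat.card_congr (Subgroup.subgroupOfEquivOfLe hAC).toEquiv
  have hAqk : (Nat.card A).Coprime (q ^ k) :=
    (((Nat.Prime.coprime_iff_not_dvd hqp).mpr hAq).pow_left k).symm
  have hQn : (A.subgroupOf C).Normal := by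
    apply Cfsg.Agent.Helper1.normal_of_hall_of_isNilpotent
    rw [hQidx, hQcard]
    exact hAqk
  have hCA : C ≤ normalizer (A : Set G) := by
    intro c hc
    apply Cfsg.Agent.Helper1.mem_normalizer_of_conj_mem
    intro y hy
    have h1 := hQn.conj_mem ⟨y, hAC hy⟩ (Subgroup.mem_subgroupOf.mpr hy) ⟨c, hc⟩
    rw [Subgroup.mem_subgroupOf] at h1
    simpa using h1
  -- a Sylow `q`-subgroup of `C`
  obtain ⟨P⟩ : Nonempty (Sylow q C) := inferInstance
  obtain ⟨P', hP'⟩ : ∃ P' : Subgroup G, P' = (P : Subgroup C).map C.subtype := ⟨_, rfl⟩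
  have hP'q : IsPGroup q P' := by
    rw [hP']
    exact P.2.map C.subtype
  have hP'C : P' ≤ C := by
    rw [hP']
    intro x hx
    obtain ⟨y, -, rfl⟩ := hx
    exact y.2
  have hsup : C ≤ P' ⊔ A := by
    have hkf : k = (Nat.card C).factorization q := by
      have h1 := cs_subgroupOf_of_reducesInto hK C hred qq
      have h2 : ((K qq).subgroupOf C).index = (qq : ℕ) ^ (Nat.card C).factorization qq := h1
      rw [← hA, hqq, hQidx] at h2
      exact Nat.pow_right_injective hqp.two_le h2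
    have hPcard : Nat.card (P : Subgroup C) = q ^ k := by
      rw [hkf]; exact P.card_eq_multiplicity
    have hcompl : IsComplement' (P : Subgroup C) (A.subgroupOf C) := by
      apply Subgroup.isComplement'_of_coprime
      · rw [hPcard, ← hQidx, mul_comm]
        exact Subgroup.card_mul_index _
      · rw [hPcard, hQcard]
        exact hAqk.symm
    have h3 := hcompl.sup_eq_top
    have h4 : ((P : Subgroup C) ⊔ A.subgroupOf C).map C.subtype = C := by
      rw [h3, ← MonoidHom.range_eq_map, Subgroup.range_subtype]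
    rw [Subgroup.map_sup, Subgroup.map_subgroupOf_eq_of_le hAC, ← hP'] at h4
    exact h4.ge
  -- the main argument
  have hDA : Cfsg.systemNormalizer K ≤ normalizer (A : Set G) := by
    rw [hA]; exact systemNormalizer_le_normalizer K qq
  intro d hd
  have hdtop : d ∈ C ⊔ M := by rw [hCM]; exact Subgroup.mem_top d
  rw [Subgroup.mem_sup_of_normal_right] at hdtop
  obtain ⟨c, hc, m, hm, rfl⟩ := hdtop
  have hmN : m ∈ normalizer (A : Set G) := by
    have : m = c⁻¹ * (c * m) := by group
    rw [this]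
    exact Subgroup.mul_mem _ (Subgroup.inv_mem _ (hCA hc)) (hDA hd)
  have hAM : A ⊓ M = ⊥ := by
    rw [eq_bot_iff, ← hinf]
    exact inf_le_inf hAC le_rfl
  have hmA : ∀ a ∈ A, a * m = m * a := by
    intro a ha
    have hw1 : m * a * m⁻¹ * a⁻¹ ∈ A :=
      A.mul_mem ((Subgroup.mem_normalizer_iff.mp hmN a).mp ha) (A.inv_mem ha)
    have hw2 : m * a * m⁻¹ * a⁻¹ ∈ M := by
      have : m * a * m⁻¹ * a⁻¹ = m * (a * m⁻¹ * a⁻¹) := by group
      rw [this]
      exact M.mul_mem hm (hMn.conj_mem _ (M.inv_mem hm) a)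
    have hw : m * a * m⁻¹ * a⁻¹ ∈ A ⊓ M := ⟨hw1, hw2⟩
    rw [hAM, Subgroup.mem_bot] at hw
    have : m * a = (m * a * m⁻¹ * a⁻¹) * (a * m) := by group
    rw [this, hw, one_mul]
  suffices hm1 : m = 1 by rw [hm1, mul_one]; exact hc
  by_contra hm1
  obtain ⟨M₀, hM₀⟩ : ∃ M₀ : Subgroup G, M₀ = M ⊓ centralizer (A : Set G) := ⟨_, rfl⟩
  have hM₀mem : ∀ y, y ∈ M₀ ↔ y ∈ M ∧ ∀ a ∈ A, a * y = y * a := by
    intro y
    rw [hM₀, Subgroup.mem_inf, Subgroup.mem_centralizer_iff]
    rfl
  have hmM₀ : m ∈ M₀ := (hM₀mem m).mpr ⟨hm, hmA⟩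
  have hM₀ne : M₀ ≠ ⊥ := by
    intro h
    rw [h, Subgroup.mem_bot] at hmM₀
    exact hm1 hmM₀
  have hM₀q : IsPGroup q M₀ := hMq.to_le (by rw [hM₀]; exact inf_le_left)
  have hP'M₀ : P' ≤ normalizer (M₀ : Set G) := by
    intro c' hc'
    have hc'C := hP'C hc'
    apply Cfsg.Agent.Helper1.mem_normalizer_of_conj_mem
    intro y hy
    rw [hM₀mem] at hy ⊢
    refine ⟨hMn.conj_mem y hy.1 c', ?_⟩
    intro a ha
    have ha' : c'⁻¹ * a * c' ∈ A := by
      have := (Subgroup.mem_normalizer_iff.mp (hCA (C.inv_mem hc'C)) a).mp ha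
      simpa using this
    have h1 := hy.2 _ ha'
    calc a * (c' * y * c'⁻¹) = c' * ((c'⁻¹ * a * c') * y) * c'⁻¹ := by group
      _ = c' * (y * (c'⁻¹ * a * c')) * c'⁻¹ := by rw [h1]
      _ = c' * y * c'⁻¹ * a := by group
  have hne := inf_centralizer_ne_bot_of_isPGroup q P' M₀ hP'q hM₀q hM₀ne hP'M₀
  obtain ⟨⟨z, hz⟩, hz1⟩ := (Subgroup.ne_bot_iff_exists_ne_one).mp hne
  have hz1' : z ≠ 1 := fun h => hz1 (Subtype.ext h)
  have hzM₀ : z ∈ M₀ := hz.1
  have hzP' : z ∈ centralizer (P' : Set G) := hz.2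
  rw [hM₀mem] at hzM₀
  have hzC : z ∈ centralizer (C : Set G) := by
    apply mem_centralizer_of_le_sup z P' A C _ hzM₀.2 hsup
    intro h hh
    exact (Subgroup.mem_centralizer_iff.mp hzP') h hh
  have hzN : z ∈ normalizer (C : Set G) := by
    apply Cfsg.Agent.Helper1.mem_normalizer_of_conj_mem
    intro y hy
    have : z * y * z⁻¹ = y := by
      rw [← (Subgroup.mem_centralizer_iff.mp hzC) y hy]; group
    rw [this]; exact hy
  rw [hC.2] at hzN
  have : z ∈ C ⊓ M := ⟨hzN, hzM₀.1⟩
  rw [hinf, Subgroup.mem_bot] at this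
  exact hz1' this

/-- **Carter**: if a complement system reduces into a Carter subgroup `C`, then its system
normalizer lies in `C`. -/
theorem systemNormalizer_le_carter_aux : ∀ (n : ℕ) (G : Type u) [Group G] [Finite G]
    [Group.IsSolvable G] (C : Subgroup G) (K : Nat.Primes → Subgroup G), Nat.card G = n →
    Cfsg.IsCarterSubgroup C → Cfsg.IsComplementSystem K → ReducesInto K C →
    Cfsg.systemNormalizer K ≤ C := by
  intro n
  induction n using Nat.strong_induction_on with
  | _ n ih =>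
  intro G _ _ _ C K hn hC hK hred
  by_cases hCtop : C = ⊤
  · rw [hCtop]; exact le_top
  have hnt : Nontrivial G := by
    by_contra h
    rw [not_nontrivial_iff_subsingleton] at h
    exact hCtop (Subsingleton.elim _ _)
  obtain ⟨M, hMn, hMne, hMmin⟩ := Cfsg.Agent.Lib.exists_minimal_normal (G := G)
  obtain ⟨hMc, q, hq, hMexp⟩ := Cfsg.Agent.S0043.result M hMne hMmin
  haveI : Fact q.Prime := ⟨hq⟩
  have hMq : IsPGroup q M := fun x => ⟨1, by
    apply Subtype.ext
    have := hMexp x.1 x.2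
    simpa using this⟩
  have hMcomm : ∀ x ∈ M, ∀ y ∈ M, x * y = y * x := by
    intro x hx y hy
    have := hMc.is_comm.comm ⟨x, hx⟩ ⟨y, hy⟩
    exact congrArg Subtype.val this
  -- pass to the quotient
  have hCbar : Cfsg.IsCarterSubgroup (C.map (QuotientGroup.mk' M)) :=
    Cfsg.Agent.Helper1.IsCarter.map_mk M hMq hC
  have hKbar := cs_map_mk' hK M
  have hredbar := hred.map (QuotientGroup.mk' M)
  have hlt : Nat.card (G ⧸ M) < n := by
    rw [← hn, ← M.index_eq_card, ← M.card_mul_index]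
    have h1 : 1 < Nat.card M := (Subgroup.one_lt_card_iff_ne_bot _).mpr hMne
    have h2 : 0 < M.index := Nat.pos_of_ne_zero Subgroup.index_ne_zero_of_finite
    nlinarith
  have h1 := ih _ hlt (G ⧸ M) (C.map (QuotientGroup.mk' M))
    (fun p => (K p).map (QuotientGroup.mk' M)) rfl hCbar hKbar hredbar
  rw [systemNormalizer_map_mk' hK M] at h1
  have hDL : Cfsg.systemNormalizer K ≤ C ⊔ M := by
    intro x hx
    have h2 : (QuotientGroup.mk' M) x ∈ C.map (QuotientGroup.mk' M) :=
      h1 (Subgroup.mem_map_of_mem _ hx)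
    obtain ⟨c, hc, hcx⟩ := h2
    have h3 : c⁻¹ * x ∈ M := by
      rw [← QuotientGroup.eq_one_iff, ← QuotientGroup.mk'_apply, map_mul, map_inv, hcx]
      simp
    have : x = c * (c⁻¹ * x) := by group
    rw [this]
    exact Subgroup.mul_mem _ (Subgroup.mem_sup_left hc) (Subgroup.mem_sup_right h3)
  by_cases hL : C ⊔ M = ⊤
  · exact systemNormalizer_le_carter_base C M q hMq hMcomm hMmin hC hL K hK hred
  -- induction inside `L = C M`
  obtain ⟨L, hLdef⟩ : ∃ L : Subgroup G, L = C ⊔ M := ⟨_, rfl⟩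
  rw [← hLdef] at hL hDL
  have hCL' : C ≤ L := by rw [hLdef]; exact le_sup_left
  have hredL : ReducesInto K L := by rw [hLdef]; exact hred.sup_normal hK M
  have hKL := cs_subgroupOf_of_reducesInto hK L hredL
  have hCL : Cfsg.IsCarterSubgroup (C.subgroupOf L) :=
    Cfsg.Agent.Helper1.IsCarter.subgroupOf hC hCL'
  have hredCL : ReducesInto (fun p => (K p).subgroupOf L) (C.subgroupOf L) := by
    intro p
    obtain ⟨k, hk⟩ := hred p
    refine ⟨k, ?_⟩
    show ((K p).subgroupOf L).relIndex (C.subgroupOf L) = _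
    rw [Subgroup.relIndex_subgroupOf hCL']
    exact hk
  have hltL : Nat.card L < n := by
    rw [← hn]
    have h2 := L.card_mul_index
    have h3 : L.index ≠ 1 := fun h => hL (Subgroup.index_eq_one.mp h)
    have h4 : 0 < L.index := Nat.pos_of_ne_zero Subgroup.index_ne_zero_of_finite
    have h5 : 0 < Nat.card L := Nat.card_pos
    have h6 : 2 ≤ L.index := by omega
    nlinarith
  have h2 := ih _ hltL L (C.subgroupOf L) (fun p => (K p).subgroupOf L) rfl hCL hKL hredCL
  intro x hx
  have hxL := hDL hx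
  have hxD : (⟨x, hxL⟩ : L) ∈ Cfsg.systemNormalizer (fun p => (K p).subgroupOf L) := by
    unfold Cfsg.systemNormalizer
    rw [Subgroup.mem_iInf]
    intro p
    rw [Subgroup.mem_normalizer_iff]
    intro y
    rw [Subgroup.mem_subgroupOf, Subgroup.mem_subgroupOf]
    have h3 := (Subgroup.mem_normalizer_iff.mp (systemNormalizer_le_normalizer K p hx)) y
    simpa using h3
  have h3 := h2 hxD
  rwa [Subgroup.mem_subgroupOf] at h3

end Cfsg.Agent.Helper9
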