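import Mathlib

/-!
# An element of order seven acting on an elementary abelian group of order eight (helper9)

If `g ^ 7 = 1`, `g` normalises the elementary abelian subgroup `S` of order `8` and does not
centralise it, then `g` or `g⁻¹` maps a generating triple `t₁, t₂, t₃` of `S` by
`t₁ ↦ t₂ ↦ t₃ ↦ t₁ t₃`.
-/

set_option autoImplicit false

namespace Cfsg.Agent.Helper9.E8Seven

variable {G : Type*} [Group G]

theorem exists_E8_rel (S : Subgroup G) [Finite S] (hcard : Nat.card S = 8)
    (hexp : ∀ x ∈ S, x * x = 1) (g : G) (hg7 : g ^ 7 = 1) (hN : ∀ t ∈ S, g * t * g⁻¹ ∈ S)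
    (s : G) (hs : s ∈ S) (hgs : g * s ≠ s * g) :
    ∃ g' t₁ t₂ t₃ : G, t₁ * t₂ = t₂ * t₁ ∧ t₂ * t₃ = t₃ * t₂ ∧ t₃ * t₁ = t₁ * t₃ ∧
      g' * t₁ = t₂ * g' ∧ g' * t₂ = t₃ * g' ∧ g' * t₃ = t₁ * t₃ * g' ∧
      S ≤ Subgroup.closure {t₁, t₂, t₃} := by
  -- commutativity in `S`
  have hcomm : ∀ a ∈ S, ∀ b ∈ S, a * b = b * a := by
    intro a ha b hb
    have h1 := hexp _ (S.mul_mem ha hb)
    have h2 := hexp a ha
    have h3 := hexp b hb
    symm
    calc b * a = (a * a) * (b * a) * (b * b) := by rw [h2, h3, one_mul, mul_one]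
      _ = a * ((a * b) * (a * b)) * b := by group
      _ = a * b := by rw [h1, mul_one]
  have hinv : ∀ a ∈ S, a⁻¹ = a := fun a ha => inv_eq_of_mul_eq_one_right (hexp a ha)
  set φ : MulAut G := MulAut.conj g with hφ
  have hφ7 : φ ^ 7 = 1 := by rw [hφ, ← map_pow, hg7, map_one]
  have hφs : φ s ≠ s := by
    intro h
    rw [hφ, MulAut.conj_apply] at h
    apply hgs
    calc g * s = g * s * g⁻¹ * g := by group
      _ = s * g := by rw [h]
  set x : ℕ → G := fun n => (φ ^ n) s with hx
  have hx0 : x 0 = s := by simp [hx]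
  have hx_succ : ∀ n, x (n + 1) = g * x n * g⁻¹ := by
    intro n
    simp only [hx]
    rw [pow_succ', MulAut.mul_apply, hφ, MulAut.conj_apply]
  have hx_mem : ∀ n, x n ∈ S := by
    intro n
    induction n with
    | zero => rw [hx0]; exact hs
    | succ n ih => rw [hx_succ]; exact hN _ ih
  have hx_shift : ∀ n k, (φ ^ k) (x n) = x (n + k) := by
    intro n k
    simp only [hx]
    rw [← MulAut.mul_apply, ← pow_add, add_comm]
  have hx_per : ∀ n, x (n + 7) = x n := by
    intro n
    rw [← hx_shift, hφ7, MulAut.one_apply]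
  -- powers of an automorphism fixing `s` fix `s`
  have hfix : ∀ ψ : MulAut G, ψ s = s → ∀ j : ℕ, (ψ ^ j) s = s := by
    intro ψ h j
    induction j with
    | zero => simp
    | succ j ih => rw [pow_succ, MulAut.mul_apply, h, ih]
  have hone : ∀ q : ℕ, φ ^ (7 * q + 1) = φ := by
    intro q
    rw [pow_add, pow_mul, hφ7, one_pow, one_mul, pow_one]
  have hK : ∀ k, 0 < k → k < 7 → x k ≠ s := by
    intro k hk0 hk7 h
    have h' : (φ ^ k) s = s := h
    apply hφs
    interval_cases k
    · rw [pow_one] at h'; exact h'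
    · have := hfix _ h' 4
      rw [← pow_mul, show 2 * 4 = 7 * 1 + 1 from rfl, hone] at this
      exact this
    · have := hfix _ h' 5
      rw [← pow_mul, show 3 * 5 = 7 * 2 + 1 from rfl, hone] at this
      exact this
    · have := hfix _ h' 2
      rw [← pow_mul, show 4 * 2 = 7 * 1 + 1 from rfl, hone] at this
      exact this
    · have := hfix _ h' 3
      rw [← pow_mul, show 5 * 3 = 7 * 2 + 1 from rfl, hone] at this
      exact this
    · have := hfix _ h' 6
      rw [← pow_mul, show 6 * 6 = 7 * 5 + 1 from rfl, hone] at this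
      exact this
  have hx_lt : ∀ i j, i < j → j < 7 → x i ≠ x j := by
    intro i j hij hj h
    have h1 : x j = (φ ^ i) (x (j - i)) := by
      rw [hx_shift, Nat.sub_add_cancel hij.le]
    have h2 : x i = (φ ^ i) s := rfl
    rw [h1, h2] at h
    have h3 := (φ ^ i).injective h
    exact hK (j - i) (by omega) (by omega) h3.symm
  have hx_inj : ∀ i j, i < 7 → j < 7 → x i = x j → i = j := by
    intro i j hi hj h
    rcases lt_trichotomy i j with h1 | h1 | h1
    · exact absurd h (hx_lt i j h1 hj)
    · exact h1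
    · exact absurd h.symm (hx_lt j i h1 hi)
  have hs1 : s ≠ 1 := by
    intro h
    apply hgs
    rw [h, mul_one, one_mul]
  have hx_ne_one : ∀ n, x n ≠ 1 := by
    intro n h
    have h' : (φ ^ n) s = 1 := h
    rw [map_eq_one_iff _ (φ ^ n).injective] at h'
    exact hs1 h'
  -- counting
  have hall : ∀ t ∈ S, t = 1 ∨ ∃ i, i < 7 ∧ t = x i := by
    set e : Option (Fin 7) → ↥S := fun o => Option.elim o 1 (fun i => ⟨x i, hx_mem i⟩) with he
    have hinj : Function.Injective e := by
      intro a b hab
      cases a with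
      | none =>
        cases b with
        | none => rfl
        | some j =>
          exfalso
          have := congrArg Subtype.val hab
          simp only [he, Option.elim, Subgroup.coe_one] at this
          exact hx_ne_one j this.symm
      | some i =>
        cases b with
        | none =>
          exfalso
          have := congrArg Subtype.val hab
          simp only [he, Option.elim, Subgroup.coe_one] at this
          exact hx_ne_one i this
        | some j =>
          have := congrArg Subtype.val hab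
          simp only [he, Option.elim] at this
          have h2 := hx_inj i j i.2 j.2 this
          rw [Fin.ext h2]
    have hcard' : Nat.card ↥S ≤ Nat.card (Option (Fin 7)) := by
      rw [hcard, Nat.card_eq_fintype_card, Fintype.card_option, Fintype.card_fin]
    have hbij := hinj.bijective_of_nat_card_le hcard'
    intro t ht
    obtain ⟨o, ho⟩ := hbij.2 ⟨t, ht⟩
    cases o with
    | none =>
      left
      have := congrArg Subtype.val ho
      simp only [he, Option.elim, Subgroup.coe_one] at this
      exact this.symm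
    | some i =>
      right
      have := congrArg Subtype.val ho
      simp only [he, Option.elim] at this
      exact ⟨i, i.2, this.symm⟩
  have hxc : ∀ i j, x i * x j = x j * x i := fun i j => hcomm _ (hx_mem i) _ (hx_mem j)
  have hxs : ∀ i, x i * x i = 1 := fun i => hexp _ (hx_mem i)
  -- the product `x 0 * x 1`
  have h01 : x 0 * x 1 ≠ 1 := by
    intro h
    have h1 : x 1 = (x 0)⁻¹ := (inv_eq_of_mul_eq_one_right h).symm
    rw [hinv _ (hx_mem 0)] at h1
    have := hx_inj 1 0 (by norm_num) (by norm_num) h1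
    omega
  rcases hall _ (S.mul_mem (hx_mem 0) (hx_mem 1)) with h | ⟨i, hi, hR0⟩
  · exact absurd h h01
  have hR : ∀ j, x j * x (j + 1) = x (i + j) := by
    intro j
    have := congrArg (φ ^ j) hR0
    rw [map_mul, hx_shift, hx_shift, hx_shift, zero_add, add_comm 1 j] at this
    exact this
  interval_cases i
  · -- `x 0 * x 1 = x 0`
    exfalso
    have : x 0 * x 1 = x 0 * 1 := by rw [hR0, mul_one]
    exact hx_ne_one 1 (mul_left_cancel this)
  · exfalso
    have : x 0 * x 1 = 1 * x 1 := by rw [hR0, one_mul]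
    exact hx_ne_one 0 (mul_right_cancel this)
  · exfalso
    have h1 : x 1 * x 2 = x 3 := hR 1
    have h3 : x 3 = x 0 := by
      calc x 3 = x 1 * x 2 := h1.symm
        _ = x 1 * (x 0 * x 1) := by rw [hR0]
        _ = x 1 * (x 1 * x 0) := by rw [hxc 0 1]
        _ = (x 1 * x 1) * x 0 := by rw [mul_assoc]
        _ = x 0 := by rw [hxs, one_mul]
    have := hx_inj 3 0 (by norm_num) (by norm_num) h3
    omega
  · -- case B: `x 3 = x 0 * x 1`, use `g⁻¹`
    have h6 : x 6 * x 7 = x 9 := hR 6
    rw [show x 7 = x 0 from hx_per 0, show x 9 = x 2 from hx_per 2] at h6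
    -- `x 6 * x 0 = x 2`
    have hx6 : x 6 = x 2 * x 0 := by
      calc x 6 = x 6 * (x 0 * x 0) := by rw [hxs, mul_one]
        _ = (x 6 * x 0) * x 0 := by rw [mul_assoc]
        _ = x 2 * x 0 := by rw [h6]
    have e1 : g * x 1 * g⁻¹ = x 2 := (hx_succ 1).symm
    have e0 : g * x 0 * g⁻¹ = x 1 := (hx_succ 0).symm
    have e6 : g * x 6 * g⁻¹ = x 0 := by
      rw [← hx_succ 6]
      exact hx_per 0
    refine ⟨g⁻¹, x 2, x 1, x 0, hxc _ _, hxc _ _, hxc _ _, ?_, ?_, ?_, ?_⟩
    · rw [← e1]; group
    · rw [← e0]; group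
    · rw [← hx6, ← e6]; group
    · intro t ht
      have m0 : x 0 ∈ Subgroup.closure ({x 2, x 1, x 0} : Set G) :=
        Subgroup.subset_closure (by simp)
      have m1 : x 1 ∈ Subgroup.closure ({x 2, x 1, x 0} : Set G) :=
        Subgroup.subset_closure (by simp)
      have m2 : x 2 ∈ Subgroup.closure ({x 2, x 1, x 0} : Set G) :=
        Subgroup.subset_closure (by simp)
      have m3 : x 3 ∈ Subgroup.closure ({x 2, x 1, x 0} : Set G) := by
        rw [← hR0]; exact Subgroup.mul_mem _ m0 m1
      have m4 : x 4 ∈ Subgroup.closure ({x 2, x 1, x 0} : Set G) := by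
        have : x 1 * x 2 = x 4 := hR 1
        rw [← this]; exact Subgroup.mul_mem _ m1 m2
      have m5 : x 5 ∈ Subgroup.closure ({x 2, x 1, x 0} : Set G) := by
        have : x 2 * x 3 = x 5 := hR 2
        rw [← this]; exact Subgroup.mul_mem _ m2 m3
      have m6 : x 6 ∈ Subgroup.closure ({x 2, x 1, x 0} : Set G) := by
        have : x 3 * x 4 = x 6 := hR 3
        rw [← this]; exact Subgroup.mul_mem _ m3 m4
      rcases hall t ht with h | ⟨j, hj, rfl⟩
      · rw [h]; exact Subgroup.one_mem _
      · interval_cases j <;> assumption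
  · exfalso
    have h3 : x 3 * x 4 = x 7 := hR 3
    rw [show x 7 = x 0 from hx_per 0] at h3
    have h31 : x 3 * x 1 = 1 := by
      have : (x 3 * x 1) * x 0 = 1 * x 0 := by
        calc (x 3 * x 1) * x 0 = x 3 * (x 1 * x 0) := by rw [mul_assoc]
          _ = x 3 * (x 0 * x 1) := by rw [hxc 1 0]
          _ = x 3 * x 4 := by rw [hR0]
          _ = x 0 := h3
          _ = 1 * x 0 := by rw [one_mul]
      exact mul_right_cancel this
    have h4 : x 3 = x 1 := by
      have := (inv_eq_of_mul_eq_one_left h31).symm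
      rw [hinv _ (hx_mem 1)] at this
      exact this
    have := hx_inj 3 1 (by norm_num) (by norm_num) h4
    omega
  · -- case A: `x 0 * x 1 = x 5`
    have h2 : x 2 * x 3 = x 7 := hR 2
    rw [show x 7 = x 0 from hx_per 0] at h2
    -- `x 2 * x 3 = x 0`
    have hx3 : x 3 = x 0 * x 2 := by
      calc x 3 = (x 2 * x 2) * x 3 := by rw [hxs, one_mul]
        _ = x 2 * (x 2 * x 3) := by rw [mul_assoc]
        _ = x 2 * x 0 := by rw [h2]
        _ = x 0 * x 2 := hxc 2 0
    have e0 : g * x 0 * g⁻¹ = x 1 := (hx_succ 0).symm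
    have e1 : g * x 1 * g⁻¹ = x 2 := (hx_succ 1).symm
    have e2 : g * x 2 * g⁻¹ = x 3 := (hx_succ 2).symm
    refine ⟨g, x 0, x 1, x 2, hxc _ _, hxc _ _, hxc _ _, ?_, ?_, ?_, ?_⟩
    · rw [← e0]; group
    · rw [← e1]; group
    · rw [← hx3, ← e2]; group
    · intro t ht
      have m0 : x 0 ∈ Subgroup.closure ({x 0, x 1, x 2} : Set G) :=
        Subgroup.subset_closure (by simp)
      have m1 : x 1 ∈ Subgroup.closure ({x 0, x 1, x 2} : Set G) :=
        Subgroup.subset_closure (by simp)
      have m2 : x 2 ∈ Subgroup.closure ({x 0, x 1, x 2} : Set G) :=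
        Subgroup.subset_closure (by simp)
      have m3 : x 3 ∈ Subgroup.closure ({x 0, x 1, x 2} : Set G) := by
        rw [hx3]; exact Subgroup.mul_mem _ m0 m2
      -- `x j * x (j+1) = x (5 + j)`, so `x (j + 1) = x j * x (5 + j)`
      have hstep : ∀ j, x (j + 1) = x j * x (5 + j) := by
        intro j
        calc x (j + 1) = (x j * x j) * x (j + 1) := by rw [hxs, one_mul]
          _ = x j * (x j * x (j + 1)) := by rw [mul_assoc]
          _ = x j * x (5 + j) := by rw [hR]
      have m5 : x 5 ∈ Subgroup.closure ({x 0, x 1, x 2} : Set G) := by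
        rw [← hR0]; exact Subgroup.mul_mem _ m0 m1
      have m6 : x 6 ∈ Subgroup.closure ({x 0, x 1, x 2} : Set G) := by
        have : x 1 * x 2 = x 6 := hR 1
        rw [← this]; exact Subgroup.mul_mem _ m1 m2
      have m4 : x 4 ∈ Subgroup.closure ({x 0, x 1, x 2} : Set G) := by
        -- `x 3 * x 4 = x 8 = x 1`
        have : x 3 * x 4 = x 8 := hR 3
        rw [show x 8 = x 1 from hx_per 1] at this
        have h4 : x 4 = x 3 * x 1 := by
          calc x 4 = (x 3 * x 3) * x 4 := by rw [hxs, one_mul]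
            _ = x 3 * (x 3 * x 4) := by rw [mul_assoc]
            _ = x 3 * x 1 := by rw [this]
        rw [h4]; exact Subgroup.mul_mem _ m3 m1
      rcases hall t ht with h | ⟨j, hj, rfl⟩
      · rw [h]; exact Subgroup.one_mem _
      · interval_cases j <;> assumption
  · exfalso
    have h1 : x 1 * x 2 = x 7 := hR 1
    rw [show x 7 = x 0 from hx_per 0] at h1
    have h6 : x 6 = x 2 := by
      calc x 6 = x 0 * x 1 := hR0.symm
        _ = (x 1 * x 2) * x 1 := by rw [h1]
        _ = x 1 * (x 2 * x 1) := by rw [mul_assoc]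
        _ = x 1 * (x 1 * x 2) := by rw [hxc 2 1]
        _ = (x 1 * x 1) * x 2 := by rw [mul_assoc]
        _ = x 2 := by rw [hxs, one_mul]
    have := hx_inj 6 2 (by norm_num) (by norm_num) h6
    omega

end Cfsg.Agent.Helper9.E8Seven
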