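import Cfsg.Agent.Helper9.FP1
import Cfsg.Agent.Helper15.Clifford

/-!
# The Suzuki-type counting argument for several coherent T.I. families (helper9)

`K i` (`i : ι`) are T.I. subgroups of a group `G` of odd order whose conjugates partition
`G \ {1}`, each carrying a family `ExcFamN (K i)` of exceptional characters.  We derive the row
relation, the parity relation and the column (Parseval) inequality.
-/

set_option autoImplicit false

namespace Cfsg.Agent.Helper9.FP

open Cfsg Cfsg.Agent.Helper75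
open scoped ComplexConjugate

universe u v

section Disjoint

variable {G : Type u} [Group G] [Fintype G]

/-- Families attached to subgroups whose sets of conjugates are disjoint are disjoint. -/
theorem fp_excFam_disjoint {K K' : Subgroup G} (D : ExcFamN K) (D' : ExcFamN K')
    (hdisj : ∀ g ∈ Kconj K, g ∉ Kconj K') {ψ : G → ℂ}
    (hψ : ψ ∈ excFam K) : ψ ∉ excFam K' := by
  classical
  intro hψ'
  obtain ⟨l, hl⟩ := (D.mem ψ).mp hψ
  obtain ⟨l', hl'⟩ := (D'.mem ψ).mp hψ'
  obtain ⟨l₂, hl₂, hf₂⟩ := D.partner l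
  obtain ⟨l₃, hl₃, hf₃⟩ := D'.partner l'
  have hne₂ : D.θ l₂ ≠ ψ := by
    rw [← hl]
    exact fun h => hl₂ (D.inj h)
  have hne₃ : D'.θ l₃ ≠ ψ := by
    rw [← hl']
    exact fun h => hl₃ (D'.inj h)
  have hzero : classInner (ψ - D.θ l₂) (ψ - D'.θ l₃) = 0 := by
    rw [Helper15.classInner_apply, Finset.sum_eq_zero, mul_zero]
    intro g _
    by_cases hg : g ∈ Kconj K
    · have hg' := hdisj g hg
      have : ψ g = D'.θ l₃ g := by
        have hx : g = 1 ∨ ∀ h : G, h * g * h⁻¹ ∉ K' := by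
          by_cases hg1 : g = 1
          · exact Or.inl hg1
          · right
            intro h hh
            exact hg' (mem_Kconj.mpr ⟨hg1, h, hh⟩)
        rw [← hl', D'.off l' g hx, D'.off l₃ g hx, hf₃]
      simp [this]
    · have : ψ g = D.θ l₂ g := by
        have hx : g = 1 ∨ ∀ h : G, h * g * h⁻¹ ∉ K := by
          by_cases hg1 : g = 1
          · exact Or.inl hg1
          · right
            intro h hh
            exact hg (mem_Kconj.mpr ⟨hg1, h, hh⟩)
        rw [← hl, D.off l g hx, D.off l₂ g hx, hf₂]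
      simp [this]
  have hψirr : IsIrrCharacter G ψ := hψ.1
  rw [Helper15.classInner_sub_left, Helper15.classInner_sub_right, Helper15.classInner_sub_right,
    ca_irr_inner hψirr hψirr, ca_irr_inner hψirr (D'.irr l₃), ca_irr_inner (D.irr l₂) hψirr,
    ca_irr_inner (D.irr l₂) (D'.irr l₃), if_pos rfl, if_neg (Ne.symm hne₃), if_neg hne₂] at hzero
  by_cases h23 : D.θ l₂ = D'.θ l₃
  · rw [if_pos h23] at hzero
    norm_num at hzero
  · rw [if_neg h23] at hzero
    norm_num at hzero

end Disjoint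

section Partition

variable {G : Type u} [Group G] [Fintype G] {ι : Type v} [Fintype ι] (K : ι → Subgroup G)

/-- Splitting a sum of a class function over the group along the partition of `G \ {1}` into the
conjugates of the `K i \ {1}`. -/
theorem fp_sum_partition
    (hTI : ∀ i, ∀ g : G, g ∉ Subgroup.normalizer (K i : Set G) →
      ∀ k ∈ K i, g * k * g⁻¹ ∈ K i → k = 1)
    (hcover : ∀ g : G, g ≠ 1 → ∃ i, g ∈ Kconj (K i))
    (hdisj : ∀ i j, i ≠ j → ∀ g ∈ Kconj (K i), g ∉ Kconj (K j))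
    {F : G → ℂ} (hF : IsClassFunction G F) :
    ∑ g : G, F g = F 1 + ∑ i, ((Subgroup.normalizer (K i : Set G)).index : ℂ)
      * ∑ k ∈ Ksharp (K i), F k := by
  classical
  have hpt : ∀ g : G, F g = (if g = 1 then F g else 0)
      + ∑ i, (if g ∈ Kconj (K i) then F g else 0) := by
    intro g
    by_cases h1 : g = 1
    · rw [if_pos h1, Finset.sum_eq_zero, add_zero]
      intro i _
      rw [if_neg]
      intro h
      exact (mem_Kconj.mp h).1 h1
    · rw [if_neg h1, zero_add]
      obtain ⟨i₁, hi₁⟩ := hcover g h1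
      rw [Finset.sum_eq_single i₁, if_pos hi₁]
      · intro j _ hj
        rw [if_neg]
        exact hdisj i₁ j (Ne.symm hj) g hi₁
      · intro h
        exact absurd (Finset.mem_univ _) h
  rw [Finset.sum_congr rfl (fun g _ => hpt g), Finset.sum_add_distrib,
    Finset.sum_ite_eq' Finset.univ (1 : G), if_pos (Finset.mem_univ _), Finset.sum_comm]
  congr 1
  apply Finset.sum_congr rfl
  intro i _
  rw [Finset.sum_ite_mem, Finset.univ_inter]
  let _ : Fintype ↥(Subgroup.normalizer (K i : Set G)) := Fintype.ofFinite _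
  exact sum_Kconj (hTI i) hF

end Partition

section Parseval

variable {G : Type u} [Group G] [Fintype G]

theorem fp_mem_Kconj_conj {K : Subgroup G} (g h : G) :
    h * g * h⁻¹ ∈ Kconj K ↔ g ∈ Kconj K := by
  rw [mem_Kconj, mem_Kconj]
  constructor
  · rintro ⟨h1, x, hx⟩
    refine ⟨?_, x * h, ?_⟩
    · intro hg
      apply h1
      rw [hg]; group
    · have : x * h * g * (x * h)⁻¹ = x * (h * g * h⁻¹) * x⁻¹ := by group
      rw [this]; exact hx
  · rintro ⟨h1, x, hx⟩
    refine ⟨?_, x * h⁻¹, ?_⟩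
    · intro hg
      apply h1
      have : g = h⁻¹ * (h * g * h⁻¹) * h := by group
      rw [this, hg]; group
    · have : x * h⁻¹ * (h * g * h⁻¹) * (x * h⁻¹)⁻¹ = x * g * x⁻¹ := by group
      rw [this]; exact hx

/-- **Parseval for the indicator function of the conjugates of `K \ {1}`**. -/
theorem fp_parseval [Fintype (IrrCharacter G)] {K : Subgroup G}
    (hTI : ∀ g : G, g ∉ Subgroup.normalizer (K : Set G) → ∀ k ∈ K, g * k * g⁻¹ ∈ K → k = 1) :
    ∑ ψ : IrrCharacter G, Complex.normSq (∑ k ∈ Ksharp K, (ψ : G → ℂ) k)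
      = (Nat.card ↥(Subgroup.normalizer (K : Set G)) : ℝ) * ((Ksharp K).card : ℝ) := by
  classical
  let _ : Fintype ↥(Subgroup.normalizer (K : Set G)) := Fintype.ofFinite _
  let A : G → ℂ := fun g => if g ∈ Kconj K then 1 else 0
  have hA : IsClassFunction G A := by
    intro g h
    show (if _ then (1 : ℂ) else 0) = if _ then 1 else 0
    simp only [fp_mem_Kconj_conj]
  have hsumA : ∀ f : G → ℂ, IsClassFunction G f →
      ∑ g : G, A g * f g = ((Subgroup.normalizer (K : Set G)).index : ℂ)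
        * ∑ k ∈ Ksharp K, f k := by
    intro f hf
    rw [← sum_Kconj hTI hf]
    simp only [A, ite_mul, one_mul, zero_mul]
    rw [Finset.sum_ite_mem, Finset.univ_inter]
  have hG : (Nat.card G : ℂ) ≠ 0 := by
    have : Nat.card G ≠ 0 := Nat.card_pos.ne'
    exact_mod_cast this
  have hidx : (Nat.card G : ℂ) = ((Subgroup.normalizer (K : Set G)).index : ℂ)
      * (Nat.card ↥(Subgroup.normalizer (K : Set G)) : ℂ) := by
    have := Subgroup.index_mul_card (Subgroup.normalizer (K : Set G))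
    exact_mod_cast this.symm
  have hI : ((Subgroup.normalizer (K : Set G)).index : ℂ) ≠ 0 := by
    rw [hidx] at hG
    exact left_ne_zero_of_mul hG
  have hN : (Nat.card ↥(Subgroup.normalizer (K : Set G)) : ℂ) ≠ 0 := by
    rw [hidx] at hG
    exact right_ne_zero_of_mul hG
  have hAψ : ∀ ψ : IrrCharacter G, classInner A (ψ : G → ℂ)
      = (Nat.card ↥(Subgroup.normalizer (K : Set G)) : ℂ)⁻¹
        * conj (∑ k ∈ Ksharp K, (ψ : G → ℂ) k) := by
    intro ψ
    have hψcf : IsClassFunction G (fun g => conj ((ψ : G → ℂ) g)) := by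
      have h1 : IsClassFunction G (ψ : G → ℂ) :=
        Helper74.isClassFunction_of_isCharacter (Helper74.isCharacter_of_isIrr ψ.2)
      intro g h
      simp only
      rw [h1 g h]
    rw [Helper15.classInner_apply, hsumA _ hψcf, map_sum, hidx]
    field_simp
  have hAA : classInner A A = (Nat.card ↥(Subgroup.normalizer (K : Set G)) : ℂ)⁻¹
      * ((Ksharp K).card : ℂ) := by
    have hAcf : IsClassFunction G (fun g => conj (A g)) := by
      intro g h
      simp only
      rw [hA g h]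
    rw [Helper15.classInner_apply, hsumA _ hAcf]
    have : ∀ k ∈ Ksharp K, conj (A k) = 1 := by
      intro k hk
      show conj (if _ then (1 : ℂ) else 0) = 1
      rw [if_pos (Ksharp_subset_Kconj K hk), map_one]
    rw [Finset.sum_congr rfl this, Finset.sum_const, nsmul_eq_mul, mul_one, hidx]
    field_simp
  have hpars := Helper15.classInner_eq_sum_irr hA A
  rw [hAA] at hpars
  have hterm : ∀ ψ : IrrCharacter G, classInner A (ψ : G → ℂ) * conj (classInner A (ψ : G → ℂ))
      = ((Nat.card ↥(Subgroup.normalizer (K : Set G)) : ℂ)⁻¹) ^ 2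
        * ((Complex.normSq (∑ k ∈ Ksharp K, (ψ : G → ℂ) k) : ℝ) : ℂ) := by
    intro ψ
    rw [hAψ ψ, map_mul, map_inv₀, Complex.conj_conj, map_natCast, ← Complex.mul_conj]
    ring
  rw [Finset.sum_congr rfl (fun ψ _ => hterm ψ), ← Finset.mul_sum] at hpars
  have h2 : ((∑ ψ : IrrCharacter G, Complex.normSq (∑ k ∈ Ksharp K, (ψ : G → ℂ) k) : ℝ) : ℂ)
      = (((Nat.card ↥(Subgroup.normalizer (K : Set G)) : ℝ) * ((Ksharp K).card : ℝ) : ℝ) : ℂ) := by
    push_cast
    field_simp at hpars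
    linear_combination -hpars
  exact_mod_cast h2

/-- A sum over an injectively embedded index type is at most the full sum. -/
theorem fp_sum_le_of_injective {T : Type*} [Fintype T] {α : Type*} [Fintype α]
    (emb : T → α) (hemb : Function.Injective emb) (F : α → ℝ) (hF : ∀ x, 0 ≤ F x) :
    ∑ o : T, F (emb o) ≤ ∑ x : α, F x := by
  classical
  rw [← Finset.sum_image (s := Finset.univ) (g := emb) (f := F) (fun a _ b _ h => hemb h)]
  exact Finset.sum_le_sum_of_subset_of_nonneg (Finset.subset_univ _) (fun x _ _ => hF x)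

end Parseval

section Arith

/-- From the Parseval inequality to the column bound. -/
theorem fp_col_arith (e m t c X : ℤ) (hm : e * t + 1 = m) (he : 1 ≤ e) (ht : 1 ≤ t)
    (h : (m - 1) ^ 2 + t * (c * (m - 1) - e) ^ 2 + (m - 1) ^ 2 * X ≤ e * m * (m - 1)) :
    X ≤ e - 1 + 2 * c - c ^ 2 * t := by
  by_contra hcon
  push Not at hcon
  subst hm
  have h2 : 0 ≤ (e * t) ^ 2 * (X - (e + 2 * c - c ^ 2 * t)) :=
    mul_nonneg (sq_nonneg _) (by linarith)
  have h3 : 0 < e ^ 2 * t ^ 2 := by positivity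
  nlinarith [h, h2, h3]

/-- Final arithmetic step: the counting inequalities are contradictory. -/
theorem fp_core_arith (g n e m t d c R Zc U Dn : ℤ)
    (hg : g = n * (e * m)) (hm : m = t * e + 1) (ht : 2 ≤ t) (he : 2 ≤ e) (hn : 1 ≤ n)
    (hd : 1 ≤ d)
    (hsplit : g - 1 = n * (m - 1) + R + Zc)
    (hR : R ≤ g - d ^ 2 - n * (e * m - e ^ 2 - 2 * c * e + c ^ 2 * (m - 1)))
    (hZ : Zc * Dn ≤ g * U)
    (hU : U ≤ e - 1 + 2 * c - c ^ 2 * t)
    (hD : (3 ≤ t ∧ Dn = 2 * e + 1) ∨ (t = 2 ∧ Dn = 2 * e + 2)) : False := by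
  obtain ⟨q, hq⟩ : ∃ q : ℤ, q = 2 * c - c ^ 2 * t := ⟨_, rfl⟩
  have hq0 : q ≤ 0 := by
    rw [hq]
    by_cases hc : c ≤ 0
    · nlinarith [sq_nonneg c]
    · push Not at hc
      nlinarith [sq_nonneg c]
  have hne : 2 ≤ n * e := by nlinarith
  have hmpos : 1 ≤ m := by rw [hm]; nlinarith
  have hgpos : 0 < g := by
    rw [hg, ← mul_assoc]
    exact mul_pos (by linarith) (by linarith)
  have h1 : g * U ≤ g * (e - 1 + q) := by
    apply mul_le_mul_of_nonneg_left _ hgpos.le
    rw [hq]; linarith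
  have hDpos : 0 < Dn := by
    rcases hD with ⟨_, h⟩ | ⟨_, h⟩ <;> rw [h] <;> linarith
  have hmain : (g - 1) * Dn ≤ Dn * (n * (m - 1) + (g - d ^ 2
      - n * (e * m - e ^ 2 - 2 * c * e + c ^ 2 * (m - 1)))) + g * (e - 1 + q) := by
    have h2 : (g - 1) * Dn = Dn * (n * (m - 1) + R) + Zc * Dn := by
      rw [hsplit]; ring
    rw [h2]
    have h3 : Dn * (n * (m - 1) + R) ≤ Dn * (n * (m - 1) + (g - d ^ 2
        - n * (e * m - e ^ 2 - 2 * c * e + c ^ 2 * (m - 1)))) := by
      apply mul_le_mul_of_nonneg_left _ hDpos.le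
      linarith
    linarith
  have hd2 : 1 ≤ d ^ 2 := by nlinarith
  rcases hD with ⟨ht3, hDn⟩ | ⟨ht2, hDn⟩
  · have hid : Dn * (n * (m - 1) + (g - d ^ 2
        - n * (e * m - e ^ 2 - 2 * c * e + c ^ 2 * (m - 1)))) + g * (e - 1 + q)
        - (g - 1) * Dn
        = (2 * e + 1) * (1 - d ^ 2) - (n * e) * ((t - 2) * (e ^ 2 - 1))
          + (n * e) * (q * (2 * e + 1 + m)) := by
      rw [hg, hm, hq, hDn]
      ring
    have hA : 0 < (n * e) * ((t - 2) * (e ^ 2 - 1)) := by
      apply mul_pos (by linarith)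
      apply mul_pos (by linarith)
      nlinarith
    have hB : (n * e) * (q * (2 * e + 1 + m)) ≤ 0 := by
      apply mul_nonpos_of_nonneg_of_nonpos (by linarith)
      apply mul_nonpos_of_nonpos_of_nonneg hq0
      linarith
    have hC : (2 * e + 1) * (1 - d ^ 2) ≤ 0 := by
      apply mul_nonpos_of_nonneg_of_nonpos (by linarith) (by linarith)
    linarith
  · have hid : Dn * (n * (m - 1) + (g - d ^ 2
        - n * (e * m - e ^ 2 - 2 * c * e + c ^ 2 * (m - 1)))) + g * (e - 1 + q)
        - (g - 1) * Dn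
        = (2 * e + 2) * (1 - d ^ 2) - (n * e) * (e - 1)
          + (n * e) * (q * (4 * e + 3)) := by
      rw [hg, hm, hq, hDn, ht2]
      ring
    have hA : 0 < (n * e) * (e - 1) := by
      apply mul_pos (by linarith) (by linarith)
    have hB : (n * e) * (q * (4 * e + 3)) ≤ 0 := by
      apply mul_nonpos_of_nonneg_of_nonpos (by linarith)
      apply mul_nonpos_of_nonpos_of_nonneg hq0
      linarith
    have hC : (2 * e + 2) * (1 - d ^ 2) ≤ 0 := by
      apply mul_nonpos_of_nonneg_of_nonpos (by linarith) (by linarith)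
    linarith

end Arith

section Global

variable {G : Type u} [Group G] [Fintype G] {ι : Type v} [Fintype ι]

/-- The group-theoretic setup: T.I. subgroups whose conjugates partition `G \ {1}`. -/
structure FPSetup (K : ι → Subgroup G) : Prop where
  hodd : Odd (Nat.card G)
  hK1 : ∀ i, K i ≠ ⊥
  hTI : ∀ i, ∀ g : G, g ∉ Subgroup.normalizer (K i : Set G) →
    ∀ k ∈ K i, g * k * g⁻¹ ∈ K i → k = 1
  hcover : ∀ g : G, g ≠ 1 → ∃ i, g ∈ Kconj (K i)
  hdisj : ∀ i j, i ≠ j → ∀ g ∈ Kconj (K i), g ∉ Kconj (K j)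

variable {K : ι → Subgroup G}

/-- The distinguished exceptional character of the family `i`. -/
noncomputable def lam (D : ∀ i, ExcFamN (K i)) (i : ι) : G → ℂ := (D i).θ (D i).l₀

omit [Fintype ι] in
theorem lam_irr (D : ∀ i, ExcFamN (K i)) (i : ι) : IsIrrCharacter G (lam D i) := (D i).irr _

omit [Fintype ι] in
theorem lam_mem (D : ∀ i, ExcFamN (K i)) (i : ι) : lam D i ∈ excFam (K i) :=
  ((D i).mem _).mpr ⟨_, rfl⟩

theorem fp_theta_not_mem (S : FPSetup K) (D : ∀ i, ExcFamN (K i)) {i j : ι} (hij : i ≠ j)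
    (l : Fin (D i).r) : (D i).θ l ∉ excFam (K j) :=
  fp_excFam_disjoint (D i) (D j) (S.hdisj i j hij) (((D i).mem _).mpr ⟨l, rfl⟩)

/-- The integer values `a i j` of the distinguished character of family `i` on `K j \ {1}`. -/
theorem fp_a_exists (S : FPSetup K) (D : ∀ i, ExcFamN (K i)) :
    ∃ a : ι → ι → ℤ, ∀ i j, i ≠ j → ∀ k ∈ Ksharp (K j), lam D i k = a i j := by
  have h : ∀ i j, ∃ a : ℤ, i ≠ j → ∀ k ∈ Ksharp (K j), lam D i k = a := by
    intro i j
    by_cases hij : i = j
    · exact ⟨0, fun h => absurd hij h⟩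
    · obtain ⟨x, hx1⟩ := (Subgroup.ne_bot_iff_exists_ne_one).mp (S.hK1 j)
      obtain ⟨a, ha⟩ := ca_const_of_not_mem (lam_irr D i) (fp_theta_not_mem S D hij _) x.2
        (fun h => hx1 (Subtype.ext h))
      exact ⟨a, fun _ k hk => ha k (mem_Ksharp.mp hk).1 (mem_Ksharp.mp hk).2⟩
  choose a ha using h
  exact ⟨a, ha⟩

/-- The index of the normalizer of `K i`. -/
noncomputable def nI (K : ι → Subgroup G) (i : ι) : ℤ :=
  ((Subgroup.normalizer (K i : Set G)).index : ℤ)

/-- The order of `K i`. -/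
noncomputable def mI (K : ι → Subgroup G) (i : ι) : ℤ := (Nat.card (K i) : ℤ)

/-- The index of `K i` in its normalizer. -/
noncomputable def eI (K : ι → Subgroup G) (i : ι) : ℤ := (caE (K i) : ℤ)

/-- The weight `(|K i| - 1) / e i` of the family `i`. -/
noncomputable def tI (D : ∀ i, ExcFamN (K i)) (i : ι) : ℤ :=
  ((∑ l, ((D i).f l) ^ 2 : ℕ) : ℤ)

/-- The sum of the distinguished character over `K i \ {1}`. -/
noncomputable def s1I (D : ∀ i, ExcFamN (K i)) (i : ι) : ℤ :=
  (D i).ε * ((D i).c * (mI K i - 1) - eI K i)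

/-- The sum of the squared absolute values of the distinguished character over `K i \ {1}`. -/
noncomputable def s2I (D : ∀ i, ExcFamN (K i)) (i : ι) : ℤ :=
  eI K i * mI K i - (eI K i) ^ 2 - 2 * (D i).c * eI K i + (D i).c ^ 2 * (mI K i - 1)

omit [Fintype ι] in
theorem fp_sum1_lam (D : ∀ i, ExcFamN (K i)) (i : ι) :
    ∑ k ∈ Ksharp (K i), lam D i k = ((s1I D i : ℤ) : ℂ) := by
  unfold lam s1I mI eI
  rw [(D i).sum1, (D i).f_l₀]
  push_cast
  ring

omit [Fintype ι] in
theorem fp_sum2_lam (D : ∀ i, ExcFamN (K i)) (i : ι) :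
    ∑ k ∈ Ksharp (K i), lam D i k * conj (lam D i k) = ((s2I D i : ℤ) : ℂ) := by
  unfold lam s2I mI eI
  rw [(D i).sum2]

omit [Fintype ι] in
theorem fp_count (D : ∀ i, ExcFamN (K i)) (i : ι) : eI K i * tI D i + 1 = mI K i := by
  unfold eI tI mI
  exact_mod_cast (D i).count

omit [Fintype ι] in
theorem fp_card_Ksharp (i : ι) : ((Ksharp (K i)).card : ℂ) = ((mI K i - 1 : ℤ) : ℂ) := by
  have := card_Ksharp (K i)
  have h2 : ((Ksharp (K i)).card : ℂ) + 1 = (Nat.card (K i) : ℂ) := by exact_mod_cast this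
  unfold mI
  push_cast
  linear_combination h2

theorem fp_inner_sum (S : FPSetup K) {A B : G → ℂ} (hA : IsIrrCharacter G A)
    (hB : IsIrrCharacter G B) [Decidable (A = B)] :
    (if A = B then (Nat.card G : ℂ) else 0) = A 1 * conj (B 1)
      + ∑ i, ((nI K i : ℤ) : ℂ) * ∑ k ∈ Ksharp (K i), A k * conj (B k) := by
  have hAcf : IsClassFunction G A :=
    Helper74.isClassFunction_of_isCharacter (Helper74.isCharacter_of_isIrr hA)
  have hBcf : IsClassFunction G B :=
    Helper74.isClassFunction_of_isCharacter (Helper74.isCharacter_of_isIrr hB)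
  have hcf : IsClassFunction G (fun g => A g * conj (B g)) := by
    intro g h
    simp only
    rw [hAcf g h, hBcf g h]
  have h1 := ca_irr_inner hA hB
  rw [Helper15.classInner_apply] at h1
  have hG : (Nat.card G : ℂ) ≠ 0 := by
    have : Nat.card G ≠ 0 := Nat.card_pos.ne'
    exact_mod_cast this
  rw [inv_mul_eq_iff_eq_mul₀ hG] at h1
  have h2 := fp_sum_partition K S.hTI S.hcover S.hdisj hcf
  rw [h1] at h2
  unfold nI
  simp only [Int.cast_natCast]
  rw [← h2]
  split_ifs <;> simp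

/-- **Row relation** for the distinguished character of the family `i`. -/
theorem fp_row [DecidableEq ι] (S : FPSetup K) (D : ∀ i, ExcFamN (K i)) (a : ι → ι → ℤ)
    (ha : ∀ i j, i ≠ j → ∀ k ∈ Ksharp (K j), lam D i k = a i j) (i : ι) (d : ℕ)
    (hd : lam D i 1 = d) :
    (Nat.card G : ℤ) = (d : ℤ) ^ 2 + nI K i * s2I D i
      + ∑ j ∈ Finset.univ.erase i, nI K j * ((mI K j - 1) * (a i j) ^ 2) := by
  classical
  have h := fp_inner_sum S (lam_irr D i) (lam_irr D i)
  rw [if_pos rfl, hd, map_natCast] at h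
  have hterm : ∀ j, ∑ k ∈ Ksharp (K j), lam D i k * conj (lam D i k)
      = (((if j = i then s2I D i else (mI K j - 1) * (a i j) ^ 2) : ℤ) : ℂ) := by
    intro j
    by_cases hji : j = i
    · rw [if_pos hji, hji]
      exact fp_sum2_lam D i
    · rw [if_neg hji]
      have : ∀ k ∈ Ksharp (K j), lam D i k * conj (lam D i k) = ((a i j : ℤ) : ℂ) ^ 2 := by
        intro k hk
        rw [ha i j (Ne.symm hji) k hk, map_intCast]
        ring
      rw [Finset.sum_congr rfl this, Finset.sum_const, nsmul_eq_mul, fp_card_Ksharp]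
      push_cast
      ring
  have h2 : ((Nat.card G : ℤ) : ℂ) = (((d : ℤ) ^ 2
      + ∑ j, nI K j * (if j = i then s2I D i else (mI K j - 1) * (a i j) ^ 2) : ℤ) : ℂ) := by
    push_cast
    rw [h]
    congr 1
    · ring
    · apply Finset.sum_congr rfl
      intro j _
      rw [hterm j]
      push_cast
      rfl
  have h3 : (Nat.card G : ℤ) = (d : ℤ) ^ 2
      + ∑ j, nI K j * (if j = i then s2I D i else (mI K j - 1) * (a i j) ^ 2) := by
    exact_mod_cast h2
  rw [h3, ← Finset.add_sum_erase Finset.univ _ (Finset.mem_univ i), if_pos rfl, add_assoc]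
  congr 2
  apply Finset.sum_congr rfl
  intro j hj
  rw [if_neg (Finset.ne_of_mem_erase hj)]

/-- **Orthogonality relation** between the distinguished characters of two families. -/
theorem fp_orth [DecidableEq ι] (S : FPSetup K) (D : ∀ i, ExcFamN (K i)) (a : ι → ι → ℤ)
    (ha : ∀ i j, i ≠ j → ∀ k ∈ Ksharp (K j), lam D i k = a i j) {i j : ι} (hij : i ≠ j)
    (di dj : ℕ) (hdi : lam D i 1 = di) (hdj : lam D j 1 = dj) :
    (0 : ℤ) = (di : ℤ) * dj + nI K i * (a j i * s1I D i) + nI K j * (a i j * s1I D j)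
      + ∑ l ∈ (Finset.univ.erase i).erase j, nI K l * ((mI K l - 1) * (a i l * a j l)) := by
  classical
  have hne : lam D i ≠ lam D j := by
    intro h
    apply fp_theta_not_mem S D hij (D i).l₀
    show lam D i ∈ excFam (K j)
    rw [h]
    exact lam_mem D j
  have h := fp_inner_sum S (lam_irr D i) (lam_irr D j)
  rw [if_neg hne, hdi, hdj, map_natCast] at h
  have hterm : ∀ l, ∑ k ∈ Ksharp (K l), lam D i k * conj (lam D j k)
      = (((if l = i then a j i * s1I D i else if l = j then a i j * s1I D j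
          else (mI K l - 1) * (a i l * a j l)) : ℤ) : ℂ) := by
    intro l
    by_cases hli : l = i
    · rw [if_pos hli, hli]
      have : ∀ k ∈ Ksharp (K i), lam D i k * conj (lam D j k)
          = ((a j i : ℤ) : ℂ) * lam D i k := by
        intro k hk
        rw [ha j i (Ne.symm hij) k hk, map_intCast]
        ring
      rw [Finset.sum_congr rfl this, ← Finset.mul_sum, fp_sum1_lam]
      push_cast
      ring
    · rw [if_neg hli]
      by_cases hlj : l = j
      · rw [if_pos hlj, hlj]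
        have : ∀ k ∈ Ksharp (K j), lam D i k * conj (lam D j k)
            = ((a i j : ℤ) : ℂ) * conj (lam D j k) := by
          intro k hk
          rw [ha i j hij k hk]
        rw [Finset.sum_congr rfl this, ← Finset.mul_sum, ← map_sum, fp_sum1_lam, map_intCast]
        push_cast
        ring
      · rw [if_neg hlj]
        have : ∀ k ∈ Ksharp (K l), lam D i k * conj (lam D j k)
            = ((a i l : ℤ) : ℂ) * ((a j l : ℤ) : ℂ) := by
          intro k hk
          rw [ha i l (Ne.symm hli) k hk, ha j l (Ne.symm hlj) k hk, map_intCast]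
        rw [Finset.sum_congr rfl this, Finset.sum_const, nsmul_eq_mul, fp_card_Ksharp]
        push_cast
        ring
  have h2 : ((0 : ℤ) : ℂ) = (((di : ℤ) * dj
      + ∑ l, nI K l * (if l = i then a j i * s1I D i else if l = j then a i j * s1I D j
          else (mI K l - 1) * (a i l * a j l)) : ℤ) : ℂ) := by
    push_cast
    rw [h]
    congr 1
    apply Finset.sum_congr rfl
    intro l _
    rw [hterm l]
    push_cast
    rfl
  have h3 : (0 : ℤ) = (di : ℤ) * dj
      + ∑ l, nI K l * (if l = i then a j i * s1I D i else if l = j then a i j * s1I D j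
          else (mI K l - 1) * (a i l * a j l)) := by
    exact_mod_cast h2
  have hji : j ∈ Finset.univ.erase i := Finset.mem_erase.mpr ⟨Ne.symm hij, Finset.mem_univ _⟩
  rw [h3, ← Finset.add_sum_erase Finset.univ _ (Finset.mem_univ i), if_pos rfl,
    ← Finset.add_sum_erase (Finset.univ.erase i) _ hji, if_neg (Ne.symm hij), if_pos rfl]
  have : ∀ l ∈ (Finset.univ.erase i).erase j,
      nI K l * (if l = i then a j i * s1I D i else if l = j then a i j * s1I D j
          else (mI K l - 1) * (a i l * a j l)) = nI K l * ((mI K l - 1) * (a i l * a j l)) := by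
    intro l hl
    have h1 := Finset.ne_of_mem_erase hl
    have h2 := Finset.ne_of_mem_erase (Finset.mem_of_mem_erase hl)
    rw [if_neg h2, if_neg h1]
  rw [Finset.sum_congr rfl this]
  ring

omit [Fintype ι] in
theorem fp_nI_odd (hodd : Odd (Nat.card G)) (i : ι) : Odd (nI K i) := by
  unfold nI
  rw [Int.odd_coe_nat]
  exact Odd.of_dvd_nat hodd (Subgroup.index_dvd_card _)

omit [Fintype ι] in
theorem fp_mI_odd (hodd : Odd (Nat.card G)) (i : ι) : Odd (mI K i) := by
  unfold mI
  rw [Int.odd_coe_nat]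
  exact ca_card_odd hodd (K i)

omit [Fintype ι] in
theorem fp_eI_odd (hodd : Odd (Nat.card G)) (i : ι) : Odd (eI K i) := by
  unfold eI
  rw [Int.odd_coe_nat]
  exact ca_caE_odd hodd (K i)

omit [Fintype ι] in
theorem fp_s1I_odd (hodd : Odd (Nat.card G)) (D : ∀ i, ExcFamN (K i)) (i : ι) :
    Odd (s1I D i) := by
  unfold s1I
  have h1 : Odd ((D i).ε) := by
    rcases (D i).hε with h | h <;> rw [h] <;> decide
  have h2 : Even (mI K i - 1) := by
    obtain ⟨k, hk⟩ := fp_mI_odd hodd i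
    exact ⟨k, by rw [hk]; ring⟩
  exact h1.mul ((h2.mul_left _).sub_odd (fp_eI_odd hodd i))

omit [Fintype ι] in
theorem fp_deg (D : ∀ i, ExcFamN (K i)) (i : ι) :
    ∃ d : ℕ, 1 ≤ d ∧ lam D i 1 = d ∧ d ∣ Nat.card G := by
  refine ⟨charDegree (lam D i), ?_, Helper78.irrChar_one_eq_charDegree (lam_irr D i),
    Helper80.IsIrrCharacter.charDegree_dvd_card (lam_irr D i)⟩
  obtain ⟨d, hd, hd1⟩ := fk_irr_apply_one (⟨lam D i, lam_irr D i⟩ : IrrCharacter G)
  have h2 := Helper78.irrChar_one_eq_charDegree (lam_irr D i)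
  have h3 : (lam D i) 1 = (d : ℂ) := hd1
  rw [h3] at h2
  have h4 : d = charDegree (lam D i) := by exact_mod_cast h2
  omega

/-- **Parity relation**: `a i j + a j i` is odd. -/
theorem fp_parity (S : FPSetup K) (D : ∀ i, ExcFamN (K i)) (a : ι → ι → ℤ)
    (ha : ∀ i j, i ≠ j → ∀ k ∈ Ksharp (K j), lam D i k = a i j) {i j : ι} (hij : i ≠ j) :
    Odd (a i j + a j i) := by
  classical
  obtain ⟨di, _, hdi, hdi_dvd⟩ := fp_deg D i
  obtain ⟨dj, _, hdj, hdj_dvd⟩ := fp_deg D j
  have h0 := fp_orth S D a ha hij di dj hdi hdj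
  have hdio : Odd (di : ℤ) := by
    rw [Int.odd_coe_nat]; exact Odd.of_dvd_nat S.hodd hdi_dvd
  have hdjo : Odd (dj : ℤ) := by
    rw [Int.odd_coe_nat]; exact Odd.of_dvd_nat S.hodd hdj_dvd
  obtain ⟨p, hp⟩ := hdio.mul hdjo
  obtain ⟨u, hu⟩ := (fp_nI_odd S.hodd i).mul (fp_s1I_odd S.hodd D i)
  obtain ⟨v, hv⟩ := (fp_nI_odd S.hodd j).mul (fp_s1I_odd S.hodd D j)
  have hz : (2 : ℤ) ∣ ∑ l ∈ (Finset.univ.erase i).erase j,
      nI K l * ((mI K l - 1) * (a i l * a j l)) := by
    apply Finset.dvd_sum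
    intro l _
    obtain ⟨k, hk⟩ := fp_mI_odd S.hodd l
    exact ⟨nI K l * (k * (a i l * a j l)), by rw [hk]; ring⟩
  obtain ⟨z, hz⟩ := hz
  refine ⟨-p - u * a j i - v * a i j - z - 1, ?_⟩
  linear_combination -h0 - hp - a j i * hu - a i j * hv - hz

omit [Fintype ι] in
theorem fp_tI_ge_two (D : ∀ i, ExcFamN (K i)) (i : ι) : 2 ≤ tI D i := by
  classical
  unfold tI
  obtain ⟨l₂, hl₂, hf₂⟩ := (D i).partner (D i).l₀
  have h1 : ∑ l ∈ ({(D i).l₀, l₂} : Finset (Fin (D i).r)), ((D i).f l) ^ 2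
      ≤ ∑ l, ((D i).f l) ^ 2 :=
    Finset.sum_le_sum_of_subset (Finset.subset_univ _)
  rw [Finset.sum_pair (Ne.symm hl₂), hf₂, (D i).f_l₀] at h1
  have : (2 : ℕ) ≤ ∑ l, ((D i).f l) ^ 2 := by simpa using h1
  exact_mod_cast this

/-- **Column inequality**: Parseval for the indicator function of the conjugates of
`K i₀ \ {1}`, tested against the principal character and all the exceptional families. -/
theorem fp_col [DecidableEq ι] (S : FPSetup K) (D : ∀ i, ExcFamN (K i)) (a : ι → ι → ℤ)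
    (ha : ∀ i j, i ≠ j → ∀ k ∈ Ksharp (K j), lam D i k = a i j) (i₀ : ι) :
    (mI K i₀ - 1) ^ 2 + tI D i₀ * ((D i₀).c * (mI K i₀ - 1) - eI K i₀) ^ 2
      + ∑ j ∈ Finset.univ.erase i₀, tI D j * ((mI K i₀ - 1) ^ 2 * (a j i₀) ^ 2)
      ≤ eI K i₀ * mI K i₀ * (mI K i₀ - 1) := by
  classical
  let _ := Helper74.irrFintype G
  -- values of the sums over `K i₀ \ {1}`
  have hσ0 : ∀ j, j ≠ i₀ → ∀ l : Fin (D j).r, ∑ k ∈ Ksharp (K i₀), (D j).θ l k
      = (((D j).f l : ℤ) * ((mI K i₀ - 1) * a j i₀) : ℤ) := by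
    intro j hj l
    have : ∀ k ∈ Ksharp (K i₀), (D j).θ l k = ((D j).f l : ℂ) * ((a j i₀ : ℤ) : ℂ) := by
      intro k hk
      have hx : k = 1 ∨ ∀ h : G, h * k * h⁻¹ ∉ K j := by
        right
        intro h hh
        have h1 : k ∈ Kconj (K j) := mem_Kconj.mpr ⟨(mem_Ksharp.mp hk).2, h, hh⟩
        exact S.hdisj i₀ j (Ne.symm hj) k (Ksharp_subset_Kconj _ hk) h1
      rw [(D j).off l k hx]
      congr 1
      exact ha j i₀ hj k hk
    rw [Finset.sum_congr rfl this, Finset.sum_const, nsmul_eq_mul, fp_card_Ksharp]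
    push_cast
    ring
  have hσ1 : ∀ l : Fin (D i₀).r, ∑ k ∈ Ksharp (K i₀), (D i₀).θ l k
      = (((D i₀).ε * ((D i₀).f l : ℤ) * ((D i₀).c * (mI K i₀ - 1) - eI K i₀) : ℤ) : ℂ) := by
    intro l
    rw [(D i₀).sum1 l]
    rfl
  have hσone : ∑ k ∈ Ksharp (K i₀), ((fun _ : G => (1 : ℂ)) k) = ((mI K i₀ - 1 : ℤ) : ℂ) := by
    rw [Finset.sum_const, nsmul_eq_mul, mul_one, fp_card_Ksharp]
  -- the embedding of the principal character and the families
  let emb : Option (Σ j : ι, Fin (D j).r) → IrrCharacter G := fun o =>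
    match o with
    | none => ⟨fun _ => 1, Helper79.isIrrCharacter_one⟩
    | some p => ⟨(D p.1).θ p.2, (D p.1).irr p.2⟩
  have hemb : Function.Injective emb := by
    intro o o' hoo
    match o, o' with
    | none, none => rfl
    | none, some p =>
      exfalso
      have h1 : (fun _ : G => (1 : ℂ)) = (D p.1).θ p.2 := congrArg Subtype.val hoo
      apply ca_one_not_mem_excFam (K p.1)
      rw [h1]
      exact ((D p.1).mem _).mpr ⟨p.2, rfl⟩
    | some p, none =>
      exfalso
      have h1 : (D p.1).θ p.2 = (fun _ : G => (1 : ℂ)) := congrArg Subtype.val hoo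
      apply ca_one_not_mem_excFam (K p.1)
      rw [← h1]
      exact ((D p.1).mem _).mpr ⟨p.2, rfl⟩
    | some ⟨j, l⟩, some ⟨j', l'⟩ =>
      have h1 : (D j).θ l = (D j').θ l' := congrArg Subtype.val hoo
      by_cases hjj : j = j'
      · subst hjj
        have := (D j).inj h1
        rw [this]
      · exfalso
        apply fp_theta_not_mem S D hjj l
        rw [h1]
        exact ((D j').mem _).mpr ⟨l', rfl⟩
  have hP := fp_parseval (S.hTI i₀)
  have hle := fp_sum_le_of_injective emb hemb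
    (fun ψ => Complex.normSq (∑ k ∈ Ksharp (K i₀), (ψ : G → ℂ) k))
    (fun ψ => Complex.normSq_nonneg _)
  rw [hP, Fintype.sum_option, Fintype.sum_sigma] at hle
  -- the terms
  have hnone : Complex.normSq (∑ k ∈ Ksharp (K i₀), ((emb none : IrrCharacter G) : G → ℂ) k)
      = (((mI K i₀ - 1) ^ 2 : ℤ) : ℝ) := by
    show Complex.normSq (∑ k ∈ Ksharp (K i₀), ((fun _ : G => (1 : ℂ)) k)) = _
    rw [hσone, Complex.normSq_intCast]
    push_cast
    ring
  have hεε : (D i₀).ε * (D i₀).ε = 1 := by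
    rcases (D i₀).hε with h | h <;> rw [h] <;> norm_num
  have hsome : ∀ j, ∑ l : Fin (D j).r,
      Complex.normSq (∑ k ∈ Ksharp (K i₀), ((emb (some ⟨j, l⟩) : IrrCharacter G) : G → ℂ) k)
      = ((tI D j * (if j = i₀ then ((D i₀).c * (mI K i₀ - 1) - eI K i₀) ^ 2
          else (mI K i₀ - 1) ^ 2 * (a j i₀) ^ 2) : ℤ) : ℝ) := by
    intro j
    have hterm : ∀ l : Fin (D j).r,
        Complex.normSq (∑ k ∈ Ksharp (K i₀), ((emb (some ⟨j, l⟩) : IrrCharacter G) : G → ℂ) k)
        = (((((D j).f l) ^ 2 : ℕ) : ℤ) * (if j = i₀ then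
            ((D i₀).c * (mI K i₀ - 1) - eI K i₀) ^ 2
          else (mI K i₀ - 1) ^ 2 * (a j i₀) ^ 2) : ℤ) := by
      intro l
      show Complex.normSq (∑ k ∈ Ksharp (K i₀), (D j).θ l k) = _
      by_cases hj : j = i₀
      · subst hj
        rw [if_pos rfl, hσ1 l, Complex.normSq_intCast]
        have h1 : (((D j).ε * ((D j).f l : ℤ) * ((D j).c * (mI K j - 1) - eI K j) : ℤ) : ℝ)
            * (((D j).ε * ((D j).f l : ℤ) * ((D j).c * (mI K j - 1) - eI K j) : ℤ) : ℝ)
            = ((((D j).ε * (D j).ε) * (((((D j).f l) ^ 2 : ℕ) : ℤ)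
              * ((D j).c * (mI K j - 1) - eI K j) ^ 2) : ℤ) : ℝ) := by
          push_cast
          ring
        rw [h1, hεε, one_mul]
      · rw [if_neg hj, hσ0 j hj l, Complex.normSq_intCast]
        push_cast
        ring
    rw [Finset.sum_congr rfl (fun l _ => hterm l), ← Int.cast_sum, ← Finset.sum_mul]
    unfold tI
    push_cast
    rfl
  rw [hnone, Finset.sum_congr rfl (fun j _ => hsome j), ← Int.cast_sum] at hle
  have hNK : (Nat.card ↥(Subgroup.normalizer (K i₀ : Set G)) : ℝ) * ((Ksharp (K i₀)).card : ℝ)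
      = ((eI K i₀ * mI K i₀ * (mI K i₀ - 1) : ℤ) : ℝ) := by
    have h1 := ca_card_normalizer_nat (K i₀)
    have h2 := card_Ksharp (K i₀)
    have h3 : ((Ksharp (K i₀)).card : ℝ) = (Nat.card (K i₀) : ℝ) - 1 := by
      have : ((Ksharp (K i₀)).card : ℝ) + 1 = (Nat.card (K i₀) : ℝ) := by exact_mod_cast h2
      linarith
    rw [h1, h3]
    unfold eI mI
    push_cast
    ring
  rw [hNK] at hle
  have hleZ : (mI K i₀ - 1) ^ 2 + ∑ j, tI D j * (if j = i₀ then
      ((D i₀).c * (mI K i₀ - 1) - eI K i₀) ^ 2 else (mI K i₀ - 1) ^ 2 * (a j i₀) ^ 2)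
      ≤ eI K i₀ * mI K i₀ * (mI K i₀ - 1) := by
    exact_mod_cast hle
  rw [← Finset.add_sum_erase Finset.univ _ (Finset.mem_univ i₀), if_pos rfl] at hleZ
  have : ∀ j ∈ Finset.univ.erase i₀, tI D j * (if j = i₀ then
      ((D i₀).c * (mI K i₀ - 1) - eI K i₀) ^ 2 else (mI K i₀ - 1) ^ 2 * (a j i₀) ^ 2)
      = tI D j * ((mI K i₀ - 1) ^ 2 * (a j i₀) ^ 2) := by
    intro j hj
    rw [if_neg (Finset.ne_of_mem_erase hj)]
  rw [Finset.sum_congr rfl this] at hleZ
  linarith

omit [Fintype ι] in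
theorem fp_card_eq (i : ι) : (Nat.card G : ℤ) = nI K i * (eI K i * mI K i) := by
  have h1 := Subgroup.index_mul_card (Subgroup.normalizer (K i : Set G))
  have h2 := ca_card_normalizer_nat (K i)
  rw [h2] at h1
  unfold nI eI mI
  exact_mod_cast h1.symm

/-- The class equation of the partition. -/
theorem fp_class_count (S : FPSetup K) :
    (Nat.card G : ℤ) - 1 = ∑ i, nI K i * (mI K i - 1) := by
  have h := fp_sum_partition K S.hTI S.hcover S.hdisj (F := fun _ => (1 : ℂ)) (fun _ _ => rfl)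
  simp only [Finset.sum_const, nsmul_eq_mul, mul_one, Finset.card_univ] at h
  rw [← Nat.card_eq_fintype_card] at h
  have h2 : ((Nat.card G : ℤ) : ℂ) = ((1 + ∑ i, nI K i * (mI K i - 1) : ℤ) : ℂ) := by
    push_cast
    rw [h]
    congr 1
    apply Finset.sum_congr rfl
    intro i _
    rw [fp_card_Ksharp]
    unfold nI
    push_cast
    rfl
  have h3 : (Nat.card G : ℤ) = 1 + ∑ i, nI K i * (mI K i - 1) := by exact_mod_cast h2
  linarith

/-- **The global contradiction**: a group of odd order cannot be partitioned by the conjugates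
of at least two T.I. subgroups of pairwise different orders, proper in their normalizers, each
carrying a coherent family of exceptional characters. -/
theorem fp_global [DecidableEq ι] (S : FPSetup K) (D : ∀ i, ExcFamN (K i))
    (hι : ∃ i j : ι, i ≠ j) (he : ∀ i, 1 < caE (K i))
    (hcop : ∀ i j, i ≠ j → Nat.card (K i) ≠ Nat.card (K j)) : False := by
  classical
  obtain ⟨a, ha⟩ := fp_a_exists S D
  obtain ⟨i₁, _, _⟩ := hι
  obtain ⟨i₀, _, hmin⟩ := Finset.exists_min_image Finset.univ (fun i => caE (K i))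
    ⟨i₁, Finset.mem_univ _⟩
  have hmin' : ∀ j, eI K i₀ ≤ eI K j := by
    intro j
    unfold eI
    exact_mod_cast hmin j (Finset.mem_univ _)
  obtain ⟨d, hd1, hd, _⟩ := fp_deg D i₀
  have hrow := fp_row S D a ha i₀ d hd
  have hcol := fp_col S D a ha i₀
  have hcount := fp_class_count S
  -- numerical facts
  have heodd : ∀ i, 3 ≤ eI K i := by
    intro i
    obtain ⟨k, hk⟩ := fp_eI_odd (K := K) S.hodd i
    have h1 : (1 : ℤ) < eI K i := by
      unfold eI
      exact_mod_cast he i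
    omega
  have ht2 : ∀ i, 2 ≤ tI D i := fp_tI_ge_two D
  have hm : ∀ i, mI K i = tI D i * eI K i + 1 := by
    intro i
    have := fp_count D i
    linarith
  have hn1 : ∀ i, 1 ≤ nI K i := by
    intro i
    unfold nI
    have : (Subgroup.normalizer (K i : Set G)).index ≠ 0 := Subgroup.index_ne_zero_of_finite
    have h2 : 1 ≤ (Subgroup.normalizer (K i : Set G)).index := by omega
    exact_mod_cast h2
  have hm1 : ∀ i, 0 ≤ nI K i * (mI K i - 1) := by
    intro i
    apply mul_nonneg (by linarith [hn1 i])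
    rw [hm i]
    nlinarith [ht2 i, heodd i]
  have hgpos : (0 : ℤ) < Nat.card G := by exact_mod_cast Nat.card_pos
  -- the column bound
  have hU : ∑ j ∈ Finset.univ.erase i₀, tI D j * (a j i₀) ^ 2
      ≤ eI K i₀ - 1 + 2 * (D i₀).c - (D i₀).c ^ 2 * tI D i₀ := by
    apply fp_col_arith (eI K i₀) (mI K i₀) (tI D i₀) (D i₀).c _ (fp_count D i₀)
      (by linarith [heodd i₀]) (by linarith [ht2 i₀])
    have : ∑ j ∈ Finset.univ.erase i₀, tI D j * ((mI K i₀ - 1) ^ 2 * (a j i₀) ^ 2)
        = (mI K i₀ - 1) ^ 2 * ∑ j ∈ Finset.univ.erase i₀, tI D j * (a j i₀) ^ 2 := by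
      rw [Finset.mul_sum]
      apply Finset.sum_congr rfl
      intro j _
      ring
    rw [← this]
    exact hcol
  -- the two kinds of families
  let J := (Finset.univ.erase i₀).filter (fun j => a i₀ j = 0)
  let J' := (Finset.univ.erase i₀).filter (fun j => ¬ a i₀ j = 0)
  have hsplit : (Nat.card G : ℤ) - 1 = nI K i₀ * (mI K i₀ - 1)
      + ∑ j ∈ J', nI K j * (mI K j - 1) + ∑ j ∈ J, nI K j * (mI K j - 1) := by
    rw [hcount, ← Finset.add_sum_erase Finset.univ _ (Finset.mem_univ i₀),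
      ← Finset.sum_filter_add_sum_filter_not (Finset.univ.erase i₀) (fun j => a i₀ j = 0)]
    ring
  have hR : ∑ j ∈ J', nI K j * (mI K j - 1)
      ≤ (Nat.card G : ℤ) - (d : ℤ) ^ 2 - nI K i₀ * s2I D i₀ := by
    have h1 : ∑ j ∈ J', nI K j * (mI K j - 1)
        ≤ ∑ j ∈ J', nI K j * ((mI K j - 1) * (a i₀ j) ^ 2) := by
      apply Finset.sum_le_sum
      intro j hj
      have hne : ¬ a i₀ j = 0 := (Finset.mem_filter.mp hj).2
      have hsq : 1 ≤ (a i₀ j) ^ 2 := by
        have : a i₀ j ≤ -1 ∨ 1 ≤ a i₀ j := by omega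
        rcases this with h' | h' <;> nlinarith
      have := hm1 j
      nlinarith
    have h2 : ∑ j ∈ J', nI K j * ((mI K j - 1) * (a i₀ j) ^ 2)
        ≤ ∑ j ∈ Finset.univ.erase i₀, nI K j * ((mI K j - 1) * (a i₀ j) ^ 2) := by
      apply Finset.sum_le_sum_of_subset_of_nonneg (Finset.filter_subset _ _)
      intro j _ _
      have := hm1 j
      have h3 : 0 ≤ (a i₀ j) ^ 2 := sq_nonneg _
      nlinarith
    linarith
  -- the denominator
  obtain ⟨Dn, hDn, hDnle⟩ : ∃ Dn : ℤ, ((3 ≤ tI D i₀ ∧ Dn = 2 * eI K i₀ + 1)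
      ∨ (tI D i₀ = 2 ∧ Dn = 2 * eI K i₀ + 2)) ∧ ∀ j, j ≠ i₀ → Dn ≤ mI K j := by
    have hbase : ∀ j, 2 * eI K i₀ + 1 ≤ mI K j := by
      intro j
      rw [hm j]
      nlinarith [ht2 j, hmin' j, heodd j]
    by_cases ht : 3 ≤ tI D i₀
    · exact ⟨2 * eI K i₀ + 1, Or.inl ⟨ht, rfl⟩, fun j _ => hbase j⟩
    · have ht' : tI D i₀ = 2 := by linarith [ht2 i₀]
      refine ⟨2 * eI K i₀ + 2, Or.inr ⟨ht', rfl⟩, ?_⟩
      intro j hj
      have h1 := hbase j
      have h2 : mI K j ≠ mI K i₀ := by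
        unfold mI
        intro h
        exact hcop j i₀ hj (by exact_mod_cast h)
      have h3 : mI K i₀ = 2 * eI K i₀ + 1 := by rw [hm i₀, ht']
      rw [h3] at h2
      omega
  have hDpos : 0 < Dn := by
    rcases hDn with ⟨_, h⟩ | ⟨_, h⟩ <;> rw [h] <;> linarith [heodd i₀]
  have hZ : (∑ j ∈ J, nI K j * (mI K j - 1)) * Dn
      ≤ (Nat.card G : ℤ) * ∑ j ∈ Finset.univ.erase i₀, tI D j * (a j i₀) ^ 2 := by
    have h1 : (∑ j ∈ J, nI K j * (mI K j - 1)) * Dn
        ≤ ∑ j ∈ J, (Nat.card G : ℤ) * (tI D j * (a j i₀) ^ 2) := by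
      rw [Finset.sum_mul]
      apply Finset.sum_le_sum
      intro j hj
      obtain ⟨hj1, hj2⟩ := Finset.mem_filter.mp hj
      have hji : j ≠ i₀ := Finset.ne_of_mem_erase hj1
      have hodd := fp_parity S D a ha (Ne.symm hji)
      rw [hj2, zero_add] at hodd
      have hsq : 1 ≤ (a j i₀) ^ 2 := by
        obtain ⟨k, hk⟩ := hodd
        have : a j i₀ ≤ -1 ∨ 1 ≤ a j i₀ := by omega
        rcases this with h' | h' <;> nlinarith
      have hDj := hDnle j hji
      have hgj := fp_card_eq (K := K) j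
      have hmj := hm j
      have h5 := hm1 j
      have h6 : nI K j * (mI K j - 1) * Dn ≤ nI K j * (mI K j - 1) * mI K j :=
        mul_le_mul_of_nonneg_left hDj h5
      have h7 : nI K j * (mI K j - 1) * mI K j = (Nat.card G : ℤ) * tI D j := by
        rw [hgj]
        have : mI K j - 1 = tI D j * eI K j := by linarith
        rw [this]
        ring
      have h8 : (Nat.card G : ℤ) * tI D j ≤ (Nat.card G : ℤ) * (tI D j * (a j i₀) ^ 2) := by
        apply mul_le_mul_of_nonneg_left _ hgpos.le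
        have := ht2 j
        nlinarith
      linarith
    have h2 : ∑ j ∈ J, (Nat.card G : ℤ) * (tI D j * (a j i₀) ^ 2)
        ≤ ∑ j ∈ Finset.univ.erase i₀, (Nat.card G : ℤ) * (tI D j * (a j i₀) ^ 2) := by
      apply Finset.sum_le_sum_of_subset_of_nonneg (Finset.filter_subset _ _)
      intro j _ _
      apply mul_nonneg hgpos.le
      apply mul_nonneg (by linarith [ht2 j]) (sq_nonneg _)
    rw [← Finset.mul_sum, ← Finset.mul_sum] at h2
    rw [← Finset.mul_sum] at h1
    linarith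
  exact fp_core_arith (Nat.card G : ℤ) (nI K i₀) (eI K i₀) (mI K i₀) (tI D i₀) (d : ℤ) (D i₀).c
    (∑ j ∈ J', nI K j * (mI K j - 1)) (∑ j ∈ J, nI K j * (mI K j - 1))
    (∑ j ∈ Finset.univ.erase i₀, tI D j * (a j i₀) ^ 2) Dn
    (fp_card_eq i₀) (hm i₀) (ht2 i₀) (by linarith [heodd i₀]) (hn1 i₀) (by exact_mod_cast hd1)
    hsplit (by unfold s2I at hR; exact hR) hZ hU hDn

end Global

end Cfsg.Agent.Helper9.FP
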