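import Mathlib
import Cfsg.Prelude.Def_CaseTheorems
import Cfsg.Agent.Lib.Nilpotent

set_option autoImplicit false

namespace Cfsg.Agent.Helper9

open Subgroup

section fourSub

variable {G : Type*} [Group G]

/-- The four-subgroup `{1, a, b, ab}` generated by two commuting involutions. -/
def fourSub (a b : G) (ha : a * a = 1) (hb : b * b = 1) (hab : a * b = b * a) : Subgroup G where
  carrier := {x | x = 1 ∨ x = a ∨ x = b ∨ x = a * b}
  one_mem' := Or.inl rfl
  mul_mem' := by
    have hba : b * a = a * b := hab.symm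
    have ha' : ∀ x, a * (a * x) = x := fun x => by rw [← mul_assoc, ha, one_mul]
    have hb' : ∀ x, b * (b * x) = x := fun x => by rw [← mul_assoc, hb, one_mul]
    have hba' : ∀ x, b * (a * x) = a * (b * x) := fun x => by
      rw [← mul_assoc, hba, mul_assoc]
    rintro x y (rfl | rfl | rfl | rfl) (rfl | rfl | rfl | rfl) <;>
      simp [mul_assoc, ha, hb, hba, ha', hb', hba']
  inv_mem' := by
    have hainv : a⁻¹ = a := inv_eq_of_mul_eq_one_left ha
    have hbinv : b⁻¹ = b := inv_eq_of_mul_eq_one_left hb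
    rintro x (rfl | rfl | rfl | rfl)
    · simp
    · simp [hainv]
    · simp [hbinv]
    · right; right; right
      rw [mul_inv_rev, hainv, hbinv, hab]

theorem mem_fourSub {a b : G} {ha : a * a = 1} {hb : b * b = 1} {hab : a * b = b * a} {x : G} :
    x ∈ fourSub a b ha hb hab ↔ x = 1 ∨ x = a ∨ x = b ∨ x = a * b := Iff.rfl

theorem left_mem_fourSub {a b : G} {ha : a * a = 1} {hb : b * b = 1} {hab : a * b = b * a} :
    a ∈ fourSub a b ha hb hab := Or.inr (Or.inl rfl)

theorem right_mem_fourSub {a b : G} {ha : a * a = 1} {hb : b * b = 1} {hab : a * b = b * a} :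
    b ∈ fourSub a b ha hb hab := Or.inr (Or.inr (Or.inl rfl))

/-- If `x` commutes with `a` and `b` it commutes with every element of `fourSub a b`. -/
theorem commute_of_mem_fourSub {a b : G} {ha : a * a = 1} {hb : b * b = 1} {hab : a * b = b * a}
    {x y : G} (hxa : x * a = a * x) (hxb : x * b = b * x) (hy : y ∈ fourSub a b ha hb hab) :
    x * y = y * x := by
  rcases hy with rfl | rfl | rfl | rfl
  · simp
  · exact hxa
  · exact hxb
  · rw [← mul_assoc, hxa, mul_assoc, hxb, mul_assoc]

theorem sq_eq_one_of_mem_fourSub {a b : G} {ha : a * a = 1} {hb : b * b = 1}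
    {hab : a * b = b * a} {y : G} (hy : y ∈ fourSub a b ha hb hab) : y * y = 1 := by
  rcases hy with rfl | rfl | rfl | rfl
  · simp
  · exact ha
  · exact hb
  · calc a * b * (a * b) = a * (b * a) * b := by group
      _ = a * (a * b) * b := by rw [hab]
      _ = (a * a) * (b * b) := by group
      _ = 1 := by rw [ha, hb, one_mul]

theorem isKleinFour_fourSub {a b : G} {ha : a * a = 1} {hb : b * b = 1} {hab : a * b = b * a}
    (ha1 : a ≠ 1) (hb1 : b ≠ 1) (hne : a ≠ b) : IsKleinFour (fourSub a b ha hb hab) := by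
  have hab1 : a * b ≠ 1 := by
    intro h
    apply hne
    have : a * b = b * b := by rw [h, hb]
    exact mul_right_cancel this
  have haba : a * b ≠ a := by
    intro h
    apply hb1
    have : a * b = a * 1 := by rw [h, mul_one]
    exact mul_left_cancel this
  have habb : a * b ≠ b := by
    intro h
    apply ha1
    have : a * b = 1 * b := by rw [h, one_mul]
    exact mul_right_cancel this
  have hset : ((fourSub a b ha hb hab : Subgroup G) : Set G) =
      insert 1 (insert a (insert b {a * b})) := by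
    ext x
    simp only [SetLike.mem_coe, mem_fourSub, Set.mem_insert_iff, Set.mem_singleton_iff]
  have hcard : Nat.card (fourSub a b ha hb hab) = 4 := by
    have h1 : Nat.card (fourSub a b ha hb hab) =
        ((fourSub a b ha hb hab : Subgroup G) : Set G).ncard :=
      Nat.card_coe_set_eq _
    rw [h1, hset]
    rw [Set.ncard_insert_of_notMem, Set.ncard_insert_of_notMem, Set.ncard_insert_of_notMem,
      Set.ncard_singleton]
    · simp only [Set.mem_singleton_iff]; exact fun h => habb h.symm
    · simp only [Set.mem_insert_iff, Set.mem_singleton_iff, not_or]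
      exact ⟨hne, fun h => haba h.symm⟩
    · simp only [Set.mem_insert_iff, Set.mem_singleton_iff, not_or]
      exact ⟨fun h => ha1 h.symm, fun h => hb1 h.symm, fun h => hab1 h.symm⟩
  refine ⟨hcard, ?_⟩
  have hdvd : Monoid.exponent (fourSub a b ha hb hab) ∣ 2 := by
    apply Monoid.exponent_dvd_of_forall_pow_eq_one
    intro x
    apply Subtype.ext
    have := sq_eq_one_of_mem_fourSub x.2
    simpa [pow_two] using this
  rcases (Nat.dvd_prime Nat.prime_two).mp hdvd with h | h
  · exfalso
    rw [Monoid.exp_eq_one_iff] at h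
    have := h.elim (⟨a, left_mem_fourSub⟩ : fourSub a b ha hb hab) 1
    exact ha1 (congrArg Subtype.val this)
  · exact h

end fourSub

section connected

variable {P : Type*} [Group P]

theorem ncard_pair_le (a b : P) : ({a, b} : Set P).ncard ≤ 2 := by
  calc ({a, b} : Set P).ncard ≤ ({b} : Set P).ncard + 1 := Set.ncard_insert_le a {b}
    _ = 2 := by rw [Set.ncard_singleton]

theorem ncard_four_le (a b c d : P) : ({a, b, c, d} : Set P).ncard ≤ 4 := by
  calc ({a, b, c, d} : Set P).ncard ≤ ({b, c, d} : Set P).ncard + 1 := Set.ncard_insert_le _ _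
    _ ≤ (({c, d} : Set P).ncard + 1) + 1 := Nat.add_le_add_right (Set.ncard_insert_le _ _) 1
    _ ≤ (2 + 1) + 1 := Nat.add_le_add_right (Nat.add_le_add_right (ncard_pair_le c d) 1) 1

/-- In a normal elementary abelian 2-subgroup `E` of order at least 8, an involution `u` centralizes
an element of `E` other than `1` and a given central element `z`. -/
theorem exists_commuting_in_elementary [Finite P] (E : Subgroup P) [hEn : E.Normal]
    (hEc : ∀ a ∈ E, ∀ b ∈ E, a * b = b * a) (hE2 : ∀ e ∈ E, e * e = 1) (hE8 : 8 ≤ Nat.card E)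
    (z : P) (hzE : z ∈ E) (hzc : ∀ g : P, g * z = z * g) (u : P) (huu : u * u = 1) :
    ∃ w ∈ E, w ≠ 1 ∧ w ≠ z ∧ u * w = w * u := by
  have hzz : z * z = 1 := hE2 z hzE
  have huinv : u⁻¹ = u := inv_eq_of_mul_eq_one_left huu
  have hcE : ∀ e ∈ E, u * e * u ∈ E := by
    intro e he
    have := hEn.conj_mem e he u
    rwa [huinv] at this
  have hcard : Nat.card E = ((E : Subgroup P) : Set P).ncard := Nat.card_coe_set_eq _
  -- trichotomy
  have key : ∀ e ∈ E, e ≠ 1 → e ≠ z →
      (∃ w ∈ E, w ≠ 1 ∧ w ≠ z ∧ u * w = w * u) ∨ u * e * u = e * z := by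
    intro e he he1 hez
    have hce := hcE e he
    have he'E : e * (u * e * u) ∈ E := E.mul_mem he hce
    have hcomm : u * (e * (u * e * u)) = (e * (u * e * u)) * u := by
      have h1 : e * (u * e * u) = (u * e * u) * e := hEc e he _ hce
      calc u * (e * (u * e * u)) = (u * e * u) * ((u * u) * e * u)⁻¹⁻¹ := by
            rw [huu]; group
        _ = (u * e * u) * (e * u) := by rw [huu]; group
        _ = ((u * e * u) * e) * u := by group
        _ = (e * (u * e * u)) * u := by rw [h1]
    by_cases h1 : e * (u * e * u) = 1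
    · left
      refine ⟨e, he, he1, hez, ?_⟩
      have h2 : u * e * u = e := by
        have h3 : e * (u * e * u) = e * e := by rw [h1, hE2 e he]
        exact mul_left_cancel h3
      calc u * e = (u * e * u) * u⁻¹ := by group
        _ = e * u := by rw [h2, huinv]
    · by_cases h2 : e * (u * e * u) = z
      · right
        have h3 : e * (u * e * u) = e * (e * z) := by
          rw [h2, ← mul_assoc, hE2 e he, one_mul]
        exact mul_left_cancel h3
      · left
        exact ⟨_, he'E, h1, h2, hcomm⟩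
  -- choose e1
  obtain ⟨e1, he1E, he1s⟩ : ∃ e, e ∈ ((E : Subgroup P) : Set P) ∧ e ∉ ({1, z} : Set P) := by
    refine Set.exists_mem_notMem_of_ncard_lt_ncard ?_ (Set.toFinite _)
    have := ncard_pair_le (1 : P) z
    omega
  have he11 : e1 ≠ 1 := fun h => he1s (by rw [h]; exact Set.mem_insert _ _)
  have he1z : e1 ≠ z := fun h => he1s (by rw [h]; exact Set.mem_insert_of_mem _ rfl)
  rcases key e1 he1E he11 he1z with hw | hc1
  · exact hw
  obtain ⟨e2, he2E, he2s⟩ : ∃ e, e ∈ ((E : Subgroup P) : Set P) ∧
      e ∉ ({1, z, e1, e1 * z} : Set P) := by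
    refine Set.exists_mem_notMem_of_ncard_lt_ncard ?_ (Set.toFinite _)
    have := ncard_four_le (1 : P) z e1 (e1 * z)
    omega
  simp only [Set.mem_insert_iff, Set.mem_singleton_iff, not_or] at he2s
  obtain ⟨he21, he2z, he2e1, he2e1z⟩ := he2s
  rcases key e2 he2E he21 he2z with hw | hc2
  · exact hw
  refine ⟨e1 * e2, E.mul_mem he1E he2E, ?_, ?_, ?_⟩
  · intro h
    apply he2e1
    have : e1 * e2 = e1 * e1 := by rw [h, hE2 e1 he1E]
    exact mul_left_cancel this
  · intro h
    apply he2e1z
    have : e1 * e2 = e1 * (e1 * z) := by rw [h, ← mul_assoc, hE2 e1 he1E, one_mul]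
    exact mul_left_cancel this
  · have h1 : u * (e1 * e2) * u = (u * e1 * u) * (u * e2 * u) := by
      calc u * (e1 * e2) * u = u * e1 * 1 * e2 * u := by group
        _ = u * e1 * (u * u) * e2 * u := by rw [huu]
        _ = (u * e1 * u) * (u * e2 * u) := by group
    have h2 : (u * e1 * u) * (u * e2 * u) = e1 * e2 := by
      rw [hc1, hc2]
      have hz2 : z * e2 = e2 * z := (hzc e2).symm
      calc e1 * z * (e2 * z) = e1 * (z * e2) * z := by group
        _ = e1 * (e2 * z) * z := by rw [hz2]
        _ = e1 * e2 * (z * z) := by group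
        _ = e1 * e2 := by rw [hzz, mul_one]
    calc u * (e1 * e2) = (u * (e1 * e2) * u) * u⁻¹ := by group
      _ = (e1 * e2) * u := by rw [h1, h2, huinv]

/-- The adjacency relation of the commuting graph on four-subgroups. -/
def fourAdj (A B : Subgroup P) : Prop :=
  IsKleinFour A ∧ IsKleinFour B ∧ ∀ a ∈ A, ∀ b ∈ B, a * b = b * a

theorem fourAdj_symm {A B : Subgroup P} (h : fourAdj A B) : fourAdj B A :=
  ⟨h.2.1, h.1, fun a ha b hb => (h.2.2 b hb a ha).symm⟩

theorem reflTransGen_fourAdj_symm {A B : Subgroup P} (h : Relation.ReflTransGen fourAdj A B) :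
    Relation.ReflTransGen fourAdj B A := by
  induction h with
  | refl => exact Relation.ReflTransGen.refl
  | tail _ hbc ih => exact Relation.ReflTransGen.head (fourAdj_symm hbc) ih

theorem kleinFour_mul_self {U : Subgroup P} (hU : IsKleinFour U) {x : P} (hx : x ∈ U) :
    x * x = 1 := by
  have := IsKleinFour.mul_self (⟨x, hx⟩ : U)
  exact congrArg Subtype.val this

theorem kleinFour_comm {U : Subgroup P} (hU : IsKleinFour U) {x y : P} (hx : x ∈ U)
    (hy : y ∈ U) : x * y = y * x := by
  have := (IsKleinFour.isMulCommutative (G := U)).is_comm.comm ⟨x, hx⟩ ⟨y, hy⟩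
  exact congrArg Subtype.val this

/-- Every four-subgroup is connected to a four-subgroup inside `E`. -/
theorem exists_chain_to_elementary [Finite P] (hP : IsPGroup 2 P) (E : Subgroup P) [hEn : E.Normal]
    (hEc : ∀ a ∈ E, ∀ b ∈ E, a * b = b * a) (hE2 : ∀ e ∈ E, e * e = 1) (hE8 : 8 ≤ Nat.card E)
    (U : Subgroup P) (hU : IsKleinFour U) :
    ∃ W : Subgroup P, IsKleinFour W ∧ W ≤ E ∧ Relation.ReflTransGen fourAdj U W := by
  have : Fact (Nat.Prime 2) := ⟨Nat.prime_two⟩
  have : Group.IsNilpotent P := hP.isNilpotent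
  have hEne : E ≠ ⊥ := by
    intro h
    rw [h, Subgroup.card_bot] at hE8
    omega
  have hne := Cfsg.Agent.Lib.normal_inf_center_ne_bot E hEne
  obtain ⟨z, hz1⟩ := (Subgroup.ne_bot_iff_exists_ne_one).mp hne
  have hzE : (z : P) ∈ E := (Subgroup.mem_inf.mp z.2).1
  have hzc : ∀ g : P, g * z = z * g := Subgroup.mem_center_iff.mp (Subgroup.mem_inf.mp z.2).2
  have hz1' : (z : P) ≠ 1 := fun h => hz1 (Subtype.ext h)
  have hzz : (z : P) * z = 1 := hE2 z hzE
  -- choose u
  have hUcard : ((U : Subgroup P) : Set P).ncard = 4 := by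
    rw [← Nat.card_coe_set_eq]; exact hU.card_four
  obtain ⟨u, huU, hus⟩ : ∃ e, e ∈ ((U : Subgroup P) : Set P) ∧ e ∉ ({1, (z : P)} : Set P) := by
    refine Set.exists_mem_notMem_of_ncard_lt_ncard ?_ (Set.toFinite _)
    have := ncard_pair_le (1 : P) (z : P)
    omega
  have hu1 : u ≠ 1 := fun h => hus (by rw [h]; exact Set.mem_insert _ _)
  have huz : u ≠ z := fun h => hus (by rw [h]; exact Set.mem_insert_of_mem _ rfl)
  have huu : u * u = 1 := kleinFour_mul_self hU huU
  obtain ⟨w, hwE, hw1, hwz, huw⟩ :=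
    exists_commuting_in_elementary E hEc hE2 hE8 z hzE hzc u huu
  have hww : w * w = 1 := hE2 w hwE
  have huz' : u * z = z * u := hzc u
  have hzw : (z : P) * w = w * z := (hzc w).symm
  refine ⟨fourSub z w hzz hww hzw, isKleinFour_fourSub hz1' hw1 (fun h => hwz h.symm), ?_, ?_⟩
  · intro x hx
    rcases hx with rfl | rfl | rfl | rfl
    · exact E.one_mem
    · exact hzE
    · exact hwE
    · exact E.mul_mem hzE hwE
  · have hU' : IsKleinFour (fourSub u z huu hzz huz') := isKleinFour_fourSub hu1 hz1' huz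
    have hW : IsKleinFour (fourSub (z : P) w hzz hww hzw) :=
      isKleinFour_fourSub hz1' hw1 (fun h => hwz h.symm)
    have h1 : fourAdj U (fourSub u z huu hzz huz') := by
      refine ⟨hU, hU', fun a ha b hb => ?_⟩
      exact commute_of_mem_fourSub (kleinFour_comm hU ha huU) (hzc a) hb
    have h2 : fourAdj (fourSub u z huu hzz huz') (fourSub (z : P) w hzz hww hzw) := by
      refine ⟨hU', hW, fun a ha b hb => ?_⟩
      have hbu : b * u = u * b := (commute_of_mem_fourSub huz' huw hb).symm
      have hbz : b * z = z * b := hzc b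
      exact (commute_of_mem_fourSub hbu hbz ha).symm
    exact Relation.ReflTransGen.head h1 (Relation.ReflTransGen.single h2)

/-- A finite 2-group with a normal elementary abelian subgroup of order at least 8 is
four-connected. -/
theorem isFourConnected_of_normal_elementary [Finite P] (hP : IsPGroup 2 P) (E : Subgroup P)
    [hEn : E.Normal] (hEc : ∀ a ∈ E, ∀ b ∈ E, a * b = b * a) (hE2 : ∀ e ∈ E, e * e = 1)
    (hE8 : 8 ≤ Nat.card E) : Cfsg.IsFourConnected P := by
  intro U V hU hV
  obtain ⟨W, hW, hWE, hUW⟩ := exists_chain_to_elementary hP E hEc hE2 hE8 U hU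
  obtain ⟨W', hW', hWE', hVW⟩ := exists_chain_to_elementary hP E hEc hE2 hE8 V hV
  have hWW : fourAdj W W' := ⟨hW, hW', fun a ha b hb => hEc a (hWE ha) b (hWE' hb)⟩
  have hWV : Relation.ReflTransGen fourAdj W' V := reflTransGen_fourAdj_symm hVW
  exact (hUW.trans (Relation.ReflTransGen.single hWW)).trans hWV

end connected

end Cfsg.Agent.Helper9
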