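import Cfsg.Agent.Helper9.NormalChain

namespace Cfsg.Agent.Helper9

open Subgroup
open scoped commutatorElement

universe u v
variable {G : Type u} [Group G]

theorem le_normalizer_of_conj_mem (A B : Subgroup G)
    (h : ∀ a ∈ A, ∀ b ∈ B, a * b * a⁻¹ ∈ B) : A ≤ normalizer (B : Set G) := by
  intro a ha
  rw [Subgroup.mem_normalizer_iff]
  intro b
  constructor
  · intro hb; exact h a ha b hb
  · intro hb
    have := h a⁻¹ (A.inv_mem ha) _ hb
    simpa [mul_assoc] using this

/-- If `K ⊔ P = ⊤` and both `K` and `P` normalize `D`, then `D` is normal. -/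
theorem normal_of_sup_eq_top (K P D : Subgroup G) (hKP : K ⊔ P = ⊤)
    (hK : ∀ a ∈ K, ∀ b ∈ D, a * b * a⁻¹ ∈ D) (hP : ∀ a ∈ P, ∀ b ∈ D, a * b * a⁻¹ ∈ D) :
    D.Normal := by
  rw [← Subgroup.normalizer_eq_top_iff, ← top_le_iff, ← hKP]
  exact sup_le (le_normalizer_of_conj_mem K D hK) (le_normalizer_of_conj_mem P D hP)

/-- A subgroup of index `p` in a finite `p`-group is normal (relative version). -/
theorem le_normalizer_of_relIndex_eq_prime [Finite G] (p : ℕ) [hp : Fact p.Prime]
    (P Q : Subgroup G) (hP : IsPGroup p P) (hQP : Q ≤ P) (hidx : Q.relIndex P = p) :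
    P ≤ normalizer (Q : Set G) := by
  rw [← Subgroup.normal_subgroupOf_iff_le_normalizer hQP]
  apply Subgroup.normal_of_index_eq_minFac_card
  change Q.relIndex P = _
  rw [hidx]
  obtain ⟨k, hk⟩ := IsPGroup.iff_card.mp hP
  have hk0 : k ≠ 0 := by
    rintro rfl
    rw [pow_zero] at hk
    have h1 : Q.relIndex P ∣ Nat.card P := Subgroup.relIndex_dvd_card Q P
    rw [hk, hidx, Nat.dvd_one] at h1
    exact hp.out.ne_one h1
  rw [hk, Nat.Prime.pow_minFac hp.out hk0]

/-- The core step: chains between normal subgroups `A ≤ B ≤ K` with `⁅B, P⁆ ≤ A`, where `K` is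
supersolvable and `K ⊔ P = ⊤`. -/
theorem nc_of_commutator_le (K P : Subgroup G) (hK : Cfsg.IsSupersolvable K) (hKP : K ⊔ P = ⊤)
    (A B : Subgroup G) [hA : A.Normal] [hB : B.Normal] (hAB : A ≤ B) (hBK : B ≤ K)
    (hcomm : ⁅B, P⁆ ≤ A) : NC A B := by
  have h1 : NC (A.subgroupOf K) (B.subgroupOf K) :=
    nc_of_isSupersolvable hK _ _ (Subgroup.subgroupOf_mono K hAB)
  have h2 := NC.map_subtype K h1 ?_
  · rwa [Subgroup.map_subgroupOf_eq_of_le (le_trans hAB hBK),
      Subgroup.map_subgroupOf_eq_of_le hBK] at h2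
  · intro D hD hAD hDB
    have hAD' : A ≤ D.map K.subtype := by
      rw [← Subgroup.map_subgroupOf_eq_of_le (le_trans hAB hBK)]
      exact Subgroup.map_mono hAD
    have hDB' : D.map K.subtype ≤ B := by
      rw [← Subgroup.map_subgroupOf_eq_of_le hBK]
      exact Subgroup.map_mono hDB
    apply normal_of_sup_eq_top K P _ hKP
    · rintro a ha _ ⟨d, hd, rfl⟩
      refine ⟨⟨a, ha⟩ * d * ⟨a, ha⟩⁻¹, hD.conj_mem d hd ⟨a, ha⟩, ?_⟩
      simp
    · intro x hx b hb
      have hbB : b ∈ B := hDB' hb
      have h3 : ⁅x, b⁆ ∈ A := by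
        apply hcomm
        rw [Subgroup.commutator_comm]
        exact Subgroup.commutator_mem_commutator hx hbB
      have h4 : x * b * x⁻¹ = ⁅x, b⁆ * b := by
        rw [commutatorElement_def]; group
      rw [h4]
      exact (D.map K.subtype).mul_mem (hAD' h3) hb


theorem lowerCentralSeries_normal_of_normal (P : Subgroup G) [hP : P.Normal] (n : ℕ) :
    (P.lowerCentralSeries n).Normal := by
  induction n with
  | zero => exact hP
  | succ d ih =>
    rw [Subgroup.lowerCentralSeries_succ]
    exact Subgroup.commutator_normal _ _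

/-- Derived subgroup of `P` lies in any subgroup `Q ⊴ P` of prime index. -/
theorem commutator_le_of_relIndex_prime [Finite G] (p : ℕ) [hp : Fact p.Prime]
    (P Q : Subgroup G) (hQP : Q ≤ P) (hn : P ≤ normalizer (Q : Set G)) (hidx : Q.relIndex P = p) :
    ⁅P, P⁆ ≤ Q := by
  have hnorm : (Q.subgroupOf P).Normal := (Subgroup.normal_subgroupOf_iff_le_normalizer hQP).mpr hn
  have hcard : Nat.card (P ⧸ Q.subgroupOf P) = p := by
    rw [← Subgroup.index_eq_card]; exact hidx
  have hcyc : IsCyclic (P ⧸ Q.subgroupOf P) := isCyclic_of_prime_card hcard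
  let : CommGroup (P ⧸ Q.subgroupOf P) := IsCyclic.commGroup
  have h1 : commutator P ≤ (QuotientGroup.mk' (Q.subgroupOf P)).ker :=
    Abelianization.commutator_subset_ker _
  rw [QuotientGroup.ker_mk'] at h1
  rw [Subgroup.commutator_le]
  intro x hx y hy
  have h2 : ⁅(⟨x, hx⟩ : P), ⟨y, hy⟩⁆ ∈ commutator P := by
    rw [commutator_def]
    exact Subgroup.commutator_mem_commutator (Subgroup.mem_top _) (Subgroup.mem_top _)
  have h3 := h1 h2
  rw [Subgroup.mem_subgroupOf] at h3
  simpa [commutatorElement_def] using h3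

theorem HCLT.isSupersolvable_aux (n : ℕ) :
    ∀ (G : Type u) [Group G] [Finite G], Nat.card G = n → HCLT G → Cfsg.IsSupersolvable G := by
  induction n using Nat.strong_induction_on with
  | _ n ih =>
    intro G _ _ hn h
    rcases subsingleton_or_nontrivial G with hs | hnt
    · exact isSupersolvable_of_subsingleton
    -- the largest prime divisor of the order
    have hcard1 : 1 < Nat.card G := Finite.one_lt_card
    have hne : (Nat.card G).primeFactors.Nonempty := by
      rw [Nat.nonempty_primeFactors]; exact hcard1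
    set p := (Nat.card G).primeFactors.max' hne with hpdef
    have hpmem : p ∈ (Nat.card G).primeFactors := Finset.max'_mem _ hne
    have hp : p.Prime := Nat.prime_of_mem_primeFactors hpmem
    have hpd : p ∣ Nat.card G := Nat.dvd_of_mem_primeFactors hpmem
    have hmax : ∀ q : ℕ, q.Prime → q ∣ Nat.card G → q ≤ p := by
      intro q hq hqd
      apply Finset.le_max'
      exact Nat.mem_primeFactors.mpr ⟨hq, hqd, Nat.card_pos.ne'⟩
    have : Fact p.Prime := ⟨hp⟩
    let PS : Sylow p G := default
    have hPn : (PS : Subgroup G).Normal := h.sylow_largest_normal p hpd hmax PS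
    set P : Subgroup G := (PS : Subgroup G) with hPdef
    have hPp : IsPGroup p P := PS.isPGroup'
    -- a subgroup of index `p`
    obtain ⟨d, hd⟩ := hpd
    have hdpos : 0 < d := by
      rcases Nat.eq_zero_or_pos d with h0 | h0
      · rw [h0, mul_zero] at hd; exact absurd hd Nat.card_pos.ne'
      · exact h0
    obtain ⟨K, hKc⟩ := h.self d ⟨p, by rw [hd, mul_comm]⟩
    have hKidx : K.index = p := by
      have := Subgroup.card_mul_index K
      rw [hKc, hd, mul_comm] at this
      exact Nat.eq_of_mul_eq_mul_right hdpos this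
    have hdlt : d < n := by
      rw [← hn, hd]
      have := hp.one_lt
      nlinarith
    have hKss : Cfsg.IsSupersolvable K := ih d hdlt K hKc (h.subgroup K)
    -- `P ≰ K`
    have hPK : ¬ P ≤ K := by
      intro hle
      have h1 : K.index ∣ P.index := Subgroup.index_dvd_of_le hle
      rw [hKidx] at h1
      exact PS.not_dvd_index h1
    -- `K ⊔ P = ⊤`
    have hKP : K ⊔ P = ⊤ := by
      have h1 := Subgroup.relIndex_mul_index (le_sup_left : K ≤ K ⊔ P)
      rw [hKidx] at h1
      have h2 : (K ⊔ P).index ∣ p := ⟨_, by rw [← h1, mul_comm]⟩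
      rcases (Nat.dvd_prime hp).mp h2 with h3 | h3
      · exact Subgroup.index_eq_one.mp h3
      · exfalso
        rw [h3] at h1
        have h4 : K.relIndex (K ⊔ P) = 1 := by
          have : K.relIndex (K ⊔ P) * p = 1 * p := by rw [h1, one_mul]
          exact Nat.eq_of_mul_eq_mul_right hp.pos this
        exact hPK (le_trans le_sup_right (Subgroup.relIndex_eq_one.mp h4))
    -- `P₁ = K ⊓ P`
    set P₁ : Subgroup G := K ⊓ P with hP₁def
    have hP₁P : P₁ ≤ P := inf_le_right
    have hP₁K : P₁ ≤ K := inf_le_left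
    have hP₁idx : P₁.relIndex P = p := by
      rw [hP₁def, Subgroup.inf_relIndex_right, ← relIndex_sup_self_of_normal K P, hKP,
        Subgroup.relIndex_top_right, hKidx]
    have hPnP₁ : P ≤ normalizer (P₁ : Set G) :=
      le_normalizer_of_relIndex_eq_prime p P P₁ hPp hP₁P hP₁idx
    have hP₁n : P₁.Normal := by
      apply normal_of_sup_eq_top K P P₁ hKP
      · intro a ha b hb
        exact ⟨K.mul_mem (K.mul_mem ha hb.1) (K.inv_mem ha), hPn.conj_mem b hb.2 a⟩
      · intro a ha b hb
        exact ((Subgroup.mem_normalizer_iff.mp (hPnP₁ ha)) b).mp hb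
    -- the lower central series of `P`
    have hL1 : P.lowerCentralSeries 1 ≤ P₁ := by
      rw [Subgroup.lowerCentralSeries_succ, Subgroup.lowerCentralSeries_zero]
      exact commutator_le_of_relIndex_prime p P P₁ hP₁P hPnP₁ hP₁idx
    have hLn : ∀ j, (P.lowerCentralSeries j).Normal := lowerCentralSeries_normal_of_normal P
    have hchain : ∀ j : ℕ, NC (P.lowerCentralSeries (j + 1)) P₁ := by
      intro j
      induction j with
      | zero =>
        have := hLn 1
        apply nc_of_commutator_le K P hKss hKP _ _ hL1 hP₁K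
        rw [Subgroup.lowerCentralSeries_succ, Subgroup.lowerCentralSeries_zero]
        exact Subgroup.commutator_mono hP₁P le_rfl
      | succ j ihj =>
        have := hLn (j + 1)
        have := hLn (j + 1 + 1)
        have hle : P.lowerCentralSeries (j + 1) ≤ P₁ :=
          le_trans (P.lowerCentralSeries_antitone (by omega)) hL1
        refine NC.trans ?_ ihj
        apply nc_of_commutator_le K P hKss hKP _ _
          (P.lowerCentralSeries_antitone (by omega)) (le_trans hle hP₁K)
        exact le_of_eq (Subgroup.lowerCentralSeries_succ P (j + 1)).symm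
    have hnil : Group.IsNilpotent P := hPp.isNilpotent
    obtain ⟨c, hc⟩ := (Subgroup.isNilpotent_iff_lowerCentralSeries P).mp hnil
    have hbotP₁ : NC ⊥ P₁ := by
      have h1 := hchain c
      have h2 : P.lowerCentralSeries (c + 1) = ⊥ := by
        rw [← le_bot_iff, ← hc]
        exact P.lowerCentralSeries_antitone (by omega)
      rwa [h2] at h1
    -- `P₁` to `P`
    have hP₁Pnc : NC P₁ P := by
      have hnle : ¬ P ≤ P₁ := by
        intro hle
        have := Subgroup.relIndex_eq_one.mpr hle
        rw [hP₁idx] at this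
        exact hp.ne_one this
      obtain ⟨x, hxP, hxP₁⟩ := SetLike.not_le_iff_exists.mp hnle
      have hmid : P₁ ⊔ zpowers x ≤ P := sup_le hP₁P (by rw [Subgroup.zpowers_le]; exact hxP)
      have h1 := Subgroup.relIndex_mul_relIndex P₁ (P₁ ⊔ zpowers x) P le_sup_left hmid
      rw [hP₁idx] at h1
      have h2 : P₁.relIndex (P₁ ⊔ zpowers x) ∣ p := ⟨_, h1.symm⟩
      have h3 : P₁ ⊔ zpowers x = P := by
        rcases (Nat.dvd_prime hp).mp h2 with h3 | h3
        · exfalso
          apply hxP₁
          have := Subgroup.relIndex_eq_one.mp h3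
          exact this ((le_sup_right : zpowers x ≤ P₁ ⊔ zpowers x) (Subgroup.mem_zpowers x))
        · rw [h3] at h1
          have h4 : (P₁ ⊔ zpowers x).relIndex P = 1 := by
            have : p * (P₁ ⊔ zpowers x).relIndex P = p * 1 := by rw [h1, mul_one]
            exact Nat.eq_of_mul_eq_mul_left hp.pos this
          exact le_antisymm hmid (Subgroup.relIndex_eq_one.mp h4)
      have h4 := NC.step P₁ P₁ x (NC.refl P₁ hP₁n) (by rw [h3]; exact hPn)
      rwa [h3] at h4
    -- `P` to `⊤`
    have hPtop : NC P ⊤ := by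
      let f : K →* G ⧸ P := (QuotientGroup.mk' P).comp K.subtype
      have hf : Function.Surjective f := by
        intro q
        obtain ⟨g, rfl⟩ := QuotientGroup.mk'_surjective P q
        have hg : g ∈ K ⊔ P := by rw [hKP]; exact Subgroup.mem_top g
        rw [Subgroup.mem_sup_of_normal_right] at hg
        obtain ⟨k, hk, x, hx, rfl⟩ := hg
        refine ⟨⟨k, hk⟩, ?_⟩
        simp only [f, MonoidHom.comp_apply, Subgroup.subtype_apply, QuotientGroup.mk'_apply]
        rw [QuotientGroup.eq]
        simpa using hx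
      have hQ : Cfsg.IsSupersolvable (G ⧸ P) := isSupersolvable_of_surjective f hf hKss
      rw [isSupersolvable_iff, ssChain_iff_nc] at hQ
      have := hQ.comap (QuotientGroup.mk' P) (QuotientGroup.mk'_surjective P)
      rwa [MonoidHom.comap_bot, QuotientGroup.ker_mk', Subgroup.comap_top] at this
    exact isSupersolvable_of_nc_bot_top ((hbotP₁.trans hP₁Pnc).trans hPtop)

theorem HCLT.isSupersolvable [Finite G] (h : HCLT G) : Cfsg.IsSupersolvable G :=
  HCLT.isSupersolvable_aux (Nat.card G) G rfl h

end Cfsg.Agent.Helper9
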