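import Cfsg.Agent.Helper9.Supersolvable3
import Cfsg.Agent.Helper24.PLenMax

/-!
Huppert's theorem, part 1: groups all of whose maximal subgroups have prime index (helper9).
-/

set_option autoImplicit false

namespace Cfsg.Agent.Helper9

open Subgroup

universe u

/-- All maximal subgroups have prime index. -/
def MaxPrimeIndex (G : Type*) [Group G] : Prop := ∀ M : Subgroup G, IsCoatom M → M.index.Prime

theorem MaxPrimeIndex.quotient {G : Type*} [Group G] (h : MaxPrimeIndex G) (N : Subgroup G)
    [N.Normal] : MaxPrimeIndex (G ⧸ N) := by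
  intro M hM
  have h1 := h _ (Cfsg.Agent.Helper24.isCoatom_comap_of_surjective (QuotientGroup.mk' N)
    (QuotientGroup.mk'_surjective N) M hM)
  rwa [Subgroup.index_comap_of_surjective M (QuotientGroup.mk'_surjective N)] at h1

/-- If all maximal subgroups have prime index, the Sylow subgroup for the largest prime divisor of
the order is normal. -/
theorem MaxPrimeIndex.sylow_normal {G : Type*} [Group G] [Finite G] (h : MaxPrimeIndex G) (p : ℕ)
    [hp : Fact p.Prime] (hmax : ∀ q : ℕ, q.Prime → q ∣ Nat.card G → q ≤ p) (P : Sylow p G) :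
    (P : Subgroup G).Normal := by
  have hpp : p.Prime := hp.out
  rw [← Subgroup.normalizer_eq_top_iff]
  by_contra hne
  obtain ⟨M, hM, hNM⟩ := (eq_top_or_exists_le_coatom (normalizer ((P : Subgroup G) : Set G))).resolve_left hne
  have hq := h M hM
  have hPM : (P : Subgroup G) ≤ M := le_trans Subgroup.le_normalizer hNM
  -- count Sylow subgroups in `G` and in `M`
  have h1 : Nat.card (Sylow p G) = (normalizer ((P : Subgroup G) : Set G)).index :=
    P.card_eq_index_normalizer
  have h2 : Nat.card (Sylow p M) = (normalizer (((P.subtype hPM : Sylow p M) : Subgroup M) : Set M)).index :=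
    (P.subtype hPM).card_eq_index_normalizer
  have h3 : (normalizer (((P.subtype hPM : Sylow p M) : Subgroup M) : Set M)).index =
      (normalizer ((P : Subgroup G) : Set G)).relIndex M := by
    rw [Sylow.coe_subtype, ← Subgroup.subgroupOf_normalizer_eq hPM]
    rfl
  have h4 := Subgroup.relIndex_mul_index hNM
  have h5 : Nat.card (Sylow p G) ≡ 1 [MOD p] := card_sylow_modEq_one p G
  have h6 : Nat.card (Sylow p M) ≡ 1 [MOD p] := card_sylow_modEq_one p M
  rw [h1, ← h4] at h5
  rw [h2, h3] at h6
  have h7 : M.index ≡ 1 [MOD p] := by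
    have h8 : (normalizer ((P : Subgroup G) : Set G)).relIndex M * M.index ≡ 1 * M.index [MOD p] :=
      Nat.ModEq.mul_right _ h6
    rw [one_mul] at h8
    exact h8.symm.trans h5
  have h9 : M.index ≤ p := hmax _ hq (Subgroup.index_dvd_card M)
  have h10 : 2 ≤ M.index := hq.two_le
  unfold Nat.ModEq at h7
  rw [Nat.mod_eq_of_lt hpp.one_lt] at h7
  rcases Nat.lt_or_ge M.index p with hlt | hge
  · rw [Nat.mod_eq_of_lt hlt] at h7
    omega
  · have : M.index = p := le_antisymm h9 hge
    rw [this, Nat.mod_self] at h7
    omega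

end Cfsg.Agent.Helper9
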