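import Cfsg.Agent.Helper9.Huppert1
import Cfsg.Agent.Helper9.CarterReduce

/-!
Huppert's theorem, part 2: action on chief factors of prime order (helper9).
-/

set_option autoImplicit false

namespace Cfsg.Agent.Helper9

open Subgroup
open scoped commutatorElement

universe u

/-- The automorphism group of a group of prime order `p` is commutative of exponent `p - 1`. -/
theorem mulAut_comm_pow_of_card_prime {C : Type*} [Group C] [Finite C] {p : ℕ} (hp : p.Prime)
    (hC : Nat.card C = p) (φ ψ : MulAut C) : φ * ψ = ψ * φ ∧ φ ^ (p - 1) = 1 := by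
  have hcyc : IsCyclic C := isCyclic_of_prime_card (hp := ⟨hp⟩) hC
  constructor
  · apply (IsCyclic.mulAutMulEquiv C).injective
    rw [map_mul, map_mul, mul_comm]
  · have h1 : Nat.card (MulAut C) = p - 1 := by
      rw [IsCyclic.card_mulAut, hC, Nat.totient_prime hp]
    rw [← h1]
    exact pow_card_eq_one'

/-- If `P₁ ≤ P` are normal subgroups of `G` with `[P : P₁] = p` prime, then commutators and
`(p-1)`-th powers of elements of `G` act trivially on `P / P₁`. -/
theorem conj_mul_inv_mem_of_relIndex_prime {G : Type*} [Group G] [Finite G] {p : ℕ} (hp : p.Prime)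
    (P P₁ : Subgroup G) [hPn : P.Normal] [hP₁n : P₁.Normal] (hle : P₁ ≤ P) (hidx : P₁.relIndex P = p)
    (a b : G) : (∀ x ∈ P, ⁅a, b⁆ * x * ⁅a, b⁆⁻¹ * x⁻¹ ∈ P₁) ∧
      (∀ x ∈ P, a ^ (p - 1) * x * (a ^ (p - 1))⁻¹ * x⁻¹ ∈ P₁) := by
  obtain ⟨Pbar, hPbar⟩ : ∃ Pbar : Subgroup (G ⧸ P₁), Pbar = P.map (QuotientGroup.mk' P₁) := ⟨_, rfl⟩
  have hPbarn : Pbar.Normal := by
    rw [hPbar]; exact hPn.map _ (QuotientGroup.mk'_surjective P₁)
  have hcard : Nat.card Pbar = p := by
    have h1 := Subgroup.relIndex_map_map (QuotientGroup.mk' P₁) P₁ P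
    rw [QuotientGroup.ker_mk', sup_idem, sup_eq_left.mpr hle, QuotientGroup.map_mk'_self,
      Subgroup.relIndex_bot_left, hidx] at h1
    rw [hPbar]; exact h1
  -- the conjugation action of `G` on `Pbar`
  let ρ : G →* MulAut Pbar := (MulAut.conjNormal (H := Pbar)).comp (QuotientGroup.mk' P₁)
  have key : ∀ c : G, ρ c = 1 → ∀ x ∈ P, c * x * c⁻¹ * x⁻¹ ∈ P₁ := by
    intro c hc x hx
    have hxbar : ((x : G) : G ⧸ P₁) ∈ Pbar := by
      rw [hPbar]; exact Subgroup.mem_map_of_mem _ hx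
    have h1 : ρ c ⟨(x : G ⧸ P₁), hxbar⟩ = ⟨(x : G ⧸ P₁), hxbar⟩ := by rw [hc]; rfl
    have h2 := congrArg Subtype.val h1
    have h3 : ((c : G) : G ⧸ P₁) * (x : G ⧸ P₁) * ((c : G) : G ⧸ P₁)⁻¹ = (x : G ⧸ P₁) := h2
    rw [← QuotientGroup.eq_one_iff]
    simp only [QuotientGroup.mk_mul, QuotientGroup.mk_inv]
    rw [h3, mul_inv_cancel]
  constructor
  · apply key
    have h1 := (mulAut_comm_pow_of_card_prime hp hcard (ρ a) (ρ b)).1
    rw [commutatorElement_def, map_mul, map_mul, map_mul, map_inv, map_inv, h1]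
    group
  · apply key
    rw [map_pow]
    exact (mulAut_comm_pow_of_card_prime hp hcard (ρ a) (ρ a)).2

end Cfsg.Agent.Helper9
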