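import Cfsg.Agent.Helper9.Huppert2
import Cfsg.Agent.Helper70.FrattiniAction
import Cfsg.Agent.Helper90.FrattiniPow
import Cfsg.Agent.Helper29.Maschke

/-!
Huppert's theorem, part 3: the Frattini quotient of the normal Sylow subgroup (helper9).
-/

set_option autoImplicit false

namespace Cfsg.Agent.Helper9

open Subgroup
open Cfsg.Agent.Helper70

universe u

/-- In a group with commuting elements every subgroup is normal. -/
theorem normal_of_forall_comm {V : Type*} [Group V] (hcomm : ∀ x y : V, x * y = y * x)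
    (W : Subgroup V) : W.Normal :=
  ⟨fun n hn g => by rw [hcomm g n, mul_inv_cancel_right]; exact hn⟩

/-- Relative irreducibility from Maschke: in a finite elementary abelian `p`-group with a coprime
operator group, a subgroup maximal among the invariant subgroups avoiding `w` has no invariant
subgroup strictly between it and the whole group. -/
theorem irreducible_above_of_maximal_avoiding {A V : Type*} [Group A] [Finite A] [Group V] [Finite V]
    [MulDistribMulAction A V] {p : ℕ} (hp : p.Prime) (hcomm : ∀ x y : V, x * y = y * x)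
    (hexp : ∀ v : V, v ^ p = 1) (hcop : (Nat.card A).Coprime (Nat.card V)) (w : V)
    (W : Subgroup V) (hW : ∀ a : A, ∀ x ∈ W, a • x ∈ W) (hwW : w ∉ W)
    (hmax : ∀ U : Subgroup V, (∀ a : A, ∀ x ∈ U, a • x ∈ U) → w ∉ U → W ≤ U → U ≤ W)
    (Y : Subgroup V) (hY : ∀ a : A, ∀ x ∈ Y, a • x ∈ Y) (hWY : W ≤ Y) : Y = W ∨ Y = ⊤ := by
  by_contra hcon
  push Not at hcon
  obtain ⟨hYW, hYtop⟩ := hcon
  have hwY : w ∈ Y := by
    by_contra h
    exact hYW (le_antisymm (hmax Y hY h hWY) hWY)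
  obtain ⟨U, hU1, hU2⟩ := Cfsg.Agent.Helper29.exists_compl_of_exponent_prime hp hcomm hexp Y
  obtain ⟨C, hC, hC1, hC2⟩ := Cfsg.Agent.Helper29.exists_invariant_compl hcomm hcop Y U hY hU1 hU2
  have hWn : W.Normal := normal_of_forall_comm hcomm W
  have hMinv : ∀ a : A, ∀ x ∈ W ⊔ C, a • x ∈ W ⊔ C := by
    intro a x hx
    haveI := hWn
    rw [Subgroup.mem_sup_of_normal_left] at hx
    obtain ⟨u, hu, c, hc, rfl⟩ := hx
    rw [smul_mul']
    exact Subgroup.mul_mem _ (Subgroup.mem_sup_left (hW a u hu)) (Subgroup.mem_sup_right (hC a c hc))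
  have hwM : w ∈ W ⊔ C := by
    by_contra h
    have hle := hmax (W ⊔ C) hMinv h le_sup_left
    have hCW : C ≤ W := le_trans le_sup_right hle
    have hCbot : C = ⊥ := by
      rw [eq_bot_iff, ← hC1]
      exact le_inf (le_trans hCW hWY) le_rfl
    rw [hCbot, sup_bot_eq] at hC2
    exact hYtop hC2
  have hmod : (C ⊓ Y) ⊔ W = (C ⊔ W) ⊓ Y := inf_sup_eq_sup_inf_of_normal C Y W hWY
  have : w ∈ (C ⊔ W) ⊓ Y := ⟨by rw [sup_comm]; exact hwM, hwY⟩
  rw [← hmod, inf_comm, hC1, bot_sup_eq] at this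
  exact hwW this

/-- Key step of Huppert's theorem: if `G = K P` with `P` a normal `p`-subgroup and `K` a
`p'`-subgroup and all maximal subgroups of `G` have prime index, then an element acting trivially
on `P / P₁` for every normal `P₁ ≤ P` of index `p` acts trivially on the Frattini quotient of `P`. -/
theorem MaxPrimeIndex.frattiniAct_eq_one {G : Type u} [Group G] [Finite G] (h : MaxPrimeIndex G)
    (p : ℕ) [hp : Fact p.Prime] (P K : Subgroup G) [hPn : P.Normal] (hP : IsPGroup p P)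
    (hK : (Nat.card K).Coprime p) (hKP : K ⊔ P = ⊤) (c : G)
    (hc : ∀ P₁ : Subgroup G, P₁.Normal → P₁ ≤ P → P₁.relIndex P = p →
      ∀ x ∈ P, c * x * c⁻¹ * x⁻¹ ∈ P₁) : frattiniAct P c = 1 := by
  have hpp : p.Prime := hp.out
  by_contra hne
  obtain ⟨v, hv⟩ : ∃ v, frattiniAct P c v ≠ v := by
    by_contra h'
    push Not at h'
    exact hne (MulEquiv.ext h')
  obtain ⟨x, rfl⟩ := QuotientGroup.mk_surjective v
  obtain ⟨w, hwdef⟩ : ∃ w : ↥P ⧸ frattini ↥P,
      w = frattiniAct P c (x : ↥P ⧸ frattini ↥P) * (x : ↥P ⧸ frattini ↥P)⁻¹ := ⟨_, rfl⟩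
  have hw1 : w ≠ 1 := by
    intro h1
    apply hv
    rw [hwdef, mul_inv_eq_one] at h1
    exact h1
  -- the action of `K`
  letI : MulDistribMulAction ↥K (↥P ⧸ frattini ↥P) :=
    MulDistribMulAction.compHom (↥P ⧸ frattini ↥P) ((frattiniAct P).comp K.subtype)
  have hsmul : ∀ (k : K) (u : ↥P ⧸ frattini ↥P), k • u = frattiniAct P (k : G) u := fun _ _ => rfl
  have hcomm : ∀ a b : ↥P ⧸ frattini ↥P, a * b = b * a := frattiniQuot_comm hP
  have hexp : ∀ u : ↥P ⧸ frattini ↥P, u ^ p = 1 := by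
    intro u
    induction u using QuotientGroup.induction_on with | _ y => ?_
    rw [← QuotientGroup.mk_pow, QuotientGroup.eq_one_iff]
    exact Cfsg.Agent.Helper90.pow_prime_mem_frattini hP y
  obtain ⟨n, hn⟩ := IsPGroup.iff_card.mp hP
  have hcop : (Nat.card ↥K).Coprime (Nat.card (↥P ⧸ frattini ↥P)) := by
    have h1 : Nat.card (↥P ⧸ frattini ↥P) ∣ p ^ n := by
      rw [← hn, ← Subgroup.index_eq_card]; exact Subgroup.index_dvd_card _
    obtain ⟨j, -, hj⟩ := (Nat.dvd_prime_pow hpp).mp h1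
    rw [hj]
    exact hK.pow_right j
  -- a maximal invariant subgroup avoiding `w`
  obtain ⟨W, -, hWmax⟩ := Finite.exists_le_maximal
    (p := fun U : Subgroup (↥P ⧸ frattini ↥P) => (∀ a : K, ∀ u ∈ U, a • u ∈ U) ∧ w ∉ U)
    (a := (⊥ : Subgroup (↥P ⧸ frattini ↥P)))
    ⟨fun a u hu => by rw [Subgroup.mem_bot] at hu ⊢; rw [hu, smul_one],
      fun hw => hw1 (Subgroup.mem_bot.mp hw)⟩
  obtain ⟨hWinv, hwW⟩ := hWmax.prop
  have hirr := irreducible_above_of_maximal_avoiding hpp hcomm hexp hcop w W hWinv hwW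
    (fun U hU hwU hWU => hWmax.le_of_ge ⟨hU, hwU⟩ hWU)
  -- `W` is `G`-invariant
  have hWG : ∀ g : G, ∀ u ∈ W, frattiniAct P g u ∈ W := by
    intro g u hu
    have hg : g ∈ K ⊔ P := by rw [hKP]; exact Subgroup.mem_top g
    rw [Subgroup.mem_sup_of_normal_right] at hg
    obtain ⟨k, hk, y, hy, rfl⟩ := hg
    rw [map_mul, frattiniAct_eq_one_of_mem P hP y hy, mul_one]
    exact hWinv ⟨k, hk⟩ u hu
  -- the preimage `P₁` of `W`
  obtain ⟨P₁, hP₁⟩ : ∃ P₁ : Subgroup G,
      P₁ = (W.comap (QuotientGroup.mk' (frattini ↥P))).map P.subtype := ⟨_, rfl⟩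
  have hP₁mem : ∀ y : G, y ∈ P₁ ↔ ∃ hy : y ∈ P, ((⟨y, hy⟩ : ↥P) : ↥P ⧸ frattini ↥P) ∈ W := by
    intro y
    rw [hP₁, Subgroup.mem_map]
    constructor
    · rintro ⟨y', hy', rfl⟩
      exact ⟨y'.2, hy'⟩
    · rintro ⟨hy, hyW⟩
      exact ⟨⟨y, hy⟩, hyW, rfl⟩
  have hP₁P : P₁ ≤ P := fun y hy => ((hP₁mem y).mp hy).1
  have hP₁n : P₁.Normal := by
    refine ⟨fun y hy g => ?_⟩
    obtain ⟨hyP, hyW⟩ := (hP₁mem y).mp hy
    refine (hP₁mem _).mpr ⟨hPn.conj_mem y hyP g, ?_⟩
    have := hWG g _ hyW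
    rw [frattiniAct_mk] at this
    exact this
  have hKPbot : K ⊓ P = ⊥ := by
    have : (Nat.card K).Coprime (Nat.card P) := by rw [hn]; exact hK.pow_right n
    exact disjoint_iff.mp (Subgroup.disjoint_of_coprime_natCard this)
  obtain ⟨M, hM⟩ : ∃ M : Subgroup G, M = P₁ ⊔ K := ⟨_, rfl⟩
  have hKM : K ≤ M := by rw [hM]; exact le_sup_right
  have hP₁M : P₁ ≤ M := by rw [hM]; exact le_sup_left
  have hMP : M ⊓ P = P₁ := by
    apply le_antisymm
    · intro y hy
      have hyM : y ∈ P₁ ⊔ K := by rw [← hM]; exact hy.1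
      have hyP : y ∈ P := hy.2
      rw [Subgroup.mem_sup_of_normal_left] at hyM
      obtain ⟨u, hu, k, hk, rfl⟩ := hyM
      have hkP : k ∈ P := by
        have : k = u⁻¹ * (u * k) := by group
        rw [this]
        exact P.mul_mem (P.inv_mem (hP₁P hu)) hyP
      have : k ∈ K ⊓ P := ⟨hk, hkP⟩
      rw [hKPbot, Subgroup.mem_bot] at this
      rw [this, mul_one]
      exact hu
    · exact le_inf hP₁M hP₁P
  -- `M` is a maximal subgroup
  have hMcoatom : IsCoatom M := by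
    constructor
    · intro htop
      apply hwW
      obtain ⟨y, hy⟩ := QuotientGroup.mk_surjective w
      have hyP₁ : (y : G) ∈ P₁ := by
        rw [← hMP, htop]
        exact ⟨Subgroup.mem_top _, y.2⟩
      obtain ⟨_, hyW⟩ := (hP₁mem _).mp hyP₁
      rw [← hy]
      exact hyW
    · intro X hX
      obtain ⟨Y, hYdef⟩ : ∃ Y : Subgroup (↥P ⧸ frattini ↥P),
          Y = ((X ⊓ P).subgroupOf P).map (QuotientGroup.mk' (frattini ↥P)) := ⟨_, rfl⟩
      have hYmem : ∀ u, u ∈ Y ↔ ∃ y : ↥P, (y : G) ∈ X ∧ (y : ↥P ⧸ frattini ↥P) = u := by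
        intro u
        rw [hYdef, Subgroup.mem_map]
        constructor
        · rintro ⟨y, hy, rfl⟩
          rw [Subgroup.mem_subgroupOf] at hy
          exact ⟨y, hy.1, rfl⟩
        · rintro ⟨y, hy, rfl⟩
          exact ⟨y, Subgroup.mem_subgroupOf.mpr ⟨hy, y.2⟩, rfl⟩
      have hYinv : ∀ a : K, ∀ u ∈ Y, a • u ∈ Y := by
        intro a u hu
        obtain ⟨y, hyX, rfl⟩ := (hYmem u).mp hu
        rw [hsmul, frattiniAct_mk]
        refine (hYmem _).mpr ⟨⟨(a : G) * y * (a : G)⁻¹, hPn.conj_mem y y.2 a⟩, ?_, rfl⟩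
        have haX : (a : G) ∈ X := hX.le (hKM a.2)
        exact X.mul_mem (X.mul_mem haX hyX) (X.inv_mem haX)
      have hWY : W ≤ Y := by
        intro u hu
        obtain ⟨y, rfl⟩ := QuotientGroup.mk_surjective u
        refine (hYmem _).mpr ⟨y, ?_, rfl⟩
        apply hX.le
        apply hP₁M
        exact (hP₁mem _).mpr ⟨y.2, hu⟩
      rcases hirr Y hYinv hWY with hYW | hYtop
      · -- then `X ≤ M`
        exfalso
        apply hX.not_ge
        intro z hz
        have hz' : z ∈ K ⊔ P := by rw [hKP]; exact Subgroup.mem_top z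
        rw [Subgroup.mem_sup_of_normal_right] at hz'
        obtain ⟨k, hk, y, hy, rfl⟩ := hz'
        have hyX : y ∈ X := by
          have : y = k⁻¹ * (k * y) := by group
          rw [this]
          exact X.mul_mem (X.inv_mem (hX.le (hKM hk))) hz
        have hyY : ((⟨y, hy⟩ : ↥P) : ↥P ⧸ frattini ↥P) ∈ Y := (hYmem _).mpr ⟨⟨y, hy⟩, hyX, rfl⟩
        rw [hYW] at hyY
        have hyP₁ : y ∈ P₁ := (hP₁mem y).mpr ⟨hy, hyY⟩
        exact M.mul_mem (hKM hk) (hP₁M hyP₁)
      · -- then `P ≤ X`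
        have hPX : P ≤ X := by
          intro y hy
          have hyY : ((⟨y, hy⟩ : ↥P) : ↥P ⧸ frattini ↥P) ∈ Y := by
            rw [hYtop]; exact Subgroup.mem_top _
          obtain ⟨z, hzX, hz⟩ := (hYmem _).mp hyY
          have h1 : z⁻¹ * ⟨y, hy⟩ ∈ frattini ↥P := QuotientGroup.eq.mp hz
          have h2 : ((z⁻¹ * ⟨y, hy⟩ : ↥P) : G) ∈ P₁ := by
            refine (hP₁mem _).mpr ⟨(z⁻¹ * ⟨y, hy⟩ : ↥P).2, ?_⟩
            have : ((z⁻¹ * ⟨y, hy⟩ : ↥P) : ↥P ⧸ frattini ↥P) = 1 :=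
              (QuotientGroup.eq_one_iff _).mpr h1
            have h3 : (⟨((z⁻¹ * ⟨y, hy⟩ : ↥P) : G), (z⁻¹ * ⟨y, hy⟩ : ↥P).2⟩ : ↥P) =
                z⁻¹ * ⟨y, hy⟩ := rfl
            rw [h3, this]
            exact W.one_mem
          have h4 : ((z⁻¹ * ⟨y, hy⟩ : ↥P) : G) ∈ X := hX.le (hP₁M h2)
          have h5 : y = (z : G) * ((z⁻¹ * ⟨y, hy⟩ : ↥P) : G) := by
            simp
          rw [h5]
          exact X.mul_mem hzX h4
        rw [eq_top_iff, ← hKP]
        exact sup_le (le_trans hKM hX.le) hPX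
  -- the index of `M` is `p`
  have hMidx : M.index = p := by
    have hq := h M hMcoatom
    have h1 : M.index ∣ K.index := Subgroup.index_dvd_of_le hKM
    have h2 : K.index = p ^ n := by
      rw [← Subgroup.relIndex_top_right, ← hKP, relIndex_sup_of_normal_right,
        ← Subgroup.inf_relIndex_right, hKPbot, Subgroup.relIndex_bot_left, hn]
    rw [h2] at h1
    exact (Nat.prime_dvd_prime_iff_eq hq hpp).mp (hq.dvd_of_dvd_pow h1)
  have hP₁idx : P₁.relIndex P = p := by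
    have hMPtop : M ⊔ P = ⊤ := by
      rw [eq_top_iff, ← hKP]
      exact sup_le_sup_right hKM P
    rw [← hMP, Subgroup.inf_relIndex_right, ← relIndex_sup_of_normal_right, hMPtop,
      Subgroup.relIndex_top_right, hMidx]
  -- conclusion
  have h1 := hc P₁ hP₁n hP₁P hP₁idx (x : G) x.2
  obtain ⟨h2, h3⟩ := (hP₁mem _).mp h1
  apply hwW
  rw [hwdef, frattiniAct_mk, ← QuotientGroup.mk_inv, ← QuotientGroup.mk_mul]
  exact h3

end Cfsg.Agent.Helper9
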