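import Cfsg.Agent.Helper9.Zipper

namespace Cfsg.Agent.Helper9

open Subgroup Pointwise

universe u
variable {G : Type u} [Group G]

/-- The conjugates of `Z` lying in `X`. -/
def wclSet (Z X : Subgroup G) : Set (Subgroup G) :=
  {B | (∃ g : G, B = MulAut.conj g • Z) ∧ B ≤ X}

theorem sSup_wclSet_le (Z X : Subgroup G) : sSup (wclSet Z X) ≤ X :=
  sSup_le fun _ hB => hB.2

theorem wclSet_mono (Z : Subgroup G) {X X' : Subgroup G} (h : X ≤ X') :
    wclSet Z X ⊆ wclSet Z X' := fun _ hB => ⟨hB.1, le_trans hB.2 h⟩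

theorem iSup_conj_eq_sSup_wclSet (Z X : Subgroup G) :
    (⨆ g ∈ {g : G | MulAut.conj g • Z ≤ X}, MulAut.conj g • Z : Subgroup G) =
      sSup (wclSet Z X) := by
  apply le_antisymm
  · apply iSup₂_le
    intro g hg
    exact le_sSup ⟨⟨g, rfl⟩, hg⟩
  · apply sSup_le
    rintro _ ⟨⟨g, rfl⟩, hg⟩
    exact le_iSup₂_of_le g hg le_rfl

/-- In a finite `p`-group, a proper subgroup is properly contained in its normalizer. -/
theorem exists_mem_normalizer_not_mem [Finite G] (p : ℕ) [Fact p.Prime] (P D : Subgroup G)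
    (hP : IsPGroup p P) (hDP : D < P) : ∃ x ∈ P, x ∈ normalizer (D : Set G) ∧ x ∉ D := by
  have : Group.IsNilpotent P := hP.isNilpotent
  have hnc : NormalizerCondition P := Group.normalizerCondition_of_isNilpotent
  have hlt : D.subgroupOf P < ⊤ := by
    rw [lt_top_iff_ne_top]
    intro h
    rw [Subgroup.subgroupOf_eq_top] at h
    exact hDP.not_ge h
  have h1 := hnc _ hlt
  obtain ⟨x', hx'n, hx'D⟩ := SetLike.exists_of_lt h1
  refine ⟨x', x'.2, ?_, hx'D⟩
  rw [Subgroup.mem_normalizer_iff] at hx'n ⊢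
  intro h
  constructor
  · intro hh
    have hhP : h ∈ P := hDP.le hh
    exact (hx'n ⟨h, hhP⟩).mp hh
  · intro hh
    have hhP : h ∈ P := by
      have h2 : (x' : G) * h * (x' : G)⁻¹ ∈ P := hDP.le hh
      have h3 : h = (x' : G)⁻¹ * ((x' : G) * h * (x' : G)⁻¹) * (x' : G) := by group
      rw [h3]
      exact P.mul_mem (P.mul_mem (P.inv_mem x'.2) h2) x'.2
    exact (hx'n ⟨h, hhP⟩).mpr hh

theorem matsuyama [Finite G] (p : ℕ) [Fact p.Prime] (Z Y : Subgroup G)
    (h : ∀ g : G, IsPGroup p ↥(⨆ y ∈ Y, MulAut.conj (y * g) • Z)) :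
    ∃ P : Sylow p G, Y ≤ Subgroup.normalizer
      ((⨆ g ∈ {g : G | MulAut.conj g • Z ≤ (P : Subgroup G)}, MulAut.conj g • Z : Subgroup G) :
        Set G) := by
  classical
  let 𝒬 : Set (Subgroup G) :=
    {Q | IsPGroup p Q ∧ Y ≤ normalizer (Q : Set G) ∧ sSup (wclSet Z Q) = Q}
  have hbot : (⊥ : Subgroup G) ∈ 𝒬 := by
    refine ⟨IsPGroup.of_bot, ?_, ?_⟩
    · exact Subgroup.le_normalizer_of_normal
    · exact le_antisymm (sSup_wclSet_le Z ⊥) bot_le
  obtain ⟨Q, -, hQmax⟩ := Set.Finite.exists_le_maximal (Set.toFinite 𝒬) hbot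
  obtain ⟨hQp, hYQ, hQw⟩ := hQmax.prop
  -- (*) conjugates of `Z` normalizing `Q` lie in `Q`
  have star : ∀ g : G, MulAut.conj g • Z ≤ normalizer (Q : Set G) → MulAut.conj g • Z ≤ Q := by
    intro g hg
    set R : Subgroup G := ⨆ y ∈ Y, MulAut.conj (y * g) • Z with hR
    have hRp : IsPGroup p R := h g
    have hRN : R ≤ normalizer (Q : Set G) := by
      apply iSup₂_le
      intro y hy
      rw [map_mul, mul_smul]
      exact conj_smul_le_of_mem (hYQ hy) hg
    have hQRp : IsPGroup p (Q ⊔ R : Subgroup G) := hQp.to_sup_of_normal_left' hRp hRN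
    have hYR : Y ≤ normalizer (R : Set G) := by
      have hRs : R = sSup ((fun y : G => MulAut.conj (y * g) • Z) '' (Y : Set G)) := by
        rw [sSup_image]; rfl
      rw [hRs]
      apply le_normalizer_sSup_of_conj_closed
      rintro _ ⟨y, hy, rfl⟩ v hv
      refine ⟨v * y, Y.mul_mem hv hy, ?_⟩
      simp only [map_mul, mul_smul]
    have hYQR : Y ≤ normalizer ((Q ⊔ R : Subgroup G) : Set G) :=
      le_trans (le_inf hYQ hYR) (Subgroup.normalizer_inf_normalizer_le_normalizer_sup Q R)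
    have hw : sSup (wclSet Z (Q ⊔ R)) = Q ⊔ R := by
      apply le_antisymm (sSup_wclSet_le Z _)
      apply sup_le
      · conv_lhs => rw [← hQw]
        exact sSup_le_sSup (wclSet_mono Z le_sup_left)
      · apply iSup₂_le
        intro y hy
        apply le_sSup
        exact ⟨⟨y * g, rfl⟩, le_trans (le_iSup₂_of_le y hy le_rfl) le_sup_right⟩
    have hmem : (Q ⊔ R : Subgroup G) ∈ 𝒬 := ⟨hQRp, hYQR, hw⟩
    have hle : Q ⊔ R ≤ Q := hQmax.le_of_ge hmem le_sup_left
    have h1 : MulAut.conj g • Z ≤ R := by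
      have h2 : MulAut.conj ((1 : G) * g) • Z ≤ R :=
        le_iSup₂_of_le (f := fun y (_ : y ∈ Y) => MulAut.conj (y * g) • Z) 1 Y.one_mem le_rfl
      rwa [one_mul] at h2
    exact le_trans h1 (le_trans le_sup_right hle)
  -- a Sylow subgroup containing `Q`
  obtain ⟨P, hQP⟩ := hQp.exists_le_sylow
  refine ⟨P, ?_⟩
  rw [iSup_conj_eq_sSup_wclSet]
  -- intermediate subgroups `D` with the same conjugates of `Z` as `Q`
  let 𝒟 : Set (Subgroup G) :=
    {D | Q ≤ D ∧ D ≤ (P : Subgroup G) ∧ ∀ g : G, MulAut.conj g • Z ≤ D → MulAut.conj g • Z ≤ Q}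
  have hQD : Q ∈ 𝒟 := ⟨le_rfl, hQP, fun _ hg => hg⟩
  obtain ⟨D, -, hDmax⟩ := Set.Finite.exists_le_maximal (Set.toFinite 𝒟) hQD
  obtain ⟨hQleD, hDP, hDZ⟩ := hDmax.prop
  have hND : normalizer (D : Set G) ≤ normalizer (Q : Set G) := by
    rw [← hQw]
    apply le_normalizer_sSup_of_conj_closed
    rintro _ ⟨⟨g, rfl⟩, hg⟩ v hv
    refine ⟨⟨v * g, by rw [map_mul, mul_smul]⟩, ?_⟩
    have h1 : MulAut.conj v • MulAut.conj g • Z ≤ D := by
      have h0 : MulAut.conj v • MulAut.conj g • Z ≤ MulAut.conj v • D :=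
        Subgroup.pointwise_smul_le_pointwise_smul_iff.mpr (le_trans hg hQleD)
      rwa [conj_smul_eq_self_of_mem_normalizer' hv] at h0
    rw [← mul_smul, ← map_mul] at h1 ⊢
    exact hDZ (v * g) h1
  have hDeq : D = (P : Subgroup G) := by
    by_contra hne
    have hlt : D < (P : Subgroup G) := lt_of_le_of_ne hDP hne
    obtain ⟨x, hxP, hxN, hxD⟩ := exists_mem_normalizer_not_mem p (P : Subgroup G) D P.isPGroup' hlt
    have hD1 : D ⊔ zpowers x ∈ 𝒟 := by
      refine ⟨le_trans hQleD le_sup_left, sup_le hDP (by rw [Subgroup.zpowers_le]; exact hxP), ?_⟩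
      intro g hg
      apply star
      refine le_trans hg (le_trans ?_ hND)
      exact sup_le Subgroup.le_normalizer (by rw [Subgroup.zpowers_le]; exact hxN)
    have := hDmax.le_of_ge hD1 le_sup_left
    exact hxD (this ((le_sup_right : zpowers x ≤ D ⊔ zpowers x) (Subgroup.mem_zpowers x)))
  have hwP : sSup (wclSet Z (P : Subgroup G)) = Q := by
    apply le_antisymm
    · apply sSup_le
      rintro _ ⟨⟨g, rfl⟩, hg⟩
      exact hDZ g (hDeq ▸ hg)
    · conv_lhs => rw [← hQw]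
      exact sSup_le_sSup (wclSet_mono Z hQP)
  rw [hwP]
  exact hYQ

end Cfsg.Agent.Helper9
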