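import Cfsg.Agent.Helper9.CLT

namespace Cfsg.Agent.Helper9

open Subgroup

universe u v
variable {G : Type u} [Group G]

/-- `NC A B`: there is a chain of normal subgroups of `G` from `A` up to `B`, each obtained from
the previous one by adjoining one element. -/
inductive NC : Subgroup G → Subgroup G → Prop
  | refl (A : Subgroup G) : A.Normal → NC A A
  | step (A B : Subgroup G) (g : G) : NC A B → (B ⊔ zpowers g).Normal → NC A (B ⊔ zpowers g)

theorem NC.le {A B : Subgroup G} (h : NC A B) : A ≤ B := by
  induction h with
  | refl _ => exact le_rfl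
  | step B g _ _ ih => exact le_trans ih le_sup_left

theorem NC.normal_left {A B : Subgroup G} (h : NC A B) : A.Normal := by
  induction h with
  | refl hA => exact hA
  | step B g _ _ ih => exact ih

theorem NC.normal_right {A B : Subgroup G} (h : NC A B) : B.Normal := by
  induction h with
  | refl hA => exact hA
  | step B g _ hn _ => exact hn

theorem NC.trans {A B C : Subgroup G} (h1 : NC A B) (h2 : NC B C) : NC A C := by
  induction h2 with
  | refl _ => exact h1
  | step C g _ hn ih => exact NC.step _ C g ih hn

theorem ssChain_iff_nc {B : Subgroup G} : SSChain B ↔ NC ⊥ B := by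
  constructor
  · intro h
    induction h with
    | bot => exact NC.refl ⊥ Subgroup.normal_bot
    | step A g _ hn ih => exact NC.step _ A g ih hn
  · intro h
    induction h with
    | refl _ => exact SSChain.bot
    | step B g _ hn ih => exact SSChain.step B g ih hn

theorem NC.sup_right {A B : Subgroup G} (h : NC A B) (M : Subgroup G) [hM : M.Normal] :
    NC (A ⊔ M) (B ⊔ M) := by
  induction h with
  | refl hA =>
    have := hA
    exact NC.refl _ inferInstance
  | step B g hAB hn ih =>
    have key : B ⊔ zpowers g ⊔ M = B ⊔ M ⊔ zpowers g := by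
      rw [sup_assoc, sup_comm (zpowers g), ← sup_assoc]
    rw [key]
    refine NC.step _ _ g ih ?_
    rw [← key]
    have := hn
    infer_instance

/-- Key lemma: intersecting a cyclic step with a subgroup gives a cyclic step. -/
theorem exists_inf_sup_zpowers (A : Subgroup G) [hA : A.Normal] (g : G) (K : Subgroup G) :
    ∃ k : G, k ∈ K ∧ (A ⊔ zpowers g) ⊓ K = (A ⊓ K) ⊔ zpowers k := by
  obtain ⟨k, hk⟩ := exists_subgroupOf_sup_zpowers A g K
  refine ⟨k, k.2, ?_⟩
  have := congrArg (Subgroup.map K.subtype) hk
  rw [Subgroup.subgroupOf_map_subtype, Subgroup.map_sup, Subgroup.subgroupOf_map_subtype,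
    MonoidHom.map_zpowers] at this
  exact this

theorem NC.inf_right {A B : Subgroup G} (h : NC A B) (M : Subgroup G) [hM : M.Normal] :
    NC (A ⊓ M) (B ⊓ M) := by
  induction h with
  | refl hA =>
    have := hA
    exact NC.refl _ inferInstance
  | step B g hAB hn ih =>
    have := hAB.normal_right
    obtain ⟨k, -, hk⟩ := exists_inf_sup_zpowers B g M
    rw [hk]
    refine NC.step _ _ k ih ?_
    rw [← hk]
    have := hn
    infer_instance

/-- In a supersolvable group any two normal subgroups `A ≤ B` are joined by a chain. -/
theorem nc_of_isSupersolvable (hG : Cfsg.IsSupersolvable G) (A B : Subgroup G) [A.Normal]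
    [B.Normal] (hAB : A ≤ B) : NC A B := by
  rw [isSupersolvable_iff, ssChain_iff_nc] at hG
  have h1 := (hG.inf_right B).sup_right A
  rwa [bot_inf_eq, bot_sup_eq, top_inf_eq, sup_eq_left.mpr hAB] at h1

theorem NC.comap {G' : Type v} [Group G'] (f : G →* G') (hf : Function.Surjective f)
    {A B : Subgroup G'} (h : NC A B) : NC (A.comap f) (B.comap f) := by
  induction h with
  | refl hA => exact NC.refl _ (hA.comap f)
  | step B x hAB hn ih =>
    obtain ⟨g, rfl⟩ := hf x
    have key : (B ⊔ zpowers (f g)).comap f = B.comap f ⊔ zpowers g := by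
      conv_lhs => rw [← Subgroup.map_comap_eq_self_of_surjective hf B, ← MonoidHom.map_zpowers,
        ← Subgroup.map_sup, Subgroup.comap_map_eq]
      rw [sup_comm, ← sup_assoc]
      congr 1
      rw [sup_eq_right]
      exact Subgroup.ker_le_comap f B
    rw [key]
    refine NC.step _ _ g ih ?_
    rw [← key]
    exact hn.comap f

/-- Lift a chain in a subgroup `K` to `G`, provided the intermediate subgroups are normal in `G`. -/
theorem NC.map_subtype (K : Subgroup G) {A B : Subgroup K} (h : NC A B)
    (hN : ∀ D : Subgroup K, D.Normal → A ≤ D → D ≤ B → (D.map K.subtype).Normal) :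
    NC (A.map K.subtype) (B.map K.subtype) := by
  induction h with
  | refl hA => exact NC.refl _ (hN A hA le_rfl le_rfl)
  | step B g hAB hn ih =>
    rw [Subgroup.map_sup, MonoidHom.map_zpowers]
    refine NC.step _ _ _ (ih ?_) ?_
    · intro D hD hAD hDB
      exact hN D hD hAD (le_trans hDB le_sup_left)
    · rw [← MonoidHom.map_zpowers, ← Subgroup.map_sup]
      exact hN _ hn (le_trans hAB.le le_sup_left) le_rfl

theorem isSupersolvable_of_nc_bot_top (h : NC (⊥ : Subgroup G) ⊤) : Cfsg.IsSupersolvable G := by
  rw [isSupersolvable_iff, ssChain_iff_nc]; exact h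

end Cfsg.Agent.Helper9
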