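import Cfsg.Agent.Helper9.WeilJ
import Cfsg.Agent.Helper37.PGL2PU
import Cfsg.Agent.Helper37.PGL2PS

/-!
# The spectrum of `PGL₂(F)`, `|F|` odd (helper9, S3452; pieces by helper37)
-/

set_option autoImplicit false

namespace Cfsg.Agent.Helper9.Weil

theorem range_orderOf_pgl2 {F : Type*} [Field F] [Fintype F] (hodd : Fintype.card F % 2 = 1) :
    Set.range (orderOf : Matrix.GeneralLinearGroup (Fin 2) F ⧸
        Subgroup.center (Matrix.GeneralLinearGroup (Fin 2) F) → ℕ) =
      {n | n ∣ Fintype.card F - 1 ∨ n ∣ Fintype.card F + 1 ∨ n = ringChar F} := by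
  have hq1 : 1 < Fintype.card F := Fintype.one_lt_card
  ext n
  simp only [Set.mem_range, Set.mem_ofPred_eq]
  constructor
  · rintro ⟨x, rfl⟩
    exact Cfsg.Agent.Helper37.pgl2_orderOf_mem hodd x
  · rintro (h | h | h)
    · obtain ⟨x, hx⟩ := Cfsg.Agent.Helper37.pgl2_exists_orderOf_card_sub_one (F := F) hodd
      exact exists_orderOf_eq_of_dvd x (by rw [hx]; omega) (by rw [hx]; exact h)
    · obtain ⟨x, hx⟩ := Cfsg.Agent.Helper37.pgl2_exists_orderOf_card_add_one (F := F)
      exact exists_orderOf_eq_of_dvd x (by rw [hx]; omega) (by rw [hx]; exact h)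
    · obtain ⟨x, hx⟩ := Cfsg.Agent.Helper37.pgl2_exists_orderOf_char (F := F) hodd
      exact ⟨x, by rw [hx, h]⟩

end Cfsg.Agent.Helper9.Weil
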