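import Cfsg.Agent.Helper41.PGL2

/-!
# `PGL₂(F₂)` has a normal subgroup of order three (helper9, S3452)
-/

set_option autoImplicit false

namespace Cfsg.Agent.Helper9.Weil

open Cfsg.Agent.Helper41

theorem isSolvable_zpowers {G : Type*} [Group G] (x : G) :
    Group.IsSolvable (Subgroup.zpowers x) := by
  apply Group.isSolvable_of_comm
  rintro ⟨a, ha⟩ ⟨b, hb⟩
  apply Subtype.ext
  obtain ⟨i, rfl⟩ := Subgroup.mem_zpowers_iff.mp ha
  obtain ⟨j, rfl⟩ := Subgroup.mem_zpowers_iff.mp hb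
  show x ^ i * x ^ j = x ^ j * x ^ i
  rw [← zpow_add, ← zpow_add, add_comm]

theorem exists_normal_solvable_pgl2_two {F : Type*} [Field F] [Fintype F]
    (h2 : Fintype.card F = 2) :
    ∃ K : Subgroup (Matrix.GeneralLinearGroup (Fin 2) F ⧸
        Subgroup.center (Matrix.GeneralLinearGroup (Fin 2) F)),
      K.Normal ∧ K ≠ ⊥ ∧ Group.IsSolvable K := by
  classical
  have hcard := card_pgl2 (F := F)
  rw [h2] at hcard
  haveI : Fact (Nat.Prime 3) := ⟨by norm_num⟩
  obtain ⟨x, hx⟩ := exists_prime_orderOf_dvd_card' (G := Matrix.GeneralLinearGroup (Fin 2) F ⧸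
    Subgroup.center (Matrix.GeneralLinearGroup (Fin 2) F)) 3 (by rw [hcard]; norm_num)
  have hK : Nat.card (Subgroup.zpowers x) = 3 := by rw [Nat.card_zpowers, hx]
  refine ⟨Subgroup.zpowers x, ?_, ?_, isSolvable_zpowers x⟩
  · apply Subgroup.normal_of_index_eq_two
    have := Subgroup.index_mul_card (Subgroup.zpowers x)
    rw [hK, hcard] at this
    omega
  · intro hbot
    rw [hbot, Subgroup.card_bot] at hK
    omega

end Cfsg.Agent.Helper9.Weil
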