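import Mathlib

/-!
# Presentations of quotients of a free product of two presented groups (helper9, for S2292)

`H₁ = ⟨Fin k₁ | rels₁⟩`, `H₂ = ⟨Fin k₂ | rels₂⟩` and a list `cw` of elements of the free product
`H₁ ∗ H₂` (cross relators).  The group `(H₁ ∗ H₂) / ⟨⟨cw⟩⟩` has a presentation on `Fin (k₁ + k₂)` with at most
`rels₁.card + rels₂.card + cw.length` relators (`exists_presentation_coprod`), and a group `G` with homomorphisms
`j₁ : H₁ →* G`, `j₂ : H₂ →* G` killing `cw`, generating `G`, which is "injectively recognised" by these data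
(`hcore`) is isomorphic to it (`presentation_of_core`).
-/

set_option autoImplicit false

namespace Cfsg.Agent.Helper9.PresCoprod

open Monoid (Coprod)

universe u₁ u₂ w

section

variable {k₁ k₂ : ℕ} {H₁ : Type u₁} {H₂ : Type u₂} [Group H₁] [Group H₂]
  (rels₁ : Finset (FreeGroup (Fin k₁)))
  (e₁ : PresentedGroup (↑rels₁ : Set (FreeGroup (Fin k₁))) ≃* H₁)
  (rels₂ : Finset (FreeGroup (Fin k₂)))
  (e₂ : PresentedGroup (↑rels₂ : Set (FreeGroup (Fin k₂))) ≃* H₂)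

/-- the images of the generators in the free product -/
noncomputable def cgens : Fin (k₁ + k₂) → Coprod H₁ H₂ :=
  Fin.addCases (fun i => Coprod.inl (e₁ (PresentedGroup.of i)))
    (fun i => Coprod.inr (e₂ (PresentedGroup.of i)))

/-- the homomorphism from the free group to the free product -/
noncomputable def Phi : FreeGroup (Fin (k₁ + k₂)) →* Coprod H₁ H₂ :=
  FreeGroup.lift (cgens rels₁ e₁ rels₂ e₂)

theorem Phi_map_castAdd (w : FreeGroup (Fin k₁)) :
    Phi rels₁ e₁ rels₂ e₂ (FreeGroup.map (Fin.castAdd k₂) w) =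
      Coprod.inl (e₁ (PresentedGroup.mk _ w)) := by
  have h : (Phi rels₁ e₁ rels₂ e₂).comp (FreeGroup.map (Fin.castAdd k₂)) =
      ((Coprod.inl : H₁ →* Coprod H₁ H₂).comp e₁.toMonoidHom).comp (PresentedGroup.mk _) := by
    apply FreeGroup.ext_hom
    intro i
    simp only [MonoidHom.comp_apply, FreeGroup.map.of, Phi, FreeGroup.lift_apply_of, cgens,
      Fin.addCases_left]
    rfl
  exact DFunLike.congr_fun h w

theorem Phi_map_natAdd (w : FreeGroup (Fin k₂)) :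
    Phi rels₁ e₁ rels₂ e₂ (FreeGroup.map (Fin.natAdd k₁) w) =
      Coprod.inr (e₂ (PresentedGroup.mk _ w)) := by
  have h : (Phi rels₁ e₁ rels₂ e₂).comp (FreeGroup.map (Fin.natAdd k₁)) =
      ((Coprod.inr : H₂ →* Coprod H₁ H₂).comp e₂.toMonoidHom).comp (PresentedGroup.mk _) := by
    apply FreeGroup.ext_hom
    intro i
    simp only [MonoidHom.comp_apply, FreeGroup.map.of, Phi, FreeGroup.lift_apply_of, cgens,
      Fin.addCases_right]
    rfl
  exact DFunLike.congr_fun h w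

theorem Phi_surjective : Function.Surjective (Phi rels₁ e₁ rels₂ e₂) := by
  rw [← MonoidHom.range_eq_top, eq_top_iff, ← Coprod.closure_range_inl_union_inr,
    Subgroup.closure_le]
  rintro _ (⟨h, rfl⟩ | ⟨h, rfl⟩)
  · obtain ⟨x, rfl⟩ := e₁.surjective h
    obtain ⟨w, rfl⟩ := QuotientGroup.mk_surjective x
    exact ⟨FreeGroup.map (Fin.castAdd k₂) w, Phi_map_castAdd rels₁ e₁ rels₂ e₂ w⟩
  · obtain ⟨x, rfl⟩ := e₂.surjective h
    obtain ⟨w, rfl⟩ := QuotientGroup.mk_surjective x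
    exact ⟨FreeGroup.map (Fin.natAdd k₁) w, Phi_map_natAdd rels₁ e₁ rels₂ e₂ w⟩

/-- a word for an element of the free product -/
noncomputable def wordOf (x : Coprod H₁ H₂) : FreeGroup (Fin (k₁ + k₂)) :=
  Classical.choose (Phi_surjective rels₁ e₁ rels₂ e₂ x)

theorem Phi_wordOf (x : Coprod H₁ H₂) : Phi rels₁ e₁ rels₂ e₂ (wordOf rels₁ e₁ rels₂ e₂ x) = x :=
  Classical.choose_spec (Phi_surjective rels₁ e₁ rels₂ e₂ x)

variable (cw : List (Coprod H₁ H₂))

/-- the relators -/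
noncomputable def relsC : Finset (FreeGroup (Fin (k₁ + k₂))) := by
  classical
  exact rels₁.image (FreeGroup.map (Fin.castAdd k₂)) ∪ rels₂.image (FreeGroup.map (Fin.natAdd k₁)) ∪
    (cw.map (wordOf rels₁ e₁ rels₂ e₂)).toFinset

theorem card_relsC :
    (relsC rels₁ e₁ rels₂ e₂ cw).card ≤ rels₁.card + rels₂.card + cw.length := by
  classical
  have h1 := Finset.card_image_le (s := rels₁) (f := FreeGroup.map (Fin.castAdd k₂))
  have h2 := Finset.card_image_le (s := rels₂) (f := FreeGroup.map (Fin.natAdd k₁))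
  have h3 : (cw.map (wordOf rels₁ e₁ rels₂ e₂)).toFinset.card ≤ cw.length :=
    (List.toFinset_card_le _).trans (le_of_eq (List.length_map _))
  have h4 := Finset.card_union_le (rels₁.image (FreeGroup.map (Fin.castAdd k₂)))
    (rels₂.image (FreeGroup.map (Fin.natAdd k₁)))
  have h5 := Finset.card_union_le (rels₁.image (FreeGroup.map (Fin.castAdd k₂)) ∪
    rels₂.image (FreeGroup.map (Fin.natAdd k₁))) (cw.map (wordOf rels₁ e₁ rels₂ e₂)).toFinset
  unfold relsC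
  omega

theorem mem_relsC_left (r : FreeGroup (Fin k₁)) (hr : r ∈ rels₁) :
    FreeGroup.map (Fin.castAdd k₂) r ∈
      (↑(relsC rels₁ e₁ rels₂ e₂ cw) : Set (FreeGroup (Fin (k₁ + k₂)))) := by
  classical
  rw [Finset.mem_coe]
  unfold relsC
  exact Finset.mem_union_left _ (Finset.mem_union_left _ (Finset.mem_image_of_mem _ hr))

theorem mem_relsC_right (r : FreeGroup (Fin k₂)) (hr : r ∈ rels₂) :
    FreeGroup.map (Fin.natAdd k₁) r ∈
      (↑(relsC rels₁ e₁ rels₂ e₂ cw) : Set (FreeGroup (Fin (k₁ + k₂)))) := by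
  classical
  rw [Finset.mem_coe]
  unfold relsC
  exact Finset.mem_union_left _ (Finset.mem_union_right _ (Finset.mem_image_of_mem _ hr))

theorem mem_relsC_cw (x : Coprod H₁ H₂) (hx : x ∈ cw) :
    wordOf rels₁ e₁ rels₂ e₂ x ∈
      (↑(relsC rels₁ e₁ rels₂ e₂ cw) : Set (FreeGroup (Fin (k₁ + k₂)))) := by
  classical
  rw [Finset.mem_coe]
  unfold relsC
  exact Finset.mem_union_right _ (List.mem_toFinset.2 (List.mem_map_of_mem hx))

theorem mem_relsC_iff (r : FreeGroup (Fin (k₁ + k₂))) :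
    r ∈ relsC rels₁ e₁ rels₂ e₂ cw ↔
      (∃ r' ∈ rels₁, FreeGroup.map (Fin.castAdd k₂) r' = r) ∨
      (∃ r' ∈ rels₂, FreeGroup.map (Fin.natAdd k₁) r' = r) ∨
      ∃ x ∈ cw, wordOf rels₁ e₁ rels₂ e₂ x = r := by
  classical
  unfold relsC
  rw [Finset.mem_union, Finset.mem_union, Finset.mem_image, Finset.mem_image, List.mem_toFinset,
    List.mem_map, or_assoc]

/-- the presented group -/
abbrev PC := PresentedGroup (↑(relsC rels₁ e₁ rels₂ e₂ cw) : Set (FreeGroup (Fin (k₁ + k₂))))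

/-- a homomorphism of presented groups from a map of generators sending relators to relators -/
theorem exists_map_presented {α β : Type*} (ι : α → β) (rels : Set (FreeGroup α))
    (rels' : Set (FreeGroup β)) (h : ∀ r ∈ rels, FreeGroup.map ι r ∈ rels') :
    ∃ f : PresentedGroup rels →* PresentedGroup rels',
      ∀ w : FreeGroup α, f (PresentedGroup.mk rels w) = PresentedGroup.mk rels' (FreeGroup.map ι w) := by
  have e : FreeGroup.lift (fun a => PresentedGroup.of (rels := rels') (ι a)) =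
      (PresentedGroup.mk rels').comp (FreeGroup.map ι) := by
    ext a
    simp [PresentedGroup.of]
  have hr : ∀ r ∈ rels, FreeGroup.lift (fun a => PresentedGroup.of (rels := rels') (ι a)) r = 1 := by
    intro r hr
    rw [e]
    exact PresentedGroup.one_of_mem (h r hr)
  refine ⟨PresentedGroup.toGroup (rels := rels) hr, ?_⟩
  intro w
  have h2 : (PresentedGroup.toGroup (rels := rels) hr).comp (PresentedGroup.mk rels) =
      (PresentedGroup.mk rels').comp (FreeGroup.map ι) := by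
    ext a
    simp only [MonoidHom.comp_apply, FreeGroup.map.of]
    exact PresentedGroup.toGroup.of _
  exact DFunLike.congr_fun h2 w

/-- the homomorphism of presented groups induced by the inclusion of the first generators -/
noncomputable def lam₁ :
    PresentedGroup (↑rels₁ : Set (FreeGroup (Fin k₁))) →* PC rels₁ e₁ rels₂ e₂ cw :=
  Classical.choose (exists_map_presented (Fin.castAdd k₂) _ _
    (fun r hr => mem_relsC_left rels₁ e₁ rels₂ e₂ cw r (Finset.mem_coe.1 hr)))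

theorem lam₁_mk (w : FreeGroup (Fin k₁)) :
    lam₁ rels₁ e₁ rels₂ e₂ cw (PresentedGroup.mk _ w) =
      PresentedGroup.mk _ (FreeGroup.map (Fin.castAdd k₂) w) :=
  Classical.choose_spec (exists_map_presented (Fin.castAdd k₂) _ _
    (fun r hr => mem_relsC_left rels₁ e₁ rels₂ e₂ cw r (Finset.mem_coe.1 hr))) w

/-- the homomorphism of presented groups induced by the inclusion of the last generators -/
noncomputable def lam₂ :
    PresentedGroup (↑rels₂ : Set (FreeGroup (Fin k₂))) →* PC rels₁ e₁ rels₂ e₂ cw :=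
  Classical.choose (exists_map_presented (Fin.natAdd k₁) _ _
    (fun r hr => mem_relsC_right rels₁ e₁ rels₂ e₂ cw r (Finset.mem_coe.1 hr)))

theorem lam₂_mk (w : FreeGroup (Fin k₂)) :
    lam₂ rels₁ e₁ rels₂ e₂ cw (PresentedGroup.mk _ w) =
      PresentedGroup.mk _ (FreeGroup.map (Fin.natAdd k₁) w) :=
  Classical.choose_spec (exists_map_presented (Fin.natAdd k₁) _ _
    (fun r hr => mem_relsC_right rels₁ e₁ rels₂ e₂ cw r (Finset.mem_coe.1 hr))) w

/-- the homomorphism from `H₁` -/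
noncomputable def hom₁ : H₁ →* PC rels₁ e₁ rels₂ e₂ cw :=
  (lam₁ rels₁ e₁ rels₂ e₂ cw).comp e₁.symm.toMonoidHom

/-- the homomorphism from `H₂` -/
noncomputable def hom₂ : H₂ →* PC rels₁ e₁ rels₂ e₂ cw :=
  (lam₂ rels₁ e₁ rels₂ e₂ cw).comp e₂.symm.toMonoidHom

theorem hom₁_e (w : FreeGroup (Fin k₁)) :
    hom₁ rels₁ e₁ rels₂ e₂ cw (e₁ (PresentedGroup.mk _ w)) =
      PresentedGroup.mk _ (FreeGroup.map (Fin.castAdd k₂) w) := by
  unfold hom₁
  rw [MonoidHom.comp_apply]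
  have e : e₁.symm.toMonoidHom (e₁ (PresentedGroup.mk _ w)) = PresentedGroup.mk _ w := by
    change e₁.symm (e₁ (PresentedGroup.mk _ w)) = _
    rw [MulEquiv.symm_apply_apply]
  rw [e, lam₁_mk]

theorem hom₂_e (w : FreeGroup (Fin k₂)) :
    hom₂ rels₁ e₁ rels₂ e₂ cw (e₂ (PresentedGroup.mk _ w)) =
      PresentedGroup.mk _ (FreeGroup.map (Fin.natAdd k₁) w) := by
  unfold hom₂
  rw [MonoidHom.comp_apply]
  have e : e₂.symm.toMonoidHom (e₂ (PresentedGroup.mk _ w)) = PresentedGroup.mk _ w := by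
    change e₂.symm (e₂ (PresentedGroup.mk _ w)) = _
    rw [MulEquiv.symm_apply_apply]
  rw [e, lam₂_mk]

/-- the quotient map factors through the free product -/
theorem lift_hom_Phi (w : FreeGroup (Fin (k₁ + k₂))) :
    Coprod.lift (hom₁ rels₁ e₁ rels₂ e₂ cw) (hom₂ rels₁ e₁ rels₂ e₂ cw) (Phi rels₁ e₁ rels₂ e₂ w) =
      PresentedGroup.mk _ w := by
  have h : (Coprod.lift (hom₁ rels₁ e₁ rels₂ e₂ cw) (hom₂ rels₁ e₁ rels₂ e₂ cw)).comp
      (Phi rels₁ e₁ rels₂ e₂) = PresentedGroup.mk _ := by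
    apply FreeGroup.ext_hom
    intro i
    refine Fin.addCases (fun i => ?_) (fun i => ?_) i
    · simp only [MonoidHom.comp_apply, Phi, FreeGroup.lift_apply_of, cgens, Fin.addCases_left,
        Coprod.lift_apply_inl]
      change hom₁ rels₁ e₁ rels₂ e₂ cw (e₁ (PresentedGroup.mk _ (FreeGroup.of i))) = _
      rw [hom₁_e, FreeGroup.map.of]
    · simp only [MonoidHom.comp_apply, Phi, FreeGroup.lift_apply_of, cgens, Fin.addCases_right,
        Coprod.lift_apply_inr]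
      change hom₂ rels₁ e₁ rels₂ e₂ cw (e₂ (PresentedGroup.mk _ (FreeGroup.of i))) = _
      rw [hom₂_e, FreeGroup.map.of]
  exact DFunLike.congr_fun h w

/-- the cross relators hold in the presented group -/
theorem lift_hom_cw (x : Coprod H₁ H₂) (hx : x ∈ cw) :
    Coprod.lift (hom₁ rels₁ e₁ rels₂ e₂ cw) (hom₂ rels₁ e₁ rels₂ e₂ cw) x = 1 := by
  rw [← Phi_wordOf rels₁ e₁ rels₂ e₂ x, lift_hom_Phi]
  exact PresentedGroup.one_of_mem (mem_relsC_cw rels₁ e₁ rels₂ e₂ cw x hx)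

/-- the two images generate the presented group -/
theorem range_sup_range :
    (hom₁ rels₁ e₁ rels₂ e₂ cw).range ⊔ (hom₂ rels₁ e₁ rels₂ e₂ cw).range = ⊤ := by
  rw [eq_top_iff, ← PresentedGroup.closure_range_of, Subgroup.closure_le]
  rintro _ ⟨i, rfl⟩
  refine Fin.addCases (fun i => ?_) (fun i => ?_) i
  · apply Subgroup.mem_sup_left
    refine ⟨e₁ (PresentedGroup.of i), ?_⟩
    change hom₁ rels₁ e₁ rels₂ e₂ cw (e₁ (PresentedGroup.mk _ (FreeGroup.of i))) = _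
    rw [hom₁_e, FreeGroup.map.of]
    rfl
  · apply Subgroup.mem_sup_right
    refine ⟨e₂ (PresentedGroup.of i), ?_⟩
    change hom₂ rels₁ e₁ rels₂ e₂ cw (e₂ (PresentedGroup.mk _ (FreeGroup.of i))) = _
    rw [hom₂_e, FreeGroup.map.of]
    rfl

section univ

variable {G : Type w} [Group G] (j₁ : H₁ →* G) (j₂ : H₂ →* G)

theorem lift_gens_eq (w : FreeGroup (Fin (k₁ + k₂))) :
    FreeGroup.lift (fun i => Coprod.lift j₁ j₂ (cgens rels₁ e₁ rels₂ e₂ i)) w =
      Coprod.lift j₁ j₂ (Phi rels₁ e₁ rels₂ e₂ w) := by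
  have h : FreeGroup.lift (fun i => Coprod.lift j₁ j₂ (cgens rels₁ e₁ rels₂ e₂ i)) =
      (Coprod.lift j₁ j₂).comp (Phi rels₁ e₁ rels₂ e₂) := by
    apply FreeGroup.ext_hom
    intro i
    simp only [MonoidHom.comp_apply, Phi, FreeGroup.lift_apply_of]
  exact DFunLike.congr_fun h w

theorem lift_gens_rels (hcw : ∀ x ∈ cw, Coprod.lift j₁ j₂ x = 1) :
    ∀ r ∈ (↑(relsC rels₁ e₁ rels₂ e₂ cw) : Set (FreeGroup (Fin (k₁ + k₂)))),
      FreeGroup.lift (fun i => Coprod.lift j₁ j₂ (cgens rels₁ e₁ rels₂ e₂ i)) r = 1 := by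
  intro r hr
  rw [Finset.mem_coe, mem_relsC_iff] at hr
  rw [lift_gens_eq]
  rcases hr with ⟨r', hr', rfl⟩ | ⟨r', hr', rfl⟩ | ⟨x, hx, rfl⟩
  · rw [Phi_map_castAdd, PresentedGroup.one_of_mem (Finset.mem_coe.2 hr'), map_one, map_one,
      map_one]
  · rw [Phi_map_natAdd, PresentedGroup.one_of_mem (Finset.mem_coe.2 hr'), map_one, map_one,
      map_one]
  · rw [Phi_wordOf]
    exact hcw x hx

/-- the homomorphism from the presented group given by the universal property -/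
noncomputable def univHom (hcw : ∀ x ∈ cw, Coprod.lift j₁ j₂ x = 1) :
    PC rels₁ e₁ rels₂ e₂ cw →* G :=
  PresentedGroup.toGroup (lift_gens_rels rels₁ e₁ rels₂ e₂ cw j₁ j₂ hcw)

theorem univHom_mk (hcw : ∀ x ∈ cw, Coprod.lift j₁ j₂ x = 1) (w : FreeGroup (Fin (k₁ + k₂))) :
    univHom rels₁ e₁ rels₂ e₂ cw j₁ j₂ hcw (PresentedGroup.mk _ w) =
      Coprod.lift j₁ j₂ (Phi rels₁ e₁ rels₂ e₂ w) := by
  rw [← lift_gens_eq]
  have h : (univHom rels₁ e₁ rels₂ e₂ cw j₁ j₂ hcw).comp (PresentedGroup.mk _) =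
      FreeGroup.lift (fun i => Coprod.lift j₁ j₂ (cgens rels₁ e₁ rels₂ e₂ i)) := by
    apply FreeGroup.ext_hom
    intro i
    rw [MonoidHom.comp_apply, FreeGroup.lift_apply_of]
    exact PresentedGroup.toGroup.of _
  exact DFunLike.congr_fun h w

theorem univHom_comp_hom₁ (hcw : ∀ x ∈ cw, Coprod.lift j₁ j₂ x = 1) :
    (univHom rels₁ e₁ rels₂ e₂ cw j₁ j₂ hcw).comp (hom₁ rels₁ e₁ rels₂ e₂ cw) = j₁ := by
  apply MonoidHom.ext
  intro h
  obtain ⟨x, rfl⟩ := e₁.surjective h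
  obtain ⟨w, rfl⟩ := QuotientGroup.mk_surjective x
  rw [MonoidHom.comp_apply]
  change univHom rels₁ e₁ rels₂ e₂ cw j₁ j₂ hcw
    (hom₁ rels₁ e₁ rels₂ e₂ cw (e₁ (PresentedGroup.mk _ w))) = _
  rw [hom₁_e, univHom_mk, Phi_map_castAdd, Coprod.lift_apply_inl]
  rfl

theorem univHom_comp_hom₂ (hcw : ∀ x ∈ cw, Coprod.lift j₁ j₂ x = 1) :
    (univHom rels₁ e₁ rels₂ e₂ cw j₁ j₂ hcw).comp (hom₂ rels₁ e₁ rels₂ e₂ cw) = j₂ := by
  apply MonoidHom.ext
  intro h
  obtain ⟨x, rfl⟩ := e₂.surjective h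
  obtain ⟨w, rfl⟩ := QuotientGroup.mk_surjective x
  rw [MonoidHom.comp_apply]
  change univHom rels₁ e₁ rels₂ e₂ cw j₁ j₂ hcw
    (hom₂ rels₁ e₁ rels₂ e₂ cw (e₂ (PresentedGroup.mk _ w))) = _
  rw [hom₂_e, univHom_mk, Phi_map_natAdd, Coprod.lift_apply_inr]
  rfl

end univ

end

/-- **Presentation of a quotient of a free product**: all data in one statement. -/
theorem exists_presentation_coprod {k₁ k₂ : ℕ} {H₁ : Type u₁} {H₂ : Type u₂} [Group H₁] [Group H₂]
    (rels₁ : Finset (FreeGroup (Fin k₁)))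
    (e₁ : PresentedGroup (↑rels₁ : Set (FreeGroup (Fin k₁))) ≃* H₁)
    (rels₂ : Finset (FreeGroup (Fin k₂)))
    (e₂ : PresentedGroup (↑rels₂ : Set (FreeGroup (Fin k₂))) ≃* H₂)
    (cw : List (Coprod H₁ H₂)) :
    ∃ (rels : Finset (FreeGroup (Fin (k₁ + k₂))))
      (a₁ : H₁ →* PresentedGroup (↑rels : Set (FreeGroup (Fin (k₁ + k₂)))))
      (a₂ : H₂ →* PresentedGroup (↑rels : Set (FreeGroup (Fin (k₁ + k₂))))),
      rels.card ≤ rels₁.card + rels₂.card + cw.length ∧ a₁.range ⊔ a₂.range = ⊤ ∧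
      (∀ x ∈ cw, Coprod.lift a₁ a₂ x = 1) ∧
      ∀ (G : Type w) [Group G] (j₁ : H₁ →* G) (j₂ : H₂ →* G),
        (∀ x ∈ cw, Coprod.lift j₁ j₂ x = 1) →
        ∃ φ : PresentedGroup (↑rels : Set (FreeGroup (Fin (k₁ + k₂)))) →* G,
          φ.comp a₁ = j₁ ∧ φ.comp a₂ = j₂ :=
  ⟨relsC rels₁ e₁ rels₂ e₂ cw, hom₁ rels₁ e₁ rels₂ e₂ cw, hom₂ rels₁ e₁ rels₂ e₂ cw,
    card_relsC rels₁ e₁ rels₂ e₂ cw, range_sup_range rels₁ e₁ rels₂ e₂ cw,
    lift_hom_cw rels₁ e₁ rels₂ e₂ cw,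
    fun _ _ j₁ j₂ hcw => ⟨univHom rels₁ e₁ rels₂ e₂ cw j₁ j₂ hcw,
      univHom_comp_hom₁ rels₁ e₁ rels₂ e₂ cw j₁ j₂ hcw,
      univHom_comp_hom₂ rels₁ e₁ rels₂ e₂ cw j₁ j₂ hcw⟩⟩

/-- **Recognition**: if `G` is generated by the images of `j₁ : H₁ →* G`, `j₂ : H₂ →* G`, the cross words `cw` die in
`G`, and every group `D` generated by images of `H₁`, `H₂` in which the cross words die maps injectively to `G`
(compatibly), then `G` has a presentation on `Fin (k₁ + k₂)` with at most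
`rels₁.card + rels₂.card + cw.length` relators. -/
theorem presentation_of_core {k₁ k₂ : ℕ} {H₁ : Type u₁} {H₂ : Type u₂} [Group H₁] [Group H₂]
    (rels₁ : Finset (FreeGroup (Fin k₁)))
    (e₁ : PresentedGroup (↑rels₁ : Set (FreeGroup (Fin k₁))) ≃* H₁)
    (rels₂ : Finset (FreeGroup (Fin k₂)))
    (e₂ : PresentedGroup (↑rels₂ : Set (FreeGroup (Fin k₂))) ≃* H₂)
    (cw : List (Coprod H₁ H₂)) {G : Type w} [Group G] (j₁ : H₁ →* G) (j₂ : H₂ →* G)
    (hcw : ∀ x ∈ cw, Coprod.lift j₁ j₂ x = 1) (hsurj : j₁.range ⊔ j₂.range = ⊤)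
    (hcore : ∀ (D : Type) [Group D] (a₁ : H₁ →* D) (a₂ : H₂ →* D), a₁.range ⊔ a₂.range = ⊤ →
      (∀ x ∈ cw, Coprod.lift a₁ a₂ x = 1) → ∀ φ : D →* G, φ.comp a₁ = j₁ → φ.comp a₂ = j₂ →
      Function.Injective φ) :
    ∃ rels : Finset (FreeGroup (Fin (k₁ + k₂))),
      rels.card ≤ rels₁.card + rels₂.card + cw.length ∧
      Nonempty (PresentedGroup (↑rels : Set (FreeGroup (Fin (k₁ + k₂)))) ≃* G) := by
  refine ⟨relsC rels₁ e₁ rels₂ e₂ cw, card_relsC rels₁ e₁ rels₂ e₂ cw, ?_⟩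
  have h1 := univHom_comp_hom₁ rels₁ e₁ rels₂ e₂ cw j₁ j₂ hcw
  have h2 := univHom_comp_hom₂ rels₁ e₁ rels₂ e₂ cw j₁ j₂ hcw
  have hinj := hcore (PC rels₁ e₁ rels₂ e₂ cw) (hom₁ rels₁ e₁ rels₂ e₂ cw)
    (hom₂ rels₁ e₁ rels₂ e₂ cw) (range_sup_range rels₁ e₁ rels₂ e₂ cw)
    (lift_hom_cw rels₁ e₁ rels₂ e₂ cw) (univHom rels₁ e₁ rels₂ e₂ cw j₁ j₂ hcw) h1 h2
  have hsur : Function.Surjective (univHom rels₁ e₁ rels₂ e₂ cw j₁ j₂ hcw) := by
    rw [← MonoidHom.range_eq_top, eq_top_iff, ← hsurj, sup_le_iff]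
    constructor
    · rintro _ ⟨h, rfl⟩
      exact ⟨hom₁ rels₁ e₁ rels₂ e₂ cw h, DFunLike.congr_fun h1 h⟩
    · rintro _ ⟨h, rfl⟩
      exact ⟨hom₂ rels₁ e₁ rels₂ e₂ cw h, DFunLike.congr_fun h2 h⟩
  exact ⟨MulEquiv.ofBijective _ ⟨hinj, hsur⟩⟩

end Cfsg.Agent.Helper9.PresCoprod
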