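import Mathlib

/-!
helper9: generic Tietze lemmas for finite presentations (written for helper64's S2290, block (C5)).

* `exists_presentation_of_generators` (T1): a group with a presentation with `m` relators, generated by a family
  `g : β → G`, has a presentation on the generators `β` with `m + |β|` relators (sending the generators to `g`).
* `exists_presentation_quotient` (T2): if `N` is the normal closure of a finite set `S`, then `G ⧸ N` has a presentation
  on the same generators with `m + |S|` relators.
* `exists_presentation_quotient_center` (T3): the same for `G ⧸ center G` when the centre is cyclic (`+ 1` relator).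
* `isCyclic_center_sl` (T4): the centre of `SL_n(F)`, `F` a field, is cyclic.
* `exists_psl_presentation` (T5): the combination for `PSL_n(F)`.
-/

set_option autoImplicit false

namespace Cfsg.Agent.Helper9.PresTietze

open PresentedGroup

/-- every element of a group generated by the family `g` is the value of a word in `g` -/
theorem exists_word_of_closure {β G : Type*} [Group G] (g : β → G)
    (hg : Subgroup.closure (Set.range g) = ⊤) (x : G) : ∃ w : FreeGroup β, FreeGroup.lift g w = x := by
  have h : (FreeGroup.lift g).range = ⊤ := by rw [FreeGroup.range_lift_eq_closure, hg]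
  have hx : x ∈ (FreeGroup.lift g).range := by rw [h]; trivial
  exact hx

/-- (T1), with the values of the isomorphism on the generators -/
theorem exists_presentation_of_generators' {α β : Type*} [Fintype β] {G : Type*} [Group G]
    (rels : Finset (FreeGroup α)) (e : PresentedGroup (↑rels : Set (FreeGroup α)) ≃* G)
    (g : β → G) (hg : Subgroup.closure (Set.range g) = ⊤) :
    ∃ (rels' : Finset (FreeGroup β)) (f : PresentedGroup (↑rels' : Set (FreeGroup β)) ≃* G),
      rels'.card ≤ rels.card + Fintype.card β ∧ ∀ j : β, f (PresentedGroup.of j) = g j := by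
  classical
  -- words for the old generators in the new ones
  choose w hw using fun i : α => exists_word_of_closure g hg (e (PresentedGroup.of i))
  -- words for the new generators in the old ones
  have hsurj : ∀ x : G, ∃ u : FreeGroup α, e (PresentedGroup.mk (↑rels : Set (FreeGroup α)) u) = x := by
    intro x
    obtain ⟨p, rfl⟩ := e.surjective x
    obtain ⟨u, rfl⟩ := PresentedGroup.mk_surjective _ p
    exact ⟨u, rfl⟩
  choose u hu using fun j : β => hsurj (g j)
  set σ : FreeGroup α →* FreeGroup β := FreeGroup.lift w with hσ
  -- `lift g ∘ σ = e ∘ mk`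
  have hgσ : (FreeGroup.lift g).comp σ = e.toMonoidHom.comp (PresentedGroup.mk (↑rels : Set (FreeGroup α))) := by
    ext i
    simp only [MonoidHom.comp_apply, hσ, FreeGroup.lift_apply_of, hw]
    rfl
  have hgσ' : ∀ x : FreeGroup α, FreeGroup.lift g (σ x) = e (PresentedGroup.mk (↑rels : Set (FreeGroup α)) x) :=
    fun x => DFunLike.congr_fun hgσ x
  set rels' : Finset (FreeGroup β) :=
    rels.image σ ∪ Finset.univ.image (fun j : β => (FreeGroup.of j)⁻¹ * σ (u j)) with hrels'
  have hcard : rels'.card ≤ rels.card + Fintype.card β := by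
    refine (Finset.card_union_le _ _).trans (Nat.add_le_add Finset.card_image_le ?_)
    exact Finset.card_image_le.trans (by simp)
  -- the map to `G`
  have hφ : ∀ r ∈ (↑rels' : Set (FreeGroup β)), FreeGroup.lift g r = 1 := by
    intro r hr
    rw [Finset.mem_coe, hrels', Finset.mem_union, Finset.mem_image, Finset.mem_image] at hr
    rcases hr with ⟨r0, hr0, rfl⟩ | ⟨j, -, rfl⟩
    · rw [hgσ', PresentedGroup.one_of_mem (Finset.mem_coe.mpr hr0), map_one]
    · rw [map_mul, map_inv, FreeGroup.lift_apply_of, hgσ', hu, inv_mul_cancel]
  set φ : PresentedGroup (↑rels' : Set (FreeGroup β)) →* G := PresentedGroup.toGroup hφ with hφdef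
  -- the map back
  have hmkσ : FreeGroup.lift (fun i : α => PresentedGroup.mk (↑rels' : Set (FreeGroup β)) (w i))
      = (PresentedGroup.mk (↑rels' : Set (FreeGroup β))).comp σ := by
    ext i
    simp [hσ]
  have hψ : ∀ r ∈ (↑rels : Set (FreeGroup α)),
      FreeGroup.lift (fun i : α => PresentedGroup.mk (↑rels' : Set (FreeGroup β)) (w i)) r = 1 := by
    intro r hr
    rw [hmkσ, MonoidHom.comp_apply]
    apply PresentedGroup.one_of_mem
    rw [Finset.mem_coe, hrels', Finset.mem_union]
    exact Or.inl (Finset.mem_image_of_mem _ (Finset.mem_coe.mp hr))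
  set ψ : PresentedGroup (↑rels : Set (FreeGroup α)) →* PresentedGroup (↑rels' : Set (FreeGroup β)) :=
    PresentedGroup.toGroup hψ with hψdef
  have hψmk : ∀ x : FreeGroup α, ψ (PresentedGroup.mk _ x) = PresentedGroup.mk _ (σ x) := by
    intro x
    have : ψ.comp (PresentedGroup.mk (↑rels : Set (FreeGroup α)))
        = (PresentedGroup.mk (↑rels' : Set (FreeGroup β))).comp σ := by
      rw [← hmkσ]
      ext i
      simp only [MonoidHom.comp_apply, FreeGroup.lift_apply_of]
      exact PresentedGroup.toGroup.of hψ
    exact DFunLike.congr_fun this x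
  have hφmk : ∀ y : FreeGroup β, φ (PresentedGroup.mk _ y) = FreeGroup.lift g y := by
    intro y
    have : φ.comp (PresentedGroup.mk (↑rels' : Set (FreeGroup β))) = FreeGroup.lift g := by
      ext j
      simp only [MonoidHom.comp_apply, FreeGroup.lift_apply_of]
      exact PresentedGroup.toGroup.of hφ
    exact DFunLike.congr_fun this y
  -- `φ ∘ ψ = e`
  have hφψ : ∀ p, φ (ψ p) = e p := by
    intro p
    obtain ⟨x, rfl⟩ := PresentedGroup.mk_surjective _ p
    rw [hψmk, hφmk, hgσ']
  -- `ψ ∘ e⁻¹ ∘ φ = id`
  have hψφ : ∀ p', ψ (e.symm (φ p')) = p' := by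
    intro p'
    have : (ψ.comp e.symm.toMonoidHom).comp φ = MonoidHom.id _ := by
      apply PresentedGroup.ext
      intro j
      simp only [MonoidHom.comp_apply, MonoidHom.id_apply]
      have h1 : φ (PresentedGroup.of j) = g j := PresentedGroup.toGroup.of hφ
      rw [h1, ← hu j]
      change ψ (e.symm (e _)) = _
      rw [MulEquiv.symm_apply_apply, hψmk]
      have hmem : (FreeGroup.of j)⁻¹ * σ (u j) ∈ (↑rels' : Set (FreeGroup β)) := by
        rw [Finset.mem_coe, hrels', Finset.mem_union]
        exact Or.inr (Finset.mem_image_of_mem _ (Finset.mem_univ j))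
      exact (PresentedGroup.mk_eq_mk_of_inv_mul_mem hmem).symm
    exact DFunLike.congr_fun this p'
  have hbij : Function.Bijective φ := by
    constructor
    · intro p q hpq
      rw [← hψφ p, ← hψφ q, hpq]
    · intro x
      exact ⟨ψ (e.symm x), by rw [hφψ, MulEquiv.apply_symm_apply]⟩
  exact ⟨rels', MulEquiv.ofBijective φ hbij, hcard, fun j => PresentedGroup.toGroup.of hφ⟩

/-- (T1) a group with a presentation with `m` relators which is generated by a family `g : β → G` has a
presentation on the generators `β` with at most `m + |β|` relators -/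
theorem exists_presentation_of_generators {α β : Type*} [Fintype β] {G : Type*} [Group G]
    (rels : Finset (FreeGroup α)) (e : PresentedGroup (↑rels : Set (FreeGroup α)) ≃* G)
    (g : β → G) (hg : Subgroup.closure (Set.range g) = ⊤) :
    ∃ rels' : Finset (FreeGroup β), rels'.card ≤ rels.card + Fintype.card β ∧
      Nonempty (PresentedGroup (↑rels' : Set (FreeGroup β)) ≃* G) := by
  obtain ⟨rels', f, hcard, -⟩ := exists_presentation_of_generators' rels e g hg
  exact ⟨rels', hcard, ⟨f⟩⟩

/-- (T2), with the values of the isomorphism on the generators -/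
theorem exists_presentation_quotient' {α : Type*} {G : Type*} [Group G]
    (rels : Finset (FreeGroup α)) (e : PresentedGroup (↑rels : Set (FreeGroup α)) ≃* G)
    (N : Subgroup G) [N.Normal] (S : Finset G) (hS : Subgroup.normalClosure (S : Set G) = N) :
    ∃ (rels' : Finset (FreeGroup α)) (f : PresentedGroup (↑rels' : Set (FreeGroup α)) ≃* G ⧸ N),
      rels'.card ≤ rels.card + S.card ∧
      ∀ i : α, f (PresentedGroup.of i) = QuotientGroup.mk (e (PresentedGroup.of i)) := by
  classical
  have hsurj : ∀ x : G, ∃ u : FreeGroup α, e (PresentedGroup.mk (↑rels : Set (FreeGroup α)) u) = x := by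
    intro x
    obtain ⟨p, rfl⟩ := e.surjective x
    obtain ⟨u, rfl⟩ := PresentedGroup.mk_surjective _ p
    exact ⟨u, rfl⟩
  choose v hv using hsurj
  set rels' : Finset (FreeGroup α) := rels ∪ S.image v with hrels'
  have hcard : rels'.card ≤ rels.card + S.card :=
    (Finset.card_union_le _ _).trans (Nat.add_le_add le_rfl Finset.card_image_le)
  -- the map to `G ⧸ N`
  set π : G →* G ⧸ N := QuotientGroup.mk' N with hπ
  have hlift : FreeGroup.lift (fun i : α => π (e (PresentedGroup.of i)))
      = (π.comp e.toMonoidHom).comp (PresentedGroup.mk (↑rels : Set (FreeGroup α))) := by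
    ext i
    simp only [MonoidHom.comp_apply, FreeGroup.lift_apply_of]
    rfl
  have hφ : ∀ r ∈ (↑rels' : Set (FreeGroup α)),
      FreeGroup.lift (fun i : α => π (e (PresentedGroup.of i))) r = 1 := by
    intro r hr
    rw [Finset.mem_coe, hrels', Finset.mem_union, Finset.mem_image] at hr
    rw [hlift]
    simp only [MonoidHom.comp_apply]
    rcases hr with hr | ⟨s, hs, rfl⟩
    · rw [PresentedGroup.one_of_mem (Finset.mem_coe.mpr hr), map_one, map_one]
    · change π (e (PresentedGroup.mk _ (v s))) = 1
      rw [hv s, hπ, QuotientGroup.mk'_apply, QuotientGroup.eq_one_iff, ← hS]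
      exact Subgroup.subset_normalClosure (Finset.mem_coe.mpr hs)
  set φ : PresentedGroup (↑rels' : Set (FreeGroup α)) →* G ⧸ N := PresentedGroup.toGroup hφ with hφdef
  -- the map `θ` induced by the identity on generators
  have hθ : ∀ r ∈ (↑rels : Set (FreeGroup α)),
      FreeGroup.lift (fun i : α => (PresentedGroup.of i : PresentedGroup (↑rels' : Set (FreeGroup α)))) r = 1 := by
    intro r hr
    have h1 : FreeGroup.lift (fun i : α => (PresentedGroup.of i : PresentedGroup (↑rels' : Set (FreeGroup α))))
        = PresentedGroup.mk (↑rels' : Set (FreeGroup α)) := by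
      ext i
      simp [PresentedGroup.of]
    rw [h1]
    apply PresentedGroup.one_of_mem
    rw [Finset.mem_coe, hrels', Finset.mem_union]
    exact Or.inl (Finset.mem_coe.mp hr)
  set θ : PresentedGroup (↑rels : Set (FreeGroup α)) →* PresentedGroup (↑rels' : Set (FreeGroup α)) :=
    PresentedGroup.toGroup hθ with hθdef
  have hθmk : ∀ x : FreeGroup α, θ (PresentedGroup.mk _ x) = PresentedGroup.mk _ x := by
    intro x
    have : θ.comp (PresentedGroup.mk (↑rels : Set (FreeGroup α)))
        = PresentedGroup.mk (↑rels' : Set (FreeGroup α)) := by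
      ext i
      simp only [MonoidHom.comp_apply]
      exact PresentedGroup.toGroup.of hθ
    exact DFunLike.congr_fun this x
  -- the map back
  have hker : N ≤ (θ.comp e.symm.toMonoidHom).ker := by
    rw [← hS]
    apply Subgroup.normalClosure_le_normal
    intro s hs
    rw [SetLike.mem_coe, MonoidHom.mem_ker, MonoidHom.comp_apply]
    change θ (e.symm s) = 1
    rw [← hv s, MulEquiv.symm_apply_apply, hθmk]
    apply PresentedGroup.one_of_mem
    rw [Finset.mem_coe, hrels', Finset.mem_union]
    exact Or.inr (Finset.mem_image_of_mem _ (Finset.mem_coe.mp hs))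
  set χ : G ⧸ N →* PresentedGroup (↑rels' : Set (FreeGroup α)) :=
    QuotientGroup.lift N (θ.comp e.symm.toMonoidHom) hker with hχ
  have hφof : ∀ i : α, φ (PresentedGroup.of i) = π (e (PresentedGroup.of i)) :=
    fun i => PresentedGroup.toGroup.of hφ
  have hχφ : ∀ p', χ (φ p') = p' := by
    intro p'
    have : χ.comp φ = MonoidHom.id _ := by
      apply PresentedGroup.ext
      intro i
      simp only [MonoidHom.comp_apply, MonoidHom.id_apply]
      rw [hφof, hχ, hπ, QuotientGroup.mk'_apply, QuotientGroup.lift_mk, MonoidHom.comp_apply]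
      change θ (e.symm (e _)) = _
      rw [MulEquiv.symm_apply_apply]
      exact PresentedGroup.toGroup.of hθ
    exact DFunLike.congr_fun this p'
  have hφθ : ∀ p, φ (θ p) = π (e p) := by
    intro p
    have : φ.comp θ = π.comp e.toMonoidHom := by
      apply PresentedGroup.ext
      intro i
      simp only [MonoidHom.comp_apply]
      have h1 : θ (PresentedGroup.of i) = PresentedGroup.of i := PresentedGroup.toGroup.of hθ
      rw [h1, hφof]
      rfl
    exact DFunLike.congr_fun this p
  have hbij : Function.Bijective φ := by
    constructor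
    · intro p q hpq
      rw [← hχφ p, ← hχφ q, hpq]
    · intro y
      obtain ⟨x, rfl⟩ := QuotientGroup.mk_surjective y
      exact ⟨θ (e.symm x), by rw [hφθ, MulEquiv.apply_symm_apply]; rfl⟩
  exact ⟨rels', MulEquiv.ofBijective φ hbij, hcard, hφof⟩

/-- (T2) if `N` is the normal closure of a finite set `S`, then `G ⧸ N` has a presentation on the same generators
with at most `m + |S|` relators -/
theorem exists_presentation_quotient {α : Type*} {G : Type*} [Group G]
    (rels : Finset (FreeGroup α)) (e : PresentedGroup (↑rels : Set (FreeGroup α)) ≃* G)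
    (N : Subgroup G) [N.Normal] (S : Finset G) (hS : Subgroup.normalClosure (S : Set G) = N) :
    ∃ rels' : Finset (FreeGroup α), rels'.card ≤ rels.card + S.card ∧
      Nonempty (PresentedGroup (↑rels' : Set (FreeGroup α)) ≃* G ⧸ N) := by
  obtain ⟨rels', f, hcard, -⟩ := exists_presentation_quotient' rels e N S hS
  exact ⟨rels', hcard, ⟨f⟩⟩

/-- (T3) a cyclic centre can be killed by one relator -/
theorem exists_presentation_quotient_center {α : Type*} {G : Type*} [Group G]
    (rels : Finset (FreeGroup α)) (e : PresentedGroup (↑rels : Set (FreeGroup α)) ≃* G)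
    [hc : IsCyclic (Subgroup.center G)] :
    ∃ rels' : Finset (FreeGroup α), rels'.card ≤ rels.card + 1 ∧
      Nonempty (PresentedGroup (↑rels' : Set (FreeGroup α)) ≃* G ⧸ Subgroup.center G) := by
  classical
  obtain ⟨z, hz⟩ := hc.exists_generator
  have hS : Subgroup.normalClosure (({(z : G)} : Finset G) : Set G) = Subgroup.center G := by
    apply le_antisymm
    · apply Subgroup.normalClosure_le_normal
      intro s hs
      rw [Finset.coe_singleton, Set.mem_singleton_iff] at hs
      rw [hs]
      exact z.2
    · intro x hx
      obtain ⟨k, hk⟩ := Subgroup.mem_zpowers_iff.mp (hz ⟨x, hx⟩)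
      have hk' : (z : G) ^ k = x := by
        have := congrArg Subtype.val hk
        simpa using this
      rw [← hk']
      apply Subgroup.zpow_mem
      apply Subgroup.subset_normalClosure
      simp
  obtain ⟨rels', hcard, hne⟩ := exists_presentation_quotient rels e (Subgroup.center G) {(z : G)} hS
  exact ⟨rels', by simpa using hcard, hne⟩

/-- (T4) the centre of `SL_n(F)` is cyclic -/
theorem isCyclic_center_sl (n : Type*) [Fintype n] [DecidableEq n] (F : Type*) [Field F] :
    IsCyclic (Subgroup.center (Matrix.SpecialLinearGroup n F)) :=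
  haveI : NeZero (max (Fintype.card n) 1) := ⟨by have := le_max_right (Fintype.card n) 1; omega⟩
  isCyclic_of_injective (Matrix.SpecialLinearGroup.center_equiv_rootsOfUnity (n := n) (R := F)).toMonoidHom
    (Matrix.SpecialLinearGroup.center_equiv_rootsOfUnity (n := n) (R := F)).injective

/-- (T5) from a presentation of `SL_n(F)` with `m` relators and a generating family `g : β → SL_n(F)`: a presentation of
`PSL_n(F)` on the generators `β` with at most `m + |β| + 1` relators -/
theorem exists_psl_presentation {α β : Type*} [Fintype β] (n : Type*) [Fintype n] [DecidableEq n]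
    (F : Type*) [Field F] (rels : Finset (FreeGroup α))
    (h : Nonempty (PresentedGroup (↑rels : Set (FreeGroup α)) ≃* Matrix.SpecialLinearGroup n F))
    (g : β → Matrix.SpecialLinearGroup n F) (hg : Subgroup.closure (Set.range g) = ⊤) :
    ∃ rels' : Finset (FreeGroup β), rels'.card ≤ rels.card + Fintype.card β + 1 ∧
      Nonempty (PresentedGroup (↑rels' : Set (FreeGroup β)) ≃* Matrix.ProjectiveSpecialLinearGroup n F) := by
  obtain ⟨e⟩ := h
  obtain ⟨rels1, h1, ⟨e1⟩⟩ := exists_presentation_of_generators rels e g hg
  have := isCyclic_center_sl n F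
  obtain ⟨rels2, h2, ⟨e2⟩⟩ := exists_presentation_quotient_center rels1 e1
  exact ⟨rels2, by omega, ⟨e2⟩⟩

/-- (T5) for two generators `a, b` -/
theorem exists_psl_presentation_two {α : Type*} (n : Type*) [Fintype n] [DecidableEq n]
    (F : Type*) [Field F] (rels : Finset (FreeGroup α))
    (h : Nonempty (PresentedGroup (↑rels : Set (FreeGroup α)) ≃* Matrix.SpecialLinearGroup n F))
    (a b : Matrix.SpecialLinearGroup n F)
    (hab : Subgroup.closure ({a, b} : Set (Matrix.SpecialLinearGroup n F)) = ⊤) :
    ∃ rels' : Finset (FreeGroup (Fin 2)), rels'.card ≤ rels.card + 3 ∧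
      Nonempty (PresentedGroup (↑rels' : Set (FreeGroup (Fin 2))) ≃* Matrix.ProjectiveSpecialLinearGroup n F) := by
  have hg : Subgroup.closure (Set.range (![a, b] : Fin 2 → Matrix.SpecialLinearGroup n F)) = ⊤ := by
    have : Set.range (![a, b] : Fin 2 → Matrix.SpecialLinearGroup n F) = {a, b} := by
      ext x
      simp only [Set.mem_range, Set.mem_insert_iff, Set.mem_singleton_iff]
      constructor
      · rintro ⟨i, rfl⟩
        fin_cases i
        · left; rfl
        · right; rfl
      · rintro (rfl | rfl)
        · exact ⟨0, rfl⟩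
        · exact ⟨1, rfl⟩
    rw [this, hab]
  obtain ⟨rels', h', hne⟩ := exists_psl_presentation n F rels h ![a, b] hg
  exact ⟨rels', by simpa using h', hne⟩

/-- (T1) for two generators `a, b` -/
theorem exists_presentation_two {α : Type*} {G : Type*} [Group G] (rels : Finset (FreeGroup α))
    (h : Nonempty (PresentedGroup (↑rels : Set (FreeGroup α)) ≃* G)) (a b : G)
    (hab : Subgroup.closure ({a, b} : Set G) = ⊤) :
    ∃ rels' : Finset (FreeGroup (Fin 2)), rels'.card ≤ rels.card + 2 ∧
      Nonempty (PresentedGroup (↑rels' : Set (FreeGroup (Fin 2))) ≃* G) := by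
  have hg : Subgroup.closure (Set.range (![a, b] : Fin 2 → G)) = ⊤ := by
    have : Set.range (![a, b] : Fin 2 → G) = {a, b} := by
      ext x
      simp only [Set.mem_range, Set.mem_insert_iff, Set.mem_singleton_iff]
      constructor
      · rintro ⟨i, rfl⟩
        fin_cases i
        · left; rfl
        · right; rfl
      · rintro (rfl | rfl)
        · exact ⟨0, rfl⟩
        · exact ⟨1, rfl⟩
    rw [this, hab]
  obtain ⟨e⟩ := h
  obtain ⟨rels', h', hne⟩ := exists_presentation_of_generators rels e ![a, b] hg
  exact ⟨rels', by simpa using h', hne⟩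

end Cfsg.Agent.Helper9.PresTietze
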