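import Mathlib
import Cfsg.Agent.Helper9.PresTietze
import Cfsg.Agent.Helper9.PresCoprod
import Cfsg.Agent.Helper9.SpGen.Final
import Cfsg.Agent.Helper9.Sp4P.Final
import Cfsg.Agent.Helper97.StCMult

/-!
# From a presentation of `Sp_{2m}(F)` to the conclusion of S2292 (helper9, block (4b) of S2292)

* `psp_presentation_two_of_sp`: a presentation of `Sp_{2m}(F)` with at most `77` relators (on any generators) gives
  a presentation of `PSp_{2m}(F)` on two generators with at most `80` relators;
* `sp4_presentation_31`: `Sp₄(F)` has a presentation on six generators with at most `31` relators;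
* `s2292_of_sp3`: the conclusion of S2292 from presentations of `Sp_{2m}(F)`, `m ≥ 3`, with at most `77` relators;
* `sp_presentation_of_core`: `Sp_{2m}(F)` is presented with at most `77` relators if it is generated by images of
  `Sp₄(F)` and of a group `H₂` with a presentation with at most `28` relators, subject to at most `18` cross
  relators (a list in the free product), and is "injectively recognised" by these data.
-/

set_option autoImplicit false
set_option linter.style.haveILetI false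

namespace Cfsg.Agent.Helper9.PresPSp

open Cfsg.Agent.Helper9.PresTietze

universe u

/-- from a presentation of `Sp_{2m}(F)` with `r` relators: `Sp_{2m}(F)` on two generators with `r + 2` relators -/
theorem sp_presentation_two_of_sp {F : Type u} [Field F] [Fintype F] (m : ℕ) (hm : 2 ≤ m)
    (h22 : ¬ (m = 2 ∧ Fintype.card F = 2)) {α : Type*} (rels : Finset (FreeGroup α))
    (h : Nonempty (PresentedGroup (↑rels : Set (FreeGroup α)) ≃* Matrix.symplecticGroup (Fin m) F)) :
    ∃ (rels' : Finset (FreeGroup (Fin 2))), rels'.card ≤ rels.card + 2 ∧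
      Nonempty (PresentedGroup (↑rels' : Set (FreeGroup (Fin 2))) ≃*
        Matrix.symplecticGroup (Fin m) F) := by
  have hK : m = 2 → 2 < Fintype.card F := by
    intro h2
    have h1 : 1 < Fintype.card F := Fintype.one_lt_card
    have h3 : Fintype.card F ≠ 2 := fun h4 => h22 ⟨h2, h4⟩
    omega
  obtain ⟨a, b, hab⟩ := Cfsg.Agent.Helper9.SpGen.sp_two_generated (K := F) m hm hK
  exact exists_presentation_two rels h a b hab

/-- from a presentation of `Sp_{2m}(F)` with `r` relators: `PSp_{2m}(F)` on two generators with `r + 3` relators -/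
theorem psp_presentation_two_of_sp' {F : Type u} [Field F] [Fintype F] (m : ℕ) (hm : 2 ≤ m)
    (h22 : ¬ (m = 2 ∧ Fintype.card F = 2)) {α : Type*} (rels : Finset (FreeGroup α))
    (h : Nonempty (PresentedGroup (↑rels : Set (FreeGroup α)) ≃* Matrix.symplecticGroup (Fin m) F)) :
    ∃ (rels' : Finset (FreeGroup (Fin 2))), rels'.card ≤ rels.card + 3 ∧
      Nonempty (PresentedGroup (↑rels' : Set (FreeGroup (Fin 2))) ≃* Cfsg.PSp m F) := by
  obtain ⟨rels₂, hcard₂, ⟨e₂⟩⟩ := sp_presentation_two_of_sp m hm h22 rels h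
  haveI : IsCyclic (Subgroup.center (Matrix.symplecticGroup (Fin m) F)) :=
    Cfsg.Agent.Helper97.StCMult.isCyclic_center_sp (F := F) m (by omega)
  obtain ⟨rels₃, hcard₃, he₃⟩ := exists_presentation_quotient_center rels₂ e₂
  exact ⟨rels₃, by omega, he₃⟩

/-- a presentation of `Sp_{2m}(F)` with at most `77` relators gives the conclusion of S2292 -/
theorem psp_presentation_two_of_sp {F : Type u} [Field F] [Fintype F] (m : ℕ) (hm : 2 ≤ m)
    (h22 : ¬ (m = 2 ∧ Fintype.card F = 2))
    (hsp : ∃ (α : Type) (rels : Finset (FreeGroup α)), rels.card ≤ 77 ∧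
      Nonempty (PresentedGroup (↑rels : Set (FreeGroup α)) ≃* Matrix.symplecticGroup (Fin m) F)) :
    ∃ rels : Finset (FreeGroup (Fin 2)), rels.card ≤ 80 ∧
      Nonempty (PresentedGroup (↑rels : Set (FreeGroup (Fin 2))) ≃* Cfsg.PSp m F) := by
  obtain ⟨α, rels, hcard, h⟩ := hsp
  obtain ⟨rels', hcard', h'⟩ := psp_presentation_two_of_sp' m hm h22 rels h
  exact ⟨rels', by omega, h'⟩

/-- `Sp₄(F)` has a presentation on six generators with at most `31` relators (the actual count in S2293) -/
theorem sp4_presentation_31 (F : Type u) [Field F] [Fintype F] :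
    ∃ rels : Finset (FreeGroup (Fin 6)), rels.card ≤ 31 ∧
      Nonempty (PresentedGroup (↑rels : Set (FreeGroup (Fin 6))) ≃*
        Matrix.symplecticGroup (Fin 2) F) := by
  obtain ⟨d, hd⟩ := Cfsg.Agent.Helper9.Sp4P.exists_sl2Pres F
  exact ⟨Cfsg.Agent.Helper9.Sp4P.rels6 d, Cfsg.Agent.Helper9.Sp4P.card_rels6 d hd,
    ⟨MulEquiv.ofBijective (Cfsg.Agent.Helper9.Sp4P.phi d) (Cfsg.Agent.Helper9.Sp4P.phi_bijective d)⟩⟩

/-- **the conclusion of S2292** from presentations of `Sp_{2m}(F)`, `m ≥ 3`, with at most `77` relators -/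
theorem s2292_of_sp3 {F : Type u} [Field F] [Fintype F] (m : ℕ) (hm : 2 ≤ m)
    (h22 : ¬ (m = 2 ∧ Fintype.card F = 2))
    (hsp : 3 ≤ m → ∃ (α : Type) (rels : Finset (FreeGroup α)), rels.card ≤ 77 ∧
      Nonempty (PresentedGroup (↑rels : Set (FreeGroup α)) ≃* Matrix.symplecticGroup (Fin m) F)) :
    ∃ rels : Finset (FreeGroup (Fin 2)), rels.card ≤ 80 ∧
      Nonempty (PresentedGroup (↑rels : Set (FreeGroup (Fin 2))) ≃* Cfsg.PSp m F) := by
  rcases Nat.lt_or_ge m 3 with h3 | h3
  · have h2 : m = 2 := by omega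
    subst h2
    obtain ⟨rels, hcard, h⟩ := sp4_presentation_31 F
    exact psp_presentation_two_of_sp 2 hm h22 ⟨Fin 6, rels, by omega, h⟩
  · exact psp_presentation_two_of_sp m hm h22 (hsp h3)

/-- **block (4a) of S2292**: `Sp_{2m}(F)` from `Sp₄(F)` (six generators, `≤ 31` relators), a group `H₂` presented
with `≤ 28` relators and `≤ 18` cross relators in the free product `Sp₄(F) ∗ H₂`, given the recognition `hcore`. -/
theorem sp_presentation_of_core {F : Type u} [Field F] [Fintype F] (m : ℕ) {k : ℕ}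
    {H₂ : Type*} [Group H₂] (rels₂ : Finset (FreeGroup (Fin k)))
    (e₂ : PresentedGroup (↑rels₂ : Set (FreeGroup (Fin k))) ≃* H₂) (hk : rels₂.card ≤ 28)
    (cw : List (Monoid.Coprod (Matrix.symplecticGroup (Fin 2) F) H₂)) (hlen : cw.length ≤ 18)
    (j₁ : Matrix.symplecticGroup (Fin 2) F →* Matrix.symplecticGroup (Fin m) F)
    (j₂ : H₂ →* Matrix.symplecticGroup (Fin m) F)
    (hmodel : ∀ x ∈ cw, Monoid.Coprod.lift j₁ j₂ x = 1) (hsurj : j₁.range ⊔ j₂.range = ⊤)
    (hcore : ∀ (D : Type) [Group D] (a₁ : Matrix.symplecticGroup (Fin 2) F →* D) (a₂ : H₂ →* D),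
      a₁.range ⊔ a₂.range = ⊤ → (∀ x ∈ cw, Monoid.Coprod.lift a₁ a₂ x = 1) →
      ∀ φ : D →* Matrix.symplecticGroup (Fin m) F, φ.comp a₁ = j₁ → φ.comp a₂ = j₂ →
      Function.Injective φ) :
    ∃ (α : Type) (rels : Finset (FreeGroup α)), rels.card ≤ 77 ∧
      Nonempty (PresentedGroup (↑rels : Set (FreeGroup α)) ≃* Matrix.symplecticGroup (Fin m) F) := by
  obtain ⟨rels₁, hcard₁, ⟨e₁⟩⟩ := sp4_presentation_31 F
  obtain ⟨rels, hcard, h⟩ := Cfsg.Agent.Helper9.PresCoprod.presentation_of_core rels₁ e₁ rels₂ e₂ cw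
    j₁ j₂ hmodel hsurj hcore
  exact ⟨Fin (6 + k), rels, by omega, h⟩

end Cfsg.Agent.Helper9.PresPSp
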