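import Cfsg.Agent.Helper1.SL3P.Main

/-!
helper9, for S2290 (n = 3): `SL₃(F)` has a presentation with 4 generators and at most 15 relators for EVERY finite field
(also `|F| = 9`, which S2287 excludes): for odd `q` use the six basic cross relators (`stRel_of_crossB` needs no hypothesis on
`q ≠ 4`) instead of the five of `CrossO`.  Everything is helper1's `SL3P` library; this file only re-assembles.
-/

set_option autoImplicit false

namespace Cfsg.Agent.Helper9.SL3All

open Cfsg.Agent.Helper1.SL3P

universe u

/-- `SL₃(F)` for every finite field `F`: 4 generators, at most 15 relators -/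
theorem sl3_presentation_all {F : Type u} [Field F] [Fintype F] :
    ∃ rels : Finset (FreeGroup (Fin 4)), rels.card ≤ 15 ∧
      Nonempty (PresentedGroup (↑rels : Set (FreeGroup (Fin 4))) ≃*
        Matrix.SpecialLinearGroup (Fin 3) F) := by
  by_cases hq9 : Fintype.card F ≠ 9
  · obtain ⟨rels, h, hne⟩ := sl3_presentation (F := F) hq9
    exact ⟨rels, by omega, hne⟩
  · have hq9' : Fintype.card F = 9 := not_not.mp hq9
    have h4 : Fintype.card F ≠ 4 := by omega
    obtain ⟨d, hd⟩ := Cfsg.Agent.Helper9.Sp4P.exists_sl2Pres F
    let cw := cwB d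
    have hmodel : ∀ r ∈ cw, FreeGroup.lift (gens4 d) r = 1 := model_cwB d
    have hB : CrossB (homA d cw) (cP d cw) d.z := crossB_P d cw (fun r hr => hr)
    refine ⟨rels4 d cw, ?_, ⟨MulEquiv.ofBijective (phi d cw hmodel)
      (phi_bijective d cw hmodel hB.c3 hB.cw (stRel_of_crossB d.hz h4 hB))⟩⟩
    have h1 := card_rels4 d cw
    have h3 : cw.length = 6 := by
      simp only [cw, cwB, length_wordsB]
    omega

end Cfsg.Agent.Helper9.SL3All
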