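import Cfsg.Agent.Helper9.PresPSLTwo
import Cfsg.Agent.Helper9.SL3All

/-!
helper9, for helper64's S2290 block (C5): the cases `n = 2, 3` are closed here, so S2290 only needs presentations of `SL_n(F)`
for `n ≥ 4` with at most `77` relators (on any generators).
-/

set_option autoImplicit false

namespace Cfsg.Agent.Helper9.PresTietze

/-- `PSL₃(F)`: 2 generators, at most 18 relators, every finite field -/
theorem psl3_presentation_two {F : Type*} [Field F] [Fintype F] :
    ∃ rels : Finset (FreeGroup (Fin 2)), rels.card ≤ 18 ∧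
      Nonempty (PresentedGroup (↑rels : Set (FreeGroup (Fin 2))) ≃*
        Matrix.ProjectiveSpecialLinearGroup (Fin 3) F) := by
  obtain ⟨rels, hc, hne⟩ := Cfsg.Agent.Helper9.SL3All.sl3_presentation_all (F := F)
  obtain ⟨rels', hc', hne'⟩ := psl_presentation_two_of_sl (F := F) 3 le_rfl rels hne
  exact ⟨rels', by omega, hne'⟩

/-- `SL₃(F)`: 2 generators, at most 17 relators, every finite field -/
theorem sl3_presentation_two {F : Type*} [Field F] [Fintype F] :
    ∃ rels : Finset (FreeGroup (Fin 2)), rels.card ≤ 17 ∧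
      Nonempty (PresentedGroup (↑rels : Set (FreeGroup (Fin 2))) ≃*
        Matrix.SpecialLinearGroup (Fin 3) F) := by
  obtain ⟨rels, hc, hne⟩ := Cfsg.Agent.Helper9.SL3All.sl3_presentation_all (F := F)
  obtain ⟨rels', hc', hne'⟩ := sl_presentation_two_of_sl (F := F) 3 le_rfl rels hne
  exact ⟨rels', by omega, hne'⟩

/-- the final step of S2290: it suffices to present `SL_n(F)`, `n ≥ 4`, with at most `77` relators on any generators -/
theorem s2290_of_sl4 {F : Type*} [Field F] [Fintype F] (n : ℕ) (hn : 2 ≤ n) (h2 : n = 2 → 4 ≤ Fintype.card F)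
    (hsl : 4 ≤ n → ∃ (α : Type) (rels : Finset (FreeGroup α)), rels.card ≤ 77 ∧
      Nonempty (PresentedGroup (↑rels : Set (FreeGroup α)) ≃* Matrix.SpecialLinearGroup (Fin n) F)) :
    ∃ rels : Finset (FreeGroup (Fin 2)), rels.card ≤ 80 ∧
      Nonempty (PresentedGroup (↑rels : Set (FreeGroup (Fin 2))) ≃*
        Matrix.ProjectiveSpecialLinearGroup (Fin n) F) := by
  apply s2290_of_sl n hn h2
  intro h3
  rcases Nat.eq_or_lt_of_le h3 with h | h
  · subst h
    obtain ⟨rels, hc, hne⟩ := Cfsg.Agent.Helper9.SL3All.sl3_presentation_all (F := F)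
    exact ⟨Fin 4, rels, by omega, hne⟩
  · exact hsl h

end Cfsg.Agent.Helper9.PresTietze
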