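import Mathlib
import Cfsg.Agent.Helper46.DkMat

/-!
helper9: `SL₂(F)` is generated by two elements, for every finite field with at least `4` elements
(written for helper64's S2290, block (C5), case `n = 2`).

The pair: `h = diag(λ, λ⁻¹)` with `λ` a generator of `Fˣ`, and `y = !![1, -1; 1, 0]`.  Then `h * (y h y⁻¹) = u(λ² - 1)` is a
non-trivial upper unitriangular matrix; conjugating by powers of `h` and multiplying gives `u(s (a² + b²))`, i.e. all of `U`
(every element of a finite field is a sum of two squares); `u(-1) * y` is the Weyl element, so the lower unitriangular matrices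
are there too.
-/

set_option autoImplicit false
set_option linter.unusedSimpArgs false

namespace Cfsg.Agent.Helper9.SL2TwoGen

open Matrix Cfsg.Agent.Helper46.Dk

variable {F : Type*} [Field F]

local notation "SL2" => Matrix.SpecialLinearGroup (Fin 2) F

/-- a subgroup containing all upper and all lower unitriangular matrices is everything -/
theorem eq_top_of_uU_vV (L : Subgroup SL2) (hA : ∀ a : F, uU a ∈ L) (hB : ∀ b : F, vV b ∈ L) : L = ⊤ := by
  have key : ∀ g : SL2, g.1 1 0 ≠ 0 → g ∈ L := by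
    intro g hq
    have hd := det' g
    have heq : g = uU ((g.1 0 0 - 1) / g.1 1 0) * vV (g.1 1 0) * uU ((g.1 1 1 - 1) / g.1 1 0) := by
      apply ext'
      · rw [mul_00, mul_00]; simp only [uU, vV, mk4_00, mk4_01, mk4_10, mk4_11]; field_simp; ring
      · rw [mul_01, mul_00, mul_01]; simp only [uU, vV, mk4_00, mk4_01, mk4_10, mk4_11]
        field_simp
        linear_combination (-1 : F) * hd
      · rw [mul_10, mul_10]; simp only [uU, vV, mk4_00, mk4_01, mk4_10, mk4_11]; ring
      · rw [mul_11, mul_10, mul_11]; simp only [uU, vV, mk4_00, mk4_01, mk4_10, mk4_11]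
        field_simp; ring
    rw [heq]
    exact mul_mem (mul_mem (hA _) (hB _)) (hA _)
  rw [eq_top_iff]
  intro g _
  have hd := det' g
  by_cases hq : g.1 1 0 = 0
  · have hp : g.1 0 0 ≠ 0 := by
      intro hp; rw [hp, hq] at hd; simp at hd
    have hg' : vV 1 * g ∈ L := by
      apply key
      rw [mul_10]; simpa [vV, hq] using hp
    have hinv : (vV (1 : F) : SL2)⁻¹ ∈ L := inv_mem (hB 1)
    have : g = (vV (1 : F) : SL2)⁻¹ * (vV 1 * g) := by group
    rw [this]
    exact mul_mem hinv hg'
  · exact key g hq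

/-- every element of a finite field is a sum of two squares -/
theorem exists_sq_add_sq [Fintype F] (x : F) : ∃ a b : F, a ^ 2 + b ^ 2 = x := by
  by_cases h2 : ringChar F = 2
  · obtain ⟨a, ha⟩ := FiniteField.isSquare_of_char_two h2 x
    exact ⟨a, 0, by rw [ha]; ring⟩
  · have hodd := FiniteField.odd_card_of_char_ne_two h2
    obtain ⟨a, b, hab⟩ := FiniteField.exists_root_sum_quadratic (R := F)
      (f := (Polynomial.X ^ 2 : Polynomial F)) (g := (Polynomial.X ^ 2 - Polynomial.C x : Polynomial F))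
      (Polynomial.degree_X_pow 2) (Polynomial.degree_X_pow_sub_C (by norm_num) x) hodd
    refine ⟨a, b, ?_⟩
    simp only [Polynomial.eval_pow, Polynomial.eval_X, Polynomial.eval_sub, Polynomial.eval_C] at hab
    linear_combination hab

/-- `h u(s) h⁻¹ = u(c² s)` for `h = diag(c, c⁻¹)` -/
theorem dD_conj_uU (c : Fˣ) (s : F) : dD c * uU s * (dD c)⁻¹ = uU ((c : F) ^ 2 * s) := by
  have hc : (c : F) * ((c⁻¹ : Fˣ) : F) = 1 := by simp
  apply ext'
  · rw [conj_00]; simp only [uU, dD, mk4_00, mk4_01, mk4_10, mk4_11]; linear_combination hc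
  · rw [conj_01]; simp only [uU, dD, mk4_00, mk4_01, mk4_10, mk4_11]; ring
  · rw [conj_10]; simp only [uU, dD, mk4_00, mk4_01, mk4_10, mk4_11]; ring
  · rw [conj_11]; simp only [uU, dD, mk4_00, mk4_01, mk4_10, mk4_11]; linear_combination hc

theorem uU_add (a b : F) : (uU a : SL2) * uU b = uU (a + b) := by
  apply ext' <;> simp [mul_00, mul_01, mul_10, mul_11, uU, add_comm]

theorem uU_zero' : (uU 0 : SL2) = 1 := by
  apply ext' <;> simp [uU]

theorem dD_mul' (a b : Fˣ) : (dD (a * b) : SL2) = dD a * dD b := by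
  apply ext' <;> simp [mul_00, mul_01, mul_10, mul_11, dD, mul_comm]

theorem dD_one' : (dD (1 : Fˣ) : SL2) = 1 := by
  apply ext' <;> simp [dD]

/-- `diag(c, c⁻¹)` as a homomorphism -/
def dDHom : Fˣ →* SL2 where
  toFun := dD
  map_one' := dD_one'
  map_mul' := dD_mul'

/-- `SL₂(F)` is generated by two elements (`|F| ≥ 4`) -/
theorem sl2_two_generated [Fintype F] (hq : 4 ≤ Fintype.card F) :
    ∃ a b : SL2, Subgroup.closure ({a, b} : Set SL2) = ⊤ := by
  classical
  obtain ⟨lam, hlam⟩ := IsCyclic.exists_generator (α := Fˣ)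
  have hord : orderOf lam = Fintype.card F - 1 := by
    rw [orderOf_eq_card_of_forall_mem_zpowers hlam, Nat.card_eq_fintype_card, Fintype.card_units]
  have hlam2 : (lam : F) ^ 2 ≠ 1 := by
    intro h
    have h' : lam ^ 2 = 1 := by
      apply Units.ext
      rw [Units.val_pow_eq_pow_val, h, Units.val_one]
    have h3 := orderOf_dvd_of_pow_eq_one h'
    rw [hord] at h3
    have := Nat.le_of_dvd (by norm_num) h3
    omega
  obtain ⟨h, hh⟩ : ∃ h : SL2, h = dD lam := ⟨_, rfl⟩
  obtain ⟨y, hy⟩ : ∃ y : SL2, y = mk4 1 (-1) 1 0 (by ring) := ⟨_, rfl⟩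
  refine ⟨h, y, ?_⟩
  obtain ⟨L, hL⟩ : ∃ L : Subgroup SL2, L = Subgroup.closure ({h, y} : Set SL2) := ⟨_, rfl⟩
  rw [← hL]
  have hhL : h ∈ L := by rw [hL]; exact Subgroup.subset_closure (by simp)
  have hyL : y ∈ L := by rw [hL]; exact Subgroup.subset_closure (by simp)
  have hlc : (lam : F) * ((lam⁻¹ : Fˣ) : F) = 1 := by simp
  -- a non-trivial unipotent element
  have h1 : uU ((lam : F) ^ 2 - 1) ∈ L := by
    have : uU ((lam : F) ^ 2 - 1) = h * (y * h * y⁻¹) := by
      rw [hh, hy]
      apply ext'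
      · rw [mul_00, conj_00, conj_10]; simp only [uU, dD, mk4_00, mk4_01, mk4_10, mk4_11]
        linear_combination (-1 : F) * hlc
      · rw [mul_01, conj_01, conj_11]; simp only [uU, dD, mk4_00, mk4_01, mk4_10, mk4_11]
        linear_combination (1 : F) * hlc
      · rw [mul_10, conj_00, conj_10]; simp only [uU, dD, mk4_00, mk4_01, mk4_10, mk4_11]
        ring
      · rw [mul_11, conj_01, conj_11]; simp only [uU, dD, mk4_00, mk4_01, mk4_10, mk4_11]
        linear_combination (-1 : F) * hlc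
    rw [this]
    exact mul_mem hhL (mul_mem (mul_mem hyL hhL) (inv_mem hyL))
  -- the torus elements
  have hdL : ∀ c : Fˣ, dD c ∈ L := by
    intro c
    obtain ⟨k, hk⟩ := Subgroup.mem_zpowers_iff.mp (hlam c)
    have : (dD c : SL2) = h ^ k := by
      rw [hh, ← hk]
      exact map_zpow (dDHom (F := F)) lam k
    rw [this]
    exact Subgroup.zpow_mem L hhL k
  have hsq : ∀ c s : F, uU s ∈ L → uU (c ^ 2 * s) ∈ L := by
    intro c s hs
    by_cases hc : c = 0
    · subst hc
      have : ((0 : F) ^ 2 * s) = 0 := by ring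
      rw [this, uU_zero']
      exact one_mem L
    · have := dD_conj_uU (Units.mk0 c hc) s
      rw [Units.val_mk0] at this
      rw [← this]
      exact mul_mem (mul_mem (hdL _) hs) (inv_mem (hdL _))
  have hs1 : (lam : F) ^ 2 - 1 ≠ 0 := sub_ne_zero.mpr hlam2
  have hU : ∀ x : F, uU x ∈ L := by
    intro x
    obtain ⟨a, b, hab⟩ := exists_sq_add_sq (x / ((lam : F) ^ 2 - 1))
    have hx : x = a ^ 2 * ((lam : F) ^ 2 - 1) + b ^ 2 * ((lam : F) ^ 2 - 1) := by
      rw [← add_mul, hab, div_mul_cancel₀ _ hs1]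
    rw [hx, ← uU_add]
    exact mul_mem (hsq a _ h1) (hsq b _ h1)
  -- the Weyl element
  have ht : mk4 (0 : F) (-1) 1 0 (by ring) ∈ L := by
    have : mk4 (0 : F) (-1) 1 0 (by ring) = uU (-1) * y := by
      rw [hy]
      apply ext'
      · rw [mul_00]; simp only [uU, mk4_00, mk4_01, mk4_10, mk4_11]; ring
      · rw [mul_01]; simp only [uU, mk4_00, mk4_01, mk4_10, mk4_11]; ring
      · rw [mul_10]; simp only [uU, mk4_00, mk4_01, mk4_10, mk4_11]; ring
      · rw [mul_11]; simp only [uU, mk4_00, mk4_01, mk4_10, mk4_11]; ring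
    rw [this]
    exact mul_mem (hU _) hyL
  have hV : ∀ b : F, vV b ∈ L := by
    intro b
    have : vV b = mk4 (0 : F) (-1) 1 0 (by ring) * uU (-b) * (mk4 (0 : F) (-1) 1 0 (by ring))⁻¹ := by
      apply ext'
      · rw [conj_00]; simp only [uU, vV, mk4_00, mk4_01, mk4_10, mk4_11]; ring
      · rw [conj_01]; simp only [uU, vV, mk4_00, mk4_01, mk4_10, mk4_11]; ring
      · rw [conj_10]; simp only [uU, vV, mk4_00, mk4_01, mk4_10, mk4_11]; ring
      · rw [conj_11]; simp only [uU, vV, mk4_00, mk4_01, mk4_10, mk4_11]; ring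
    rw [this]
    exact mul_mem (mul_mem ht (hU _)) (inv_mem ht)
  exact eq_top_of_uU_vV L hU hV

end Cfsg.Agent.Helper9.SL2TwoGen
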