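import Cfsg.Agent.Helper9.PresTietze
import Cfsg.Agent.Helper9.SL2TwoGen
import Cfsg.Agent.S2286
import Cfsg.Agent.S2278
import Cfsg.Agent.S2279

/-!
helper9, for helper64's S2290 block (C5): two-generator presentations of `PSL_n(F)` from presentations of `SL_n(F)`.

* `psl2_presentation_two`: `PSL₂(F)`, `|F| ≥ 4`, has a presentation with 2 generators and at most 12 relators
  (S2286 + `sl2_two_generated` + Tietze).
* `sl_two_generated`: `SL_n(F)`, `n ≥ 3`, is generated by two elements (S2278, S2279).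
* `psl_presentation_two_of_sl`: for `n ≥ 3`, a presentation of `SL_n(F)` with `m` relators (any generators) gives a
  presentation of `PSL_n(F)` with 2 generators and at most `m + 3` relators.
-/

set_option autoImplicit false

namespace Cfsg.Agent.Helper9.PresTietze

/-- `SL₂(F)`, `|F| ≥ 4`: 2 generators, at most 11 relators -/
theorem sl2_presentation_two {F : Type*} [Field F] [Fintype F] (hq : 4 ≤ Fintype.card F) :
    ∃ rels : Finset (FreeGroup (Fin 2)), rels.card ≤ 11 ∧
      Nonempty (PresentedGroup (↑rels : Set (FreeGroup (Fin 2))) ≃* Matrix.SpecialLinearGroup (Fin 2) F) := by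
  obtain ⟨⟨rels, hcard, hne⟩, -, -⟩ := Cfsg.Agent.S2286.result (F := F)
  obtain ⟨a, b, hab⟩ := Cfsg.Agent.Helper9.SL2TwoGen.sl2_two_generated (F := F) hq
  obtain ⟨rels', h', hne'⟩ := exists_presentation_two rels hne a b hab
  exact ⟨rels', by omega, hne'⟩

/-- `PSL₂(F)`, `|F| ≥ 4`: 2 generators, at most 12 relators -/
theorem psl2_presentation_two {F : Type*} [Field F] [Fintype F] (hq : 4 ≤ Fintype.card F) :
    ∃ rels : Finset (FreeGroup (Fin 2)), rels.card ≤ 12 ∧
      Nonempty (PresentedGroup (↑rels : Set (FreeGroup (Fin 2))) ≃*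
        Matrix.ProjectiveSpecialLinearGroup (Fin 2) F) := by
  obtain ⟨⟨rels, hcard, hne⟩, -, -⟩ := Cfsg.Agent.S2286.result (F := F)
  obtain ⟨a, b, hab⟩ := Cfsg.Agent.Helper9.SL2TwoGen.sl2_two_generated (F := F) hq
  obtain ⟨rels', h', hne'⟩ := exists_psl_presentation_two (Fin 2) F rels hne a b hab
  exact ⟨rels', by omega, hne'⟩

/-- `SL_n(F)`, `n ≥ 3`, is generated by two elements -/
theorem sl_two_generated {F : Type*} [Field F] [Fintype F] (n : ℕ) (hn : 3 ≤ n) :
    ∃ a b : Matrix.SpecialLinearGroup (Fin n) F,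
      Subgroup.closure ({a, b} : Set (Matrix.SpecialLinearGroup (Fin n) F)) = ⊤ := by
  rcases Nat.eq_or_lt_of_le hn with h3 | h4
  · subst h3
    obtain ⟨u, g, -, -, h⟩ := Cfsg.Agent.S2278.result (F := F)
    exact ⟨u, g * u * g⁻¹, h⟩
  · obtain ⟨⟨u, v, -, -, h⟩, -⟩ := Cfsg.Agent.S2279.result (F := F) n h4
    exact ⟨u, v, h⟩

/-- for `n ≥ 3`: a presentation of `SL_n(F)` with `m` relators gives one of `PSL_n(F)` with 2 generators and at most
`m + 3` relators -/
theorem psl_presentation_two_of_sl {F : Type*} [Field F] [Fintype F] (n : ℕ) (hn : 3 ≤ n) {α : Type*}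
    (rels : Finset (FreeGroup α))
    (h : Nonempty (PresentedGroup (↑rels : Set (FreeGroup α)) ≃* Matrix.SpecialLinearGroup (Fin n) F)) :
    ∃ rels' : Finset (FreeGroup (Fin 2)), rels'.card ≤ rels.card + 3 ∧
      Nonempty (PresentedGroup (↑rels' : Set (FreeGroup (Fin 2))) ≃*
        Matrix.ProjectiveSpecialLinearGroup (Fin n) F) := by
  obtain ⟨a, b, hab⟩ := sl_two_generated (F := F) n hn
  exact exists_psl_presentation_two (Fin n) F rels h a b hab

/-- for `n ≥ 3`: a presentation of `SL_n(F)` with `m` relators gives one of `SL_n(F)` with 2 generators and at most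
`m + 2` relators -/
theorem sl_presentation_two_of_sl {F : Type*} [Field F] [Fintype F] (n : ℕ) (hn : 3 ≤ n) {α : Type*}
    (rels : Finset (FreeGroup α))
    (h : Nonempty (PresentedGroup (↑rels : Set (FreeGroup α)) ≃* Matrix.SpecialLinearGroup (Fin n) F)) :
    ∃ rels' : Finset (FreeGroup (Fin 2)), rels'.card ≤ rels.card + 2 ∧
      Nonempty (PresentedGroup (↑rels' : Set (FreeGroup (Fin 2))) ≃* Matrix.SpecialLinearGroup (Fin n) F) := by
  obtain ⟨a, b, hab⟩ := sl_two_generated (F := F) n hn
  exact exists_presentation_two rels h a b hab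

/-- the shape of the final step of S2290: if for every `n ≥ 3` the group `SL_n(F)` has a presentation with at most `77`
relators (on any generators), then S2290 follows -/
theorem s2290_of_sl {F : Type*} [Field F] [Fintype F] (n : ℕ) (hn : 2 ≤ n) (h2 : n = 2 → 4 ≤ Fintype.card F)
    (hsl : 3 ≤ n → ∃ (α : Type) (rels : Finset (FreeGroup α)), rels.card ≤ 77 ∧
      Nonempty (PresentedGroup (↑rels : Set (FreeGroup α)) ≃* Matrix.SpecialLinearGroup (Fin n) F)) :
    ∃ rels : Finset (FreeGroup (Fin 2)), rels.card ≤ 80 ∧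
      Nonempty (PresentedGroup (↑rels : Set (FreeGroup (Fin 2))) ≃*
        Matrix.ProjectiveSpecialLinearGroup (Fin n) F) := by
  rcases Nat.eq_or_lt_of_le hn with h | h
  · subst h
    obtain ⟨rels, hc, hne⟩ := psl2_presentation_two (F := F) (h2 rfl)
    exact ⟨rels, by omega, hne⟩
  · obtain ⟨α, rels, hc, hne⟩ := hsl h
    obtain ⟨rels', hc', hne'⟩ := psl_presentation_two_of_sl (F := F) n h rels hne
    exact ⟨rels', by omega, hne'⟩

end Cfsg.Agent.Helper9.PresTietze
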