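import Cfsg.Agent.Helper9.Supersolvable3
import Cfsg.Agent.Lib.Hall

namespace Cfsg.Agent.Helper9

open Subgroup

universe u v
variable {G : Type u} [Group G]

theorem isSupersolvable_of_commGroup_aux (n : ℕ) :
    ∀ (A : Type u) [CommGroup A] [Finite A], Nat.card A = n → Cfsg.IsSupersolvable A := by
  induction n using Nat.strong_induction_on with
  | _ n ih =>
    intro A _ _ hn
    rcases subsingleton_or_nontrivial A with hs | hnt
    · exact isSupersolvable_of_subsingleton
    obtain ⟨a, ha⟩ := exists_ne (1 : A)
    have hcard := Subgroup.card_eq_card_quotient_mul_card_subgroup (zpowers a)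
    have h1 : 1 < Nat.card (zpowers a) := by
      rw [Nat.card_zpowers]
      have h0 : 0 < orderOf a := orderOf_pos a
      have h1 : orderOf a ≠ 1 := by rw [Ne, orderOf_eq_one_iff]; exact ha
      omega
    have hpos : 0 < Nat.card (A ⧸ zpowers a) := Nat.card_pos
    have hlt : Nat.card (A ⧸ zpowers a) < n := by
      rw [← hn, hcard]; nlinarith
    exact isSupersolvable_of_cyclic_normal (zpowers a) (ih _ hlt (A ⧸ zpowers a) rfl)

theorem hasSubgroupOfEveryOrder_of_commGroup (A : Type u) [CommGroup A] [Finite A] :
    Cfsg.HasSubgroupOfEveryOrder A :=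
  hasSubgroupOfEveryOrder_of_isSupersolvable (isSupersolvable_of_commGroup_aux _ A rfl)

/-- Arithmetic core of the statement about `G × A`. -/
theorem exists_hall_factor (g a d : ℕ) (hg : g ≠ 0) (ha : a ≠ 0) (hd : d ∣ g * a)
    (hexp : ∀ p : ℕ, p.Prime → p ∣ g → a.factorization p + 1 = g.factorization p) :
    ∃ m n b : ℕ, g = m * n ∧ m.Coprime n ∧ b ∣ a ∧ m * b = d := by
  classical
  have hd0 : d ≠ 0 := by
    rintro rfl
    rw [zero_dvd_iff] at hd
    exact (mul_ne_zero hg ha) hd
  let P : ℕ → Prop := fun p => g.factorization p ≤ d.factorization p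
  let f : ℕ →₀ ℕ := g.factorization.filter P
  have hfP : ∀ p, P p → f p = g.factorization p := fun p hp => Finsupp.filter_apply_pos P _ hp
  have hfnP : ∀ p, ¬ P p → f p = 0 := fun p hp => Finsupp.filter_apply_neg P _ hp
  have hfsupp : ∀ p ∈ f.support, p.Prime := by
    intro p hp
    have h1 : p ∈ (g.factorization.filter P).support := hp
    rw [Finsupp.support_filter, Finset.mem_filter] at h1
    exact Nat.prime_of_mem_primeFactors (by simpa using h1.1)
  set m := f.prod (· ^ ·) with hm
  have hmfact : m.factorization = f := Nat.prod_pow_factorization_eq_self hfsupp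
  have hm0 : m ≠ 0 := by
    intro h0
    have : m.factorization = 0 := by rw [h0]; simp
    rw [hmfact] at this
    rw [hm, this] at h0
    simp at h0
  have hfle_g : f ≤ g.factorization := by
    intro p
    by_cases hp : P p
    · rw [hfP p hp]
    · rw [hfnP p hp]; exact Nat.zero_le _
  have hfle_d : f ≤ d.factorization := by
    intro p
    by_cases hp : P p
    · rw [hfP p hp]; exact hp
    · rw [hfnP p hp]; exact Nat.zero_le _
  have hmg : m ∣ g := by
    rw [← Nat.factorization_le_iff_dvd hm0 hg, hmfact]; exact hfle_g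
  have hmd : m ∣ d := by
    rw [← Nat.factorization_le_iff_dvd hm0 hd0, hmfact]; exact hfle_d
  obtain ⟨n, hn⟩ := hmg
  obtain ⟨b, hb⟩ := hmd
  have hn0 : n ≠ 0 := by rintro rfl; rw [mul_zero] at hn; exact hg hn
  have hb0 : b ≠ 0 := by rintro rfl; rw [mul_zero] at hb; exact hd0 hb
  have hnfact : ∀ p, n.factorization p = g.factorization p - f p := by
    intro p
    have := congrArg (fun k => k.factorization p) hn
    simp only [Nat.factorization_mul hm0 hn0, Finsupp.coe_add, Pi.add_apply, hmfact] at this
    omega
  have hbfact : ∀ p, b.factorization p = d.factorization p - f p := by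
    intro p
    have := congrArg (fun k => k.factorization p) hb
    simp only [Nat.factorization_mul hm0 hb0, Finsupp.coe_add, Pi.add_apply, hmfact] at this
    omega
  have hdle : ∀ p, d.factorization p ≤ g.factorization p + a.factorization p := by
    intro p
    have := (Nat.factorization_le_iff_dvd hd0 (mul_ne_zero hg ha)).mpr hd p
    simpa [Nat.factorization_mul hg ha] using this
  refine ⟨m, n, b, hn, ?_, ?_, hb.symm⟩
  · -- coprimality
    apply Nat.Coprime.symm
    apply Nat.coprime_of_dvd
    intro p hp hpn hpm
    have h1 : 1 ≤ m.factorization p := (hp.dvd_iff_one_le_factorization hm0).mp hpm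
    have h2 : 1 ≤ n.factorization p := (hp.dvd_iff_one_le_factorization hn0).mp hpn
    rw [hmfact] at h1
    by_cases hP : P p
    · rw [hnfact, hfP p hP] at h2; omega
    · rw [hfnP p hP] at h1; omega
  · -- b ∣ a
    rw [← Nat.factorization_le_iff_dvd hb0 ha]
    intro p
    rw [hbfact]
    by_cases hP : P p
    · rw [hfP p hP]
      have := hdle p
      omega
    · rw [hfnP p hP]
      have hlt : d.factorization p < g.factorization p := not_le.mp hP
      have hgp : g.factorization p ≠ 0 := by omega
      have hpp : p.Prime := by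
        have : p ∈ g.factorization.support := Finsupp.mem_support_iff.mpr hgp
        exact Nat.prime_of_mem_primeFactors (by simpa using this)
      have hpg : p ∣ g := (hpp.dvd_iff_one_le_factorization hg).mpr (by omega)
      have := hexp p hpp hpg
      omega


theorem hasSubgroupOfEveryOrder_prod_of_solvable {G A : Type*} [Group G] [CommGroup A] [Finite G]
    [Finite A] [Group.IsSolvable G]
    (hexp : ∀ p : ℕ, p.Prime → p ∣ Nat.card G →
      (Nat.card A).factorization p + 1 = (Nat.card G).factorization p) :
    Cfsg.HasSubgroupOfEveryOrder (G × A) := by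
  intro d hd
  rw [Nat.card_prod] at hd
  obtain ⟨m, n, b, hmn, hcop, hba, hmb⟩ :=
    exists_hall_factor (Nat.card G) (Nat.card A) d Nat.card_pos.ne' Nat.card_pos.ne' hd hexp
  obtain ⟨H, hH⟩ := Cfsg.Agent.Lib.hall_exists m n hmn hcop
  obtain ⟨B, hB⟩ := hasSubgroupOfEveryOrder_of_commGroup A b hba
  refine ⟨H.prod B, ?_⟩
  rw [← hmb, ← hH, ← hB]
  exact Nat.card_congr (Subgroup.prodEquiv H B).toEquiv |>.trans (Nat.card_prod _ _)

end Cfsg.Agent.Helper9
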