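import Cfsg.Agent.Helper9.PronAU.Main

/-!
# BLOCK AU of S2225/S2226 (helper99 #15044): the deliverable under the agreed name
-/

set_option autoImplicit false

namespace Cfsg.Agent.Helper9.Pron

/-- **BLOCK AU**: every subgroup of odd index of `PSU_n(q)`, `q` even, `n` even, is pronormal -/
theorem su_char2_pronormal {F : Type*} [Field F] [Fintype F] [CharP F 2] (q : ℕ)
    (hF : Fintype.card F = q ^ 2) (n : ℕ) (hn : Even n) (hn4 : 4 ≤ n) (H : Subgroup (Cfsg.PSU n F q))
    (hH : Odd H.index) : Cfsg.IsPronormal H :=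
  Cfsg.Agent.Helper9.PronAU.su_char2_pronormal q hF n hn hn4 H hH

end Cfsg.Agent.Helper9.Pron
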