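import Cfsg.Agent.Helper9.ReeTorL

/-!
Helper9 (for S2357): orders of the elements of `B¹ = U¹ H¹` of `²G₂(q)` in coordinates; the elements of
orders `3`, `9` and `6` of `B¹`.
-/

set_option autoImplicit false
set_option maxRecDepth 100000

namespace Cfsg.Agent.Helper9.ReeCnt

open Cfsg Cfsg.Lie Cfsg.Agent.Helper18 Cfsg.Agent.Helper18.Ree Cfsg.Agent.Helper6.Ree
  Cfsg.Agent.Helper6.ReeC Cfsg.Agent.Helper6.ReeE Cfsg.Agent.Helper6.ReeD Cfsg.Agent.Helper9.ReeTI
  Cfsg.Agent.Helper9.ReeStab Cfsg.Agent.Helper9.ReeTor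

variable {K : Type*} [Field K] [Fintype K] [CharP K 3] {m : ℕ}

/-- the torus part of a power -/
theorem torus_pow_eq_one (hK : Fintype.card K = 3 ^ (2 * m + 1)) (t u v : K) (c : Kˣ) (n : ℕ)
    (h : (gU K m t u v * gT hK c) ^ n = 1) : c ^ n = 1 := by
  obtain ⟨a', b', d', e⟩ := borel_pow hK t u v c n
  rw [h] at e
  have e' : gU K m 0 0 0 * gT hK 1 = gU K m a' b' d' * gT hK (c ^ n) := by
    rw [gU_zero, map_one, one_mul]
    exact e
  exact (borel_unique hK e').2.2.2.symm

/-- an element of `Kˣ` killed by a number prime to `q - 1` is trivial -/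
theorem units_eq_one_of_pow (hK : Fintype.card K = 3 ^ (2 * m + 1)) (c : Kˣ) (n : ℕ)
    (hn : Nat.Coprime n (3 ^ (2 * m + 1) - 1)) (h : c ^ n = 1) : c = 1 := by
  have h1 : orderOf c ∣ n := orderOf_dvd_of_pow_eq_one h
  have h2 : orderOf c ∣ 3 ^ (2 * m + 1) - 1 := by
    have : orderOf c ∣ Nat.card Kˣ := orderOf_dvd_natCard c
    rwa [Nat.card_units, Nat.card_eq_fintype_card, hK] at this
  have h3 : orderOf c ∣ 1 := by
    have := Nat.dvd_gcd h1 h2
    rwa [hn] at this
  exact orderOf_eq_one_iff.mp (Nat.dvd_one.mp h3)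

/-- `3`-elements of `B¹` lie in `U¹` -/
theorem three_element_form (hK : Fintype.card K = 3 ^ (2 * m + 1)) (y : ↥(twistedG2 K (3 ^ m)))
    (hy : y ∈ B1 K m) (k : ℕ) (hk : y ^ 3 ^ k = 1) : ∃ t u v : K, y = gU K m t u v := by
  obtain ⟨t, u, v, c, rfl⟩ := (mem_B1_iff hK y).1 hy
  have hc := torus_pow_eq_one hK t u v c _ hk
  have hcop : Nat.Coprime (3 ^ k) (3 ^ (2 * m + 1) - 1) := by
    have := coprime_three_pow hK k
    rw [hK] at this
    exact this.symm
  rw [units_eq_one_of_pow hK c _ hcop hc, map_one, mul_one]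
  exact ⟨t, u, v, rfl⟩

theorem gU_eq_one_iff (t u v : K) : gU K m t u v = 1 ↔ t = 0 ∧ u = 0 ∧ v = 0 := by
  constructor
  · intro h
    rw [← gU_zero] at h
    exact gU_inj h
  · rintro ⟨rfl, rfl, rfl⟩
    exact gU_zero

theorem gU_cube_eq_one_iff (hK : Fintype.card K = 3 ^ (2 * m + 1)) (t u v : K) :
    gU K m t u v ^ 3 = 1 ↔ t = 0 := by
  constructor
  · exact gU_cube_eq_one hK t u v
  · rintro rfl
    rw [gU_cube hK, zero_pow (by omega), neg_zero, gU_zero]

/-- the order of an element of `U¹` -/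
theorem orderOf_gU (hK : Fintype.card K = 3 ^ (2 * m + 1)) (t u v : K) :
    (orderOf (gU K m t u v) = 3 ↔ t = 0 ∧ ¬ (u = 0 ∧ v = 0)) ∧ (orderOf (gU K m t u v) = 9 ↔ t ≠ 0) := by
  have h9 : orderOf (gU K m t u v) ∣ 3 ^ 2 := orderOf_dvd_of_pow_eq_one (gU_pow_nine hK t u v)
  obtain ⟨j, hj, hjo⟩ := (Nat.dvd_prime_pow Nat.prime_three).mp h9
  have h3 : orderOf (gU K m t u v) ∣ 3 ↔ t = 0 := by
    rw [orderOf_dvd_iff_pow_eq_one, gU_cube_eq_one_iff hK]
  have h1 : orderOf (gU K m t u v) = 1 ↔ t = 0 ∧ u = 0 ∧ v = 0 := by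
    rw [orderOf_eq_one_iff, gU_eq_one_iff]
  interval_cases j
  · rw [pow_zero] at hjo
    have := h1.mp hjo
    constructor
    · rw [hjo]
      constructor
      · intro h; omega
      · rintro ⟨-, h⟩
        exact absurd ⟨this.2.1, this.2.2⟩ h
    · rw [hjo]
      constructor
      · intro h; omega
      · intro h
        exact absurd this.1 h
  · rw [pow_one] at hjo
    have ht : t = 0 := h3.mp (by rw [hjo])
    constructor
    · constructor
      · intro _
        refine ⟨ht, ?_⟩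
        rintro ⟨hu, hv⟩
        have := h1.mpr ⟨ht, hu, hv⟩
        omega
      · intro _; exact hjo
    · rw [hjo]
      constructor
      · intro h; omega
      · intro h; exact absurd ht h
  · have ht : t ≠ 0 := by
      intro ht
      have := h3.mpr ht
      rw [hjo] at this
      omega
    constructor
    · rw [hjo]
      constructor
      · intro h; omega
      · rintro ⟨h, -⟩; exact absurd h ht
    · constructor
      · intro _; exact ht
      · intro _; rw [hjo]; norm_num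

/-- the square of an element of `U¹ · j` -/
theorem gU_gT_neg_one_sq (hK : Fintype.card K = 3 ^ (2 * m + 1)) (t u v : K) :
    (gU K m t u v * gT hK (-1)) * (gU K m t u v * gT hK (-1)) =
      gU K m 0 (2 * u + t ^ (3 * 3 ^ m + 1)) (t * u + 2 * t ^ (3 * 3 ^ m + 2)) := by
  have h1 : gT hK (-1) * gU K m t u v = gU K m (-t) u (-v) * gT hK (-1) := by
    rw [gT_mul_gU hK]
    simp only [Units.val_neg, Units.val_one, neg_one_pow_e1, neg_one_pow_e2, one_mul, neg_one_mul]
  have h2 : gT hK (-1) * gT hK (-1) = (1 : ↥(twistedG2 K (3 ^ m))) := by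
    rw [← map_mul]
    simp
  calc gU K m t u v * gT hK (-1) * (gU K m t u v * gT hK (-1))
      = gU K m t u v * (gT hK (-1) * gU K m t u v) * gT hK (-1) := by simp only [mul_assoc]
    _ = gU K m t u v * gU K m (-t) u (-v) * (gT hK (-1) * gT hK (-1)) := by
        rw [h1]; simp only [mul_assoc]
    _ = gU K m t u v * gU K m (-t) u (-v) := by rw [h2, mul_one]
    _ = _ := by
        rw [gU_mul hK, pow3t_neg]
        congr 1
        · ring
        · ring
        · have e : (-t) ^ (3 * 3 ^ m + 1) = t ^ (3 * 3 ^ m + 1) := by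
            rw [pow_succ, pow3t_neg]; ring
          rw [e]
          ring

/-- the order of an element of `U¹ · j` is `2` or `6` -/
theorem orderOf_gU_gT_neg_one (hK : Fintype.card K = 3 ^ (2 * m + 1)) (t u v : K) :
    orderOf (gU K m t u v * gT hK (-1)) = 6 ↔ u ≠ t ^ (3 * 3 ^ m + 1) := by
  set y := gU K m t u v * gT hK (-1) with hy
  have h2 := two_eq_neg_one (K := K)
  have h3 := three_eq_zero (K := K)
  have hsq := gU_gT_neg_one_sq hK t u v
  have hneg : (-1 : Kˣ) ≠ 1 := by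
    intro h
    have h' : ((-1 : Kˣ) : K) = ((1 : Kˣ) : K) := by rw [h]
    rw [Units.val_neg, Units.val_one] at h'
    have : (2 : K) = 0 := by linear_combination -h'
    exact two_ne_zero_K this
  have hy3 : y ^ 3 ≠ 1 := by
    intro h
    have := torus_pow_eq_one hK t u v (-1) 3 h
    rw [Odd.neg_one_pow (by decide)] at this
    exact hneg this
  have hy6 : y ^ 6 = 1 := by
    have : (6 : ℕ) = 2 * 3 := rfl
    rw [this, pow_mul, sq, hy, hsq, gU_cube_eq_one_iff hK]
  have hd6 : orderOf y ∣ 6 := orderOf_dvd_of_pow_eq_one hy6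
  have hnd3 : ¬ orderOf y ∣ 3 := fun h => hy3 (orderOf_dvd_iff_pow_eq_one.mp h)
  have hcases : orderOf y = 2 ∨ orderOf y = 6 := by
    have hle : orderOf y ≤ 6 := Nat.le_of_dvd (by norm_num) hd6
    have hpos : 0 < orderOf y := Nat.pos_of_dvd_of_pos hd6 (by norm_num)
    interval_cases h : orderOf y
    · exact absurd (one_dvd 3) hnd3
    · exact Or.inl rfl
    · exact absurd (dvd_refl 3) hnd3
    · norm_num at hd6
    · norm_num at hd6
    · exact Or.inr rfl
  have hsq1 : y * y = 1 ↔ u = t ^ (3 * 3 ^ m + 1) := by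
    rw [hsq, gU_eq_one_iff]
    constructor
    · rintro ⟨-, ha, -⟩
      rw [h2] at ha
      linear_combination -ha
    · intro hu
      refine ⟨rfl, ?_, ?_⟩
      · rw [hu, h2]; ring
      · rw [hu]
        have : t * t ^ (3 * 3 ^ m + 1) + 2 * t ^ (3 * 3 ^ m + 2) = 3 * t ^ (3 * 3 ^ m + 2) := by ring
        rw [this, h3, zero_mul]
  constructor
  · intro h6 hu
    have := hsq1.mpr hu
    have h' : orderOf y ∣ 2 := orderOf_dvd_of_pow_eq_one (by rw [sq]; exact this)
    rw [h6] at h'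
    norm_num at h'
  · intro hu
    rcases hcases with h | h
    · exfalso
      apply hu
      apply hsq1.mp
      rw [← sq, ← h, pow_orderOf_eq_one]
    · exact h

/-- the elements of order `3` of `B¹` -/
theorem card_B1_order_three (hK : Fintype.card K = 3 ^ (2 * m + 1)) :
    Nat.card {y : ↥(twistedG2 K (3 ^ m)) // y ∈ B1 K m ∧ orderOf y = 3} = (3 ^ (2 * m + 1)) ^ 2 - 1 := by
  classical
  have e : {p : K × K // p ≠ (0, 0)} ≃ {y : ↥(twistedG2 K (3 ^ m)) // y ∈ B1 K m ∧ orderOf y = 3} := by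
    refine Equiv.ofBijective (fun p => ⟨gU K m 0 p.1.1 p.1.2, gU_mem_B1 _ _ _, ?_⟩) ⟨?_, ?_⟩
    · rw [(orderOf_gU hK 0 p.1.1 p.1.2).1]
      refine ⟨rfl, ?_⟩
      rintro ⟨h1, h2⟩
      exact p.2 (Prod.ext h1 h2)
    · rintro ⟨⟨u, v⟩, hp⟩ ⟨⟨u', v'⟩, hp'⟩ h
      have h' : gU K m 0 u v = gU K m 0 u' v' := congrArg Subtype.val h
      obtain ⟨-, rfl, rfl⟩ := gU_inj h'
      rfl
    · rintro ⟨y, hyB, hy3⟩
      obtain ⟨t, u, v, rfl⟩ := three_element_form hK y hyB 1 (by
        have := pow_orderOf_eq_one y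
        rw [hy3] at this
        rw [pow_one]; exact this)
      obtain ⟨rfl, huv⟩ := (orderOf_gU hK t u v).1.mp hy3
      refine ⟨⟨(u, v), ?_⟩, rfl⟩
      intro h
      exact huv ⟨congrArg Prod.fst h, congrArg Prod.snd h⟩
  rw [← Nat.card_congr e, Nat.card_eq_fintype_card, Fintype.card_subtype_compl, Fintype.card_subtype_eq,
    Fintype.card_prod, hK]
  ring_nf

/-- the elements of order `9` of `B¹` -/
theorem card_B1_order_nine (hK : Fintype.card K = 3 ^ (2 * m + 1)) :
    Nat.card {y : ↥(twistedG2 K (3 ^ m)) // y ∈ B1 K m ∧ orderOf y = 9} =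
      (3 ^ (2 * m + 1) - 1) * (3 ^ (2 * m + 1)) ^ 2 := by
  classical
  have e : {t : K // t ≠ 0} × K × K ≃ {y : ↥(twistedG2 K (3 ^ m)) // y ∈ B1 K m ∧ orderOf y = 9} := by
    refine Equiv.ofBijective (fun p => ⟨gU K m p.1.1 p.2.1 p.2.2, gU_mem_B1 _ _ _, ?_⟩) ⟨?_, ?_⟩
    · rw [(orderOf_gU hK _ _ _).2]
      exact p.1.2
    · rintro ⟨⟨t, ht⟩, u, v⟩ ⟨⟨t', ht'⟩, u', v'⟩ h
      have h' : gU K m t u v = gU K m t' u' v' := congrArg Subtype.val h
      obtain ⟨rfl, rfl, rfl⟩ := gU_inj h'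
      rfl
    · rintro ⟨y, hyB, hy9⟩
      obtain ⟨t, u, v, rfl⟩ := three_element_form hK y hyB 2 (by
        have := pow_orderOf_eq_one y
        rw [hy9] at this
        exact this)
      have ht := (orderOf_gU hK t u v).2.mp hy9
      exact ⟨⟨⟨t, ht⟩, u, v⟩, rfl⟩
  rw [← Nat.card_congr e, Nat.card_eq_fintype_card, Fintype.card_prod, Fintype.card_prod,
    Fintype.card_subtype_compl, Fintype.card_subtype_eq, hK]
  ring

/-- the elements of order `6` of `B¹` -/
theorem card_B1_order_six (hK : Fintype.card K = 3 ^ (2 * m + 1)) :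
    Nat.card {y : ↥(twistedG2 K (3 ^ m)) // y ∈ B1 K m ∧ orderOf y = 6} =
      (3 ^ (2 * m + 1) - 1) * (3 ^ (2 * m + 1)) ^ 2 := by
  classical
  have hgcd : Nat.Coprime 3 (3 ^ (2 * m + 1) - 1) := by
    have := coprime_three_pow hK 1
    rw [hK, pow_one] at this
    exact this.symm
  have e : {w : K // w ≠ 0} × K × K ≃ {y : ↥(twistedG2 K (3 ^ m)) // y ∈ B1 K m ∧ orderOf y = 6} := by
    refine Equiv.ofBijective (fun p => ⟨gU K m p.2.1 (p.1.1 + p.2.1 ^ (3 * 3 ^ m + 1)) p.2.2 * gT hK (-1),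
      mul_mem (gU_mem_B1 _ _ _) (gT_mem_B1 hK _), ?_⟩) ⟨?_, ?_⟩
    · rw [orderOf_gU_gT_neg_one hK]
      intro h
      apply p.1.2
      linear_combination h
    · rintro ⟨⟨w, hw⟩, t, v⟩ ⟨⟨w', hw'⟩, t', v'⟩ h
      have h' : gU K m t (w + t ^ (3 * 3 ^ m + 1)) v * gT hK (-1) =
          gU K m t' (w' + t' ^ (3 * 3 ^ m + 1)) v' * gT hK (-1) := congrArg Subtype.val h
      obtain ⟨rfl, hu, rfl, -⟩ := borel_unique hK h'
      have : w = w' := by linear_combination hu
      subst this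
      rfl
    · rintro ⟨y, hyB, hy6⟩
      obtain ⟨t, u, v, c, rfl⟩ := (mem_B1_iff hK y).1 hyB
      have hc6 : c ^ 6 = 1 := torus_pow_eq_one hK t u v c 6 (by
        have := pow_orderOf_eq_one (gU K m t u v * gT hK c)
        rw [hy6] at this
        exact this)
      have hc2 : c ^ 2 = 1 := by
        have h1 : (c ^ 2) ^ 3 = 1 := by rw [← pow_mul]; exact hc6
        exact units_eq_one_of_pow hK (c ^ 2) 3 hgcd h1
      have hc : c = 1 ∨ c = -1 := by
        have h4 : ((c : K) - 1) * ((c : K) + 1) = 0 := by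
          have : (c : K) ^ 2 = 1 := by rw [← Units.val_pow_eq_pow_val, hc2, Units.val_one]
          linear_combination this
        rcases mul_eq_zero.mp h4 with h | h
        · left
          exact Units.ext (by rw [Units.val_one]; linear_combination h)
        · right
          exact Units.ext (by rw [Units.val_neg, Units.val_one]; linear_combination h)
      rcases hc with rfl | rfl
      · exfalso
        rw [map_one, mul_one] at hy6
        have h9 : orderOf (gU K m t u v) ∣ 9 := orderOf_dvd_of_pow_eq_one (gU_pow_nine hK t u v)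
        rw [hy6] at h9
        norm_num at h9
      · have hu := (orderOf_gU_gT_neg_one hK t u v).mp hy6
        refine ⟨⟨⟨u - t ^ (3 * 3 ^ m + 1), sub_ne_zero.mpr hu⟩, t, v⟩, ?_⟩
        apply Subtype.ext
        show gU K m t (u - t ^ (3 * 3 ^ m + 1) + t ^ (3 * 3 ^ m + 1)) v * gT hK (-1) = _
        rw [sub_add_cancel]
  rw [← Nat.card_congr e, Nat.card_eq_fintype_card, Fintype.card_prod, Fintype.card_prod,
    Fintype.card_subtype_compl, Fintype.card_subtype_eq, hK]
  ring

end Cfsg.Agent.Helper9.ReeCnt
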