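import Cfsg.Agent.Helper9.ReeCntA

/-!
Helper9 (for S2357): the numbers of elements of order `3`, `9`, `6` of `²G₂(q)`.
-/

set_option autoImplicit false
set_option maxRecDepth 100000

namespace Cfsg.Agent.Helper9.ReeCnt

open Cfsg Cfsg.Lie Cfsg.Agent.Helper18 Cfsg.Agent.Helper18.Ree Cfsg.Agent.Helper6.Ree
  Cfsg.Agent.Helper6.ReeC Cfsg.Agent.Helper6.ReeE Cfsg.Agent.Helper6.ReeD Cfsg.Agent.Helper9.ReeTI
  Cfsg.Agent.Helper9.ReeStab Cfsg.Agent.Helper9.ReeTor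

variable {K : Type*} [Field K] [Fintype K] [CharP K 3] {m : ℕ}

theorem orderOf_conj' {G : Type*} [Group G] (g x : G) : orderOf (g * x * g⁻¹) = orderOf x := by
  have := (MulAut.conj g).orderOf_eq x
  rwa [MulAut.conj_apply] at this

/-- fusion of elements of order divisible by `3` of `B¹` is controlled by `B¹` -/
theorem B1_TI_of_three_dvd (hK : Fintype.card K = 3 ^ (2 * m + 1)) (g y : ↥(twistedG2 K (3 ^ m)))
    (hy : y ∈ B1 K m) (h3 : 3 ∣ orderOf y) (hgy : g * y * g⁻¹ ∈ B1 K m) : g ∈ B1 K m := by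
  set w := y ^ (orderOf y / 3) with hw
  have how : orderOf w = 3 := orderOf_pow_div_prime y h3
  have hw1 : w ≠ 1 := by
    intro h
    rw [h, orderOf_one] at how
    omega
  have hwB : w ∈ B1 K m := pow_mem hy _
  have hgwB : g * w * g⁻¹ ∈ B1 K m := by
    have : g * w * g⁻¹ = (g * y * g⁻¹) ^ (orderOf y / 3) := by rw [hw, conj_pow]
    rw [this]
    exact pow_mem hgy _
  have hw3 : w ^ 3 ^ 1 = 1 := by
    have := pow_orderOf_eq_one w
    rw [how] at this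
    rw [pow_one]; exact this
  have hgw3 : (g * w * g⁻¹) ^ 3 ^ 1 = 1 := by
    rw [conj_pow, hw3]; group
  obtain ⟨t, u, v, e1⟩ := three_element_form hK w hwB 1 hw3
  obtain ⟨t', u', v', e2⟩ := three_element_form hK _ hgwB 1 hgw3
  rw [mem_B1]
  by_contra hB
  apply hw1
  have e : ((g * w * g⁻¹ : ↥(twistedG2 K (3 ^ m))) : GL chevG2.Idx K) =
      (g : GL chevG2.Idx K) * (w : GL chevG2.Idx K) * (g : GL chevG2.Idx K)⁻¹ := by
    simp only [Subgroup.coe_mul, Subgroup.coe_inv]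
  have hwU : (w : GL chevG2.Idx K) ∈ chevG2.posUnipotent K := by rw [e1]; exact gU_mem_pos t u v
  have hgwU : ((g * w * g⁻¹ : ↥(twistedG2 K (3 ^ m))) : GL chevG2.Idx K) ∈ chevG2.posUnipotent K := by
    rw [e2]; exact gU_mem_pos t' u' v'
  have h1 := eq_one_of_conj hK _ g.2 hB _ _ hgwU hwU e
  have h2 : g * w * g⁻¹ = 1 := Subtype.ext h1
  rwa [conj_eq_one_iff] at h2

/-- counting the elements of an order divisible by `3` -/
theorem card_orderOf_mul_card_B1 (hK : Fintype.card K = 3 ^ (2 * m + 1)) (d : ℕ) (h3 : 3 ∣ d) :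
    Nat.card {x : ↥(twistedG2 K (3 ^ m)) // orderOf x = d} * Nat.card ↥(B1 K m) =
      Nat.card ↥(twistedG2 K (3 ^ m)) *
        Nat.card {y : ↥(twistedG2 K (3 ^ m)) // y ∈ B1 K m ∧ orderOf y = d} := by
  have key := card_conj_set_mul (B1 K m) {y : ↥(twistedG2 K (3 ^ m)) | y ∈ B1 K m ∧ orderOf y = d}
    (by
      rintro n hn x ⟨hx, hxd⟩
      exact ⟨mul_mem (mul_mem hn hx) (inv_mem hn), by rw [orderOf_conj', hxd]⟩)
    (by
      rintro g x ⟨hx, hxd⟩ ⟨hgx, -⟩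
      exact B1_TI_of_three_dvd hK g x hx (by rw [hxd]; exact h3) hgx)
  have e : Nat.card {x : ↥(twistedG2 K (3 ^ m)) // ∃ g : ↥(twistedG2 K (3 ^ m)),
      g * x * g⁻¹ ∈ {y : ↥(twistedG2 K (3 ^ m)) | y ∈ B1 K m ∧ orderOf y = d}} =
      Nat.card {x : ↥(twistedG2 K (3 ^ m)) // orderOf x = d} := by
    apply Nat.card_congr
    apply Equiv.subtypeEquivRight
    intro x
    constructor
    · rintro ⟨g, -, hg⟩
      rwa [orderOf_conj'] at hg
    · intro hx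
      obtain ⟨a, ha⟩ := conj_mem_B1_of_three_dvd hK x (by rw [hx]; exact h3)
      refine ⟨a⁻¹, ?_, ?_⟩
      · rw [inv_inv]; exact ha
      · rw [orderOf_conj', hx]
  rw [e] at key
  exact key

/-- `|G| = |B¹| (q³ + 1)` -/
theorem card_G_eq (hK : Fintype.card K = 3 ^ (2 * m + 1)) :
    Nat.card ↥(twistedG2 K (3 ^ m)) = Nat.card ↥(B1 K m) * ((3 ^ (2 * m + 1)) ^ 3 + 1) := by
  obtain ⟨n, hn⟩ : ∃ n, 3 ^ (2 * m + 1) = n + 1 :=
    ⟨3 ^ (2 * m + 1) - 1, (Nat.sub_add_cancel (Nat.one_le_pow _ _ (by norm_num))).symm⟩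
  rw [card_ree_succ hK hn, card_B1 hK, hn, Nat.add_sub_cancel]
  ring

theorem card_orderOf_of_three_dvd (hK : Fintype.card K = 3 ^ (2 * m + 1)) (d : ℕ) (h3 : 3 ∣ d) :
    Nat.card {x : ↥(twistedG2 K (3 ^ m)) // orderOf x = d} =
      ((3 ^ (2 * m + 1)) ^ 3 + 1) *
        Nat.card {y : ↥(twistedG2 K (3 ^ m)) // y ∈ B1 K m ∧ orderOf y = d} := by
  have h1 := card_orderOf_mul_card_B1 hK d h3
  rw [card_G_eq hK] at h1
  have hpos : 0 < Nat.card ↥(B1 K m) := Nat.card_pos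
  apply Nat.eq_of_mul_eq_mul_right hpos
  rw [h1]
  ring

/-- the numbers of elements of order `3`, `9`, `6` -/
theorem card_order_three (hK : Fintype.card K = 3 ^ (2 * m + 1)) :
    Nat.card {x : ↥(twistedG2 K (3 ^ m)) // orderOf x = 3} =
      ((3 ^ (2 * m + 1)) ^ 2 - 1) * ((3 ^ (2 * m + 1)) ^ 3 + 1) := by
  rw [card_orderOf_of_three_dvd hK 3 (dvd_refl 3), card_B1_order_three hK, mul_comm]

theorem card_order_nine (hK : Fintype.card K = 3 ^ (2 * m + 1)) :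
    Nat.card {x : ↥(twistedG2 K (3 ^ m)) // orderOf x = 9} =
      (3 ^ (2 * m + 1)) ^ 2 * (3 ^ (2 * m + 1) - 1) * ((3 ^ (2 * m + 1)) ^ 3 + 1) := by
  rw [card_orderOf_of_three_dvd hK 9 ⟨3, rfl⟩, card_B1_order_nine hK]
  ring

theorem card_order_six (hK : Fintype.card K = 3 ^ (2 * m + 1)) :
    Nat.card {x : ↥(twistedG2 K (3 ^ m)) // orderOf x = 6} =
      (3 ^ (2 * m + 1)) ^ 2 * (3 ^ (2 * m + 1) - 1) * ((3 ^ (2 * m + 1)) ^ 3 + 1) := by
  rw [card_orderOf_of_three_dvd hK 6 ⟨2, rfl⟩, card_B1_order_six hK]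
  ring

end Cfsg.Agent.Helper9.ReeCnt
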