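import Cfsg.Agent.Helper9.ReeCntB

/-!
Helper9 (for S2357): generic counting of the elements of a given order through a subgroup controlling
their fusion, and the number of involutions of `²G₂(q)`.
-/

set_option autoImplicit false
set_option maxRecDepth 100000

namespace Cfsg.Agent.Helper9.ReeCnt

open Cfsg Cfsg.Lie Cfsg.Agent.Helper18 Cfsg.Agent.Helper18.Ree Cfsg.Agent.Helper6.Ree
  Cfsg.Agent.Helper6.ReeC Cfsg.Agent.Helper6.ReeE Cfsg.Agent.Helper6.ReeD Cfsg.Agent.Helper9.ReeTI
  Cfsg.Agent.Helper9.ReeStab Cfsg.Agent.Helper9.ReeTor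

/-- counting the elements of order `i` when their fusion is controlled by `N(A)` -/
theorem card_orderOf_mul_card_normalizer {G : Type*} [Group G] [Finite G] (A : Subgroup G) (i : ℕ)
    (hTI : ∀ g y : G, y ∈ A → orderOf y = i → g * y * g⁻¹ ∈ A →
      g ∈ Subgroup.normalizer (A : Set G))
    (hconj : ∀ x : G, orderOf x = i → ∃ g : G, g * x * g⁻¹ ∈ A) :
    Nat.card {x : G // orderOf x = i} * Nat.card ↥(Subgroup.normalizer (A : Set G)) =
      Nat.card G * Nat.card {y : G // y ∈ A ∧ orderOf y = i} := by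
  have key := card_conj_set_mul (Subgroup.normalizer (A : Set G)) {y : G | y ∈ A ∧ orderOf y = i}
    (by
      rintro n hn x ⟨hx, hxd⟩
      exact ⟨(Subgroup.mem_normalizer_iff.mp hn x).mp hx, by rw [orderOf_conj', hxd]⟩)
    (by
      rintro g x ⟨hx, hxd⟩ ⟨hgx, -⟩
      exact hTI g x hx hxd hgx)
  have e : Nat.card {x : G // ∃ g : G, g * x * g⁻¹ ∈ {y : G | y ∈ A ∧ orderOf y = i}} =
      Nat.card {x : G // orderOf x = i} := by
    apply Nat.card_congr
    apply Equiv.subtypeEquivRight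
    intro x
    constructor
    · rintro ⟨g, -, hg⟩
      rwa [orderOf_conj'] at hg
    · intro hx
      obtain ⟨g, hg⟩ := hconj x hx
      exact ⟨g, hg, by rw [orderOf_conj', hx]⟩
  rw [e] at key
  exact key

/-- a cyclic subgroup `A` has `φ(i)` elements of order `i` for `i ∣ |A|` -/
theorem card_mem_orderOf_of_isCyclic {G : Type*} [Group G] [Finite G] (A : Subgroup G)
    (hA : IsCyclic ↥A) (i : ℕ) (hi : i ∣ Nat.card ↥A) :
    Nat.card {y : G // y ∈ A ∧ orderOf y = i} = Nat.totient i := by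
  classical
  haveI : Fintype ↥A := Fintype.ofFinite _
  rw [Nat.card_eq_fintype_card] at hi
  rw [← IsCyclic.card_orderOf_eq_totient (α := ↥A) hi, ← Fintype.card_subtype,
    ← Nat.card_eq_fintype_card]
  apply Nat.card_congr
  refine ⟨fun y => ⟨⟨y.1, y.2.1⟩, by rw [← Subgroup.orderOf_coe]; exact y.2.2⟩,
    fun y => ⟨y.1.1, y.1.2, by rw [Subgroup.orderOf_coe]; exact y.2⟩, fun y => rfl, fun y => rfl⟩

variable {K : Type*} [Field K] [Fintype K] [CharP K 3] {m : ℕ}

/-- the number of elements of order `2` -/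
theorem card_order_two (hm : 1 ≤ m) (hK : Fintype.card K = 3 ^ (2 * m + 1)) :
    Nat.card {x : ↥(twistedG2 K (3 ^ m)) // orderOf x = 2} =
      (3 ^ (2 * m + 1)) ^ 2 * ((3 ^ (2 * m + 1)) ^ 2 - 3 ^ (2 * m + 1) + 1) := by
  rw [← card_involutions hm hK]
  apply Nat.card_congr
  apply Equiv.subtypeEquivRight
  intro x
  rw [orderOf_eq_prime_iff (p := 2), pow_two, and_comm]

end Cfsg.Agent.Helper9.ReeCnt
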