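import Cfsg.Agent.Helper9.ReeCntC

/-!
Helper9 (for S2357): the numbers of elements of order `i ∣ q - 1`, `i > 2`, of `²G₂(q)`.
-/

set_option autoImplicit false
set_option maxRecDepth 100000

namespace Cfsg.Agent.Helper9.ReeCnt

open Cfsg Cfsg.Lie Cfsg.Agent.Helper18 Cfsg.Agent.Helper18.Ree Cfsg.Agent.Helper6.Ree
  Cfsg.Agent.Helper6.ReeC Cfsg.Agent.Helper6.ReeE Cfsg.Agent.Helper6.ReeD Cfsg.Agent.Helper9.ReeTI
  Cfsg.Agent.Helper9.ReeStab Cfsg.Agent.Helper9.ReeTor

/-- a divisor `i > 2` of `q - 1` has an odd prime factor -/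
theorem exists_odd_prime_of_dvd_split (m i : ℕ) (hi : 2 < i) (hd : i ∣ 3 ^ (2 * m + 1) - 1) :
    ∃ p : ℕ, p.Prime ∧ p ≠ 2 ∧ p ∣ i := by
  by_contra hcon
  push Not at hcon
  have h2 : ∀ {d : ℕ}, d.Prime → d ∣ i → d = 2 := by
    intro d hd1 hd2
    by_contra hne
    exact hcon d hd1 hne hd2
  have hpow := Nat.eq_prime_pow_of_unique_prime_dvd (n := i) (p := 2) (by omega) h2
  set k := i.primeFactorsList.length with hk
  have hk2 : 2 ≤ k := by
    by_contra hlt
    have : k = 0 ∨ k = 1 := by omega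
    rcases this with h | h
    · rw [h] at hpow; omega
    · rw [h] at hpow; omega
  have h4 : 4 ∣ i := by
    rw [hpow]
    exact pow_dvd_pow 2 hk2
  have h4' := h4.trans hd
  have h8 := q_mod_eight m
  generalize 3 ^ (2 * m + 1) = q at h4' h8
  omega

variable {K : Type*} [Field K] [Fintype K] [CharP K 3] {m : ℕ}

/-- elements of order divisible by an odd prime divisor of `q - 1` are conjugate into the torus -/
theorem conj_mem_range_of_split_prime (hK : Fintype.card K = 3 ^ (2 * m + 1)) (g : ↥(twistedG2 K (3 ^ m)))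
    {p : ℕ} (hp : p.Prime) (hp2 : p ≠ 2) (hpq : p ∣ 3 ^ (2 * m + 1) - 1) (hpg : p ∣ orderOf g) :
    ∃ (x : ↥(twistedG2 K (3 ^ m))) (d : Kˣ), x * g * x⁻¹ = gT hK d := by
  haveI : Fact p.Prime := ⟨hp⟩
  obtain ⟨n, hn⟩ : ∃ n, 3 ^ (2 * m + 1) = n + 1 :=
    ⟨3 ^ (2 * m + 1) - 1, (Nat.sub_add_cancel (Nat.one_le_pow _ _ (by norm_num))).symm⟩
  rw [hn, Nat.add_sub_cancel] at hpq
  set a := g ^ (orderOf g / p) with ha
  have hoa : orderOf a = p := orderOf_pow_div_prime g hpg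
  have ha1 : a ≠ 1 := by
    intro h
    rw [h, orderOf_one] at hoa
    exact hp.one_lt.ne hoa
  have hidx : ¬ p ∣ (gT (m := m) hK).range.index := by
    rw [index_gT_range hK hn]
    intro h
    have h2 : ¬ p ∣ 2 := fun h => hp2 ((Nat.prime_dvd_prime_iff_eq hp Nat.prime_two).mp h)
    have h1 : ¬ p ∣ 1 := Nat.Prime.not_dvd_one hp
    rcases (Nat.Prime.dvd_mul hp).mp h with h | h
    · have := Nat.Prime.dvd_of_dvd_pow hp h
      exact h1 ((Nat.dvd_add_right hpq).mp this)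
    · rcases (Nat.Prime.dvd_mul hp).mp h with h | h
      · exact h2 ((Nat.dvd_add_right hpq).mp h)
      · exact h1 ((Nat.dvd_add_right (Dvd.dvd.mul_left hpq (n + 1))).mp h)
  obtain ⟨x, hx⟩ := exists_conj_mem_of_not_dvd_index (gT (m := m) hK).range hidx a
    ⟨1, by rw [pow_one, ← hoa, pow_orderOf_eq_one]⟩
  obtain ⟨c, hc⟩ := hx
  have hcp : c ^ p = 1 := by
    apply gT_injective (m := m) hK
    rw [map_pow, hc, map_one, conj_pow, ← hoa, pow_orderOf_eq_one]
    group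
  have hc2 : (c : K) ^ 2 ≠ 1 := by
    intro h
    have h' : c ^ 2 = 1 := Units.ext (by rw [Units.val_pow_eq_pow_val, h, Units.val_one])
    have h1 : orderOf c ∣ Nat.gcd p 2 := Nat.dvd_gcd (orderOf_dvd_of_pow_eq_one hcp) (orderOf_dvd_of_pow_eq_one h')
    have h2 : Nat.gcd p 2 = 1 := (Nat.coprime_primes hp Nat.prime_two).mpr hp2
    rw [h2, Nat.dvd_one, orderOf_eq_one_iff] at h1
    apply ha1
    rw [h1, map_one] at hc
    have : a = x⁻¹ * (x * a * x⁻¹) * x := by group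
    rw [this, ← hc]
    group
  have hcomm : g * a = a * g := by
    rw [ha, ← pow_succ', ← pow_succ]
  have hcomm' : (x * g * x⁻¹) * gT hK c = gT hK c * (x * g * x⁻¹) := by
    rw [hc]
    calc x * g * x⁻¹ * (x * a * x⁻¹) = x * (g * a) * x⁻¹ := by group
      _ = x * (a * g) * x⁻¹ := by rw [hcomm]
      _ = _ := by group
  obtain ⟨d, hd⟩ := centralizer_gT_single hK c hc2 _ hcomm'
  exact ⟨x, d, hd⟩

/-- fusion of the non-involutions of the torus `H` is controlled by `N(H)` -/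
theorem torus_TI (hK : Fintype.card K = 3 ^ (2 * m + 1)) (g y : ↥(twistedG2 K (3 ^ m)))
    (hy : y ∈ (gT (m := m) hK).range) (hy2 : y * y ≠ 1) (hgy : g * y * g⁻¹ ∈ (gT (m := m) hK).range) :
    g ∈ Subgroup.normalizer ((gT (m := m) hK).range : Set ↥(twistedG2 K (3 ^ m))) := by
  obtain ⟨c, rfl⟩ := hy
  obtain ⟨c', hc'⟩ := hgy
  have hc2 : (c : K) ^ 2 ≠ 1 := by
    intro h
    apply hy2
    have h' : c ^ 2 = 1 := Units.ext (by rw [Units.val_pow_eq_pow_val, h, Units.val_one])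
    rw [← map_mul, ← pow_two, h', map_one]
  have hc'2 : (c' : K) ^ 2 ≠ 1 := by
    intro h
    apply hy2
    have h' : c' ^ 2 = 1 := Units.ext (by rw [Units.val_pow_eq_pow_val, h, Units.val_one])
    have h1 : gT (m := m) hK c' * gT (m := m) hK c' = 1 := by rw [← map_mul, ← pow_two, h', map_one]
    rw [hc'] at h1
    have h2 : g * (gT (m := m) hK c * gT (m := m) hK c) * g⁻¹ = 1 := by
      rw [← h1]; group
    rwa [conj_eq_one_iff] at h2
  have e1 := centralizer_gT_eq_range hK c hc2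
  have e2 := centralizer_gT_eq_range hK c' hc'2
  rw [hc', centralizer_conj, e1] at e2
  exact mem_normalizer_of_map_eq _ g e2

/-- the number of elements of order `i ∣ q - 1`, `i > 2` -/
theorem card_order_split (hm : 1 ≤ m) (hK : Fintype.card K = 3 ^ (2 * m + 1)) (i : ℕ) (hi : 2 < i)
    (hd : i ∣ 3 ^ (2 * m + 1) - 1) :
    2 * Nat.card {x : ↥(twistedG2 K (3 ^ m)) // orderOf x = i} =
      Nat.totient i * (3 ^ (2 * m + 1)) ^ 3 * ((3 ^ (2 * m + 1)) ^ 3 + 1) := by
  obtain ⟨p, hp, hp2, hpi⟩ := exists_odd_prime_of_dvd_split m i hi hd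
  have hne : ∀ y : ↥(twistedG2 K (3 ^ m)), orderOf y = i → y * y ≠ 1 := by
    intro y hy h
    have : orderOf y ∣ 2 := orderOf_dvd_of_pow_eq_one (by rw [pow_two]; exact h)
    rw [hy] at this
    have := Nat.le_of_dvd (by norm_num) this
    omega
  have key := card_orderOf_mul_card_normalizer (gT (m := m) hK).range i
    (fun g y hy hyi hgy => torus_TI hK g y hy (hne y hyi) hgy)
    (fun x hx => by
      obtain ⟨a, d, had⟩ := conj_mem_range_of_split_prime hK x hp hp2 (hpi.trans hd) (by rw [hx]; exact hpi)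
      exact ⟨a, d, had.symm⟩)
  rw [card_normalizer_torus hm hK, card_mem_orderOf_of_isCyclic _ (isCyclic_gT_range hK) i
    (by rw [card_gT_range hK]; exact hd), card_G_eq hK, card_B1 hK] at key
  have hq1 : 0 < 3 ^ (2 * m + 1) - 1 := by
    have : 3 ^ 1 ≤ 3 ^ (2 * m + 1) := Nat.pow_le_pow_right (by norm_num) (by omega)
    omega
  apply Nat.eq_of_mul_eq_mul_right hq1
  have e : 2 * Nat.card {x : ↥(twistedG2 K (3 ^ m)) // orderOf x = i} * (3 ^ (2 * m + 1) - 1) =
      Nat.card {x : ↥(twistedG2 K (3 ^ m)) // orderOf x = i} * (2 * (3 ^ (2 * m + 1) - 1)) := by ring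
  rw [e, key]
  ring

end Cfsg.Agent.Helper9.ReeCnt
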