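import Cfsg.Agent.Helper9.ReeCntD

/-!
Helper9 (for S2357): the numbers of elements of order `i ∣ q ± √(3q) + 1`, `i > 1`, of `²G₂(q)`.
-/

set_option autoImplicit false
set_option maxRecDepth 100000

namespace Cfsg.Agent.Helper9.ReeCnt

open Cfsg Cfsg.Lie Cfsg.Agent.Helper18 Cfsg.Agent.Helper18.Ree Cfsg.Agent.Helper6.Ree
  Cfsg.Agent.Helper6.ReeC Cfsg.Agent.Helper6.ReeE Cfsg.Agent.Helper6.ReeD Cfsg.Agent.Helper9.ReeTI
  Cfsg.Agent.Helper9.ReeStab Cfsg.Agent.Helper9.ReeTor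

variable {K : Type*} [Field K] [Fintype K] [CharP K 3] {m : ℕ}

section Two

variable (hm : 1 ≤ m) (hK : Fintype.card K = 3 ^ (2 * m + 1))
  (x : ↥(twistedG2 K (3 ^ m))) {l : ℕ}
  (hl : l.Prime) (hlq : l ∣ (3 ^ (2 * m + 1)) ^ 2 - 3 ^ (2 * m + 1) + 1) (hx : orderOf x = l)
  (x' : ↥(twistedG2 K (3 ^ m)))

include hm hK hl hlq hx in
/-- counting the elements of order `i ∣ |C(x)|` for a Coxeter torus `C(x)` -/
theorem card_order_coxeter_aux
    (hN : Nat.card ↥(Subgroup.normalizer ((Subgroup.centralizer {x} : Subgroup ↥(twistedG2 K (3 ^ m))) :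
        Set ↥(twistedG2 K (3 ^ m)))) = 6 * Nat.card ↥(Subgroup.centralizer {x}))
    (hcover : ∀ y : ↥(twistedG2 K (3 ^ m)), y ≠ 1 →
      orderOf y ∣ (3 ^ (2 * m + 1)) ^ 2 - 3 ^ (2 * m + 1) + 1 →
        ConjInto (Subgroup.centralizer {x}) y ∨ ConjInto (Subgroup.centralizer {x'}) y)
    (hcop : Nat.Coprime (Nat.card ↥(Subgroup.centralizer {x})) (Nat.card ↥(Subgroup.centralizer {x'})))
    (i : ℕ) (hi : 1 < i) (hd : i ∣ Nat.card ↥(Subgroup.centralizer {x})) :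
    Nat.card {y : ↥(twistedG2 K (3 ^ m)) // orderOf y = i} *
        (6 * Nat.card ↥(Subgroup.centralizer {x})) =
      Nat.card ↥(twistedG2 K (3 ^ m)) * Nat.totient i := by
  have hne : ∀ y : ↥(twistedG2 K (3 ^ m)), orderOf y = i → y ≠ 1 := by
    rintro y hy rfl
    rw [orderOf_one] at hy
    omega
  have key := card_orderOf_mul_card_normalizer (Subgroup.centralizer {x}) i
    (fun g y hy hyi hgy => cox_TI hm hK x hl hlq hx g y hy (hne y hyi) hgy)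
    (fun y hy => by
      rcases hcover y (hne y hy) (by
        rw [hy]; exact hd.trans (coxeter_card_dvd hm hK x hl hlq hx)) with h | h
      · exact h.2
      · exfalso
        obtain ⟨-, g, hg⟩ := h
        have h1 : orderOf (g * y * g⁻¹) ∣ Nat.card ↥(Subgroup.centralizer {x'}) :=
          Subgroup.orderOf_dvd_natCard _ hg
        rw [orderOf_conj', hy] at h1
        have h2 := Nat.dvd_gcd hd h1
        rw [hcop.gcd_eq_one, Nat.dvd_one] at h2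
        omega)
  rw [hN, card_mem_orderOf_of_isCyclic _ (coxeter_isCyclic hm hK x hl hlq hx) i hd] at key
  exact key

end Two

/-- `|G| = q³ (q² - 1) a₁ a₂` when `a₁ a₂ = q² - q + 1` -/
theorem card_G_eq' (hK : Fintype.card K = 3 ^ (2 * m + 1)) (a₁ a₂ : ℕ)
    (hprod : a₁ * a₂ = (3 ^ (2 * m + 1)) ^ 2 - 3 ^ (2 * m + 1) + 1) :
    Nat.card ↥(twistedG2 K (3 ^ m)) =
      (3 ^ (2 * m + 1)) ^ 3 * ((3 ^ (2 * m + 1)) ^ 2 - 1) * (a₁ * a₂) := by
  obtain ⟨n, hn⟩ : ∃ n, 3 ^ (2 * m + 1) = n + 1 :=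
    ⟨3 ^ (2 * m + 1) - 1, (Nat.sub_add_cancel (Nat.one_le_pow _ _ (by norm_num))).symm⟩
  rw [hprod, card_ree_succ hK hn, hn]
  have e1 : (n + 1) ^ 2 - (n + 1) + 1 = (n + 1) * n + 1 := by
    have : (n + 1) ^ 2 = (n + 1) * n + (n + 1) := by ring
    omega
  have e2 : (n + 1) ^ 2 - 1 = n * (n + 2) := by
    have : (n + 1) ^ 2 = n * (n + 2) + 1 := by ring
    omega
  rw [e1, e2]
  ring

/-- the numbers of elements of order `i > 1` dividing `q - √(3q) + 1`, resp. `q + √(3q) + 1` -/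
theorem card_order_coxeter (hm : 1 ≤ m) (hK : Fintype.card K = 3 ^ (2 * m + 1)) :
    (∀ i : ℕ, 1 < i → i ∣ 3 ^ (2 * m + 1) - 3 ^ (m + 1) + 1 →
      6 * Nat.card {g : ↥(twistedG2 K (3 ^ m)) // orderOf g = i} =
        Nat.totient i * (3 ^ (2 * m + 1)) ^ 3 * ((3 ^ (2 * m + 1)) ^ 2 - 1) *
          (3 ^ (2 * m + 1) + 3 ^ (m + 1) + 1)) ∧
    (∀ i : ℕ, 1 < i → i ∣ 3 ^ (2 * m + 1) + 3 ^ (m + 1) + 1 →
      6 * Nat.card {g : ↥(twistedG2 K (3 ^ m)) // orderOf g = i} =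
        Nat.totient i * (3 ^ (2 * m + 1)) ^ 3 * ((3 ^ (2 * m + 1)) ^ 2 - 1) *
          (3 ^ (2 * m + 1) - 3 ^ (m + 1) + 1)) := by
  obtain ⟨l₁, l₂, x₁, x₂, hl₁, hq₁, hx₁, hl₂, hq₂, hx₂, hsum, hprod, hN₁, hN₂, hcover, hdisj⟩ :=
    ree_tori_unordered hm hK
  have hcop := cox_coprime hm hK x₁ hl₁ hq₁ hx₁ x₂ hl₂ hq₂ hx₂ hdisj
  have hcover' : ∀ y : ↥(twistedG2 K (3 ^ m)), y ≠ 1 →
      orderOf y ∣ (3 ^ (2 * m + 1)) ^ 2 - 3 ^ (2 * m + 1) + 1 →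
        ConjInto (Subgroup.centralizer {x₂}) y ∨ ConjInto (Subgroup.centralizer {x₁}) y :=
    fun y hy1 hy => (hcover y hy1 hy).symm
  have k₁ := card_order_coxeter_aux hm hK x₁ hl₁ hq₁ hx₁ x₂ hN₁ hcover hcop
  have k₂ := card_order_coxeter_aux hm hK x₂ hl₂ hq₂ hx₂ x₁ hN₂ hcover' hcop.symm
  have hG := card_G_eq' hK _ _ hprod
  have hpos₁ : 0 < Nat.card ↥(Subgroup.centralizer {x₁}) := Nat.card_pos
  have hpos₂ : 0 < Nat.card ↥(Subgroup.centralizer {x₂}) := Nat.card_pos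
  -- the two shapes
  have s₁ : ∀ i : ℕ, 1 < i → i ∣ Nat.card ↥(Subgroup.centralizer {x₁}) →
      6 * Nat.card {g : ↥(twistedG2 K (3 ^ m)) // orderOf g = i} =
        Nat.totient i * (3 ^ (2 * m + 1)) ^ 3 * ((3 ^ (2 * m + 1)) ^ 2 - 1) *
          Nat.card ↥(Subgroup.centralizer {x₂}) := by
    intro i hi hd
    have h := k₁ i hi hd
    rw [hG] at h
    apply Nat.eq_of_mul_eq_mul_right hpos₁
    have e : 6 * Nat.card {g : ↥(twistedG2 K (3 ^ m)) // orderOf g = i} *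
        Nat.card ↥(Subgroup.centralizer {x₁}) =
        Nat.card {g : ↥(twistedG2 K (3 ^ m)) // orderOf g = i} *
          (6 * Nat.card ↥(Subgroup.centralizer {x₁})) := by ring
    rw [e, h]
    ring
  have s₂ : ∀ i : ℕ, 1 < i → i ∣ Nat.card ↥(Subgroup.centralizer {x₂}) →
      6 * Nat.card {g : ↥(twistedG2 K (3 ^ m)) // orderOf g = i} =
        Nat.totient i * (3 ^ (2 * m + 1)) ^ 3 * ((3 ^ (2 * m + 1)) ^ 2 - 1) *
          Nat.card ↥(Subgroup.centralizer {x₁}) := by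
    intro i hi hd
    have h := k₂ i hi hd
    rw [hG] at h
    apply Nat.eq_of_mul_eq_mul_right hpos₂
    have e : 6 * Nat.card {g : ↥(twistedG2 K (3 ^ m)) // orderOf g = i} *
        Nat.card ↥(Subgroup.centralizer {x₂}) =
        Nat.card {g : ↥(twistedG2 K (3 ^ m)) // orderOf g = i} *
          (6 * Nat.card ↥(Subgroup.centralizer {x₂})) := by ring
    rw [e, h]
    ring
  rcases Cfsg.Agent.Helper70.ReeCount.ree_arith_solve m _ _ hsum hprod with ⟨h1, h2⟩ | ⟨h2, h1⟩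
  · rw [h1] at s₁ s₂
    rw [h2] at s₁ s₂
    exact ⟨s₁, s₂⟩
  · rw [h1] at s₁ s₂
    rw [h2] at s₁ s₂
    exact ⟨s₂, s₁⟩

end Cfsg.Agent.Helper9.ReeCnt
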