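import Cfsg.Agent.Helper9.ReeCntE

/-!
Helper9 (for S2357): two generic lemmas on an abelian subgroup `T` of order `4k`, `k` odd, of a finite
group: a subgroup of order `k` contains all elements of `T` of order dividing `k`; and the elements of order
`2i` (`i` odd) of `T` are the products of the involutions and the elements of order `i`.
-/

set_option autoImplicit false
set_option maxRecDepth 100000

namespace Cfsg.Agent.Helper9.ReeCnt

/-- in an abelian group `T` of order `4k`, `k` odd, a subgroup of order `k` contains all elements whose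
order divides `k` -/
theorem mem_of_pow_eq_one_of_card {G : Type*} [Group G] [Finite G] (T A : Subgroup G)
    (hTc : ∀ x ∈ T, ∀ y ∈ T, x * y = y * x) (hAT : A ≤ T) (k : ℕ) (hk : Odd k)
    (hA : Nat.card ↥A = k) (hT : Nat.card ↥T = 4 * k) (y : G) (hy : y ∈ T) (hyk : y ^ k = 1) :
    y ∈ A := by
  let A' : Subgroup G :=
    { carrier := {z | z ∈ T ∧ z ^ k = 1}
      one_mem' := ⟨T.one_mem, one_pow k⟩
      mul_mem' := by
        rintro a b ⟨haT, ha⟩ ⟨hbT, hb⟩
        refine ⟨T.mul_mem haT hbT, ?_⟩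
        rw [(show Commute a b from hTc a haT b hbT).mul_pow, ha, hb, one_mul]
      inv_mem' := by
        rintro a ⟨haT, ha⟩
        exact ⟨T.inv_mem haT, by rw [inv_pow, ha, inv_one]⟩ }
  have hmem : ∀ z : G, z ∈ A' ↔ z ∈ T ∧ z ^ k = 1 := fun z => Iff.rfl
  have hAA' : A ≤ A' := by
    intro z hz
    refine (hmem z).mpr ⟨hAT hz, ?_⟩
    have h1 : (⟨z, hz⟩ : ↥A) ^ Nat.card ↥A = 1 := pow_card_eq_one'
    rw [hA] at h1
    have h2 := congrArg (Subtype.val) h1
    simpa using h2
  have hA'T : A' ≤ T := fun z hz => ((hmem z).mp hz).1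
  have hodd : ¬ 2 ∣ Nat.card ↥A' := by
    intro h2
    haveI : Fact (Nat.Prime 2) := ⟨Nat.prime_two⟩
    obtain ⟨t, ht⟩ := exists_prime_orderOf_dvd_card' (G := ↥A') 2 h2
    rw [← Subgroup.orderOf_coe] at ht
    have h3 : orderOf (t : G) ∣ k := orderOf_dvd_of_pow_eq_one ((hmem _).mp t.2).2
    rw [ht] at h3
    exact (Nat.not_even_iff_odd.mpr hk) (even_iff_two_dvd.mpr h3)
  have hdvd : Nat.card ↥A' ∣ 4 * k := by
    rw [← hT]
    exact Subgroup.card_dvd_of_le hA'T
  have hcop : Nat.Coprime (Nat.card ↥A') 4 := by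
    have : Nat.Coprime (Nat.card ↥A') 2 :=
      ((Nat.Prime.coprime_iff_not_dvd Nat.prime_two).mpr hodd).symm
    have h4 : (4 : ℕ) = 2 ^ 2 := by norm_num
    rw [h4]
    exact Nat.Coprime.pow_right 2 this
  have hdvd' : Nat.card ↥A' ∣ k := hcop.dvd_of_dvd_mul_left hdvd
  have hk0 : 0 < k := hk.pos
  have hle : Nat.card ↥A' ≤ Nat.card ↥A := by
    rw [hA]
    exact Nat.le_of_dvd hk0 hdvd'
  have heq : A = A' := Subgroup.eq_of_le_of_card_ge hAA' hle
  rw [heq]
  exact (hmem y).mpr ⟨hy, hyk⟩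

/-- in an abelian subgroup the elements of order `2i` (`i` odd) are the products of an element of order `2`
and an element of order `i` -/
theorem card_orderOf_two_mul {G : Type*} [Group G] [Finite G] (T : Subgroup G)
    (hTc : ∀ x ∈ T, ∀ y ∈ T, x * y = y * x) (i : ℕ) (hi : Odd i) :
    Nat.card {y : G // y ∈ T ∧ orderOf y = 2 * i} =
      Nat.card {t : G // t ∈ T ∧ orderOf t = 2} * Nat.card {z : G // z ∈ T ∧ orderOf z = i} := by
  rw [← Nat.card_prod]
  symm
  have hcop : Nat.Coprime 2 i := (Nat.coprime_two_left).mpr hi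
  obtain ⟨j, hj⟩ := hi
  have hti : ∀ t : G, orderOf t = 2 → t ^ i = t := by
    intro t ht
    have h2 : t ^ 2 = 1 := by rw [← ht, pow_orderOf_eq_one]
    rw [hj, pow_succ, pow_mul, h2, one_pow, one_mul]
  apply Nat.card_congr
  refine Equiv.ofBijective (fun p => ⟨p.1.1 * p.2.1, T.mul_mem p.1.2.1 p.2.2.1, ?_⟩) ⟨?_, ?_⟩
  · have hc : Commute p.1.1 p.2.1 := hTc _ p.1.2.1 _ p.2.2.1
    rw [hc.orderOf_mul_eq_mul_orderOf_of_coprime (by rw [p.1.2.2, p.2.2.2]; exact hcop), p.1.2.2,
      p.2.2.2]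
  · rintro ⟨⟨t, htT, ht⟩, ⟨z, hzT, hz⟩⟩ ⟨⟨t', htT', ht'⟩, ⟨z', hzT', hz'⟩⟩ h
    have h' : t * z = t' * z' := congrArg Subtype.val h
    have hc : Commute t z := hTc _ htT _ hzT
    have hc' : Commute t' z' := hTc _ htT' _ hzT'
    have e1 : (t * z) ^ i = t := by
      rw [hc.mul_pow, hti t ht, ← hz, pow_orderOf_eq_one, mul_one]
    have e2 : (t' * z') ^ i = t' := by
      rw [hc'.mul_pow, hti t' ht', ← hz', pow_orderOf_eq_one, mul_one]
    have htt : t = t' := by rw [← e1, ← e2, h']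
    have hzz : z = z' := by
      rw [htt] at h'
      exact mul_left_cancel h'
    subst htt
    subst hzz
    rfl
  · rintro ⟨y, hyT, hy⟩
    have hy2i : y ^ (2 * i) = 1 := by rw [← hy, pow_orderOf_eq_one]
    have hi0 : 0 < i := by omega
    have hot : orderOf (y ^ i) = 2 := by
      rw [orderOf_pow' y hi0.ne', hy, Nat.gcd_mul_left_left, Nat.mul_div_cancel _ hi0]
    have hzi : (y ^ (i + 1)) ^ i = 1 := by
      rw [← pow_mul]
      have : (i + 1) * i = (2 * i) * (j + 1) := by rw [hj]; ring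
      rw [this, pow_mul, hy2i, one_pow]
    have hprod : y ^ i * y ^ (i + 1) = y := by
      rw [← pow_add]
      have : i + (i + 1) = 2 * i + 1 := by ring
      rw [this, pow_succ, hy2i, one_mul]
    have hoz : orderOf (y ^ (i + 1)) = i := by
      have hd : orderOf (y ^ (i + 1)) ∣ i := orderOf_dvd_of_pow_eq_one hzi
      have hc : Commute (y ^ i) (y ^ (i + 1)) := (Commute.refl y).pow_pow _ _
      have hcop' : Nat.Coprime (orderOf (y ^ i)) (orderOf (y ^ (i + 1))) := by
        rw [hot]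
        exact Nat.Coprime.coprime_dvd_right hd hcop
      have h1 := hc.orderOf_mul_eq_mul_orderOf_of_coprime hcop'
      rw [hprod, hy, hot] at h1
      exact (Nat.eq_of_mul_eq_mul_left (by norm_num) h1).symm
    refine ⟨⟨⟨y ^ i, T.pow_mem hyT _, hot⟩, ⟨y ^ (i + 1), T.pow_mem hyT _, hoz⟩⟩, ?_⟩
    exact Subtype.ext hprod

end Cfsg.Agent.Helper9.ReeCnt
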