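import Cfsg.Agent.Helper9.ReeCntF

/-!
Helper9 (for S2357): the numbers of elements of order `i` and `2i`, `1 < i ∣ (q + 1) / 4`, of `²G₂(q)`.
-/

set_option autoImplicit false
set_option maxRecDepth 100000

namespace Cfsg.Agent.Helper9.ReeCnt

open Cfsg Cfsg.Lie Cfsg.Agent.Helper18 Cfsg.Agent.Helper18.Ree Cfsg.Agent.Helper6.Ree
  Cfsg.Agent.Helper6.ReeC Cfsg.Agent.Helper6.ReeE Cfsg.Agent.Helper6.ReeD Cfsg.Agent.Helper9.ReeTI
  Cfsg.Agent.Helper9.ReeStab Cfsg.Agent.Helper9.ReeTor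

variable {K : Type*} [Field K] [Fintype K] [CharP K 3] {m : ℕ}

section Quarter

variable (hm : 1 ≤ m) (hK : Fintype.card K = 3 ^ (2 * m + 1)) (a : ↥(twistedG2 K (3 ^ m))) {s : ℕ}
  (hs : s.Prime) (hs2 : s ≠ 2) (hs3 : s ≠ 3) (hsq : s ∣ 3 ^ (2 * m + 1) + 1) (ha : orderOf a = s)

include hm hK hs hs2 hs3 hsq ha in
/-- the cyclic Hall subgroup of order `(q + 1) / 4` of `T = C(a)` -/
theorem exists_quarter_sub :
    ∃ A : Subgroup ↥(twistedG2 K (3 ^ m)), A ≤ Subgroup.centralizer {a} ∧ IsCyclic ↥A ∧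
      Nat.card ↥A = (3 ^ (2 * m + 1) + 1) / 4 := by
  have hq27 : 3 ^ 3 ≤ 3 ^ (2 * m + 1) := Nat.pow_le_pow_right (by norm_num) (by omega)
  obtain ⟨hq1, hq2, hq3⟩ := arith_quarter _ (q_mod_eight m) hq27
  obtain ⟨hTc, hTcard⟩ := centralizer_of_prime_order_quarter hm hK a hs hs2 hs3 hsq ha
  have hsyl : ∀ p : ℕ, ∀ _ : Fact p.Prime, p ∣ (3 ^ (2 * m + 1) + 1) / 4 →
      ∀ P : Sylow p ↥(twistedG2 K (3 ^ m)), IsCyclic ↥(P : Subgroup ↥(twistedG2 K (3 ^ m))) := by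
    intro p hp hpd P
    obtain ⟨h2, h3, -⟩ := arith_quarter_prime m hm hp.out hpd
    have h5 : 3 < p := by
      have := hp.out.two_le
      omega
    exact Cfsg.Agent.S1156.result hm hK h5 P
  obtain ⟨A, hAT, hAcard⟩ : ∃ A : Subgroup ↥(twistedG2 K (3 ^ m)), A ≤ Subgroup.centralizer {a} ∧
      Nat.card ↥A = (3 ^ (2 * m + 1) + 1) / 4 := by
    letI : CommGroup ↥(Subgroup.centralizer {a}) :=
      { (inferInstance : Group ↥(Subgroup.centralizer {a})) with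
        mul_comm := fun x y => Subtype.ext (hTc x x.2 y y.2) }
    let P : Sylow 2 ↥(Subgroup.centralizer {a}) := default
    have hPcard : Nat.card ↥(P : Subgroup ↥(Subgroup.centralizer {a})) = 4 := by
      rw [P.card_eq_multiplicity, hTcard, hq2, Nat.factorization_mul (by omega) (by norm_num),
        Finsupp.add_apply, Nat.factorization_eq_zero_of_not_dvd hq1, zero_add,
        show (4 : ℕ) = 2 ^ 2 by norm_num, Nat.Prime.factorization_pow Nat.prime_two]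
      simp
    have hcop : Nat.Coprime (Nat.card ↥(P : Subgroup ↥(Subgroup.centralizer {a})))
        (P : Subgroup ↥(Subgroup.centralizer {a})).index := P.card_coprime_index
    obtain ⟨H, hH⟩ := Subgroup.exists_right_complement'_of_coprime hcop
    refine ⟨H.map (Subgroup.centralizer {a}).subtype, Subgroup.map_subtype_le H, ?_⟩
    rw [Subgroup.card_map_of_injective (Subgroup.subtype_injective _)]
    have h1 := hH.card_mul_card
    rw [hPcard, hTcard] at h1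
    omega
  have hAc : ∀ x ∈ A, ∀ y ∈ A, x * y = y * x := fun x hx y hy => hTc x (hAT hx) y (hAT hy)
  exact ⟨A, hAT, isCyclic_of_comm_of_sylow A hAc (by rw [hAcard]; exact hsyl), hAcard⟩

include hm hK hs hs2 hs3 hsq ha in
/-- `T = C(a)` has `φ(i)` elements of order `i ∣ (q + 1) / 4` -/
theorem card_quarter_order (i : ℕ) (hd : i ∣ (3 ^ (2 * m + 1) + 1) / 4) :
    Nat.card {y : ↥(twistedG2 K (3 ^ m)) // y ∈ Subgroup.centralizer {a} ∧ orderOf y = i} =
      Nat.totient i := by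
  have hq27 : 3 ^ 3 ≤ 3 ^ (2 * m + 1) := Nat.pow_le_pow_right (by norm_num) (by omega)
  obtain ⟨hq1, hq2, hq3⟩ := arith_quarter _ (q_mod_eight m) hq27
  obtain ⟨hTc, hTcard⟩ := centralizer_of_prime_order_quarter hm hK a hs hs2 hs3 hsq ha
  obtain ⟨A, hAT, hAcyc, hAcard⟩ := exists_quarter_sub hm hK a hs hs2 hs3 hsq ha
  rw [← card_mem_orderOf_of_isCyclic A hAcyc i (by rw [hAcard]; exact hd)]
  apply Nat.card_congr
  apply Equiv.subtypeEquivRight
  intro y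
  constructor
  · rintro ⟨hy, hyi⟩
    refine ⟨?_, hyi⟩
    apply mem_of_pow_eq_one_of_card (Subgroup.centralizer {a}) A hTc hAT _
      (Nat.odd_iff.mpr (by omega)) hAcard (by rw [hTcard]; omega) y hy
    obtain ⟨c, hc⟩ := hd
    rw [hc, pow_mul, ← hyi, pow_orderOf_eq_one, one_pow]
  · rintro ⟨hy, hyi⟩
    exact ⟨hAT hy, hyi⟩

include hm hK hs hs2 hs3 hsq ha in
/-- `T = C(a)` has three elements of order `2` -/
theorem card_quarter_order_two :
    Nat.card {t : ↥(twistedG2 K (3 ^ m)) // t ∈ Subgroup.centralizer {a} ∧ orderOf t = 2} = 3 := by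
  classical
  have hq27 : 3 ^ 3 ≤ 3 ^ (2 * m + 1) := Nat.pow_le_pow_right (by norm_num) (by omega)
  obtain ⟨hq1, hq2, hq3⟩ := arith_quarter _ (q_mod_eight m) hq27
  obtain ⟨hTc, hTcard⟩ := centralizer_of_prime_order_quarter hm hK a hs hs2 hs3 hsq ha
  obtain ⟨S, hS3, hS⟩ := Cfsg.Agent.Helper38.ReeInv3.exists_three_involutions (Subgroup.centralizer {a}) hTc
    ((3 ^ (2 * m + 1) + 1) / 4) (Nat.odd_iff.mpr (by omega)) (by rw [hTcard]; exact hq2.trans (mul_comm _ _))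
    (fun x _ hx => sq_eq_one_of_two_element hK x 2 (by rw [show (2 : ℕ) ^ 2 = 4 by norm_num]; exact hx))
  refine Eq.trans ?_ hS3
  rw [← Fintype.card_coe, ← Nat.card_eq_fintype_card]
  apply Nat.card_congr
  apply Equiv.subtypeEquivRight
  intro t
  rw [hS, orderOf_eq_prime_iff (p := 2), pow_two]
  tauto

include hm hK hs hs2 hs3 hsq ha in
/-- fusion of the non-involutions of `T = C(a)` is controlled by `N(T)` -/
theorem quarter_TI (g y : ↥(twistedG2 K (3 ^ m))) (hy : y ∈ Subgroup.centralizer {a}) (hy2 : y * y ≠ 1)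
    (hgy : g * y * g⁻¹ ∈ Subgroup.centralizer {a}) :
    g ∈ Subgroup.normalizer ((Subgroup.centralizer {a} : Subgroup ↥(twistedG2 K (3 ^ m))) :
      Set ↥(twistedG2 K (3 ^ m))) := by
  have hgy2 : g * y * g⁻¹ * (g * y * g⁻¹) ≠ 1 := by
    intro h
    apply hy2
    have : g * y * g⁻¹ * (g * y * g⁻¹) = g * (y * y) * g⁻¹ := by group
    rwa [this, conj_eq_one_iff] at h
  have h1 := centralizer_eq_of_sq_ne hm hK a hs hs2 hs3 hsq ha y hy hy2
  have h2 := centralizer_eq_of_sq_ne hm hK a hs hs2 hs3 hsq ha _ hgy hgy2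
  rw [centralizer_conj, h1] at h2
  exact mem_normalizer_of_map_eq _ g h2

include hm hK hs hs2 hs3 hsq ha in
/-- counting the elements of order `d` when `d` is divisible by a prime divisor of `(q + 1) / 4` and
`d > 2` -/
theorem card_order_quarter_aux (d : ℕ) {s' : ℕ} (hs' : s'.Prime) (hs'd : s' ∣ d)
    (hs'q : s' ∣ (3 ^ (2 * m + 1) + 1) / 4) (hd2 : 2 < d) :
    Nat.card {x : ↥(twistedG2 K (3 ^ m)) // orderOf x = d} * (6 * (3 ^ (2 * m + 1) + 1)) =
      Nat.card ↥(twistedG2 K (3 ^ m)) *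
        Nat.card {y : ↥(twistedG2 K (3 ^ m)) // y ∈ Subgroup.centralizer {a} ∧ orderOf y = d} := by
  obtain ⟨h2, h3, hq⟩ := arith_quarter_prime m hm hs' hs'q
  have hne : ∀ y : ↥(twistedG2 K (3 ^ m)), orderOf y = d → y * y ≠ 1 := by
    intro y hy h
    have : orderOf y ∣ 2 := orderOf_dvd_of_pow_eq_one (by rw [pow_two]; exact h)
    rw [hy] at this
    have := Nat.le_of_dvd (by norm_num) this
    omega
  rw [← card_normalizer_quarter hm hK a hs hs2 hs3 hsq ha]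
  apply card_orderOf_mul_card_normalizer
  · intro g y hy hyd hgy
    exact quarter_TI hm hK a hs hs2 hs3 hsq ha g y hy (hne y hyd) hgy
  · intro x hx
    obtain ⟨g, hg, -⟩ := (conj_Dset_iff hm hK a hs hs2 hs3 hsq ha x).mpr
      ⟨s', hs', h2, h3, hq, by rw [hx]; exact hs'd⟩
    exact ⟨g, hg⟩

end Quarter

/-- `|G| = q³ (q - 1) (q + 1) (q² - q + 1)` -/
theorem card_G_eq'' (hK : Fintype.card K = 3 ^ (2 * m + 1)) :
    Nat.card ↥(twistedG2 K (3 ^ m)) =
      (3 ^ (2 * m + 1)) ^ 3 * (3 ^ (2 * m + 1) - 1) * (3 ^ (2 * m + 1) + 1) *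
        ((3 ^ (2 * m + 1)) ^ 2 - 3 ^ (2 * m + 1) + 1) := by
  obtain ⟨n, hn⟩ : ∃ n, 3 ^ (2 * m + 1) = n + 1 :=
    ⟨3 ^ (2 * m + 1) - 1, (Nat.sub_add_cancel (Nat.one_le_pow _ _ (by norm_num))).symm⟩
  rw [card_ree_succ hK hn, hn]
  have e1 : (n + 1) ^ 2 - (n + 1) + 1 = (n + 1) * n + 1 := by
    have : (n + 1) ^ 2 = (n + 1) * n + (n + 1) := by ring
    omega
  rw [e1, Nat.add_sub_cancel]

/-- the numbers of elements of order `i` and `2i` for `1 < i ∣ (q + 1) / 4` -/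
theorem card_order_quarter (hm : 1 ≤ m) (hK : Fintype.card K = 3 ^ (2 * m + 1)) (i : ℕ) (hi : 1 < i)
    (hd : i ∣ (3 ^ (2 * m + 1) + 1) / 4) :
    6 * Nat.card {g : ↥(twistedG2 K (3 ^ m)) // orderOf g = i} =
        Nat.totient i * (3 ^ (2 * m + 1)) ^ 3 * (3 ^ (2 * m + 1) - 1) *
          ((3 ^ (2 * m + 1)) ^ 2 - 3 ^ (2 * m + 1) + 1) ∧
      2 * Nat.card {g : ↥(twistedG2 K (3 ^ m)) // orderOf g = 2 * i} =
        Nat.totient i * (3 ^ (2 * m + 1)) ^ 3 * (3 ^ (2 * m + 1) - 1) *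
          ((3 ^ (2 * m + 1)) ^ 2 - 3 ^ (2 * m + 1) + 1) := by
  have hq27 : 3 ^ 3 ≤ 3 ^ (2 * m + 1) := Nat.pow_le_pow_right (by norm_num) (by omega)
  obtain ⟨hq1, hq2, hq3⟩ := arith_quarter _ (q_mod_eight m) hq27
  obtain ⟨s, a, hs, hs2, hs3, hsq, ha⟩ := exists_quarter_element hm hK
  obtain ⟨hTc, hTcard⟩ := centralizer_of_prime_order_quarter hm hK a hs hs2 hs3 hsq ha
  obtain ⟨s', hs', hs'i⟩ := Nat.exists_prime_and_dvd (n := i) (by omega)
  have hiodd : Odd i := by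
    rw [← Nat.not_even_iff_odd]
    intro he
    exact hq1 ((even_iff_two_dvd.mp he).trans hd)
  have hi2 : 2 < i := by
    obtain ⟨j, hj⟩ := hiodd
    omega
  have k1 := card_order_quarter_aux hm hK a hs hs2 hs3 hsq ha i hs' hs'i (hs'i.trans hd) hi2
  have k2 := card_order_quarter_aux hm hK a hs hs2 hs3 hsq ha (2 * i) hs' (hs'i.mul_left 2)
    (hs'i.trans hd) (by omega)
  rw [card_quarter_order hm hK a hs hs2 hs3 hsq ha i hd, card_G_eq'' hK] at k1
  rw [card_orderOf_two_mul _ hTc i hiodd, card_quarter_order hm hK a hs hs2 hs3 hsq ha i hd,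
    card_quarter_order_two hm hK a hs hs2 hs3 hsq ha, card_G_eq'' hK] at k2
  have hpos : 0 < 3 ^ (2 * m + 1) + 1 := by omega
  constructor
  · apply Nat.eq_of_mul_eq_mul_right hpos
    have e : 6 * Nat.card {g : ↥(twistedG2 K (3 ^ m)) // orderOf g = i} * (3 ^ (2 * m + 1) + 1) =
        Nat.card {g : ↥(twistedG2 K (3 ^ m)) // orderOf g = i} * (6 * (3 ^ (2 * m + 1) + 1)) := by ring
    rw [e, k1]
    ring
  · apply Nat.eq_of_mul_eq_mul_right (show 0 < 3 * (3 ^ (2 * m + 1) + 1) by omega)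
    have e : 2 * Nat.card {g : ↥(twistedG2 K (3 ^ m)) // orderOf g = 2 * i} *
        (3 * (3 ^ (2 * m + 1) + 1)) =
        Nat.card {g : ↥(twistedG2 K (3 ^ m)) // orderOf g = 2 * i} * (6 * (3 ^ (2 * m + 1) + 1)) := by
      ring
    rw [e, k2]
    ring

end Cfsg.Agent.Helper9.ReeCnt
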