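import Cfsg.Agent.Helper9.ReeMultG
import Cfsg.Agent.Helper9.E8Seven
import Cfsg.Agent.Helper6.Ree28
import Cfsg.Agent.Helper6.Mult4
import Cfsg.Agent.Helper72.StemE8
import Cfsg.Agent.S1156
import Cfsg.Agent.S1157

/-!
# The Schur multiplier of the small Ree groups is trivial (helper9)

Instantiation of the abstract core `ReeMultG` with helper6's coordinates of the Sylow
`3`-subgroup, the order-seven argument for the prime `2`, and the cyclic Sylow subgroups for the
other primes.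
-/

set_option autoImplicit false
set_option maxRecDepth 100000

namespace Cfsg.Agent.Helper9.ReeMult

open Cfsg Cfsg.Lie Cfsg.Agent.Helper6.Ree Cfsg.Agent.Helper9.ReeTI

universe u

variable {K : Type u} [Field K] [Fintype K] {m : ℕ}

instance finite_ree : Finite ↥(twistedG2 K (3 ^ m)) := inferInstance

/-- no finite stem extension of a Ree group has a kernel of order three -/
theorem ree_ker_card_ne_three {Γ : Type*} [Group Γ] [Finite Γ] (hm : 1 ≤ m)
    (hK : Fintype.card K = 3 ^ (2 * m + 1)) (σ : Γ →* ↥(twistedG2 K (3 ^ m)))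
    (hσ : Cfsg.IsStemExtension σ) : Nat.card σ.ker ≠ 3 := by
  intro hcard
  haveI : CharP K 3 := Cfsg.Agent.Helper18.Ree.charP_three hK
  haveI : Fact (Nat.Prime 3) := ⟨Nat.prime_three⟩
  obtain ⟨hs, hcen, hder⟩ := hσ
  obtain ⟨c₀, hc1, hc2⟩ := exists_unit_pow_ne_one hm hK
  have hc : ∀ c ∈ σ.ker, ∀ g : Γ, c * g = g * c := fun c hc g =>
    (Subgroup.mem_center_iff.mp (hcen hc) g).symm
  have S : Setup σ (3 * 3 ^ m) (gU K m) (gT hK) c₀ :=
    { surj := hs
      cen := hc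
      cube := by
        intro c hc'
        have h1 : (⟨c, hc'⟩ : σ.ker) ^ Nat.card σ.ker = 1 := pow_card_eq_one'
        rw [hcard] at h1
        have h2 := congrArg Subtype.val h1
        rw [Subgroup.coe_pow] at h2
        exact h2
      s_odd := Odd.mul (by decide) (Odd.pow (by decide))
      x_mul := gU_mul hK
      x_inj := fun t u v t' u' v' h => gU_inj h
      h_conj := gT_conj_gU hK
      h_comm := fun c c' => by rw [← map_mul, ← map_mul, mul_comm]
      pow2 := exists_pow_eq hm hK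
      pow1 := exists_pow_eq_or_neg hm hK
      size := size_cond hm hK
      c1 := hc1
      c2 := hc2 }
  obtain ⟨x, hx⟩ := exists_prime_orderOf_dvd_card' (G := σ.ker) 3 (by rw [hcard])
  obtain ⟨z, hz⟩ : ∃ z : Γ, z = (x : Γ) := ⟨_, rfl⟩
  have hzker : z ∈ σ.ker := by rw [hz]; exact x.2
  have hzord : orderOf z = 3 := by
    rw [hz, Subgroup.orderOf_coe]; exact hx
  have hzp : z ^ 3 = 1 := by rw [← hzord]; exact pow_orderOf_eq_one z
  have hz1 : z ≠ 1 := by
    intro h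
    rw [h, orderOf_one] at hzord
    omega
  obtain ⟨H, hH⟩ : ∃ H : Subgroup Γ, H = (U1 K m).comap σ := ⟨_, rfl⟩
  have hHx : ∀ p ∈ H, ∃ t u v : K, σ p = gU K m t u v := by
    intro p hp
    rw [hH, Subgroup.mem_comap] at hp
    exact (mem_U1_iff_gU hK _).1 hp
  have hzH : z ∈ H := by
    rw [hH, Subgroup.mem_comap, MonoidHom.mem_ker.1 hzker]
    exact Subgroup.one_mem _
  have hnot := S.not_mem_commutator H hHx z hzker hz1 hzH
  have hidx : Nat.Coprime H.index 3 := by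
    obtain ⟨P₀, hP₀⟩ := exists_sylow_eq_U1 (m := m) hK
    rw [hH, Subgroup.index_comap_of_surjective _ hs, ← hP₀]
    exact ((Nat.Prime.coprime_iff_not_dvd Nat.prime_three).2 P₀.not_dvd_index).symm
  exact Cfsg.Agent.Helper6.not_mem_commutator_of_transfer H z (fun g => (hc z hzker g).symm) hzH 3
    hzp hidx hnot (hder hzker)

/-- no finite stem extension of a Ree group has a kernel of order two -/
theorem ree_ker_card_ne_two {Γ : Type*} [Group Γ] [Finite Γ] (hm : 1 ≤ m)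
    (hK : Fintype.card K = 3 ^ (2 * m + 1)) (σ : Γ →* ↥(twistedG2 K (3 ^ m)))
    (hσ : Cfsg.IsStemExtension σ) : Nat.card σ.ker ≠ 2 := by
  intro hcard
  haveI : Fact (Nat.Prime 2) := ⟨Nat.prime_two⟩
  haveI : Fact (Nat.Prime 7) := ⟨by norm_num⟩
  let P : Sylow 2 ↥(twistedG2 K (3 ^ m)) := default
  obtain ⟨hP8, hPexp⟩ := Cfsg.Agent.Helper6.Ree.sylow_two_ree hK P
  obtain ⟨hC, hN⟩ := Cfsg.Agent.S1157.result hm hK P
  obtain ⟨g, hg⟩ := exists_prime_orderOf_dvd_card'
    (G := ↥(Subgroup.normalizer ((P : Subgroup ↥(twistedG2 K (3 ^ m))) : Set ↥(twistedG2 K (3 ^ m))))) 7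
    (by rw [hN]; norm_num)
  obtain ⟨g₀, hg₀⟩ : ∃ g₀ : ↥(twistedG2 K (3 ^ m)), g₀ = (g : ↥(twistedG2 K (3 ^ m))) := ⟨_, rfl⟩
  have hord : orderOf g₀ = 7 := by
    rw [hg₀, Subgroup.orderOf_coe]; exact hg
  have hg7 : g₀ ^ 7 = 1 := by rw [← hord]; exact pow_orderOf_eq_one g₀
  have hgN : ∀ t ∈ (P : Subgroup ↥(twistedG2 K (3 ^ m))), g₀ * t * g₀⁻¹ ∈
      (P : Subgroup ↥(twistedG2 K (3 ^ m))) := by
    intro t ht
    have := g.2
    rw [← hg₀] at this
    exact (Subgroup.mem_normalizer_iff.mp this t).mp ht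
  have hex : ∃ s ∈ (P : Subgroup ↥(twistedG2 K (3 ^ m))), g₀ * s ≠ s * g₀ := by
    by_contra hcon
    push Not at hcon
    have hgC : g₀ ∈ Subgroup.centralizer
        ((P : Subgroup ↥(twistedG2 K (3 ^ m))) : Set ↥(twistedG2 K (3 ^ m))) := by
      rw [Subgroup.mem_centralizer_iff]
      intro h hh
      exact (hcon h hh).symm
    rw [hC] at hgC
    have h2 := hPexp g₀ hgC
    have h1 : g₀ = 1 := by
      have h7 : g₀ ^ 7 = g₀ := by
        rw [show 7 = 2 * 3 + 1 from rfl, pow_succ, pow_mul, pow_two, h2, one_pow, one_mul]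
      rw [← h7, hg7]
    rw [h1, orderOf_one] at hord
    omega
  obtain ⟨s, hs, hgs⟩ := hex
  haveI : Finite ↥(P : Subgroup ↥(twistedG2 K (3 ^ m))) := inferInstance
  obtain ⟨g', t₁, t₂, t₃, h12, h23, h31, h1, h2, h3, hle⟩ :=
    Cfsg.Agent.Helper9.E8Seven.exists_E8_rel (P : Subgroup ↥(twistedG2 K (3 ^ m))) hP8 hPexp g₀ hg7
      hgN s hs hgs
  -- an element of order two in the kernel
  obtain ⟨x, hx⟩ := exists_prime_orderOf_dvd_card' (G := σ.ker) 2 (by rw [hcard])
  obtain ⟨z, hz⟩ : ∃ z : Γ, z = (x : Γ) := ⟨_, rfl⟩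
  have hzker : z ∈ σ.ker := by rw [hz]; exact x.2
  have hzord : orderOf z = 2 := by
    rw [hz, Subgroup.orderOf_coe]; exact hx
  have hzp : z ^ 2 = 1 := by rw [← hzord]; exact pow_orderOf_eq_one z
  have hkey := Cfsg.Agent.Helper72.StemE8.ker_pow_index_closure σ hσ g' t₁ t₂ t₃ h12 h23 h31 h1 h2
    h3 hzker
  have hodd : ¬ 2 ∣ (Subgroup.closure ({t₁, t₂, t₃} : Set ↥(twistedG2 K (3 ^ m)))).index := by
    intro h
    exact P.not_dvd_index (dvd_trans h (Subgroup.index_dvd_of_le hle))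
  have h4 := orderOf_dvd_of_pow_eq_one hkey
  rw [hzord] at h4
  exact hodd h4

/-- every finite stem extension of a Ree group is an isomorphism -/
theorem ree_stem_ker_eq_bot (hm : 1 ≤ m) (hK : Fintype.card K = 3 ^ (2 * m + 1)) :
    ∀ (Γ : Type u) [Group Γ] [Finite Γ] (σ : Γ →* ↥(twistedG2 K (3 ^ m))),
      Cfsg.IsStemExtension σ → σ.ker = ⊥ := by
  apply Cfsg.Agent.Helper6.stem_ker_eq_bot_of_not_prime
  intro Γ _ _ σ hσ hp
  by_cases h2 : Nat.card σ.ker = 2
  · exact ree_ker_card_ne_two hm hK σ hσ h2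
  by_cases h3 : Nat.card σ.ker = 3
  · exact ree_ker_card_ne_three hm hK σ hσ h3
  haveI : Fact (Nat.card σ.ker).Prime := ⟨hp⟩
  have hp3 : 3 < Nat.card σ.ker := by
    have := hp.two_le
    omega
  exact Cfsg.Agent.Helper6.stem_ker_card_ne_of_cyclic_sylow σ hσ (Nat.card σ.ker)
    (fun P => Cfsg.Agent.S1156.result hm hK hp3 P) rfl

/-- the Schur multiplier of a Ree group `²G₂(3^(2m+1))`, `m ≥ 1`, is trivial -/
theorem ree_multiplier (hm : 1 ≤ m) (hK : Fintype.card K = 3 ^ (2 * m + 1)) :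
    Cfsg.HasCyclicSchurMultiplier ↥(twistedG2 K (3 ^ m)) 1 := by
  have hbot := ree_stem_ker_eq_bot hm hK
  have hid : Cfsg.IsStemExtension (MonoidHom.id ↥(twistedG2 K (3 ^ m))) := by
    refine ⟨Function.surjective_id, ?_, ?_⟩
    · intro x hx
      rw [MonoidHom.mem_ker, MonoidHom.id_apply] at hx
      rw [hx]; exact Subgroup.one_mem _
    · intro x hx
      rw [MonoidHom.mem_ker, MonoidHom.id_apply] at hx
      rw [hx]; exact Subgroup.one_mem _
  refine ⟨⟨↥(twistedG2 K (3 ^ m)), inferInstance, inferInstance, MonoidHom.id _, hid, ?_⟩, ?_⟩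
  · have h1 := hbot _ _ hid
    haveI : Subsingleton (MonoidHom.id ↥(twistedG2 K (3 ^ m))).ker := by
      rw [h1]; infer_instance
    haveI : Subsingleton (Multiplicative (ZMod 1)) :=
      inferInstanceAs (Subsingleton (ZMod 1))
    haveI : Unique (MonoidHom.id ↥(twistedG2 K (3 ^ m))).ker :=
      ⟨⟨1⟩, fun a => Subsingleton.elim _ _⟩
    haveI : Unique (Multiplicative (ZMod 1)) := ⟨⟨1⟩, fun a => Subsingleton.elim _ _⟩
    exact ⟨MulEquiv.ofUnique⟩
  · intro Γ _ _ σ hσ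
    refine ⟨1, ?_⟩
    intro x
    have h1 := hbot Γ σ hσ
    refine ⟨1, ?_⟩
    have hx : (x : Γ) ∈ (⊥ : Subgroup Γ) := h1 ▸ x.2
    apply Subtype.ext
    rw [MonoidHom.one_apply, Subgroup.coe_one]
    exact (Subgroup.mem_bot.1 hx).symm

end Cfsg.Agent.Helper9.ReeMult
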