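import Mathlib

/-!
# Field lemmas for the Schur multiplier of the small Ree groups (helper9)

Torus-invariant biadditive maps on the layers of the Sylow `3`-subgroup of `²G₂(q)` vanish.
-/

set_option autoImplicit false

namespace Cfsg.Agent.Helper9.ReeMult

section alt

variable {K : Type*} [Field K] {A : Type*} [AddCommGroup A]

/-- An alternating biadditive map on a field which is invariant under all scalars and whose values
are killed by `3` vanishes. -/
theorem alt_inv_eq_zero (f : K → K → A)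
    (hadd1 : ∀ x x' y, f (x + x') y = f x y + f x' y)
    (hadd2 : ∀ x y y', f x (y + y') = f x y + f x y')
    (halt : ∀ x, f x x = 0)
    (hinv : ∀ l : K, l ≠ 0 → ∀ x y, f (l * x) (l * y) = f x y)
    (h3 : ∀ x y, (3 : ℕ) • f x y = 0) : ∀ x y, f x y = 0 := by
  have hz2 : ∀ x, f x 0 = 0 := by
    intro x
    have := hadd2 x 0 0
    rw [add_zero] at this
    exact left_eq_add.mp this
  have hz1 : ∀ y, f 0 y = 0 := by
    intro y
    have := hadd1 0 0 y
    rw [add_zero] at this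
    exact left_eq_add.mp this
  have hneg2 : ∀ x y, f x (-y) = - f x y := by
    intro x y
    have := hadd2 x y (-y)
    rw [add_neg_cancel, hz2] at this
    exact (neg_eq_of_add_eq_zero_right this.symm).symm
  have hanti : ∀ x y, f x y = - f y x := by
    intro x y
    have h := halt (x + y)
    rw [hadd1, hadd2, hadd2, halt, halt, zero_add, add_zero] at h
    exact eq_neg_of_add_eq_zero_left h
  set g : K → A := fun μ => f 1 μ with hg
  have gadd : ∀ μ ν, g (μ + ν) = g μ + g ν := fun μ ν => hadd2 1 μ ν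
  have gzero : g 0 = 0 := hz2 1
  have gone : g 1 = 0 := halt 1
  have gneg : ∀ μ, g (-μ) = - g μ := fun μ => hneg2 1 μ
  have gsub : ∀ μ ν, g (μ - ν) = g μ - g ν := by
    intro μ ν
    rw [sub_eq_add_neg, gadd, gneg, sub_eq_add_neg]
  have ginv : ∀ μ, μ ≠ 0 → g μ⁻¹ = - g μ := by
    intro μ hμ
    have h1 := hinv μ hμ 1 μ⁻¹
    rw [mul_one, mul_inv_cancel₀ hμ] at h1
    show f 1 μ⁻¹ = - f 1 μ
    rw [← h1, hanti]
  have key : ∀ μ, g (μ * (μ + 1)) = 0 := by
    intro μ
    by_cases h0 : μ = 0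
    · rw [h0, zero_mul]; exact gzero
    by_cases h1 : μ + 1 = 0
    · rw [h1, mul_zero]; exact gzero
    have hne : μ * (μ + 1) ≠ 0 := mul_ne_zero h0 h1
    have e : (μ * (μ + 1))⁻¹ = μ⁻¹ - (μ + 1)⁻¹ := by
      field_simp
      ring
    have h2 : g (μ * (μ + 1))⁻¹ = 0 := by
      rw [e, gsub, ginv μ h0, ginv (μ + 1) h1, gadd, gone]
      abel
    have h3' := ginv _ hne
    rw [h2] at h3'
    exact neg_eq_zero.mp h3'.symm
  have gsq : ∀ μ, g (μ * μ) = - g μ := by
    intro μ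
    have h := key μ
    rw [mul_add, mul_one, gadd] at h
    exact eq_neg_of_add_eq_zero_left h
  have g2 : ∀ μ ν, g (μ * ν) + g (μ * ν) = 0 := by
    intro μ ν
    have h := gsq (μ + ν)
    have e : (μ + ν) * (μ + ν) = μ * μ + (μ * ν + μ * ν) + ν * ν := by ring
    rw [e, gadd, gadd, gadd, gsq, gsq, gadd] at h
    have : g (μ * ν) + g (μ * ν) = (-g μ + (g (μ * ν) + g (μ * ν)) + -g ν) - (-(g μ + g ν)) := by
      abel
    rw [this, h]
    abel
  have gall : ∀ μ, g μ = 0 := by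
    intro μ
    have h := g2 μ 1
    rw [mul_one] at h
    have h' : (3 : ℕ) • g μ = 0 := h3 1 μ
    have e : (3 : ℕ) • g μ = g μ + g μ + g μ := by
      rw [show (3 : ℕ) = 2 + 1 from rfl, add_smul, two_smul, one_smul]
    rw [e, h, zero_add] at h'
    exact h'
  intro x y
  by_cases hx : x = 0
  · rw [hx]; exact hz1 y
  · have h1 := hinv x⁻¹ (inv_ne_zero hx) x y
    rw [inv_mul_cancel₀ hx] at h1
    rw [← h1]
    exact gall _

/-- the same when each scalar or its negative is known to act trivially -/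
theorem alt_inv_eq_zero_pm (f : K → K → A)
    (hadd1 : ∀ x x' y, f (x + x') y = f x y + f x' y)
    (hadd2 : ∀ x y y', f x (y + y') = f x y + f x y')
    (halt : ∀ x, f x x = 0)
    (hinv : ∀ l : K, l ≠ 0 → (∀ x y, f (l * x) (l * y) = f x y) ∨
      (∀ x y, f (-l * x) (-l * y) = f x y))
    (h3 : ∀ x y, (3 : ℕ) • f x y = 0) : ∀ x y, f x y = 0 := by
  have hz2 : ∀ x, f x 0 = 0 := by
    intro x
    have := hadd2 x 0 0
    rw [add_zero] at this
    exact left_eq_add.mp this
  have hz1 : ∀ y, f 0 y = 0 := by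
    intro y
    have := hadd1 0 0 y
    rw [add_zero] at this
    exact left_eq_add.mp this
  have hneg2 : ∀ x y, f x (-y) = - f x y := by
    intro x y
    have := hadd2 x y (-y)
    rw [add_neg_cancel, hz2] at this
    exact (neg_eq_of_add_eq_zero_right this.symm).symm
  have hneg1 : ∀ x y, f (-x) y = - f x y := by
    intro x y
    have := hadd1 x (-x) y
    rw [add_neg_cancel, hz1] at this
    exact (neg_eq_of_add_eq_zero_right this.symm).symm
  apply alt_inv_eq_zero f hadd1 hadd2 halt _ h3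
  intro l hl x y
  rcases hinv l hl with h | h
  · exact h x y
  · have := h x y
    rw [neg_mul, neg_mul, hneg1, hneg2, neg_neg] at this
    exact this

end alt

section poly

open Polynomial

variable {K : Type*} [Field K] [Fintype K]

/-- a point outside `0, -1` where `(X+1)^a + X^a (X+1)^a - X^a` does not vanish -/
theorem exists_eval_ne_zero (a : ℕ) (ha : 1 ≤ a) (hcard : 2 * a + 2 < Fintype.card K) :
    ∃ l : K, l ≠ 0 ∧ l + 1 ≠ 0 ∧ (l + 1) ^ a + l ^ a * (l + 1) ^ a - l ^ a ≠ 0 := by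
  classical
  by_contra hcon
  push Not at hcon
  set p : K[X] := (X + 1) ^ a + X ^ a * (X + 1) ^ a - X ^ a with hp
  have hp0 : p ≠ 0 := by
    intro h
    have h1 : p.eval 0 = 1 := by
      simp [hp, zero_pow (by omega : a ≠ 0)]
    rw [h, eval_zero] at h1
    exact zero_ne_one h1
  have hdeg : p.natDegree ≤ 2 * a := by
    have hX1 : (X + 1 : K[X]).natDegree ≤ 1 := by
      have := natDegree_X_add_C (1 : K)
      rw [map_one] at this
      omega
    have d1 : ((X + 1 : K[X]) ^ a).natDegree ≤ a := by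
      calc ((X + 1 : K[X]) ^ a).natDegree ≤ a * (X + 1 : K[X]).natDegree := natDegree_pow_le
        _ ≤ a * 1 := Nat.mul_le_mul_left a hX1
        _ = a := mul_one a
    have d2 : ((X : K[X]) ^ a).natDegree ≤ a := by
      rw [natDegree_X_pow]
    have d3 : ((X : K[X]) ^ a * (X + 1) ^ a).natDegree ≤ 2 * a := by
      calc ((X : K[X]) ^ a * (X + 1) ^ a).natDegree
          ≤ ((X : K[X]) ^ a).natDegree + ((X + 1 : K[X]) ^ a).natDegree := natDegree_mul_le
        _ ≤ a + a := add_le_add d2 d1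
        _ = 2 * a := by ring
    have d4 : ((X + 1 : K[X]) ^ a + X ^ a * (X + 1) ^ a).natDegree ≤ 2 * a := by
      apply (natDegree_add_le _ _).trans
      exact max_le (d1.trans (by omega)) d3
    apply (natDegree_sub_le _ _).trans
    exact max_le d4 (d2.trans (by omega))
  set Z : Finset K := Finset.univ \ {0, -1} with hZ
  have hsub : Z.val ⊆ p.roots := by
    intro l hl
    have hl' : l ∈ Z := hl
    rw [hZ, Finset.mem_sdiff, Finset.mem_insert, Finset.mem_singleton] at hl'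
    push Not at hl'
    rw [mem_roots hp0, IsRoot.def]
    have h1 : l + 1 ≠ 0 := fun h => hl'.2.2 (eq_neg_of_add_eq_zero_left h)
    have := hcon l hl'.2.1 h1
    simpa [hp] using this
  have hZcard : Fintype.card K - 2 ≤ Z.card := by
    rw [hZ, Finset.card_sdiff_of_subset (Finset.subset_univ _), Finset.card_univ]
    have : ({0, -1} : Finset K).card ≤ 2 := Finset.card_le_two
    omega
  have := card_le_degree_of_subset_roots hsub
  omega

end poly

section pair31

variable {K : Type*} [Field K] [Fintype K] {A : Type*} [AddCommGroup A]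

/-- A biadditive map `f` with `f (l ^ a * x) (l * y) = f x y` vanishes when `a` is small with
respect to the field. -/
theorem pair_pow_one_eq_zero (a : ℕ) (ha : 1 ≤ a) (hcard : 2 * a + 2 < Fintype.card K)
    (f : K → K → A)
    (hadd1 : ∀ x x' y, f (x + x') y = f x y + f x' y)
    (hadd2 : ∀ x y y', f x (y + y') = f x y + f x y')
    (hinv : ∀ l : K, l ≠ 0 → ∀ x y, f (l ^ a * x) (l * y) = f x y) : ∀ x y, f x y = 0 := by
  obtain ⟨l, hl0, hl1, hl⟩ := exists_eval_ne_zero (K := K) a ha hcard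
  have hz1 : ∀ y, f 0 y = 0 := by
    intro y
    have := hadd1 0 0 y
    rw [add_zero] at this
    exact left_eq_add.mp this
  have hneg1 : ∀ x y, f (-x) y = - f x y := by
    intro x y
    have := hadd1 x (-x) y
    rw [add_neg_cancel, hz1] at this
    exact (neg_eq_of_add_eq_zero_right this.symm).symm
  have hsub1 : ∀ x x' y, f (x - x') y = f x y - f x' y := by
    intro x x' y
    rw [sub_eq_add_neg, hadd1, hneg1, sub_eq_add_neg]
  -- moving a scalar from the second to the first variable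
  have hmove : ∀ c : K, c ≠ 0 → ∀ x y, f x (c * y) = f ((c ^ a)⁻¹ * x) y := by
    intro c hc x y
    have h := hinv c hc ((c ^ a)⁻¹ * x) y
    rw [← mul_assoc, mul_inv_cancel₀ (pow_ne_zero a hc), one_mul] at h
    exact h
  set w : K := ((l + 1) ^ a)⁻¹ - (l ^ a)⁻¹ - 1 with hw
  have hw0 : w ≠ 0 := by
    intro h
    apply hl
    have h1 : (l + 1) ^ a ≠ 0 := pow_ne_zero a hl1
    have h2 : l ^ a ≠ 0 := pow_ne_zero a hl0
    have h3 : w * ((l + 1) ^ a * l ^ a) = 0 := by rw [h, zero_mul]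
    rw [hw] at h3
    have h4 : (((l + 1) ^ a)⁻¹ - (l ^ a)⁻¹ - 1) * ((l + 1) ^ a * l ^ a) =
        l ^ a - (l + 1) ^ a - (l + 1) ^ a * l ^ a := by
      field_simp
    rw [h4] at h3
    linear_combination -h3
  have hkill : ∀ x y, f (w * x) y = 0 := by
    intro x y
    have h1 := hadd2 x (l * y) y
    have e : l * y + y = (l + 1) * y := by ring
    rw [e, hmove (l + 1) hl1, hmove l hl0] at h1
    rw [hw, sub_mul, sub_mul, one_mul, hsub1, hsub1, h1]
    abel
  intro x y
  have := hkill (w⁻¹ * x) y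
  rwa [← mul_assoc, mul_inv_cancel₀ hw0, one_mul] at this

end pair31

section powers

variable {K : Type*} [Field K] [Fintype K] {m : ℕ}

theorem three_le_pow (hm : 1 ≤ m) : 3 ≤ 3 ^ m := by
  calc 3 = 3 ^ 1 := by norm_num
    _ ≤ 3 ^ m := Nat.pow_le_pow_right (by norm_num) hm

theorem card_eq_three_mul_sq : 3 ^ (2 * m + 1) = 3 * (3 ^ m) ^ 2 := by
  rw [pow_succ, pow_mul', mul_comm]

/-- the size condition for the polynomial argument -/
theorem size_cond (hm : 1 ≤ m) (hK : Fintype.card K = 3 ^ (2 * m + 1)) :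
    2 * (3 * 3 ^ m + 2) + 2 < Fintype.card K := by
  rw [hK, card_eq_three_mul_sq]
  have h := three_le_pow hm
  nlinarith

theorem pow_card_sub_one' (hK : Fintype.card K = 3 ^ (2 * m + 1)) (μ : K) (hμ : μ ≠ 0) :
    μ ^ (3 ^ (2 * m + 1) - 1) = 1 := by
  rw [← hK]
  exact FiniteField.pow_card_sub_one_eq_one μ hμ

/-- every nonzero element is a `(3θ+2)`-th power -/
theorem exists_pow_eq (hm : 1 ≤ m) (hK : Fintype.card K = 3 ^ (2 * m + 1)) (μ : K) (hμ : μ ≠ 0) :
    ∃ l : K, l ≠ 0 ∧ l ^ (3 * 3 ^ m + 2) = μ := by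
  have hθ := three_le_pow hm
  set θ := 3 ^ m with hθdef
  have hq : 3 ^ (2 * m + 1) = 3 * θ ^ 2 := card_eq_three_mul_sq
  refine ⟨μ ^ (3 * θ ^ 2 + 1 - 3 * θ), pow_ne_zero _ hμ, ?_⟩
  rw [← pow_mul]
  have e : (3 * θ ^ 2 + 1 - 3 * θ) * (3 * θ + 2) = (3 * θ ^ 2 - 1) * (3 * θ - 1) + 1 := by
    have h1 : 3 * θ ≤ 3 * θ ^ 2 + 1 := by nlinarith
    have h2 : 1 ≤ 3 * θ ^ 2 := by nlinarith
    have h3 : 1 ≤ 3 * θ := by omega
    zify [h1, h2, h3]
    ring
  rw [e, pow_succ, pow_mul, ← hq, pow_card_sub_one' hK μ hμ, one_pow, one_mul]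

/-- every nonzero element is, up to sign, a `(3θ+1)`-th power -/
theorem exists_pow_eq_or_neg (hm : 1 ≤ m) (hK : Fintype.card K = 3 ^ (2 * m + 1)) (μ : K)
    (hμ : μ ≠ 0) :
    ∃ l : K, l ≠ 0 ∧ (l ^ (3 * 3 ^ m + 1) = μ ∨ l ^ (3 * 3 ^ m + 1) = -μ) := by
  have hθ := three_le_pow hm
  set θ := 3 ^ m with hθdef
  have hq : 3 ^ (2 * m + 1) = 3 * θ ^ 2 := card_eq_three_mul_sq
  -- `q + 1 = 4 n`
  obtain ⟨n, hn⟩ : ∃ n, 3 ^ (2 * m + 1) + 1 = 4 * n := by
    have h1 : 3 ^ (2 * m + 1) % 4 = 3 := by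
      rw [pow_succ, pow_mul, Nat.mul_mod, Nat.pow_mod]
      norm_num
    exact ⟨(3 ^ (2 * m + 1) + 1) / 4, by omega⟩
  have hq1 : μ ^ (3 ^ (2 * m + 1) - 1) = 1 := pow_card_sub_one' hK μ hμ
  -- `ε = μ ^ ((q-1)/2) = ± 1`
  have hhalf : 3 ^ (2 * m + 1) - 1 = 2 * (2 * n - 1) := by omega
  set ε := μ ^ (2 * n - 1) with hε
  have hε2 : ε * ε = 1 := by
    rw [hε, ← pow_add, ← two_mul, ← hhalf, hq1]
  have hε' : ε = 1 ∨ ε = -1 := by
    have : (ε - 1) * (ε + 1) = 0 := by linear_combination hε2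
    rcases mul_eq_zero.mp this with h | h
    · left; exact sub_eq_zero.mp h
    · right; exact eq_neg_of_add_eq_zero_left h
  set ρ := μ ^ n with hρ
  have hρ2 : ρ * ρ = ε * μ := by
    rw [hρ, hε, ← pow_add, ← pow_succ]
    congr 1
    omega
  have hρ0 : ρ ≠ 0 := pow_ne_zero _ hμ
  have hρq : ρ ^ (3 * θ ^ 2 - 1) = 1 := by
    rw [← hq]
    exact pow_card_sub_one' hK ρ hρ0
  refine ⟨ρ ^ (3 * θ - 1), pow_ne_zero _ hρ0, ?_⟩
  have e : (3 * θ - 1) * (3 * θ + 1) = (3 * θ ^ 2 - 1) * 3 + 2 := by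
    have h2 : 1 ≤ 3 * θ ^ 2 := by nlinarith
    have h3 : 1 ≤ 3 * θ := by omega
    zify [h2, h3]
    ring
  have h5 : (ρ ^ (3 * θ - 1)) ^ (3 * θ + 1) = ε * μ := by
    rw [← pow_mul, e, pow_add, pow_mul, hρq, one_pow, one_mul, pow_two, hρ2]
  rcases hε' with h | h
  · left; rw [h5, h, one_mul]
  · right; rw [h5, h, neg_one_mul]

/-- a unit on which both characters `3θ+1`, `3θ+2` are nontrivial -/
theorem exists_unit_pow_ne_one (hm : 1 ≤ m) (hK : Fintype.card K = 3 ^ (2 * m + 1)) :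
    ∃ c : Kˣ, (c : K) ^ (3 * 3 ^ m + 1) ≠ 1 ∧ (c : K) ^ (3 * 3 ^ m + 2) ≠ 1 := by
  obtain ⟨c, hc⟩ := IsCyclic.exists_generator (α := Kˣ)
  have hord : orderOf c = Fintype.card K - 1 := by
    rw [orderOf_eq_card_of_forall_mem_zpowers hc, Nat.card_units, Nat.card_eq_fintype_card]
  have hsize := size_cond hm hK
  refine ⟨c, ?_, ?_⟩
  · intro h
    have h1 : c ^ (3 * 3 ^ m + 1) = 1 := Units.ext (by rw [Units.val_pow_eq_pow_val, h, Units.val_one])
    have h2 := orderOf_dvd_of_pow_eq_one h1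
    rw [hord] at h2
    have := Nat.le_of_dvd (by omega) h2
    omega
  · intro h
    have h1 : c ^ (3 * 3 ^ m + 2) = 1 := Units.ext (by rw [Units.val_pow_eq_pow_val, h, Units.val_one])
    have h2 := orderOf_dvd_of_pow_eq_one h1
    rw [hord] at h2
    have := Nat.le_of_dvd (by omega) h2
    omega

end powers

end Cfsg.Agent.Helper9.ReeMult
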