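import Mathlib
import Cfsg.Agent.Helper9.ReeMultF

/-!
# Central extensions of the Sylow `3`-subgroup of a small Ree group (helper9)

The abstract core of the computation of the Schur multiplier of `²G₂(q)`: in a central extension
`σ : Γ → G` with kernel of exponent `3` the preimage of the Sylow `3`-subgroup
`U = {x t u v}` (normalised by the torus `h c`) has a derived subgroup which meets the kernel
trivially.
-/

set_option autoImplicit false

namespace Cfsg.Agent.Helper9.ReeMult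

open scoped commutatorElement

section wrappers

open scoped IsMulCommutative

variable {K : Type*} [Field K] {Γ : Type*} [Group Γ]

/-- multiplicative, centre-valued version of `alt_inv_eq_zero_pm` -/
theorem alt_inv_eq_one (f : K → K → Γ)
    (hc : ∀ x y, f x y ∈ Subgroup.center Γ)
    (hmul1 : ∀ x x' y, f (x + x') y = f x y * f x' y)
    (hmul2 : ∀ x y y', f x (y + y') = f x y * f x y')
    (halt : ∀ x, f x x = 1)
    (hinv : ∀ l : K, l ≠ 0 → (∀ x y, f (l * x) (l * y) = f x y) ∨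
      (∀ x y, f (-l * x) (-l * y) = f x y))
    (h3 : ∀ x y, f x y ^ 3 = 1) : ∀ x y, f x y = 1 := by
  set F : K → K → Additive (Subgroup.center Γ) :=
    fun x y => Additive.ofMul ⟨f x y, hc x y⟩ with hF
  have key : ∀ x y, F x y = 0 := by
    apply alt_inv_eq_zero_pm F
    · intro x x' y
      apply Additive.toMul.injective
      apply Subtype.ext
      simp only [hF, toMul_add, toMul_ofMul, Subgroup.coe_mul]
      exact hmul1 x x' y
    · intro x y y'
      apply Additive.toMul.injective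
      apply Subtype.ext
      simp only [hF, toMul_add, toMul_ofMul, Subgroup.coe_mul]
      exact hmul2 x y y'
    · intro x
      apply Additive.toMul.injective
      apply Subtype.ext
      simp only [hF, toMul_zero, toMul_ofMul, Subgroup.coe_one]
      exact halt x
    · intro l hl
      rcases hinv l hl with h | h
      · left
        intro x y
        apply Additive.toMul.injective
        apply Subtype.ext
        simp only [hF, toMul_ofMul]
        exact h x y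
      · right
        intro x y
        apply Additive.toMul.injective
        apply Subtype.ext
        simp only [hF, toMul_ofMul]
        exact h x y
    · intro x y
      apply Additive.toMul.injective
      apply Subtype.ext
      simp only [hF, toMul_nsmul, toMul_ofMul, toMul_zero, Subgroup.coe_pow, Subgroup.coe_one]
      exact h3 x y
  intro x y
  have := key x y
  have h2 := congrArg (fun a => ((Additive.toMul a : Subgroup.center Γ) : Γ)) this
  simpa [hF] using h2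

/-- multiplicative, centre-valued version of `pair_pow_one_eq_zero` -/
theorem pair_pow_one_eq_one [Fintype K] (a : ℕ) (ha : 1 ≤ a)
    (hcard : 2 * a + 2 < Fintype.card K) (f : K → K → Γ)
    (hc : ∀ x y, f x y ∈ Subgroup.center Γ)
    (hmul1 : ∀ x x' y, f (x + x') y = f x y * f x' y)
    (hmul2 : ∀ x y y', f x (y + y') = f x y * f x y')
    (hinv : ∀ l : K, l ≠ 0 → ∀ x y, f (l ^ a * x) (l * y) = f x y) : ∀ x y, f x y = 1 := by
  set F : K → K → Additive (Subgroup.center Γ) :=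
    fun x y => Additive.ofMul ⟨f x y, hc x y⟩ with hF
  have key : ∀ x y, F x y = 0 := by
    apply pair_pow_one_eq_zero a ha hcard F
    · intro x x' y
      apply Additive.toMul.injective
      apply Subtype.ext
      simp only [hF, toMul_add, toMul_ofMul, Subgroup.coe_mul]
      exact hmul1 x x' y
    · intro x y y'
      apply Additive.toMul.injective
      apply Subtype.ext
      simp only [hF, toMul_add, toMul_ofMul, Subgroup.coe_mul]
      exact hmul2 x y y'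
    · intro l hl x y
      apply Additive.toMul.injective
      apply Subtype.ext
      simp only [hF, toMul_ofMul]
      exact hinv l hl x y
  intro x y
  have := key x y
  have h2 := congrArg (fun a => ((Additive.toMul a : Subgroup.center Γ) : Γ)) this
  simpa [hF] using h2

end wrappers

section central

variable {Γ : Type*} {G : Type*} [Group Γ] [Group G] (σ : Γ →* G)

/-- in a central extension a commutator only depends on the images -/
theorem cc (hcen : ∀ c ∈ σ.ker, ∀ g : Γ, c * g = g * c) {a a' b b' : Γ}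
    (ha : σ a = σ a') (hb : σ b = σ b') : ⁅a, b⁆ = ⁅a', b'⁆ := by
  have hz1 : a'⁻¹ * a ∈ σ.ker := by
    rw [MonoidHom.mem_ker, map_mul, map_inv, ha, inv_mul_cancel]
  have hz2 : b'⁻¹ * b ∈ σ.ker := by
    rw [MonoidHom.mem_ker, map_mul, map_inv, hb, inv_mul_cancel]
  have c1 := hcen _ hz1
  have c2 := hcen _ hz2
  set z1 := a'⁻¹ * a with hz1def
  set z2 := b'⁻¹ * b with hz2def
  have ex : a = a' * z1 := by rw [hz1def]; group
  have ey : b = b' * z2 := by rw [hz2def]; group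
  have c1i : ∀ w : Γ, w * z1⁻¹ = z1⁻¹ * w := by
    intro w
    have := c1 w
    calc w * z1⁻¹ = z1⁻¹ * (z1 * w) * z1⁻¹ := by group
      _ = z1⁻¹ * (w * z1) * z1⁻¹ := by rw [this]
      _ = z1⁻¹ * w := by group
  have c2i : ∀ w : Γ, w * z2⁻¹ = z2⁻¹ * w := by
    intro w
    have := c2 w
    calc w * z2⁻¹ = z2⁻¹ * (z2 * w) * z2⁻¹ := by group
      _ = z2⁻¹ * (w * z2) * z2⁻¹ := by rw [this]
      _ = z2⁻¹ * w := by group
  rw [ex, ey, commutatorElement_def, commutatorElement_def]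
  calc a' * z1 * (b' * z2) * (a' * z1)⁻¹ * (b' * z2)⁻¹
      = a' * (z1 * b') * z2 * z1⁻¹ * a'⁻¹ * z2⁻¹ * b'⁻¹ := by group
    _ = a' * (b' * z1) * z2 * z1⁻¹ * a'⁻¹ * z2⁻¹ * b'⁻¹ := by rw [c1 b']
    _ = a' * b' * (z1 * z2) * z1⁻¹ * a'⁻¹ * z2⁻¹ * b'⁻¹ := by group
    _ = a' * b' * (z2 * z1) * z1⁻¹ * a'⁻¹ * z2⁻¹ * b'⁻¹ := by rw [c2 z1]
    _ = a' * b' * z2 * (a'⁻¹ * z2⁻¹) * b'⁻¹ := by group
    _ = a' * b' * z2 * (z2⁻¹ * a'⁻¹) * b'⁻¹ := by rw [c2i a'⁻¹]
    _ = a' * b' * a'⁻¹ * b'⁻¹ := by group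

/-- in a central extension conjugation only depends on the image -/
theorem conj_cc (hcen : ∀ c ∈ σ.ker, ∀ g : Γ, c * g = g * c) {g g' : Γ} (a : Γ)
    (hg : σ g = σ g') : g * a * g⁻¹ = g' * a * g'⁻¹ := by
  have hz1 : g'⁻¹ * g ∈ σ.ker := by
    rw [MonoidHom.mem_ker, map_mul, map_inv, hg, inv_mul_cancel]
  have c1 := hcen _ hz1 a
  calc g * a * g⁻¹ = g' * ((g'⁻¹ * g) * a) * g⁻¹ := by group
    _ = g' * (a * (g'⁻¹ * g)) * g⁻¹ := by rw [c1]
    _ = g' * a * g'⁻¹ := by group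

theorem comm_mem_ker {a b : Γ} (h : σ a * σ b = σ b * σ a) : ⁅a, b⁆ ∈ σ.ker := by
  rw [MonoidHom.mem_ker, map_commutatorElement, commutatorElement_eq_one_iff_mul_comm]
  exact h

/-- left multiplicativity of a commutator with a factor commuting with it -/
theorem comm_mul_left_of_commute {a b c e : Γ} (hcen : ∀ c ∈ σ.ker, ∀ g : Γ, c * g = g * c)
    (hc : σ c = σ a * σ b) (h : a * ⁅b, e⁆ = ⁅b, e⁆ * a) : ⁅c, e⁆ = ⁅b, e⁆ * ⁅a, e⁆ := by
  have h1 : ⁅c, e⁆ = ⁅a * b, e⁆ := cc σ hcen (by rw [hc, map_mul]) rfl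
  rw [h1]
  calc ⁅a * b, e⁆ = a * ⁅b, e⁆ * a⁻¹ * ⁅a, e⁆ := by
        rw [commutatorElement_def, commutatorElement_def, commutatorElement_def]; group
    _ = ⁅b, e⁆ * a * a⁻¹ * ⁅a, e⁆ := by rw [h]
    _ = ⁅b, e⁆ * ⁅a, e⁆ := by group

/-- right multiplicativity of a commutator with a factor commuting with it -/
theorem comm_mul_right_of_commute {a b c e : Γ} (hcen : ∀ c ∈ σ.ker, ∀ g : Γ, c * g = g * c)
    (hc : σ c = σ a * σ b) (h : a * ⁅e, b⁆ = ⁅e, b⁆ * a) : ⁅e, c⁆ = ⁅e, a⁆ * ⁅e, b⁆ := by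
  have h1 : ⁅e, c⁆ = ⁅e, a * b⁆ := cc σ hcen rfl (by rw [hc, map_mul])
  rw [h1]
  calc ⁅e, a * b⁆ = ⁅e, a⁆ * (a * ⁅e, b⁆) * a⁻¹ := by
        rw [commutatorElement_def, commutatorElement_def, commutatorElement_def]; group
    _ = ⁅e, a⁆ * (⁅e, b⁆ * a) * a⁻¹ := by rw [h]
    _ = ⁅e, a⁆ * ⁅e, b⁆ := by group

/-- left multiplicativity when the images commute -/
theorem comm_mul_left {a b c e : Γ} (hcen : ∀ c ∈ σ.ker, ∀ g : Γ, c * g = g * c)
    (hc : σ c = σ a * σ b) (hbe : σ b * σ e = σ e * σ b) : ⁅c, e⁆ = ⁅a, e⁆ * ⁅b, e⁆ := by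
  have hk := comm_mem_ker σ hbe
  rw [comm_mul_left_of_commute σ hcen hc ((hcen _ hk a).symm)]
  exact hcen _ hk _

/-- right multiplicativity when the images commute -/
theorem comm_mul_right {a b c e : Γ} (hcen : ∀ c ∈ σ.ker, ∀ g : Γ, c * g = g * c)
    (hc : σ c = σ a * σ b) (heb : σ e * σ b = σ b * σ e) : ⁅e, c⁆ = ⁅e, a⁆ * ⁅e, b⁆ := by
  have hk := comm_mem_ker σ heb
  exact comm_mul_right_of_commute σ hcen hc ((hcen _ hk a).symm)

/-- a central commutator is invariant under simultaneous conjugation -/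
theorem comm_conj_inv {a b a' b' g : Γ} (hcen : ∀ c ∈ σ.ker, ∀ g : Γ, c * g = g * c)
    (hab : σ a * σ b = σ b * σ a) (ha : σ a' = σ g * σ a * (σ g)⁻¹)
    (hb : σ b' = σ g * σ b * (σ g)⁻¹) : ⁅a', b'⁆ = ⁅a, b⁆ := by
  have h1 : ⁅a', b'⁆ = ⁅g * a * g⁻¹, g * b * g⁻¹⁆ :=
    cc σ hcen (by rw [ha, map_mul, map_mul, map_inv]) (by rw [hb, map_mul, map_mul, map_inv])
  rw [h1, ← conjugate_commutatorElement]
  have hk := comm_mem_ker σ hab
  rw [← hcen _ hk g]
  group

end central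

section setup

variable {K : Type*} [Field K] [Fintype K] {Γ : Type*} {G : Type*} [Group Γ] [Group G]

/-- a central extension `σ` with kernel of exponent `3` of a group containing a copy
`x t u v` of the Sylow `3`-subgroup of a Ree group together with the torus `h c` -/
structure Setup (σ : Γ →* G) (s : ℕ) (x : K → K → K → G) (h : Kˣ → G) (c₀ : Kˣ) : Prop where
  surj : Function.Surjective σ
  cen : ∀ c ∈ σ.ker, ∀ g : Γ, c * g = g * c
  cube : ∀ c ∈ σ.ker, c ^ 3 = 1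
  s_odd : Odd s
  x_mul : ∀ t u v t' u' v' : K, x t u v * x t' u' v' =
    x (t + t') (u + u' - t * t' ^ s) (v + v' - t' * u + t * t' ^ (s + 1) - t ^ 2 * t' ^ s)
  x_inj : ∀ t u v t' u' v' : K, x t u v = x t' u' v' → t = t' ∧ u = u' ∧ v = v'
  h_conj : ∀ (c : Kˣ) (t u v : K), h c * x t u v * (h c)⁻¹ =
    x ((c : K) * t) ((c : K) ^ (s + 1) * u) ((c : K) ^ (s + 2) * v)
  h_comm : ∀ c c' : Kˣ, h c * h c' = h c' * h c
  pow2 : ∀ μ : K, μ ≠ 0 → ∃ l : K, l ≠ 0 ∧ l ^ (s + 2) = μ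
  pow1 : ∀ μ : K, μ ≠ 0 → ∃ l : K, l ≠ 0 ∧ (l ^ (s + 1) = μ ∨ l ^ (s + 1) = -μ)
  size : 2 * (s + 2) + 2 < Fintype.card K
  c1 : (c₀ : K) ^ (s + 1) ≠ 1
  c2 : (c₀ : K) ^ (s + 2) ≠ 1

namespace Setup

variable {σ : Γ →* G} {s : ℕ} {x : K → K → K → G} {h : Kˣ → G} {c₀ : Kˣ}
  (S : Setup σ s x h c₀)

include S

theorem s_ne : s ≠ 0 := by
  obtain ⟨k, hk⟩ := S.s_odd
  omega

theorem zero_pow_s : (0 : K) ^ s = 0 := zero_pow S.s_ne

theorem x_zero : x 0 0 0 = 1 := by
  have h1 := S.x_mul 0 0 0 0 0 0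
  have e : x 0 0 0 * x 0 0 0 = x 0 0 0 := by
    rw [h1]
    congr 1 <;> simp [S.zero_pow_s]
  exact mul_eq_left.mp e

theorem xW_mul (u v u' v' : K) : x 0 u v * x 0 u' v' = x 0 (u + u') (v + v') := by
  rw [S.x_mul]
  congr 1 <;> simp

theorem xW_comm (u v u' v' : K) : x 0 u v * x 0 u' v' = x 0 u' v' * x 0 u v := by
  rw [S.xW_mul, S.xW_mul, add_comm u, add_comm v]

theorem xW_inv (u v : K) : (x 0 u v)⁻¹ = x 0 (-u) (-v) := by
  apply inv_eq_of_mul_eq_one_right
  rw [S.xW_mul, add_neg_cancel, add_neg_cancel, S.x_zero]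

theorem x_split (t u v : K) : x t u v = x t 0 0 * x 0 u v := by
  rw [S.x_mul]
  congr 1 <;> simp [S.zero_pow_s]

theorem xW_split (u v : K) : x 0 u v = x 0 u 0 * x 0 0 v := by
  rw [S.xW_mul, add_zero, zero_add]

theorem xV_comm (v t u w : K) : x 0 0 v * x t u w = x t u w * x 0 0 v := by
  rw [S.x_mul, S.x_mul]
  congr 1 <;> simp [S.zero_pow_s] <;> ring

/-- the product of two root elements of the first layer -/
theorem xT_mul (t t' : K) : x t 0 0 * x t' 0 0 =
    x (t + t') 0 0 * x 0 (-(t * t' ^ s)) (t * t' ^ (s + 1) - t ^ 2 * t' ^ s) := by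
  rw [← S.x_split, S.x_mul]
  congr 1 <;> simp

theorem xT_add (t t' : K) : x (t + t') 0 0 =
    x t 0 0 * (x t' 0 0 * x 0 (t * t' ^ s) (-(t * t' ^ (s + 1) - t ^ 2 * t' ^ s))) := by
  rw [← mul_assoc, S.xT_mul, mul_assoc, S.xW_mul, neg_add_cancel, add_neg_cancel, S.x_zero,
    mul_one]

/-- conjugation of the abelian normal subgroup by the first layer -/
theorem xW_xT (u v t u' v' : K) :
    x 0 u v * x t u' v' = x t u' v' * x 0 u v * x 0 0 (-(t * u)) := by
  rw [S.x_mul, S.x_mul, S.x_mul]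
  congr 1 <;> simp [S.zero_pow_s] <;> ring

theorem comm_W_P (u v t u' v' : K) : ⁅x 0 u v, x t u' v'⁆ = x 0 0 (-(t * u)) := by
  have h1 := S.xW_xT u v t u' v'
  have ha : x 0 0 (-(t * u)) * x 0 u v = x 0 u v * x 0 0 (-(t * u)) := S.xV_comm _ _ _ _
  have hb : x 0 0 (-(t * u)) * x t u' v' = x t u' v' * x 0 0 (-(t * u)) := S.xV_comm _ _ _ _
  rw [commutatorElement_def, h1]
  generalize x 0 0 (-(t * u)) = z at *
  generalize x 0 u v = a at *
  generalize x t u' v' = b at *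
  calc b * a * z * a⁻¹ * b⁻¹ = b * (a * z) * a⁻¹ * b⁻¹ := by group
    _ = b * (z * a) * a⁻¹ * b⁻¹ := by rw [ha]
    _ = (b * z) * b⁻¹ := by group
    _ = (z * b) * b⁻¹ := by rw [hb]
    _ = z := by group

/-- the commutator of two elements of the Sylow subgroup lies in the abelian normal subgroup -/
theorem comm_P_P (t u v t' u' v' : K) : ∃ a b : K, ⁅x t u v, x t' u' v'⁆ = x 0 a b := by
  have h1 := S.x_mul t u v t' u' v'
  have h2 := S.x_mul t' u' v' t u v
  set α := u + u' - t * t' ^ s with hα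
  set β := v + v' - t' * u + t * t' ^ (s + 1) - t ^ 2 * t' ^ s with hβ
  set α' := u' + u - t' * t ^ s with hα'
  set β' := v' + v - t * u' + t' * t ^ (s + 1) - t' ^ 2 * t ^ s with hβ'
  refine ⟨α - α', β - β' + (t + t') * (α - α'), ?_⟩
  have h3 : x t u v * x t' u' v' =
      x 0 (α - α') (β - β' + (t + t') * (α - α')) * (x t' u' v' * x t u v) := by
    rw [h1, h2, S.x_mul]
    congr 1 <;> simp [S.zero_pow_s] <;> ring
  rw [commutatorElement_def]
  calc x t u v * x t' u' v' * (x t u v)⁻¹ * (x t' u' v')⁻¹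
      = (x t u v * x t' u' v') * (x t' u' v' * x t u v)⁻¹ := by group
    _ = _ := by rw [h3, mul_inv_cancel_right]

theorem h_conj_W (c : Kˣ) (u v : K) : h c * x 0 u v * (h c)⁻¹ =
    x 0 ((c : K) ^ (s + 1) * u) ((c : K) ^ (s + 2) * v) := by
  rw [S.h_conj, mul_zero]

theorem h_conj_T (c : Kˣ) (t : K) : h c * x t 0 0 * (h c)⁻¹ = x ((c : K) * t) 0 0 := by
  rw [S.h_conj, mul_zero, mul_zero]

theorem neg_one_pow_s1 : ((-1 : Kˣ) : K) ^ (s + 1) = 1 := by
  rw [Units.val_neg, Units.val_one]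
  exact Even.neg_one_pow (Odd.add_one S.s_odd)

theorem neg_one_pow_s2 : ((-1 : Kˣ) : K) ^ (s + 2) = -1 := by
  rw [Units.val_neg, Units.val_one]
  apply Odd.neg_one_pow
  obtain ⟨k, hk⟩ := S.s_odd
  exact ⟨k + 1, by omega⟩

theorem xV_mul (v v' : K) : x 0 0 v * x 0 0 v' = x 0 0 (v + v') := by
  rw [S.xW_mul, add_zero]

theorem xU_mul (u u' : K) : x 0 u 0 * x 0 u' 0 = x 0 (u + u') 0 := by
  rw [S.xW_mul, add_zero]

/-- a chosen lift -/
noncomputable def lift (g : G) : Γ := Function.surjInv S.surj g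

theorem σ_lift (g : G) : σ (S.lift g) = g := Function.surjInv_eq S.surj g

theorem ker_center {z : Γ} (hz : z ∈ σ.ker) : z ∈ Subgroup.center Γ := by
  rw [Subgroup.mem_center_iff]
  intro g
  exact (S.cen z hz g).symm

omit S in
theorem eq_one_of_sq_cube {g : Γ} (h2 : g * g = 1) (h3 : g ^ 3 = 1) : g = 1 := by
  rw [pow_succ, pow_two, h2, one_mul] at h3
  exact h3

/-- Step 1: lifts of the third layer commute -/
theorem VV_lift (v v' : K) : ⁅S.lift (x 0 0 v), S.lift (x 0 0 v')⁆ = 1 := by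
  have hcomm : ∀ a b : K, σ (S.lift (x 0 0 a)) * σ (S.lift (x 0 0 b)) =
      σ (S.lift (x 0 0 b)) * σ (S.lift (x 0 0 a)) := by
    intro a b
    simp only [S.σ_lift]
    exact S.xW_comm _ _ _ _
  refine alt_inv_eq_one (fun v v' => ⁅S.lift (x 0 0 v), S.lift (x 0 0 v')⁆) ?_ ?_ ?_ ?_ ?_ ?_ v v'
  · intro a b
    exact S.ker_center (comm_mem_ker σ (hcomm a b))
  · intro a a' b
    refine comm_mul_left σ S.cen ?_ (hcomm a' b)
    simp only [S.σ_lift]
    rw [S.xV_mul]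
  · intro a b b'
    refine comm_mul_right σ S.cen ?_ (hcomm a b')
    simp only [S.σ_lift]
    rw [S.xV_mul]
  · intro a
    exact commutatorElement_self _
  · intro l hl
    obtain ⟨c, hc0, hc⟩ := S.pow2 l hl
    left
    intro a b
    refine comm_conj_inv σ S.cen (g := S.lift (h (Units.mk0 c hc0))) (hcomm a b) ?_ ?_
    · simp only [S.σ_lift]
      rw [S.h_conj_W, mul_zero, Units.val_mk0, hc]
    · simp only [S.σ_lift]
      rw [S.h_conj_W, mul_zero, Units.val_mk0, hc]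
  · intro a b
    exact S.cube _ (comm_mem_ker σ (hcomm a b))

/-- Step 2: lifts of the second and third layers commute -/
theorem UV_lift (u v : K) : ⁅S.lift (x 0 u 0), S.lift (x 0 0 v)⁆ = 1 := by
  have hcomm : ∀ a b : K, σ (S.lift (x 0 a 0)) * σ (S.lift (x 0 0 b)) =
      σ (S.lift (x 0 0 b)) * σ (S.lift (x 0 a 0)) := by
    intro a b
    simp only [S.σ_lift]
    exact S.xW_comm _ _ _ _
  set F : K → K → Γ := fun u v => ⁅S.lift (x 0 u 0), S.lift (x 0 0 v)⁆ with hF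
  have hmul2 : ∀ a b b', F a (b + b') = F a b * F a b' := by
    intro a b b'
    refine comm_mul_right σ S.cen ?_ (hcomm a b')
    simp only [S.σ_lift]
    rw [S.xV_mul]
  have hneg : ∀ a b, F a (-b) = F a b := by
    intro a b
    refine comm_conj_inv σ S.cen (g := S.lift (h (-1))) (hcomm a b) ?_ ?_
    · simp only [S.σ_lift]
      rw [S.h_conj_W, mul_zero, S.neg_one_pow_s1, one_mul]
    · simp only [S.σ_lift]
      rw [S.h_conj_W, mul_zero, S.neg_one_pow_s2, neg_one_mul]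
  have hzero : ∀ a, F a 0 = 1 := by
    intro a
    have := hmul2 a 0 0
    rw [add_zero] at this
    exact left_eq_mul.mp this
  have hsq : F u v * F u v = 1 := by
    have := hmul2 u v (-v)
    rw [add_neg_cancel, hzero, hneg] at this
    exact this.symm
  exact eq_one_of_sq_cube hsq (S.cube _ (comm_mem_ker σ (hcomm u v)))

/-- Step 3: lifts of the second layer commute -/
theorem UU_lift (u u' : K) : ⁅S.lift (x 0 u 0), S.lift (x 0 u' 0)⁆ = 1 := by
  have hcomm : ∀ a b : K, σ (S.lift (x 0 a 0)) * σ (S.lift (x 0 b 0)) =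
      σ (S.lift (x 0 b 0)) * σ (S.lift (x 0 a 0)) := by
    intro a b
    simp only [S.σ_lift]
    exact S.xW_comm _ _ _ _
  refine alt_inv_eq_one (fun u u' => ⁅S.lift (x 0 u 0), S.lift (x 0 u' 0)⁆) ?_ ?_ ?_ ?_ ?_ ?_ u u'
  · intro a b
    exact S.ker_center (comm_mem_ker σ (hcomm a b))
  · intro a a' b
    refine comm_mul_left σ S.cen ?_ (hcomm a' b)
    simp only [S.σ_lift]
    rw [S.xU_mul]
  · intro a b b'
    refine comm_mul_right σ S.cen ?_ (hcomm a b')
    simp only [S.σ_lift]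
    rw [S.xU_mul]
  · intro a
    exact commutatorElement_self _
  · intro l hl
    obtain ⟨c, hc0, hc⟩ := S.pow1 l hl
    rcases hc with hc | hc
    · left
      intro a b
      refine comm_conj_inv σ S.cen (g := S.lift (h (Units.mk0 c hc0))) (hcomm a b) ?_ ?_
      · simp only [S.σ_lift]
        rw [S.h_conj_W, mul_zero, Units.val_mk0, hc]
      · simp only [S.σ_lift]
        rw [S.h_conj_W, mul_zero, Units.val_mk0, hc]
    · right
      intro a b
      refine comm_conj_inv σ S.cen (g := S.lift (h (Units.mk0 c hc0))) (hcomm a b) ?_ ?_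
      · simp only [S.σ_lift]
        rw [S.h_conj_W, mul_zero, Units.val_mk0, hc]
      · simp only [S.σ_lift]
        rw [S.h_conj_W, mul_zero, Units.val_mk0, hc]
  · intro a b
    exact S.cube _ (comm_mem_ker σ (hcomm a b))

/-- the preimage of the abelian normal subgroup `{x 0 u v}` is abelian -/
theorem WW {a b : Γ} {u v u' v' : K} (ha : σ a = x 0 u v) (hb : σ b = x 0 u' v') :
    a * b = b * a := by
  rw [← commutatorElement_eq_one_iff_mul_comm]
  have e1 : ⁅a, b⁆ = ⁅a, S.lift (x 0 u' 0)⁆ * ⁅a, S.lift (x 0 0 v')⁆ := by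
    refine comm_mul_right σ S.cen ?_ ?_
    · rw [hb]
      simp only [S.σ_lift]
      rw [← S.xW_split]
    · rw [ha]
      simp only [S.σ_lift]
      exact S.xW_comm _ _ _ _
  have e2 : ∀ b' : Γ, (∃ a' b'', σ b' = x 0 a' b'') →
      ⁅a, b'⁆ = ⁅S.lift (x 0 u 0), b'⁆ * ⁅S.lift (x 0 0 v), b'⁆ := by
    rintro b' ⟨a', b'', hb'⟩
    refine comm_mul_left σ S.cen ?_ ?_
    · rw [ha]
      simp only [S.σ_lift]
      rw [← S.xW_split]
    · rw [hb']
      simp only [S.σ_lift]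
      exact S.xW_comm _ _ _ _
  rw [e1, e2 _ ⟨_, _, S.σ_lift _⟩, e2 _ ⟨_, _, S.σ_lift _⟩, S.UU_lift, S.UV_lift, S.VV_lift,
    ← commutatorElement_inv, S.UV_lift]
  simp

/-- Step 4: lifts of the third layer commute with lifts of the first layer -/
theorem VT_lift (v t : K) : ⁅S.lift (x 0 0 v), S.lift (x t 0 0)⁆ = 1 := by
  have hcomm : ∀ a b : K, σ (S.lift (x 0 0 a)) * σ (S.lift (x b 0 0)) =
      σ (S.lift (x b 0 0)) * σ (S.lift (x 0 0 a)) := by
    intro a b
    simp only [S.σ_lift]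
    exact S.xV_comm _ _ _ _
  have hs2 : 1 ≤ s + 2 := by omega
  refine pair_pow_one_eq_one (s + 2) hs2 S.size
    (fun v t => ⁅S.lift (x 0 0 v), S.lift (x t 0 0)⁆) ?_ ?_ ?_ ?_ v t
  · intro a b
    exact S.ker_center (comm_mem_ker σ (hcomm a b))
  · intro a a' b
    refine comm_mul_left σ S.cen ?_ (hcomm a' b)
    simp only [S.σ_lift]
    rw [S.xV_mul]
  · intro a b b'
    show ⁅S.lift (x 0 0 a), S.lift (x (b + b') 0 0)⁆ =
      ⁅S.lift (x 0 0 a), S.lift (x b 0 0)⁆ * ⁅S.lift (x 0 0 a), S.lift (x b' 0 0)⁆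
    set α := b * b' ^ s with hα
    set β := -(b * b' ^ (s + 1) - b ^ 2 * b' ^ s) with hβ
    have e1 : ⁅S.lift (x 0 0 a), S.lift (x (b + b') 0 0)⁆ =
        ⁅S.lift (x 0 0 a), S.lift (x b 0 0)⁆ * ⁅S.lift (x 0 0 a), S.lift (x b' α β)⁆ := by
      refine comm_mul_right σ S.cen ?_ ?_
      · simp only [S.σ_lift]
        rw [S.x_split b' α β]
        exact S.xT_add b b'
      · simp only [S.σ_lift]
        exact S.xV_comm _ _ _ _
    have e2 : ⁅S.lift (x 0 0 a), S.lift (x b' α β)⁆ =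
        ⁅S.lift (x 0 0 a), S.lift (x b' 0 0)⁆ * ⁅S.lift (x 0 0 a), S.lift (x 0 α β)⁆ := by
      refine comm_mul_right σ S.cen ?_ ?_
      · simp only [S.σ_lift]
        rw [← S.x_split]
      · simp only [S.σ_lift]
        exact S.xV_comm _ _ _ _
    have e3 : ⁅S.lift (x 0 0 a), S.lift (x 0 α β)⁆ = 1 := by
      rw [commutatorElement_eq_one_iff_mul_comm]
      exact S.WW (S.σ_lift _) (S.σ_lift _)
    rw [e1, e2, e3, mul_one]
  · intro l hl a b
    refine comm_conj_inv σ S.cen (g := S.lift (h (Units.mk0 l hl))) (hcomm a b) ?_ ?_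
    · simp only [S.σ_lift]
      rw [S.h_conj_W, mul_zero, Units.val_mk0]
    · simp only [S.σ_lift]
      rw [S.h_conj_T, Units.val_mk0]

/-- preimages of the third layer are central in the preimage of the Sylow subgroup -/
theorem VP {a p : Γ} {v t u w : K} (ha : σ a = x 0 0 v) (hp : σ p = x t u w) :
    a * p = p * a := by
  rw [← commutatorElement_eq_one_iff_mul_comm]
  have e1 : ⁅a, p⁆ = ⁅a, S.lift (x t 0 0)⁆ * ⁅a, S.lift (x 0 u w)⁆ := by
    refine comm_mul_right σ S.cen ?_ ?_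
    · rw [hp]
      simp only [S.σ_lift]
      rw [← S.x_split]
    · rw [ha]
      simp only [S.σ_lift]
      exact S.xV_comm _ _ _ _
  have e2 : ⁅a, S.lift (x t 0 0)⁆ = ⁅S.lift (x 0 0 v), S.lift (x t 0 0)⁆ :=
    cc σ S.cen (by rw [ha, S.σ_lift]) rfl
  have e3 : ⁅a, S.lift (x 0 u w)⁆ = 1 := by
    rw [commutatorElement_eq_one_iff_mul_comm]
    exact S.WW ha (S.σ_lift _)
  rw [e1, e2, e3, S.VT_lift, mul_one]

/-- the nonzero scalar `c₀ ^ (s + 1) - 1` -/
def a1 (_S : Setup σ s x h c₀) : K := (c₀ : K) ^ (s + 1) - 1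

/-- the nonzero scalar `c₀ ^ (s + 2) - 1` -/
def a2 (_S : Setup σ s x h c₀) : K := (c₀ : K) ^ (s + 2) - 1

theorem a1_ne : S.a1 ≠ 0 := sub_ne_zero.mpr S.c1

theorem a2_ne : S.a2 ≠ 0 := sub_ne_zero.mpr S.c2

/-- Step 5: the canonical lifts `⁅τ, ·⁆` of the elements of the abelian normal subgroup -/
noncomputable def d (u v : K) : Γ :=
  ⁅S.lift (h c₀), S.lift (x 0 (u / S.a1) (v / S.a2))⁆

theorem σ_d (u v : K) : σ (S.d u v) = x 0 u v := by
  have h1 := S.a1_ne
  have h2 := S.a2_ne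
  have e1 : (c₀ : K) ^ (s + 1) = S.a1 + 1 := by simp [a1]
  have e2 : (c₀ : K) ^ (s + 2) = S.a2 + 1 := by simp [a2]
  rw [d, map_commutatorElement]
  simp only [S.σ_lift]
  rw [commutatorElement_def, S.h_conj_W, S.xW_inv, S.xW_mul, e1, e2]
  congr 1
  · field_simp
    ring
  · field_simp
    ring

theorem comm_τ {a : Γ} {u v : K} (ha : σ a = x 0 u v) :
    ⁅S.lift (h c₀), a⁆ = S.d (S.a1 * u) (S.a2 * v) := by
  rw [d]
  refine cc σ S.cen rfl ?_
  rw [ha, S.σ_lift, mul_div_cancel_left₀ _ S.a1_ne, mul_div_cancel_left₀ _ S.a2_ne]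

theorem d_mul (u v u' v' : K) : S.d (u + u') (v + v') = S.d u v * S.d u' v' := by
  have key := comm_mul_right_of_commute σ S.cen (e := S.lift (h c₀))
    (a := S.lift (x 0 (u / S.a1) (v / S.a2))) (b := S.lift (x 0 (u' / S.a1) (v' / S.a2)))
    (c := S.lift (x 0 ((u + u') / S.a1) ((v + v') / S.a2))) ?_ ?_
  · exact key
  · simp only [S.σ_lift]
    rw [S.xW_mul, add_div, add_div]
  · exact S.WW (S.σ_lift _) (S.σ_d u' v')

theorem d_zero : S.d 0 0 = 1 := by
  have := S.d_mul 0 0 0 0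
  rw [add_zero] at this
  exact left_eq_mul.mp this

theorem d_inv (u v : K) : (S.d u v)⁻¹ = S.d (-u) (-v) := by
  apply inv_eq_of_mul_eq_one_right
  rw [← S.d_mul, add_neg_cancel, add_neg_cancel, S.d_zero]

theorem d_ker {u v : K} (hd : S.d u v ∈ σ.ker) : u = 0 ∧ v = 0 := by
  rw [MonoidHom.mem_ker, S.σ_d, ← S.x_zero] at hd
  obtain ⟨-, h1, h2⟩ := S.x_inj _ _ _ _ _ _ hd
  exact ⟨h1, h2⟩

theorem d_conj_h {g : Γ} (l : Kˣ) (hg : σ g = h l) (u v : K) :
    g * S.d u v * g⁻¹ = S.d ((l : K) ^ (s + 1) * u) ((l : K) ^ (s + 2) * v) := by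
  rw [d, d, conjugate_commutatorElement]
  refine cc σ S.cen ?_ ?_
  · rw [map_mul, map_mul, map_inv, hg, S.σ_lift, S.h_comm, mul_inv_cancel_right]
  · rw [map_mul, map_mul, map_inv, hg, S.σ_lift, S.σ_lift, S.h_conj_W, mul_div_assoc,
      mul_div_assoc]

open Classical in
/-- the canonical lift as a function on the group -/
noncomputable def dd (g : G) : Γ :=
  if hg : ∃ p : K × K, g = x 0 p.1 p.2 then
    S.d (Classical.choose hg).1 (Classical.choose hg).2 else 1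

theorem dd_x (u v : K) : S.dd (x 0 u v) = S.d u v := by
  have hg : ∃ p : K × K, x 0 u v = x 0 p.1 p.2 := ⟨(u, v), rfl⟩
  rw [dd, dif_pos hg]
  obtain ⟨-, h1, h2⟩ := S.x_inj _ _ _ _ _ _ (Classical.choose_spec hg)
  rw [← h1, ← h2]

/-- the kernel component of an element of the preimage of the abelian normal subgroup -/
noncomputable def zc (a : Γ) : Γ := a * (S.dd (σ a))⁻¹

theorem zc_eq {a : Γ} {u v : K} (ha : σ a = x 0 u v) : S.zc a = a * (S.d u v)⁻¹ := by
  rw [zc, ha, S.dd_x]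

theorem zc_mem_ker {a : Γ} {u v : K} (ha : σ a = x 0 u v) : S.zc a ∈ σ.ker := by
  rw [S.zc_eq ha, MonoidHom.mem_ker, map_mul, map_inv, ha, S.σ_d, mul_inv_cancel]

theorem eq_zc_mul_d {a : Γ} {u v : K} (ha : σ a = x 0 u v) : a = S.zc a * S.d u v := by
  rw [S.zc_eq ha]
  group

theorem zc_mul {a b : Γ} {u v u' v' : K} (ha : σ a = x 0 u v) (hb : σ b = x 0 u' v') :
    S.zc (a * b) = S.zc a * S.zc b := by
  have hab : σ (a * b) = x 0 (u + u') (v + v') := by
    rw [map_mul, ha, hb, S.xW_mul]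
  have hzb := S.cen _ (S.zc_mem_ker hb)
  rw [S.zc_eq hab, S.d_mul]
  rw [S.zc_eq hb] at hzb
  rw [S.zc_eq ha, S.zc_eq hb]
  calc a * b * (S.d u v * S.d u' v')⁻¹ = a * (b * (S.d u' v')⁻¹) * (S.d u v)⁻¹ := by group
    _ = (b * (S.d u' v')⁻¹) * a * (S.d u v)⁻¹ := by rw [hzb a]
    _ = (b * (S.d u' v')⁻¹) * (a * (S.d u v)⁻¹) := by group
    _ = _ := hzb _

theorem zc_of_ker {z : Γ} (hz : z ∈ σ.ker) : S.zc z = z := by
  have h1 : σ z = x 0 0 0 := by rw [S.x_zero]; exact hz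
  rw [S.zc_eq h1, S.d_zero, inv_one, mul_one]

theorem zc_one : S.zc 1 = 1 := S.zc_of_ker (Subgroup.one_mem _)

theorem zc_d (u v : K) : S.zc (S.d u v) = 1 := by
  rw [S.zc_eq (S.σ_d u v), mul_inv_cancel]

theorem zc_inv {a : Γ} {u v : K} (ha : σ a = x 0 u v) : S.zc a⁻¹ = (S.zc a)⁻¹ := by
  have ha' : σ a⁻¹ = x 0 (-u) (-v) := by rw [map_inv, ha, S.xW_inv]
  have := S.zc_mul ha ha'
  rw [mul_inv_cancel, S.zc_one] at this
  exact (inv_eq_of_mul_eq_one_right this.symm).symm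

theorem eq_d_of_zc {a : Γ} {u v : K} (ha : σ a = x 0 u v) (h1 : S.zc a = 1) :
    a = S.d u v := by
  have := S.eq_zc_mul_d ha
  rw [h1, one_mul] at this
  exact this

theorem zc_conj_h {g a : Γ} (l : Kˣ) {u v : K} (hg : σ g = h l) (ha : σ a = x 0 u v) :
    S.zc (g * a * g⁻¹) = S.zc a := by
  have h1 : σ (g * a * g⁻¹) = x 0 ((l : K) ^ (s + 1) * u) ((l : K) ^ (s + 2) * v) := by
    rw [map_mul, map_mul, map_inv, hg, ha, S.h_conj_W]
  have hza := S.cen _ (S.zc_mem_ker ha)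
  have h2 : g * a * g⁻¹ = S.zc a * (g * S.d u v * g⁻¹) := by
    conv_lhs => rw [S.eq_zc_mul_d ha]
    calc g * (S.zc a * S.d u v) * g⁻¹ = (g * S.zc a) * S.d u v * g⁻¹ := by group
      _ = (S.zc a * g) * S.d u v * g⁻¹ := by rw [hza g]
      _ = _ := by group
  rw [S.zc_eq h1, h2, S.d_conj_h l hg, mul_inv_cancel_right]

theorem σ_comm_A_P {a p : Γ} {u v t u' v' : K} (ha : σ a = x 0 u v) (hp : σ p = x t u' v') :
    σ ⁅a, p⁆ = x 0 0 (-(t * u)) := by
  rw [map_commutatorElement, ha, hp, S.comm_W_P]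

/-- commutators with elements of the abelian subgroup are additive on the first layer -/
theorem comm_A_lin {e : Γ} {u v : K} (he : σ e = x 0 u v) (t t' : K) :
    ⁅e, S.lift (x (t + t') 0 0)⁆ = ⁅e, S.lift (x t 0 0)⁆ * ⁅e, S.lift (x t' 0 0)⁆ := by
  set α := t * t' ^ s with hα
  set β := -(t * t' ^ (s + 1) - t ^ 2 * t' ^ s) with hβ
  have e1 : ⁅e, S.lift (x (t + t') 0 0)⁆ =
      ⁅e, S.lift (x t 0 0)⁆ * ⁅e, S.lift (x t' α β)⁆ := by
    refine comm_mul_right_of_commute σ S.cen ?_ ?_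
    · simp only [S.σ_lift]
      rw [S.x_split t' α β]
      exact S.xT_add t t'
    · exact (S.VP (S.σ_comm_A_P he (S.σ_lift _)) (S.σ_lift _)).symm
  have e3 : ⁅e, S.lift (x 0 α β)⁆ = 1 := by
    rw [commutatorElement_eq_one_iff_mul_comm]
    exact S.WW he (S.σ_lift _)
  have e2 : ⁅e, S.lift (x t' α β)⁆ =
      ⁅e, S.lift (x t' 0 0)⁆ * ⁅e, S.lift (x 0 α β)⁆ := by
    refine comm_mul_right_of_commute σ S.cen ?_ ?_
    · simp only [S.σ_lift]
      rw [← S.x_split]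
    · rw [e3, mul_one, one_mul]
  rw [e1, e2, e3, mul_one]

/-- Step 6: the commutator of a canonical lift with a lift of the first layer -/
theorem M_eq (u t : K) : ⁅S.d u 0, S.lift (x t 0 0)⁆ = S.d 0 (-(t * u)) := by
  set M : K → Γ := fun t => ⁅S.d u 0, S.lift (x t 0 0)⁆ with hM
  have hσM : ∀ t, σ (M t) = x 0 0 (-(t * u)) := fun t =>
    S.σ_comm_A_P (S.σ_d u 0) (S.σ_lift _)
  have hadd : ∀ t t', S.zc (M (t + t')) = S.zc (M t) * S.zc (M t') := by
    intro t t'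
    rw [← S.zc_mul (hσM t) (hσM t')]
    congr 1
    exact S.comm_A_lin (S.σ_d u 0) t t'
  have hneg : ∀ t, S.zc (M (-t)) = S.zc (M t) := by
    intro t
    have h1 : M (-t) = S.lift (h (-1)) * M t * (S.lift (h (-1)))⁻¹ := by
      rw [hM]
      simp only []
      rw [conjugate_commutatorElement, S.d_conj_h (-1) (S.σ_lift _)]
      refine cc σ S.cen ?_ ?_
      · rw [S.neg_one_pow_s1, one_mul, mul_zero]
      · rw [map_mul, map_mul, map_inv]
        simp only [S.σ_lift]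
        rw [S.h_conj_T, Units.val_neg, Units.val_one, neg_one_mul]
    rw [h1]
    exact S.zc_conj_h (-1) (S.σ_lift _) (hσM t)
  have hzero : S.zc (M 0) = 1 := by
    have := hadd 0 0
    rw [add_zero] at this
    exact left_eq_mul.mp this
  have hsq : S.zc (M t) * S.zc (M t) = 1 := by
    have := hadd t (-t)
    rw [add_neg_cancel, hzero, hneg] at this
    exact this.symm
  have h1 : S.zc (M t) = 1 :=
    eq_one_of_sq_cube hsq (S.cube _ (S.zc_mem_ker (hσM t)))
  exact S.eq_d_of_zc (hσM t) h1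

/-- commutators of the abelian subgroup with the Sylow subgroup are canonical lifts -/
theorem comm_A_P {a p : Γ} {u v t u' v' : K} (ha : σ a = x 0 u v) (hp : σ p = x t u' v') :
    ⁅a, p⁆ = S.d 0 (-(t * u)) := by
  have e0 : ⁅S.d 0 v, p⁆ = 1 := by
    rw [commutatorElement_eq_one_iff_mul_comm]
    exact S.VP (S.σ_d 0 v) hp
  have e1 : ⁅a, p⁆ = ⁅S.d 0 v, p⁆ * ⁅S.d u 0, p⁆ := by
    refine comm_mul_left_of_commute σ S.cen ?_ ?_
    · rw [ha, S.σ_d, S.σ_d, ← S.xW_split]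
    · rw [e0, mul_one, one_mul]
  have e3 : ⁅S.d u 0, S.lift (x 0 u' v')⁆ = 1 := by
    rw [commutatorElement_eq_one_iff_mul_comm]
    exact S.WW (S.σ_d u 0) (S.σ_lift _)
  have e2 : ⁅S.d u 0, p⁆ = ⁅S.d u 0, S.lift (x t 0 0)⁆ * ⁅S.d u 0, S.lift (x 0 u' v')⁆ := by
    refine comm_mul_right_of_commute σ S.cen ?_ ?_
    · rw [hp]
      simp only [S.σ_lift]
      rw [← S.x_split]
    · rw [e3, mul_one, one_mul]
  rw [e1, e0, one_mul, e2, e3, mul_one, S.M_eq]

theorem conj_P_A {a p : Γ} {u v t u' v' : K} (ha : σ a = x 0 u v) (hp : σ p = x t u' v') :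
    p * a * p⁻¹ = S.d 0 (t * u) * a := by
  have h1 := S.comm_A_P ha hp
  have h2 : p * a * p⁻¹ = ⁅a, p⁆⁻¹ * a := by
    rw [commutatorElement_def]
    group
  rw [h2, h1, S.d_inv, neg_zero, neg_neg]

theorem σ_conj_P_A {a p : Γ} {u v t u' v' : K} (ha : σ a = x 0 u v) (hp : σ p = x t u' v') :
    σ (p * a * p⁻¹) = x 0 u (t * u + v) := by
  rw [S.conj_P_A ha hp, map_mul, S.σ_d, ha, S.xW_mul, zero_add]

theorem zc_conj_P {a p : Γ} {u v t u' v' : K} (ha : σ a = x 0 u v) (hp : σ p = x t u' v') :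
    S.zc (p * a * p⁻¹) = S.zc a := by
  rw [S.conj_P_A ha hp, S.zc_mul (S.σ_d _ _) ha, S.zc_d, one_mul]

theorem σ_comm_P_P {p q : Γ} {t u v t' u' v' : K} (hp : σ p = x t u v) (hq : σ q = x t' u' v') :
    ∃ a b : K, σ ⁅p, q⁆ = x 0 a b := by
  rw [map_commutatorElement, hp, hq]
  exact S.comm_P_P _ _ _ _ _ _

/-- the kernel component of a commutator is multiplicative in the first argument -/
theorem zc_comm_mul_left {p q c b : Γ} {t u v t' u' v' t'' u'' v'' : K} (hp : σ p = x t u v)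
    (hq : σ q = x t' u' v') (hb : σ b = x t'' u'' v'') (hc : σ c = σ p * σ q) :
    S.zc ⁅c, b⁆ = S.zc ⁅p, b⁆ * S.zc ⁅q, b⁆ := by
  have h1 : ⁅c, b⁆ = ⁅p * q, b⁆ := cc σ S.cen (by rw [hc, map_mul]) rfl
  have h2 : ⁅p * q, b⁆ = p * ⁅q, b⁆ * p⁻¹ * ⁅p, b⁆ := by
    rw [commutatorElement_def, commutatorElement_def, commutatorElement_def]
    group
  obtain ⟨a1, b1, hqb⟩ := S.σ_comm_P_P hq hb
  obtain ⟨a2, b2, hpb⟩ := S.σ_comm_P_P hp hb
  rw [h1, h2, S.zc_mul (S.σ_conj_P_A hqb hp) hpb, S.zc_conj_P hqb hp]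
  exact S.cen _ (S.zc_mem_ker hqb) _

theorem zc_comm_swap {p b : Γ} {t u v t' u' v' : K} (hp : σ p = x t u v)
    (hb : σ b = x t' u' v') : S.zc ⁅b, p⁆ = (S.zc ⁅p, b⁆)⁻¹ := by
  obtain ⟨a2, b2, hpb⟩ := S.σ_comm_P_P hp hb
  rw [← S.zc_inv hpb, commutatorElement_inv]

/-- the kernel component of the commutator of two lifts of the first layer -/
noncomputable def gam (t t' : K) : Γ := S.zc ⁅S.lift (x t 0 0), S.lift (x t' 0 0)⁆

theorem zc_comm_T {b : Γ} {t t' u' v' : K} (hb : σ b = x t' u' v') :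
    S.zc ⁅b, S.lift (x t 0 0)⁆ = S.gam t' t := by
  have h1 : S.zc ⁅b, S.lift (x t 0 0)⁆ =
      S.zc ⁅S.lift (x t' 0 0), S.lift (x t 0 0)⁆ * S.zc ⁅S.lift (x 0 u' v'), S.lift (x t 0 0)⁆ := by
    refine S.zc_comm_mul_left (S.σ_lift _) (S.σ_lift _) (S.σ_lift _) ?_
    rw [hb]
    simp only [S.σ_lift]
    rw [← S.x_split]
  rw [h1, S.comm_A_P (S.σ_lift _) (S.σ_lift _), S.zc_d, mul_one, gam]

theorem zc_comm_P_P {p b : Γ} {t u v t' u' v' : K} (hp : σ p = x t u v)
    (hb : σ b = x t' u' v') : S.zc ⁅p, b⁆ = S.gam t t' := by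
  have h1 : S.zc ⁅p, b⁆ =
      S.zc ⁅S.lift (x t 0 0), b⁆ * S.zc ⁅S.lift (x 0 u v), b⁆ := by
    refine S.zc_comm_mul_left (S.σ_lift _) (S.σ_lift _) hb ?_
    rw [hp]
    simp only [S.σ_lift]
    rw [← S.x_split]
  rw [h1, S.comm_A_P (S.σ_lift _) hb, S.zc_d, mul_one,
    S.zc_comm_swap (p := b) (b := S.lift (x t 0 0)) hb (S.σ_lift _), S.zc_comm_T hb, gam,
    S.zc_comm_swap (S.σ_lift _) (S.σ_lift _), inv_inv, gam]

theorem gam_mem_ker (t t' : K) : S.gam t t' ∈ σ.ker := by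
  obtain ⟨a, b, hab⟩ := S.σ_comm_P_P (S.σ_lift (x t 0 0)) (S.σ_lift (x t' 0 0))
  exact S.zc_mem_ker hab

theorem gam_swap (t t' : K) : S.gam t' t = (S.gam t t')⁻¹ :=
  S.zc_comm_swap (S.σ_lift _) (S.σ_lift _)

theorem gam_add_left (t₁ t₂ t' : K) : S.gam (t₁ + t₂) t' = S.gam t₁ t' * S.gam t₂ t' := by
  set α := t₁ * t₂ ^ s with hα
  set β := -(t₁ * t₂ ^ (s + 1) - t₁ ^ 2 * t₂ ^ s) with hβ
  have h1 : S.gam (t₁ + t₂) t' = S.zc ⁅S.lift (x t₁ 0 0), S.lift (x t' 0 0)⁆ *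
      S.zc ⁅S.lift (x t₂ α β), S.lift (x t' 0 0)⁆ := by
    refine S.zc_comm_mul_left (S.σ_lift _) (S.σ_lift _) (S.σ_lift _) ?_
    simp only [S.σ_lift]
    rw [S.x_split t₂ α β]
    exact S.xT_add t₁ t₂
  rw [h1, S.zc_comm_T (b := S.lift (x t₂ α β)) (S.σ_lift _)]
  rfl

/-- Step 7: the kernel component of the commutator of two lifts of the first layer is trivial -/
theorem gam_eq_one (t t' : K) : S.gam t t' = 1 := by
  refine alt_inv_eq_one (fun t t' => S.gam t t') ?_ ?_ ?_ ?_ ?_ ?_ t t'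
  · intro a b
    exact S.ker_center (S.gam_mem_ker a b)
  · intro a a' b
    exact S.gam_add_left a a' b
  · intro a b b'
    show S.gam a (b + b') = S.gam a b * S.gam a b'
    rw [S.gam_swap (b + b') a, S.gam_add_left, mul_inv_rev, ← S.gam_swap, ← S.gam_swap]
    exact S.cen _ (S.gam_mem_ker a b') _
  · intro a
    show S.gam a a = 1
    rw [gam, commutatorElement_self, S.zc_one]
  · intro l hl
    left
    intro a b
    show S.gam (l * a) (l * b) = S.gam a b
    obtain ⟨a', b', hab⟩ := S.σ_comm_P_P (S.σ_lift (x a 0 0)) (S.σ_lift (x b 0 0))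
    have hg : σ (S.lift (h (Units.mk0 l hl))) = h (Units.mk0 l hl) := S.σ_lift _
    rw [gam, gam, ← S.zc_conj_h (Units.mk0 l hl) hg hab, conjugate_commutatorElement]
    congr 1
    refine cc σ S.cen ?_ ?_
    · rw [map_mul, map_mul, map_inv]
      simp only [S.σ_lift]
      rw [S.h_conj_T, Units.val_mk0]
    · rw [map_mul, map_mul, map_inv]
      simp only [S.σ_lift]
      rw [S.h_conj_T, Units.val_mk0]
  · intro a b
    exact S.cube _ (S.gam_mem_ker a b)

/-- all commutators of the preimage of the Sylow subgroup are canonical lifts -/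
theorem comm_eq_d {p q : Γ} {t u v t' u' v' : K} (hp : σ p = x t u v) (hq : σ q = x t' u' v') :
    ∃ a b : K, ⁅p, q⁆ = S.d a b := by
  obtain ⟨a, b, hab⟩ := S.σ_comm_P_P hp hq
  refine ⟨a, b, S.eq_d_of_zc hab ?_⟩
  rw [S.zc_comm_P_P hp hq, S.gam_eq_one]

/-- the subgroup of canonical lifts -/
noncomputable def D : Subgroup Γ where
  carrier := {g | ∃ u v : K, g = S.d u v}
  mul_mem' := by
    rintro _ _ ⟨u, v, rfl⟩ ⟨u', v', rfl⟩
    exact ⟨u + u', v + v', (S.d_mul u v u' v').symm⟩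
  one_mem' := ⟨0, 0, S.d_zero.symm⟩
  inv_mem' := by
    rintro _ ⟨u, v, rfl⟩
    exact ⟨-u, -v, S.d_inv u v⟩

/-- **Main result**: a non-trivial element of the kernel is not in the derived subgroup of a subgroup
mapping into the Sylow `3`-subgroup. -/
theorem not_mem_commutator (H : Subgroup Γ) (hH : ∀ p ∈ H, ∃ t u v : K, σ p = x t u v)
    (z : Γ) (hzk : z ∈ σ.ker) (hz1 : z ≠ 1) (hzH : z ∈ H) :
    (⟨z, hzH⟩ : H) ∉ commutator H := by
  intro hz
  have hle : commutator H ≤ S.D.comap H.subtype := by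
    rw [commutator_def, Subgroup.commutator_le]
    intro a _ b _
    rw [Subgroup.mem_comap, map_commutatorElement]
    obtain ⟨t, u, v, ha⟩ := hH a a.2
    obtain ⟨t', u', v', hb⟩ := hH b b.2
    obtain ⟨a', b', hab⟩ := S.comm_eq_d ha hb
    exact ⟨a', b', hab⟩
  obtain ⟨u, v, huv⟩ := hle hz
  change z = S.d u v at huv
  rw [huv] at hzk
  obtain ⟨rfl, rfl⟩ := S.d_ker hzk
  rw [S.d_zero] at huv
  exact hz1 huv

end Setup

end setup

end Cfsg.Agent.Helper9.ReeMult
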