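import Cfsg.Agent.S1159

/-!
Helper9 (for S3626): the spectrum of `R × R × M` equals the spectrum of `R × R × R` for `R = ²G₂(q)` and any
group `M` whose element orders are exactly the divisors of `6`, `9`, `q - 1`, `(q + 1) / 2`.
-/

set_option autoImplicit false

namespace Cfsg.Agent.Helper9.ReeSpec

open Cfsg Cfsg.Lie

/-- the "truncated" spectrum: divisors of `6`, `9`, `q - 1`, `(q + 1) / 2` -/
def IsTruncOrder (m d : ℕ) : Prop :=
  d ∣ 6 ∨ d ∣ 9 ∨ d ∣ 3 ^ (2 * m + 1) - 1 ∨ d ∣ (3 ^ (2 * m + 1) + 1) / 2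

variable {K : Type*} [Field K] [Fintype K] {m : ℕ}

theorem exists_of_trunc (hm : 1 ≤ m) (hK : Fintype.card K = 3 ^ (2 * m + 1)) {d : ℕ}
    (hd : IsTruncOrder m d) : ∃ g : ↥(twistedG2 K (3 ^ m)), orderOf g = d := by
  rw [Cfsg.Agent.S1159.result hm hK d]
  rcases hd with h | h | h | h
  · exact Or.inl h
  · exact Or.inr (Or.inl h)
  · exact Or.inr (Or.inr (Or.inl h))
  · exact Or.inr (Or.inr (Or.inr (Or.inl h)))

theorem trunc_or_cox (hm : 1 ≤ m) (hK : Fintype.card K = 3 ^ (2 * m + 1))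
    (g : ↥(twistedG2 K (3 ^ m))) :
    IsTruncOrder m (orderOf g) ∨ orderOf g ∣ 3 ^ (2 * m + 1) - 3 ^ (m + 1) + 1 ∨
      orderOf g ∣ 3 ^ (2 * m + 1) + 3 ^ (m + 1) + 1 := by
  rcases (Cfsg.Agent.S1159.result hm hK (orderOf g)).mp ⟨g, rfl⟩ with h | h | h | h | h | h
  · exact Or.inl (Or.inl h)
  · exact Or.inl (Or.inr (Or.inl h))
  · exact Or.inl (Or.inr (Or.inr (Or.inl h)))
  · exact Or.inl (Or.inr (Or.inr (Or.inr h)))
  · exact Or.inr (Or.inl h)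
  · exact Or.inr (Or.inr h)

theorem exists_lcm_of_cox (hm : 1 ≤ m) (hK : Fintype.card K = 3 ^ (2 * m + 1))
    (x y : ↥(twistedG2 K (3 ^ m)))
    (h : (orderOf x ∣ 3 ^ (2 * m + 1) - 3 ^ (m + 1) + 1 ∧ orderOf y ∣ 3 ^ (2 * m + 1) - 3 ^ (m + 1) + 1) ∨
      (orderOf x ∣ 3 ^ (2 * m + 1) + 3 ^ (m + 1) + 1 ∧ orderOf y ∣ 3 ^ (2 * m + 1) + 3 ^ (m + 1) + 1)) :
    ∃ g : ↥(twistedG2 K (3 ^ m)), orderOf g = Nat.lcm (orderOf x) (orderOf y) := by
  rw [Cfsg.Agent.S1159.result hm hK]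
  rcases h with ⟨h1, h2⟩ | ⟨h1, h2⟩
  · exact Or.inr (Or.inr (Or.inr (Or.inr (Or.inl (Nat.lcm_dvd h1 h2)))))
  · exact Or.inr (Or.inr (Or.inr (Or.inr (Or.inr (Nat.lcm_dvd h1 h2)))))

section Main

variable (hm : 1 ≤ m) (hK : Fintype.card K = 3 ^ (2 * m + 1)) (M : Type*) [Group M]
  (hM : ∀ d : ℕ, (∃ x : M, orderOf x = d) ↔ IsTruncOrder m d)

theorem mem_range_of_orders (d1 d2 d3 : ℕ) (h1 : ∃ g : ↥(twistedG2 K (3 ^ m)), orderOf g = d1)
    (h2 : ∃ g : ↥(twistedG2 K (3 ^ m)), orderOf g = d2) (h3 : ∃ x : M, orderOf x = d3) :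
    Nat.lcm d1 (Nat.lcm d2 d3) ∈
      Set.range (orderOf : ↥(twistedG2 K (3 ^ m)) × ↥(twistedG2 K (3 ^ m)) × M → ℕ) := by
  obtain ⟨a, rfl⟩ := h1
  obtain ⟨b, rfl⟩ := h2
  obtain ⟨x, rfl⟩ := h3
  exact ⟨(a, b, x), by rw [Prod.orderOf, Prod.orderOf]⟩

include hm hK hM in
/-- the spectrum of `R × R × M` is the spectrum of `R × R × R` -/
theorem range_orderOf_prod_eq :
    Set.range (orderOf : ↥(twistedG2 K (3 ^ m)) × ↥(twistedG2 K (3 ^ m)) × M → ℕ) =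
      Set.range (orderOf : ↥(twistedG2 K (3 ^ m)) × ↥(twistedG2 K (3 ^ m)) ×
        ↥(twistedG2 K (3 ^ m)) → ℕ) := by
  ext n
  constructor
  · rintro ⟨⟨a, b, x⟩, rfl⟩
    obtain ⟨c, hc⟩ := exists_of_trunc hm hK ((hM (orderOf x)).mp ⟨x, rfl⟩)
    exact ⟨(a, b, c), by rw [Prod.orderOf, Prod.orderOf, Prod.orderOf, Prod.orderOf, hc]⟩
  · rintro ⟨⟨a, b, c⟩, rfl⟩
    rw [Prod.orderOf, Prod.orderOf]
    have one3 : ∃ x : M, orderOf x = 1 := ⟨1, orderOf_one⟩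
    rcases trunc_or_cox hm hK c with hc | hc
    · exact mem_range_of_orders M _ _ _ ⟨a, rfl⟩ ⟨b, rfl⟩ ((hM _).mpr hc)
    rcases trunc_or_cox hm hK b with hb | hb
    · have e : Nat.lcm (orderOf a) (Nat.lcm (orderOf b) (orderOf c)) =
          Nat.lcm (orderOf a) (Nat.lcm (orderOf c) (orderOf b)) := by
        rw [Nat.lcm_comm (orderOf b)]
      rw [e]
      exact mem_range_of_orders M _ _ _ ⟨a, rfl⟩ ⟨c, rfl⟩ ((hM _).mpr hb)
    rcases trunc_or_cox hm hK a with ha | ha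
    · have e : Nat.lcm (orderOf a) (Nat.lcm (orderOf b) (orderOf c)) =
          Nat.lcm (orderOf b) (Nat.lcm (orderOf c) (orderOf a)) := by
        rw [Nat.lcm_comm (orderOf a), Nat.lcm_assoc]
      rw [e]
      exact mem_range_of_orders M _ _ _ ⟨b, rfl⟩ ⟨c, rfl⟩ ((hM _).mpr ha)
    -- all three orders divide `q - r + 1` or `q + r + 1`: two of them divide the same one
    have key : ∀ x y z : ↥(twistedG2 K (3 ^ m)),
        ((orderOf x ∣ 3 ^ (2 * m + 1) - 3 ^ (m + 1) + 1 ∧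
            orderOf y ∣ 3 ^ (2 * m + 1) - 3 ^ (m + 1) + 1) ∨
          (orderOf x ∣ 3 ^ (2 * m + 1) + 3 ^ (m + 1) + 1 ∧
            orderOf y ∣ 3 ^ (2 * m + 1) + 3 ^ (m + 1) + 1)) →
        Nat.lcm (Nat.lcm (orderOf x) (orderOf y)) (Nat.lcm (orderOf z) 1) ∈
          Set.range (orderOf : ↥(twistedG2 K (3 ^ m)) × ↥(twistedG2 K (3 ^ m)) × M → ℕ) := by
      intro x y z h
      exact mem_range_of_orders M _ _ _ (exists_lcm_of_cox hm hK x y h) ⟨z, rfl⟩ one3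
    have eab : Nat.lcm (orderOf a) (Nat.lcm (orderOf b) (orderOf c)) =
        Nat.lcm (Nat.lcm (orderOf a) (orderOf b)) (Nat.lcm (orderOf c) 1) := by
      rw [Nat.lcm_one_right, Nat.lcm_assoc]
    have eac : Nat.lcm (orderOf a) (Nat.lcm (orderOf b) (orderOf c)) =
        Nat.lcm (Nat.lcm (orderOf a) (orderOf c)) (Nat.lcm (orderOf b) 1) := by
      rw [Nat.lcm_one_right, Nat.lcm_assoc, Nat.lcm_comm (orderOf c)]
    have ebc : Nat.lcm (orderOf a) (Nat.lcm (orderOf b) (orderOf c)) =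
        Nat.lcm (Nat.lcm (orderOf b) (orderOf c)) (Nat.lcm (orderOf a) 1) := by
      rw [Nat.lcm_one_right, Nat.lcm_comm]
    rcases ha with ha | ha <;> rcases hb with hb | hb <;> rcases hc with hc | hc
    · rw [eab]; exact key a b c (Or.inl ⟨ha, hb⟩)
    · rw [eab]; exact key a b c (Or.inl ⟨ha, hb⟩)
    · rw [eac]; exact key a c b (Or.inl ⟨ha, hc⟩)
    · rw [ebc]; exact key b c a (Or.inr ⟨hb, hc⟩)
    · rw [ebc]; exact key b c a (Or.inl ⟨hb, hc⟩)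
    · rw [eac]; exact key a c b (Or.inr ⟨ha, hc⟩)
    · rw [eab]; exact key a b c (Or.inr ⟨ha, hb⟩)
    · rw [eab]; exact key a b c (Or.inr ⟨ha, hb⟩)

end Main

end Cfsg.Agent.Helper9.ReeSpec
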