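import Cfsg.Agent.Helper9.ReeSpecA
import Cfsg.Agent.Helper61.PrimeGraph

/-!
Helper9 (for S3626): from a family of arbitrarily large finite groups with the truncated spectrum to
groups of arbitrarily large order (in `Type`) with the spectrum of `R × R × R`.
-/

set_option autoImplicit false

namespace Cfsg.Agent.Helper9.ReeSpec

open Cfsg Cfsg.Lie

theorem range_orderOf_congr {H H' : Type*} [Group H] [Group H'] (e : H ≃* H') :
    Set.range (orderOf : H → ℕ) = Set.range (orderOf : H' → ℕ) := by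
  ext n
  constructor
  · rintro ⟨g, rfl⟩
    exact ⟨e g, by rw [MulEquiv.orderOf_eq]⟩
  · rintro ⟨g, rfl⟩
    exact ⟨e.symm g, by rw [MulEquiv.orderOf_eq]⟩

variable {K : Type*} [Field K] [Fintype K] {m : ℕ}

/-- the assembly for S3626 -/
theorem exists_large_same_spectrum (hm : 1 ≤ m) (hK : Fintype.card K = 3 ^ (2 * m + 1)) (N : ℕ)
    (M : Type*) [Group M] [Finite M] (hN : N < Nat.card M)
    (hM : ∀ d : ℕ, (∃ x : M, orderOf x = d) ↔ IsTruncOrder m d) :
    ∃ (H : Type) (_ : Group H) (_ : Fintype H), N < Fintype.card H ∧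
      Set.range (orderOf : H → ℕ) =
        Set.range (orderOf : ↥(twistedG2 K (3 ^ m)) × ↥(twistedG2 K (3 ^ m)) ×
          ↥(twistedG2 K (3 ^ m)) → ℕ) := by
  obtain ⟨H, hG, hF, ⟨e⟩⟩ := Cfsg.Agent.Helper61.exists_type0_copy
    (↥(twistedG2 K (3 ^ m)) × ↥(twistedG2 K (3 ^ m)) × M)
  letI : Group H := hG
  haveI : Finite H := hF
  letI : Fintype H := Fintype.ofFinite H
  refine ⟨H, hG, inferInstance, ?_, ?_⟩
  · rw [← Nat.card_eq_fintype_card, Nat.card_congr e.toEquiv, Nat.card_prod, Nat.card_prod]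
    have h1 : 0 < Nat.card ↥(twistedG2 K (3 ^ m)) := Nat.card_pos
    calc N < Nat.card M := hN
      _ = 1 * (1 * Nat.card M) := by ring
      _ ≤ Nat.card ↥(twistedG2 K (3 ^ m)) * (Nat.card ↥(twistedG2 K (3 ^ m)) * Nat.card M) :=
        Nat.mul_le_mul h1 (Nat.mul_le_mul h1 le_rfl)
  · rw [range_orderOf_congr e]
    exact range_orderOf_prod_eq hm hK M hM

end Cfsg.Agent.Helper9.ReeSpec
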