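import Cfsg.Agent.Helper9.ReeSpecB
import Cfsg.Agent.Helper39.TruncRee.Main

/-!
Helper9 (for S3626): the groups `(Mat₂(F))^k ⋊ (PSL₂(F) × {±1})` (helper39's `TruncRee` module, `k` copies): their
element orders are exactly the divisors of `6`, `9`, `q - 1`, `(q + 1) / 2`, and their orders are unbounded.
-/

set_option autoImplicit false

namespace Cfsg.Agent.Helper9.ReeSpec

open Cfsg.Agent.Helper39.TruncRee Cfsg.Agent.Helper39.SpecA10

variable {F : Type} [Field F] [CharP F 3]

/-- the group with `k` copies of the module -/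
abbrev HHk (F : Type) [Field F] [CharP F 3] (k : ℕ) : Type := Aff (KK F) (Fin k → MV F)

theorem three_nsmul_pi (k : ℕ) (w : Fin k → MV F) : (3 : ℕ) • w = 0 := by
  funext j
  rw [Pi.smul_apply, three_nsmul_mv]
  rfl

theorem addOrderOf_pi (k : ℕ) (w : Fin k → MV F) : addOrderOf w = 1 ∨ addOrderOf w = 3 := by
  have h : addOrderOf w ∣ 3 := addOrderOf_dvd_of_nsmul_eq_zero (three_nsmul_pi k w)
  exact (Nat.dvd_prime Nat.prime_three).mp h

/-- the diagonal embedding of `HH F` -/
def diagHom (k : ℕ) : HH F →* HHk F k where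
  toFun x := ⟨fun _ => x.v, x.g⟩
  map_one' := rfl
  map_mul' a b := by
    apply Aff.ext'
    · funext j
      simp
    · simp

theorem diagHom_injective (k : ℕ) (hk : 0 < k) : Function.Injective (diagHom (F := F) k) := by
  intro a b h
  apply Aff.ext'
  · have h1 : (diagHom k a).v = (diagHom k b).v := congrArg Aff.v h
    exact congr_fun h1 ⟨0, hk⟩
  · have h2 : (diagHom k a).g = (diagHom k b).g := congrArg Aff.g h
    exact h2

section Orders

variable [Fintype F]

theorem hhk_order_dvd {q : ℕ} (hq : Fintype.card F = q) (hq8 : q % 8 = 3) (k : ℕ) (x : HHk F k) :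
    orderOf x ∣ 6 ∨ orderOf x ∣ 9 ∨ orderOf x ∣ q - 1 ∨ orderOf x ∣ (q + 1) / 2 := by
  have hsq : ¬ IsSquare (-1 : F) := by
    rw [FiniteField.isSquare_neg_one_iff, hq]
    omega
  have hpos : 0 < orderOf x.g := orderOf_pos x.g
  rw [Aff.orderOf_eq x hpos]
  rcases addOrderOf_pi k (Aff.nrm x.g x.v) with h1 | h3
  · rw [h1, mul_one]
    rcases kk_order_dvd hq hq8 x.g with h | h | h
    · exact Or.inl h
    · exact Or.inr (Or.inr (Or.inl h))
    · exact Or.inr (Or.inr (Or.inr h))
  · rw [h3]
    have hne : Aff.nrm x.g x.v ≠ 0 := by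
      intro h0
      rw [h0, addOrderOf_zero] at h3
      omega
    obtain ⟨j, hj⟩ : ∃ j, Aff.nrm x.g x.v j ≠ 0 := by
      by_contra hcon
      push Not at hcon
      exact hne (funext hcon)
    have hfix : x.g • (Aff.nrm x.g x.v j) = Aff.nrm x.g x.v j := by
      have := congr_fun (smul_nrm x.g x.v) j
      rwa [Pi.smul_apply] at this
    rcases fixed_point hsq x.g _ hj hfix with h | h
    · left
      have := orderOf_dvd_of_pow_eq_one h
      exact Nat.mul_dvd_mul this (dvd_refl 3)
    · right; left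
      have := orderOf_dvd_of_pow_eq_one h
      exact Nat.mul_dvd_mul this (dvd_refl 3)

theorem exists_of_dvd {G : Type*} [Group G] {D d : ℕ} (hD : ∃ x : G, orderOf x = D) (hD0 : 0 < D)
    (hd : d ∣ D) : ∃ x : G, orderOf x = d := by
  obtain ⟨x, hx⟩ := hD
  obtain ⟨c, hc⟩ := hd
  have hc0 : 0 < c := by
    rcases Nat.eq_zero_or_pos c with h | h
    · rw [h, mul_zero] at hc; omega
    · exact h
  refine ⟨x ^ c, ?_⟩
  have h1 : orderOf (x ^ c) = orderOf x / c :=
    orderOf_pow_of_dvd hc0.ne' (by rw [hx, hc]; exact Dvd.intro_left d rfl)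
  rw [h1, hx, hc, Nat.mul_div_cancel _ hc0]

/-- the spectrum of `HHk F k`, `k ≥ 1` -/
theorem hhk_spectrum {q : ℕ} (hq : Fintype.card F = q) (hq8 : q % 8 = 3) (k : ℕ) (hk : 0 < k) (d : ℕ) :
    (∃ x : HHk F k, orderOf x = d) ↔ (d ∣ 6 ∨ d ∣ 9 ∨ d ∣ q - 1 ∨ d ∣ (q + 1) / 2) := by
  constructor
  · rintro ⟨x, rfl⟩
    exact hhk_order_dvd hq hq8 k x
  · have tr : ∀ D : ℕ, (∃ x : HH F, orderOf x = D) → ∃ x : HHk F k, orderOf x = D := by
      rintro D ⟨x, hx⟩
      exact ⟨diagHom k x, by rw [orderOf_injective (diagHom k) (diagHom_injective k hk), hx]⟩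
    rintro (h | h | h | h)
    · exact exists_of_dvd (tr 6 exists_order_six) (by norm_num) h
    · exact exists_of_dvd (tr 9 exists_order_nine) (by norm_num) h
    · exact exists_of_dvd (tr _ (exists_order_split hq hq8)) (by omega) h
    · exact exists_of_dvd (tr _ (exists_order_nonsplit hq hq8)) (by omega) h

end Orders

instance instFiniteHHk [Finite F] (k : ℕ) : Finite (HHk F k) := by
  classical
  haveI : Fintype F := Fintype.ofFinite F
  haveI : Finite (MV F) := inferInstance
  exact Finite.of_injective (fun x : HHk F k => (x.v, x.g)) (fun x y h => by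
    have h1 := congrArg Prod.fst h
    have h2 := congrArg Prod.snd h
    exact Aff.ext' h1 h2)

/-- the orders of the groups `HHk F k` are unbounded -/
theorem lt_card_hhk [Finite F] (k : ℕ) : k < Nat.card (HHk F k) := by
  classical
  haveI : Fintype F := Fintype.ofFinite F
  have h1 : Nat.card (Fin k → MV F) ≤ Nat.card (HHk F k) :=
    Nat.card_le_card_of_injective (fun w : Fin k → MV F => (⟨w, 1⟩ : HHk F k)) (fun a b h => by
      exact congrArg Aff.v h)
  have h2 : Nat.card (Fin k → MV F) = Nat.card (MV F) ^ k := by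
    rw [Nat.card_fun, Nat.card_eq_fintype_card (α := Fin k), Fintype.card_fin]
  have h3 : 2 ≤ Nat.card (MV F) := by
    haveI : Nontrivial (MV F) := ⟨⟨0, 1, by
      intro h
      have := congr_fun (congr_fun h 0) 0
      simp at this⟩⟩
    exact Finite.one_lt_card
  calc k < 2 ^ k := Nat.lt_two_pow_self
    _ ≤ Nat.card (MV F) ^ k := Nat.pow_le_pow_left h3 k
    _ = Nat.card (Fin k → MV F) := h2.symm
    _ ≤ Nat.card (HHk F k) := h1

end Cfsg.Agent.Helper9.ReeSpec
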