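import Cfsg.Agent.Helper9.ReeTI
import Cfsg.Agent.Helper18.Ree.TorusRee

/-!
Helper9: three-point stabilisers of `²G₂(q)` on the cosets of `B¹`: the stabiliser of three distinct points is
conjugate to `C_{H¹}(u)` for some `1 ≠ u ∈ U¹`, which has order at most `2`.
-/

set_option autoImplicit false
set_option maxRecDepth 100000

namespace Cfsg.Agent.Helper9.ReeStab

open Cfsg Cfsg.Lie Cfsg.Agent.Helper18 Cfsg.Agent.Helper18.Ree Cfsg.Agent.Helper19.Poinc Cfsg.Agent.Helper9.ReeTI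

section Field
variable {K : Type*} [Field K]

/-- the arithmetic behind `C_{H¹}(u)`: if one of the six characters is `1` then `z² = 1` -/
theorem sq_eq_one_of_char (θ : ℕ) (z w : Kˣ) (h1 : w = z ^ θ) (h2 : z = w ^ (3 * θ))
    (h : z = 1 ∨ w = 1 ∨ w * z = 1 ∨ w ^ 2 * z = 1 ∨ w ^ 3 * z = 1 ∨ w ^ 3 * z ^ 2 = 1) : z ^ 2 = 1 := by
  -- the two basic cases
  have c3 : ∀ z w : Kˣ, w = z ^ θ → z = w ^ (3 * θ) → w * z = 1 → z ^ 2 = 1 := by
    intro z w h1 h2 h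
    have hw : w = z⁻¹ := eq_inv_of_mul_eq_one_left h
    have e : z = z ^ 3 := by
      calc z = w ^ (3 * θ) := h2
        _ = (z⁻¹) ^ (3 * θ) := by rw [hw]
        _ = ((z ^ θ) ^ 3)⁻¹ := by rw [inv_pow, mul_comm, pow_mul]
        _ = (w ^ 3)⁻¹ := by rw [← h1]
        _ = z ^ 3 := by rw [hw, inv_pow, inv_inv]
    have : z * z ^ 2 = z * 1 := by rw [mul_one, ← pow_succ']; exact e.symm
    exact mul_left_cancel this
  have c4 : ∀ z w : Kˣ, w = z ^ θ → z = w ^ (3 * θ) → w ^ 2 * z = 1 → z = 1 := by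
    intro z w h1 h2 h
    have hz : z = (w ^ 2)⁻¹ := eq_inv_of_mul_eq_one_right h
    -- w = z^θ = w^(-2θ)
    have e1 : w ^ (2 * θ) = w⁻¹ := by
      have : w = ((w ^ 2)⁻¹) ^ θ := by rw [← hz]; exact h1
      rw [inv_pow, ← pow_mul] at this
      rw [eq_comm, inv_eq_iff_eq_inv]
      exact this
    -- z² = w^(6θ) = w^(-3), and z² = w^(-4)
    have e2 : z ^ 2 = (w ^ 3)⁻¹ := by
      calc z ^ 2 = (w ^ (3 * θ)) ^ 2 := by rw [← h2]
        _ = (w ^ (2 * θ)) ^ 3 := by rw [← pow_mul, ← pow_mul]; congr 1; ring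
        _ = (w ^ 3)⁻¹ := by rw [e1, inv_pow]
    have e3 : z ^ 2 = (w ^ 4)⁻¹ := by rw [hz, inv_pow, ← pow_mul]
    have e4 : w ^ 3 = w ^ 4 := inv_injective (e2.symm.trans e3)
    have e5 : w = 1 := by
      have : w ^ 3 * 1 = w ^ 3 * w := by rw [mul_one, ← pow_succ]; exact e4
      exact (mul_left_cancel this).symm
    rw [h2, e5, one_pow]
  rcases h with h | h | h | h | h | h
  · rw [h, one_pow]
  · rw [h2, h, one_pow, one_pow]
  · exact c3 z w h1 h2 h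
  · rw [c4 z w h1 h2 h, one_pow]
  · -- w³ z = 1 ⟹ w z = 1
    apply c3 z w h1 h2
    have hz : z = (w ^ 3)⁻¹ := eq_inv_of_mul_eq_one_right h
    have : w = z⁻¹ := by
      calc w = z ^ θ := h1
        _ = ((w ^ 3)⁻¹) ^ θ := by rw [← hz]
        _ = (w ^ (3 * θ))⁻¹ := by rw [inv_pow, ← pow_mul]
        _ = z⁻¹ := by rw [← h2]
    rw [this, inv_mul_cancel]
  · -- w³ z² = 1 ⟹ w² z = 1
    rw [c4 z w h1 h2 ?_, one_pow]
    have hw : w ^ 3 = (z ^ 2)⁻¹ := eq_inv_of_mul_eq_one_left h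
    have : z = (w ^ 2)⁻¹ := by
      calc z = w ^ (3 * θ) := h2
        _ = (w ^ 3) ^ θ := by rw [pow_mul]
        _ = ((z ^ θ) ^ 2)⁻¹ := by rw [hw, inv_pow, ← pow_mul, ← pow_mul, mul_comm]
        _ = (w ^ 2)⁻¹ := by rw [← h1]
    rw [this, mul_inv_cancel]

end Field

section Ree
variable {K : Type*} [Field K]

/-- the character relations of a `σ`-fixed element of `H` -/
theorem chi_rel [CharP K 3] {m : ℕ} {σ : ↥(chevG2.group K) ≃* ↥(chevG2.group K)} (hσ : SigmaSpec m σ)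
    (k : GL chevG2.Idx K) (hk : k ∈ chevG2.diagonalSubgroup K) (hfix : sv σ k = k) (χ : ℕ → K)
    (hc : ∀ r < chevG2.nroots, ∀ t : K, k * xGL chevG2 K r t = xGL chevG2 K r (χ r * t) * k) :
    χ 7 = χ 6 ^ (3 ^ m) ∧ χ 6 = χ 7 ^ (3 * 3 ^ m) ∧ χ 8 = χ 7 * χ 6 ∧ χ 9 = χ 7 ^ 2 * χ 6 ∧
      χ 10 = χ 7 ^ 3 * χ 6 ∧ χ 11 = χ 7 ^ 3 * χ 6 ^ 2 := by
  have htri := triOK_of_mem chevG2 hG2
  have hkG : k ∈ chevG2.group K :=
    (Cfsg.Agent.S1043.result (F := K) chevG2 hG2).1 (diagonal_le_borel chevG2 hG2 hk)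
  have h1 := xGL_mem_group' (F := K) chevG2 hG2
  have c7 : χ 7 = χ 6 ^ (3 ^ m) := by
    have e := congrArg (sv σ) (hc 6 (by decide) 1)
    rw [sv_mul hkG (h1 _ _), sv_mul (h1 _ _) hkG, hfix, sv_xGL hσ 6 (by decide), sv_xGL hσ 6 (by decide)] at e
    have e2 := hc 7 (by decide) ((1 : K) ^ sexp m 6)
    have e3 : rho 6 = 7 := by decide
    rw [e3] at e
    rw [e] at e2
    have e4 := mul_right_cancel e2
    have e5 := congrArg (fun g : GL chevG2.Idx K => (g : Matrix chevG2.Idx chevG2.Idx K)) e4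
    simp only [xGL_val chevG2 _ htri] at e5
    have e6 := x_injective chevG2 hG2 7 (by decide) _ _ e5
    rw [one_pow, mul_one, mul_one, sexp_long m 6 (by decide)] at e6
    exact e6.symm
  have c6 : χ 6 = χ 7 ^ (3 * 3 ^ m) := by
    have e := congrArg (sv σ) (hc 7 (by decide) 1)
    rw [sv_mul hkG (h1 _ _), sv_mul (h1 _ _) hkG, hfix, sv_xGL hσ 7 (by decide), sv_xGL hσ 7 (by decide)] at e
    have e2 := hc 6 (by decide) ((1 : K) ^ sexp m 7)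
    have e3 : rho 7 = 6 := by decide
    rw [e3] at e
    rw [e] at e2
    have e4 := mul_right_cancel e2
    have e5 := congrArg (fun g : GL chevG2.Idx K => (g : Matrix chevG2.Idx chevG2.Idx K)) e4
    simp only [xGL_val chevG2 _ htri] at e5
    have e6 := x_injective chevG2 hG2 6 (by decide) _ _ e5
    rw [one_pow, mul_one, mul_one, sexp_short m 7 (by decide)] at e6
    exact e6.symm
  -- multiplicativity from the commutator relation
  have hg := comm_ab_pos (K := K) 1 1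
  have hg' := comm_ab_pos (K := K) (χ 7) (χ 6)
  have e1 := conj_mul_aux (hc 6 (by decide) 1) (hc 7 (by decide) 1)
  have e2 := conj_mul_aux (conj_mul_aux (hc 7 (by decide) 1) (hc 6 (by decide) 1))
    (conj_mul_aux (conj_mul_aux (conj_mul_aux (hc 8 (by decide) ((1 : K) * 1)) (hc 9 (by decide) ((1 : K) ^ 2 * 1)))
      (hc 10 (by decide) (-((1 : K) ^ 3 * 1)))) (hc 11 (by decide) (-((1 : K) ^ 3 * 1 ^ 2))))
  rw [← hg, e1] at e2
  have e3 := mul_right_cancel e2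
  simp only [mul_one, one_pow] at e3
  rw [hg'] at e3
  have e4 := mul_left_cancel e3
  have e5 : nfGL (0 : K) 0 (χ 7 * χ 6) (χ 7 ^ 2 * χ 6) (-(χ 7 ^ 3 * χ 6)) (-(χ 7 ^ 3 * χ 6 ^ 2)) =
      nfGL (0 : K) 0 (χ 8) (χ 9) (χ 10 * -1) (χ 11 * -1) := by
    unfold nfGL
    rw [Cfsg.Agent.Helper18.xGL_zero' chevG2 hG2, Cfsg.Agent.Helper18.xGL_zero' chevG2 hG2, one_mul, one_mul,
      one_mul]
    exact e4
  obtain ⟨-, -, c8, c9, c10, c11⟩ := nfGL_injective _ _ _ _ _ _ _ _ _ _ _ _ e5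
  refine ⟨c7, c6, c8.symm, c9.symm, ?_, ?_⟩
  · have : χ 10 * -1 = -χ 10 := by ring
    rw [this] at c10
    exact (neg_injective c10).symm
  · have : χ 11 * -1 = -χ 11 := by ring
    rw [this] at c11
    exact (neg_injective c11).symm

/-- an element of `H` commuting with a non-trivial element of `U` has a trivial character at a positive root -/
theorem exists_char_eq_one (k : GL chevG2.Idx K) (χ : ℕ → K)
    (hc : ∀ r < chevG2.nroots, ∀ t : K, k * xGL chevG2 K r t = xGL chevG2 K r (χ r * t) * k)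
    (u : GL chevG2.Idx K) (hu : u ∈ chevG2.posUnipotent K) (hu1 : u ≠ 1) (hcomm : k * u = u * k) :
    χ 6 = 1 ∨ χ 7 = 1 ∨ χ 8 = 1 ∨ χ 9 = 1 ∨ χ 10 = 1 ∨ χ 11 = 1 := by
  obtain ⟨s, r, c, d, e, f, rfl⟩ := exists_nfGL u hu
  rw [nfGL_conj k χ hc] at hcomm
  obtain ⟨a1, a2, a3, a4, a5, a6⟩ := nfGL_injective _ _ _ _ _ _ _ _ _ _ _ _ (mul_right_cancel hcomm)
  by_contra hne
  simp only [not_or] at hne
  obtain ⟨b1, b2, b3, b4, b5, b6⟩ := hne
  have hz : ∀ x y : K, x ≠ 1 → x * y = y → y = 0 := by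
    intro x y hx hxy
    have : (x - 1) * y = 0 := by rw [sub_mul, one_mul, hxy, sub_self]
    rcases mul_eq_zero.mp this with h | h
    · exact absurd (sub_eq_zero.mp h) hx
    · exact h
  apply hu1
  rw [hz _ _ b1 a1, hz _ _ b2 a2, hz _ _ b3 a3, hz _ _ b4 a4, hz _ _ b5 a5, hz _ _ b6 a6]
  unfold nfGL
  simp only [Cfsg.Agent.Helper18.xGL_zero' chevG2 hG2, mul_one]

/-- `χ_b(h)² = 1` for `h ∈ H¹` centralising a non-trivial element of `U` -/
theorem chiB_sq_eq_one [Fintype K] {m : ℕ} (hK : Fintype.card K = 3 ^ (2 * m + 1)) (k : GL chevG2.Idx K)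
    (hk : k ∈ chevG2.diagonalSubgroup K ⊓ twistedG2 K (3 ^ m)) (u : GL chevG2.Idx K)
    (hu : u ∈ chevG2.posUnipotent K) (hu1 : u ≠ 1) (hcomm : k * u = u * k) : chiB k * chiB k = 1 := by
  haveI := charP_three hK
  obtain ⟨σ, hσ'⟩ := exists_sigma hK
  have hσ : SigmaSpec m σ := hσ'
  obtain ⟨hkH, hkG⟩ := Subgroup.mem_inf.mp hk
  have hfix := (mem_FixS_iff.mp (twistedG2_le_FixS hK hσ hkG)).2
  obtain ⟨χ, hχ, hd, hc, -⟩ := diag_char_neg chevG2 hG2 k hkH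
  obtain ⟨r7, r6, r8, r9, r10, r11⟩ := chi_rel hσ k hkH hfix χ hc
  have h1 := exists_char_eq_one k χ hc u hu hu1 hcomm
  rw [chiB_of_diag k χ hd]
  have key := sq_eq_one_of_char (K := K) (3 ^ m) (Units.mk0 (χ 6) (hχ 6)) (Units.mk0 (χ 7) (hχ 7))
    (Units.ext (by simpa using r7)) (Units.ext (by simpa using r6)) (by
      rcases h1 with h | h | h | h | h | h
      · exact Or.inl (Units.ext (by simpa using h))
      · exact Or.inr (Or.inl (Units.ext (by simpa using h)))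
      · exact Or.inr (Or.inr (Or.inl (Units.ext (by rw [r8] at h; simpa using h))))
      · exact Or.inr (Or.inr (Or.inr (Or.inl (Units.ext (by rw [r9] at h; simpa using h)))))
      · exact Or.inr (Or.inr (Or.inr (Or.inr (Or.inl (Units.ext (by rw [r10] at h; simpa using h))))))
      · exact Or.inr (Or.inr (Or.inr (Or.inr (Or.inr (Units.ext (by rw [r11] at h; simpa using h)))))))
  have := congrArg Units.val key
  simpa [sq] using this

end Ree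

section Stab
variable {K : Type*} [Field K]

/-- `n⁻¹ U n ≤ V` for a representative `n` of `w₀` -/
theorem w0_inv_conj (n : ↥(chevG2.monomialSubgroup K)) (hθ : thetaG2 n = w0G2) (u : GL chevG2.Idx K)
    (hu : u ∈ chevG2.posUnipotent K) :
    (n : GL chevG2.Idx K)⁻¹ * u * (n : GL chevG2.Idx K) ∈ chevG2.negUnipotent K := by
  have h1 : thetaG2 n⁻¹ = w0G2 := by rw [map_inv, hθ, w0G2_inv]
  have := theta_w0_conj n⁻¹ h1 u hu
  rwa [Subgroup.coe_inv, inv_inv] at this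

/-- an element of `U` conjugated into `B` by a representative of `w₀` is trivial -/
theorem eq_one_of_w0_conj_mem (n : ↥(chevG2.monomialSubgroup K)) (hθ : thetaG2 n = w0G2) (u : GL chevG2.Idx K)
    (hu : u ∈ chevG2.posUnipotent K)
    (h : (n : GL chevG2.Idx K)⁻¹ * u * (n : GL chevG2.Idx K) ∈ chevG2.borelSubgroup K) : u = 1 := by
  have h6 : (n : GL chevG2.Idx K)⁻¹ * u * (n : GL chevG2.Idx K) ∈
      chevG2.borelSubgroup K ⊓ chevG2.negUnipotent K := Subgroup.mem_inf.mpr ⟨h, w0_inv_conj n hθ u hu⟩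
  rw [borel_inf_neg, Subgroup.mem_bot] at h6
  have e4 : u = (n : GL chevG2.Idx K) * ((n : GL chevG2.Idx K)⁻¹ * u * (n : GL chevG2.Idx K)) *
      (n : GL chevG2.Idx K)⁻¹ := by group
  rw [e4, h6]
  group

/-- `B ∩ n B n⁻¹ = H` for a representative `n` of `w₀` -/
theorem mem_diag_of_two_points (n : ↥(chevG2.monomialSubgroup K)) (hθ : thetaG2 n = w0G2) (s : GL chevG2.Idx K)
    (hs : s ∈ chevG2.borelSubgroup K)
    (hs' : (n : GL chevG2.Idx K)⁻¹ * s * (n : GL chevG2.Idx K) ∈ chevG2.borelSubgroup K) :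
    s ∈ chevG2.diagonalSubgroup K := by
  unfold ChevalleyDatum.borelSubgroup at hs
  obtain ⟨u, hu, h, hh, rfl⟩ := exists_mul_of_mem_sup (Cfsg.Agent.S1036.result (F := K) chevG2 hG2).1 hs
  have hN := monomialSubgroup_le_normalizer (F := K) chevG2 hG2
  have h1 : (n : GL chevG2.Idx K)⁻¹ * h * (n : GL chevG2.Idx K)⁻¹⁻¹ ∈ chevG2.diagonalSubgroup K :=
    (Subgroup.mem_normalizer_iff.mp (hN (Subgroup.inv_mem _ n.2)) h).mp hh
  rw [inv_inv] at h1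
  have h2 : (n : GL chevG2.Idx K)⁻¹ * u * (n : GL chevG2.Idx K) ∈ chevG2.borelSubgroup K := by
    have := Subgroup.mul_mem _ hs' (Subgroup.inv_mem _ (diagonal_le_borel (F := K) chevG2 hG2 h1))
    have e : (n : GL chevG2.Idx K)⁻¹ * (u * h) * (n : GL chevG2.Idx K) *
        ((n : GL chevG2.Idx K)⁻¹ * h * (n : GL chevG2.Idx K))⁻¹ =
        (n : GL chevG2.Idx K)⁻¹ * u * (n : GL chevG2.Idx K) := by group
    rwa [e] at this
  rw [eq_one_of_w0_conj_mem n hθ u hu h2, one_mul]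
  exact hh

/-- the third point: `h ∈ H` fixing `u n B` commutes with `u` -/
theorem commute_of_third_point (n : ↥(chevG2.monomialSubgroup K)) (hθ : thetaG2 n = w0G2) (h u : GL chevG2.Idx K)
    (hh : h ∈ chevG2.diagonalSubgroup K) (hu : u ∈ chevG2.posUnipotent K)
    (hs : (u * (n : GL chevG2.Idx K))⁻¹ * h * (u * (n : GL chevG2.Idx K)) ∈ chevG2.borelSubgroup K) :
    h * u = u * h := by
  have hN := monomialSubgroup_le_normalizer (F := K) chevG2 hG2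
  have hHU := (Cfsg.Agent.S1036.result (F := K) chevG2 hG2).1
  have h1 : (n : GL chevG2.Idx K)⁻¹ * h * (n : GL chevG2.Idx K)⁻¹⁻¹ ∈ chevG2.diagonalSubgroup K :=
    (Subgroup.mem_normalizer_iff.mp (hN (Subgroup.inv_mem _ n.2)) h).mp hh
  rw [inv_inv] at h1
  -- `w = h⁻¹ u⁻¹ h u ∈ U`
  have hw : h⁻¹ * u⁻¹ * h⁻¹⁻¹ * u ∈ chevG2.posUnipotent K :=
    Subgroup.mul_mem _ ((Subgroup.mem_normalizer_iff.mp (hHU (Subgroup.inv_mem _ hh)) _).mp
      (Subgroup.inv_mem _ hu)) hu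
  have h2 : (n : GL chevG2.Idx K)⁻¹ * (h⁻¹ * u⁻¹ * h⁻¹⁻¹ * u) * (n : GL chevG2.Idx K) ∈
      chevG2.borelSubgroup K := by
    have := Subgroup.mul_mem _ (Subgroup.inv_mem _ (diagonal_le_borel (F := K) chevG2 hG2 h1)) hs
    have e : ((n : GL chevG2.Idx K)⁻¹ * h * (n : GL chevG2.Idx K))⁻¹ *
        ((u * (n : GL chevG2.Idx K))⁻¹ * h * (u * (n : GL chevG2.Idx K))) =
        (n : GL chevG2.Idx K)⁻¹ * (h⁻¹ * u⁻¹ * h⁻¹⁻¹ * u) * (n : GL chevG2.Idx K) := by group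
    rwa [e] at this
  have h3 := eq_one_of_w0_conj_mem n hθ _ hw h2
  have e : h * u = u * h * (h⁻¹ * u⁻¹ * h⁻¹⁻¹ * u) := by group
  rw [e, h3, mul_one]

/-- two representatives of `w₀` differ by an element of `H` -/
theorem w0_inv_mul_mem (n n' : ↥(chevG2.monomialSubgroup K)) (hθ : thetaG2 n = w0G2) (hθ' : thetaG2 n' = w0G2) :
    (n : GL chevG2.Idx K)⁻¹ * (n' : GL chevG2.Idx K) ∈ chevG2.diagonalSubgroup K := by
  have : thetaG2 (n⁻¹ * n') = 1 := by rw [map_mul, map_inv, hθ, hθ', w0G2_inv, w0G2_mul_self]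
  have h := (thetaG2_eq_one_iff (n⁻¹ * n')).mp this
  rwa [Subgroup.coe_mul, Subgroup.coe_inv] at h

variable [Fintype K] {m : ℕ} (hK : Fintype.card K = 3 ^ (2 * m + 1))

include hK in
/-- the core of the three-point stabiliser computation -/
theorem three_point_core (g₁ g₂ g₃ : GL chevG2.Idx K) (hg₁ : g₁ ∈ twistedG2 K (3 ^ m))
    (hg₂ : g₂ ∈ twistedG2 K (3 ^ m)) (hg₃ : g₃ ∈ twistedG2 K (3 ^ m))
    (h12 : g₁⁻¹ * g₂ ∉ chevG2.borelSubgroup K) (h13 : g₁⁻¹ * g₃ ∉ chevG2.borelSubgroup K)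
    (h23 : g₂⁻¹ * g₃ ∉ chevG2.borelSubgroup K) :
    ∃ a ∈ twistedG2 K (3 ^ m), ∀ s ∈ twistedG2 K (3 ^ m), g₁⁻¹ * s * g₁ ∈ chevG2.borelSubgroup K →
      g₂⁻¹ * s * g₂ ∈ chevG2.borelSubgroup K → g₃⁻¹ * s * g₃ ∈ chevG2.borelSubgroup K →
      a⁻¹ * s * a ∈ chevG2.diagonalSubgroup K ∧ chiB (a⁻¹ * s * a) * chiB (a⁻¹ * s * a) = 1 := by
  haveI := charP_three hK
  obtain ⟨σ, hσ'⟩ := exists_sigma hK
  have hσ : SigmaSpec m σ := hσ'
  have hUB := posUnipotent_le_borel (F := K) chevG2 hG2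
  have hHB := diagonal_le_borel (F := K) chevG2 hG2
  rcases G1_cases hK hσ (g₁⁻¹ * g₂) (mul_mem (inv_mem hg₁) hg₂) with h | ⟨u₂, hu₂, n₁, hn₁, hθ, u₁, hu₁, e12⟩
  · exact absurd h h12
  obtain ⟨hu₂U, hu₂G⟩ := Subgroup.mem_inf.mp hu₂
  obtain ⟨hu₁U, hu₁G⟩ := Subgroup.mem_inf.mp hu₁
  have haG : g₁ * u₂ ∈ twistedG2 K (3 ^ m) := mul_mem hg₁ hu₂G
  have h13' : (g₁ * u₂)⁻¹ * g₃ ∉ chevG2.borelSubgroup K := by
    intro h
    apply h13
    have := Subgroup.mul_mem _ (hUB hu₂U) h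
    have e : u₂ * ((g₁ * u₂)⁻¹ * g₃) = g₁⁻¹ * g₃ := by group
    rwa [e] at this
  rcases G1_cases hK hσ ((g₁ * u₂)⁻¹ * g₃) (mul_mem (inv_mem haG) hg₃) with h |
    ⟨u₂', hu₂', n₁', hn₁', hθ', u₁', hu₁', e13⟩
  · exact absurd h h13'
  obtain ⟨hu₂U', hu₂G'⟩ := Subgroup.mem_inf.mp hu₂'
  obtain ⟨hu₁U', hu₁G'⟩ := Subgroup.mem_inf.mp hu₁'
  have hg₂e : g₂ = g₁ * u₂ * (n₁ : GL chevG2.Idx K) * u₁ := by
    have : g₂ = g₁ * (g₁⁻¹ * g₂) := by group
    rw [this, e12]; group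
  have hg₃e : g₃ = g₁ * u₂ * (u₂' * (n₁' : GL chevG2.Idx K)) * u₁' := by
    have : g₃ = g₁ * u₂ * ((g₁ * u₂)⁻¹ * g₃) := by group
    rw [this, e13]; group
  have hu₂'1 : u₂' ≠ 1 := by
    intro h1
    apply h23
    rw [hg₂e, hg₃e, h1]
    have e : (g₁ * u₂ * (n₁ : GL chevG2.Idx K) * u₁)⁻¹ * (g₁ * u₂ * (1 * (n₁' : GL chevG2.Idx K)) * u₁') =
        u₁⁻¹ * ((n₁ : GL chevG2.Idx K)⁻¹ * (n₁' : GL chevG2.Idx K)) * u₁' := by group
    rw [e]
    exact Subgroup.mul_mem _ (Subgroup.mul_mem _ (Subgroup.inv_mem _ (hUB hu₁U)) (hHB (w0_inv_mul_mem n₁ n₁' hθ hθ')))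
      (hUB hu₁U')
  refine ⟨g₁ * u₂, haG, fun s hs s1 s2 s3 => ?_⟩
  have t1 : (g₁ * u₂)⁻¹ * s * (g₁ * u₂) ∈ chevG2.borelSubgroup K := by
    have := Subgroup.mul_mem _ (Subgroup.mul_mem _ (Subgroup.inv_mem _ (hUB hu₂U)) s1) (hUB hu₂U)
    have e : u₂⁻¹ * (g₁⁻¹ * s * g₁) * u₂ = (g₁ * u₂)⁻¹ * s * (g₁ * u₂) := by group
    rwa [e] at this
  have t2 : (n₁ : GL chevG2.Idx K)⁻¹ * ((g₁ * u₂)⁻¹ * s * (g₁ * u₂)) * (n₁ : GL chevG2.Idx K) ∈
      chevG2.borelSubgroup K := by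
    have := Subgroup.mul_mem _ (Subgroup.mul_mem _ (hUB hu₁U) s2) (Subgroup.inv_mem _ (hUB hu₁U))
    rw [hg₂e] at this
    have e : u₁ * ((g₁ * u₂ * (n₁ : GL chevG2.Idx K) * u₁)⁻¹ * s * (g₁ * u₂ * (n₁ : GL chevG2.Idx K) * u₁)) * u₁⁻¹ =
        (n₁ : GL chevG2.Idx K)⁻¹ * ((g₁ * u₂)⁻¹ * s * (g₁ * u₂)) * (n₁ : GL chevG2.Idx K) := by group
    rwa [e] at this
  have tH := mem_diag_of_two_points n₁ hθ _ t1 t2
  have t3 : (u₂' * (n₁' : GL chevG2.Idx K))⁻¹ * ((g₁ * u₂)⁻¹ * s * (g₁ * u₂)) * (u₂' * (n₁' : GL chevG2.Idx K)) ∈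
      chevG2.borelSubgroup K := by
    have := Subgroup.mul_mem _ (Subgroup.mul_mem _ (hUB hu₁U') s3) (Subgroup.inv_mem _ (hUB hu₁U'))
    rw [hg₃e] at this
    have e : u₁' * ((g₁ * u₂ * (u₂' * (n₁' : GL chevG2.Idx K)) * u₁')⁻¹ * s *
        (g₁ * u₂ * (u₂' * (n₁' : GL chevG2.Idx K)) * u₁')) * u₁'⁻¹ =
        (u₂' * (n₁' : GL chevG2.Idx K))⁻¹ * ((g₁ * u₂)⁻¹ * s * (g₁ * u₂)) * (u₂' * (n₁' : GL chevG2.Idx K)) := by
      group
    rwa [e] at this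
  have tc := commute_of_third_point n₁' hθ' _ u₂' tH hu₂U' t3
  refine ⟨tH, chiB_sq_eq_one hK _ (Subgroup.mem_inf.mpr ⟨tH, ?_⟩) u₂' hu₂U' hu₂'1 tc⟩
  exact mul_mem (mul_mem (inv_mem haG) hs) haG

end Stab

section Quot
variable {K : Type*} [Field K]

theorem card_sq_one_le : Nat.card {t : K // t * t = 1} ≤ 2 := by
  have hsub : {t : K | t * t = 1} ⊆ {1, -1} := by
    intro t ht
    have ht' : t * t = 1 := ht
    have : (t - 1) * (t + 1) = 0 := by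
      have e : (t - 1) * (t + 1) = t * t - 1 := by ring
      rw [e, ht', sub_self]
    rcases mul_eq_zero.mp this with h | h
    · left; exact sub_eq_zero.mp h
    · right; exact eq_neg_of_add_eq_zero_left h
  calc Nat.card {t : K // t * t = 1} = Set.ncard {t : K | t * t = 1} := rfl
    _ ≤ Set.ncard ({1, -1} : Set K) := Set.ncard_le_ncard hsub (Set.toFinite _)
    _ ≤ Set.ncard ({-1} : Set K) + 1 := Set.ncard_insert_le _ _
    _ = 2 := by rw [Set.ncard_singleton]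

/-- membership in the stabiliser of a coset of `B¹` -/
theorem mem_stab_mk {m : ℕ} (a s : ↥(twistedG2 K (3 ^ m))) :
    s ∈ MulAction.stabilizer ↥(twistedG2 K (3 ^ m))
      ((a : ↥(twistedG2 K (3 ^ m))) : ↥(twistedG2 K (3 ^ m)) ⧸
        (chevG2.borelSubgroup K ⊓ twistedG2 K (3 ^ m)).subgroupOf (twistedG2 K (3 ^ m))) ↔
      (a : GL chevG2.Idx K)⁻¹ * (s : GL chevG2.Idx K) * (a : GL chevG2.Idx K) ∈ chevG2.borelSubgroup K := by
  rw [MulAction.mem_stabilizer_iff, MulAction.Quotient.smul_mk, QuotientGroup.eq, Subgroup.mem_subgroupOf,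
    Subgroup.mem_inf]
  constructor
  · rintro ⟨h, -⟩
    have := Subgroup.inv_mem _ h
    simp only [smul_eq_mul, Subgroup.coe_mul, Subgroup.coe_inv] at this
    have e : ((s : GL chevG2.Idx K) * (a : GL chevG2.Idx K))⁻¹ * (a : GL chevG2.Idx K) =
        ((a : GL chevG2.Idx K)⁻¹ * (s : GL chevG2.Idx K) * (a : GL chevG2.Idx K))⁻¹ := by group
    rw [e, inv_inv] at this
    exact this
  · intro h
    refine ⟨?_, ((s • a)⁻¹ * a).2⟩
    have := Subgroup.inv_mem _ h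
    simp only [smul_eq_mul, Subgroup.coe_mul, Subgroup.coe_inv]
    have e : ((s : GL chevG2.Idx K) * (a : GL chevG2.Idx K))⁻¹ * (a : GL chevG2.Idx K) =
        ((a : GL chevG2.Idx K)⁻¹ * (s : GL chevG2.Idx K) * (a : GL chevG2.Idx K))⁻¹ := by group
    rw [e]
    exact this

theorem mk_ne_iff {m : ℕ} (a b : ↥(twistedG2 K (3 ^ m))) :
    ((a : ↥(twistedG2 K (3 ^ m))) : ↥(twistedG2 K (3 ^ m)) ⧸
        (chevG2.borelSubgroup K ⊓ twistedG2 K (3 ^ m)).subgroupOf (twistedG2 K (3 ^ m))) ≠ (b : ↥(twistedG2 K (3 ^ m))) ↔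
      (a : GL chevG2.Idx K)⁻¹ * (b : GL chevG2.Idx K) ∉ chevG2.borelSubgroup K := by
  rw [Ne, QuotientGroup.eq, Subgroup.mem_subgroupOf, Subgroup.mem_inf]
  simp only [Subgroup.coe_mul, Subgroup.coe_inv]
  constructor
  · intro h h'
    exact h ⟨h', (a⁻¹ * b).2⟩
  · intro h h'
    exact h h'.1

variable [Fintype K] {m : ℕ} (hK : Fintype.card K = 3 ^ (2 * m + 1))

include hK in
/-- the stabiliser of three distinct points has order at most `2` -/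
theorem card_stab_le (x y z : ↥(twistedG2 K (3 ^ m)) ⧸
      (chevG2.borelSubgroup K ⊓ twistedG2 K (3 ^ m)).subgroupOf (twistedG2 K (3 ^ m)))
    (hxy : x ≠ y) (hxz : x ≠ z) (hyz : y ≠ z) :
    Nat.card ↥(MulAction.stabilizer ↥(twistedG2 K (3 ^ m)) x ⊓ MulAction.stabilizer ↥(twistedG2 K (3 ^ m)) y ⊓
      MulAction.stabilizer ↥(twistedG2 K (3 ^ m)) z) ≤ 2 := by
  obtain ⟨g₁, rfl⟩ := QuotientGroup.mk_surjective x
  obtain ⟨g₂, rfl⟩ := QuotientGroup.mk_surjective y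
  obtain ⟨g₃, rfl⟩ := QuotientGroup.mk_surjective z
  rw [mk_ne_iff] at hxy hxz hyz
  obtain ⟨a, haG, ha⟩ := three_point_core hK _ _ _ g₁.2 g₂.2 g₃.2 hxy hxz hyz
  have hmem : ∀ s : ↥(MulAction.stabilizer ↥(twistedG2 K (3 ^ m))
      ((g₁ : ↥(twistedG2 K (3 ^ m))) : ↥(twistedG2 K (3 ^ m)) ⧸
        (chevG2.borelSubgroup K ⊓ twistedG2 K (3 ^ m)).subgroupOf (twistedG2 K (3 ^ m))) ⊓
      MulAction.stabilizer ↥(twistedG2 K (3 ^ m)) ((g₂ : ↥(twistedG2 K (3 ^ m))) : ↥(twistedG2 K (3 ^ m)) ⧸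
        (chevG2.borelSubgroup K ⊓ twistedG2 K (3 ^ m)).subgroupOf (twistedG2 K (3 ^ m))) ⊓
      MulAction.stabilizer ↥(twistedG2 K (3 ^ m)) ((g₃ : ↥(twistedG2 K (3 ^ m))) : ↥(twistedG2 K (3 ^ m)) ⧸
        (chevG2.borelSubgroup K ⊓ twistedG2 K (3 ^ m)).subgroupOf (twistedG2 K (3 ^ m)))),
      a⁻¹ * ((s : ↥(twistedG2 K (3 ^ m))) : GL chevG2.Idx K) * a ∈ chevG2.diagonalSubgroup K ∧
        chiB (a⁻¹ * ((s : ↥(twistedG2 K (3 ^ m))) : GL chevG2.Idx K) * a) *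
          chiB (a⁻¹ * ((s : ↥(twistedG2 K (3 ^ m))) : GL chevG2.Idx K) * a) = 1 := by
    intro s
    obtain ⟨⟨s1, s2⟩, s3⟩ := s.2
    exact ha _ (s : ↥(twistedG2 K (3 ^ m))).2 ((mem_stab_mk g₁ _).mp s1) ((mem_stab_mk g₂ _).mp s2)
      ((mem_stab_mk g₃ _).mp s3)
  refine le_trans (Nat.card_le_card_of_injective
    (fun s => (⟨chiB (a⁻¹ * ((s : ↥(twistedG2 K (3 ^ m))) : GL chevG2.Idx K) * a), (hmem s).2⟩ :
      {t : K // t * t = 1})) ?_) card_sq_one_le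
  intro s t hst
  have h1 : chiB (a⁻¹ * ((s : ↥(twistedG2 K (3 ^ m))) : GL chevG2.Idx K) * a) =
      chiB (a⁻¹ * ((t : ↥(twistedG2 K (3 ^ m))) : GL chevG2.Idx K) * a) := congrArg Subtype.val hst
  have hsG : a⁻¹ * ((s : ↥(twistedG2 K (3 ^ m))) : GL chevG2.Idx K) * a ∈ twistedG2 K (3 ^ m) :=
    mul_mem (mul_mem (inv_mem haG) (s : ↥(twistedG2 K (3 ^ m))).2) haG
  have htG : a⁻¹ * ((t : ↥(twistedG2 K (3 ^ m))) : GL chevG2.Idx K) * a ∈ twistedG2 K (3 ^ m) :=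
    mul_mem (mul_mem (inv_mem haG) (t : ↥(twistedG2 K (3 ^ m))).2) haG
  have h2 := chiHom_injective hK (a₁ := ⟨_, Subgroup.mem_inf.mpr ⟨(hmem s).1, hsG⟩⟩)
    (a₂ := ⟨_, Subgroup.mem_inf.mpr ⟨(hmem t).1, htG⟩⟩) h1
  have h3 : a⁻¹ * ((s : ↥(twistedG2 K (3 ^ m))) : GL chevG2.Idx K) * a =
      a⁻¹ * ((t : ↥(twistedG2 K (3 ^ m))) : GL chevG2.Idx K) * a := congrArg Subtype.val h2
  have h4 : ((s : ↥(twistedG2 K (3 ^ m))) : GL chevG2.Idx K) = ((t : ↥(twistedG2 K (3 ^ m))) : GL chevG2.Idx K) :=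
    mul_left_cancel (mul_right_cancel h3)
  exact Subtype.ext (Subtype.ext h4)

end Quot

section Exists
variable {K : Type*} [Field K] [Fintype K] {m : ℕ} (hK : Fintype.card K = 3 ^ (2 * m + 1))

include hK in
/-- an involution of `H¹` centralises `x_{a+b}(1) x_{3a+b}(1)` -/
theorem invol_commute (j : GL chevG2.Idx K) (hj : j ∈ chevG2.diagonalSubgroup K ⊓ twistedG2 K (3 ^ m))
    (hj1 : j ≠ 1) (hj2 : j * j = 1) : j * nfGL (0 : K) 0 1 0 1 0 = nfGL (0 : K) 0 1 0 1 0 * j := by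
  haveI := charP_three hK
  obtain ⟨σ, hσ'⟩ := exists_sigma hK
  have hσ : SigmaSpec m σ := hσ'
  obtain ⟨hjH, hjG⟩ := Subgroup.mem_inf.mp hj
  have hfix := (mem_FixS_iff.mp (twistedG2_le_FixS hK hσ hjG)).2
  obtain ⟨χ, hχ, hd, hc, -⟩ := diag_char_neg chevG2 hG2 j hjH
  obtain ⟨r7, -, r8, -, r10, -⟩ := chi_rel hσ j hjH hfix χ hc
  have h6 : χ 6 = chiB j := (chiB_of_diag j χ hd).symm
  have hsq : χ 6 * χ 6 = 1 := by rw [h6, ← chiB_mul j j hjH hjH, hj2, chiB_one]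
  have hne : χ 6 ≠ 1 := by
    intro h
    exact hj1 (diag_fix_eq_one hσ j hjH hfix (by rw [← h6, h]))
  have hm1 : χ 6 = -1 := by
    have : (χ 6 - 1) * (χ 6 + 1) = 0 := by
      have e : (χ 6 - 1) * (χ 6 + 1) = χ 6 * χ 6 - 1 := by ring
      rw [e, hsq, sub_self]
    rcases mul_eq_zero.mp this with h | h
    · exact absurd (sub_eq_zero.mp h) hne
    · exact eq_neg_of_add_eq_zero_left h
  have h7 : χ 7 = -1 := by
    rw [r7, hm1]
    exact Odd.neg_one_pow (Odd.pow (by decide))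
  have h8 : χ 8 = 1 := by rw [r8, h7, hm1]; ring
  have h10 : χ 10 = 1 := by rw [r10, h7, hm1]; ring
  rw [nfGL_conj j χ hc, h8, h10, mul_zero, mul_zero, mul_zero, mul_zero, mul_one]

include hK in
/-- for some three distinct points the stabiliser has order exactly `2` (given an involution in `H¹`) -/
theorem exists_card_stab_eq (hj : ∃ j ∈ chevG2.diagonalSubgroup K ⊓ twistedG2 K (3 ^ m), j ≠ 1 ∧ j * j = 1) :
    ∃ x y z : ↥(twistedG2 K (3 ^ m)) ⧸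
        (chevG2.borelSubgroup K ⊓ twistedG2 K (3 ^ m)).subgroupOf (twistedG2 K (3 ^ m)),
      x ≠ y ∧ x ≠ z ∧ y ≠ z ∧
      Nat.card ↥(MulAction.stabilizer ↥(twistedG2 K (3 ^ m)) x ⊓ MulAction.stabilizer ↥(twistedG2 K (3 ^ m)) y ⊓
        MulAction.stabilizer ↥(twistedG2 K (3 ^ m)) z) = 2 := by
  haveI := charP_three hK
  obtain ⟨σ, hσ'⟩ := exists_sigma hK
  have hσ : SigmaSpec m σ := hσ'
  obtain ⟨j, hj, hj1, hj2⟩ := hj
  obtain ⟨hjH, hjG⟩ := Subgroup.mem_inf.mp hj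
  obtain ⟨n₀, hn₀G, hθ₀⟩ := exists_n0 hK hσ
  have h3 : (3 : ℕ) ^ m ≠ 0 := pow_ne_zero _ (by norm_num)
  have hUB := posUnipotent_le_borel (F := K) chevG2 hG2
  have hHB := diagonal_le_borel (F := K) chevG2 hG2
  have huU : nfGL (0 : K) 0 1 0 1 0 ∈ chevG2.posUnipotent K := nfGL_mem _ _ _ _ _ _
  have huG : nfGL (0 : K) 0 1 0 1 0 ∈ twistedG2 K (3 ^ m) := nf2_mem_twisted _ h3
  have hu1 : nfGL (0 : K) 0 1 0 1 0 ≠ 1 := by
    intro h
    have e : (1 : GL chevG2.Idx K) = nfGL (0 : K) 0 0 0 0 0 := by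
      unfold nfGL
      simp only [Cfsg.Agent.Helper18.xGL_zero' chevG2 hG2, mul_one]
    rw [e] at h
    have := (nfGL_injective _ _ _ _ _ _ _ _ _ _ _ _ h).2.2.1
    exact one_ne_zero this
  -- `n₀ ∉ B`
  have hn₀B : (n₀ : GL chevG2.Idx K) ∉ chevG2.borelSubgroup K := by
    intro h
    apply u0_ne_one (K := K)
    apply eq_one_of_w0_conj_mem n₀ hθ₀ (u0 K) u0_mem_pos
    exact Subgroup.mul_mem _ (Subgroup.mul_mem _ (Subgroup.inv_mem _ h) (hUB u0_mem_pos)) h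
  have hcomm := invol_commute hK j hj hj1 hj2
  have hN := monomialSubgroup_le_normalizer (F := K) chevG2 hG2
  have hjn : (n₀ : GL chevG2.Idx K)⁻¹ * j * (n₀ : GL chevG2.Idx K) ∈ chevG2.borelSubgroup K := by
    have h1 : (n₀ : GL chevG2.Idx K)⁻¹ * j * (n₀ : GL chevG2.Idx K)⁻¹⁻¹ ∈ chevG2.diagonalSubgroup K :=
      (Subgroup.mem_normalizer_iff.mp (hN (Subgroup.inv_mem _ n₀.2)) j).mp hjH
    rw [inv_inv] at h1
    exact hHB h1
  refine ⟨((1 : ↥(twistedG2 K (3 ^ m))) : _), ((⟨(n₀ : GL chevG2.Idx K), hn₀G⟩ : ↥(twistedG2 K (3 ^ m))) : _),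
    ((⟨nfGL (0 : K) 0 1 0 1 0 * (n₀ : GL chevG2.Idx K), mul_mem huG hn₀G⟩ : ↥(twistedG2 K (3 ^ m))) : _), ?_, ?_, ?_, ?_⟩
  · rw [mk_ne_iff]
    simpa using hn₀B
  · rw [mk_ne_iff]
    intro h
    apply hn₀B
    have := Subgroup.mul_mem _ (Subgroup.inv_mem _ (hUB huU)) h
    simpa using this
  · rw [mk_ne_iff]
    intro h
    apply hu1
    apply eq_one_of_w0_conj_mem n₀ hθ₀ _ huU
    simpa [mul_assoc] using h
  · apply le_antisymm
    · apply card_stab_le hK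
      · rw [mk_ne_iff]
        simpa using hn₀B
      · rw [mk_ne_iff]
        intro h
        apply hn₀B
        have := Subgroup.mul_mem _ (Subgroup.inv_mem _ (hUB huU)) h
        simpa using this
      · rw [mk_ne_iff]
        intro h
        apply hu1
        apply eq_one_of_w0_conj_mem n₀ hθ₀ _ huU
        simpa [mul_assoc] using h
    · have hjmem : (⟨j, hjG⟩ : ↥(twistedG2 K (3 ^ m))) ∈
          MulAction.stabilizer ↥(twistedG2 K (3 ^ m)) (((1 : ↥(twistedG2 K (3 ^ m))) :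
            ↥(twistedG2 K (3 ^ m)) ⧸
              (chevG2.borelSubgroup K ⊓ twistedG2 K (3 ^ m)).subgroupOf (twistedG2 K (3 ^ m)))) ⊓
          MulAction.stabilizer ↥(twistedG2 K (3 ^ m))
            (((⟨(n₀ : GL chevG2.Idx K), hn₀G⟩ : ↥(twistedG2 K (3 ^ m))) : ↥(twistedG2 K (3 ^ m)) ⧸
              (chevG2.borelSubgroup K ⊓ twistedG2 K (3 ^ m)).subgroupOf (twistedG2 K (3 ^ m)))) ⊓
          MulAction.stabilizer ↥(twistedG2 K (3 ^ m))
            (((⟨nfGL (0 : K) 0 1 0 1 0 * (n₀ : GL chevG2.Idx K), mul_mem huG hn₀G⟩ : ↥(twistedG2 K (3 ^ m))) :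
              ↥(twistedG2 K (3 ^ m)) ⧸
              (chevG2.borelSubgroup K ⊓ twistedG2 K (3 ^ m)).subgroupOf (twistedG2 K (3 ^ m)))) := by
        refine Subgroup.mem_inf.mpr ⟨Subgroup.mem_inf.mpr ⟨?_, ?_⟩, ?_⟩
        · rw [mem_stab_mk]
          simpa using hHB hjH
        · rw [mem_stab_mk]
          exact hjn
        · rw [mem_stab_mk]
          have e : (nfGL (0 : K) 0 1 0 1 0 * (n₀ : GL chevG2.Idx K))⁻¹ * j *
              (nfGL (0 : K) 0 1 0 1 0 * (n₀ : GL chevG2.Idx K)) =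
              (n₀ : GL chevG2.Idx K)⁻¹ * j * (n₀ : GL chevG2.Idx K) := by
            have : (nfGL (0 : K) 0 1 0 1 0 * (n₀ : GL chevG2.Idx K))⁻¹ * j *
                (nfGL (0 : K) 0 1 0 1 0 * (n₀ : GL chevG2.Idx K)) =
                (n₀ : GL chevG2.Idx K)⁻¹ * ((nfGL (0 : K) 0 1 0 1 0)⁻¹ * (j * nfGL (0 : K) 0 1 0 1 0)) *
                  (n₀ : GL chevG2.Idx K) := by group
            rw [this, hcomm]
            group
          show (nfGL (0 : K) 0 1 0 1 0 * (n₀ : GL chevG2.Idx K))⁻¹ * j *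
              (nfGL (0 : K) 0 1 0 1 0 * (n₀ : GL chevG2.Idx K)) ∈ chevG2.borelSubgroup K
          rw [e]
          exact hjn
      have hnt : Nontrivial ↥(MulAction.stabilizer ↥(twistedG2 K (3 ^ m)) (((1 : ↥(twistedG2 K (3 ^ m))) :
            ↥(twistedG2 K (3 ^ m)) ⧸
              (chevG2.borelSubgroup K ⊓ twistedG2 K (3 ^ m)).subgroupOf (twistedG2 K (3 ^ m)))) ⊓
          MulAction.stabilizer ↥(twistedG2 K (3 ^ m))
            (((⟨(n₀ : GL chevG2.Idx K), hn₀G⟩ : ↥(twistedG2 K (3 ^ m))) : ↥(twistedG2 K (3 ^ m)) ⧸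
              (chevG2.borelSubgroup K ⊓ twistedG2 K (3 ^ m)).subgroupOf (twistedG2 K (3 ^ m)))) ⊓
          MulAction.stabilizer ↥(twistedG2 K (3 ^ m))
            (((⟨nfGL (0 : K) 0 1 0 1 0 * (n₀ : GL chevG2.Idx K), mul_mem huG hn₀G⟩ : ↥(twistedG2 K (3 ^ m))) :
              ↥(twistedG2 K (3 ^ m)) ⧸
              (chevG2.borelSubgroup K ⊓ twistedG2 K (3 ^ m)).subgroupOf (twistedG2 K (3 ^ m))))) := by
        refine ⟨⟨⟨⟨j, hjG⟩, hjmem⟩, 1, ?_⟩⟩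
        intro h
        apply hj1
        have := congrArg Subtype.val (congrArg Subtype.val h)
        simpa using this
      exact Finite.one_lt_card_iff_nontrivial.mpr hnt

end Exists

end Cfsg.Agent.Helper9.ReeStab
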