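import Cfsg.Agent.Helper9.ReeStab
import Cfsg.Agent.Helper6.ReeC7

/-!
Helper9 (for S1158): the action of `²G₂(q)` on the cosets of `B¹` in coordinates: the `q³ + 1` points,
the double coset decomposition, the fixed points of the involution of `H¹`, elements with three fixed points.
-/

set_option autoImplicit false
set_option maxRecDepth 100000

namespace Cfsg.Agent.Helper9.ReeTor

open Cfsg Cfsg.Lie Cfsg.Agent.Helper18 Cfsg.Agent.Helper18.Ree Cfsg.Agent.Helper6.Ree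
  Cfsg.Agent.Helper6.ReeC Cfsg.Agent.Helper9.ReeTI Cfsg.Agent.Helper9.ReeStab

/-- `B¹` as a subgroup of `²G₂(q)` -/
abbrev B1 (K : Type*) [Field K] (m : ℕ) : Subgroup ↥(twistedG2 K (3 ^ m)) :=
  (chevG2.borelSubgroup K ⊓ twistedG2 K (3 ^ m)).subgroupOf (twistedG2 K (3 ^ m))

theorem mem_B1 {K : Type*} [Field K] {m : ℕ} (g : ↥(twistedG2 K (3 ^ m))) :
    g ∈ B1 K m ↔ (g : GL chevG2.Idx K) ∈ chevG2.borelSubgroup K := by
  rw [Subgroup.mem_subgroupOf, Subgroup.mem_inf]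
  exact ⟨fun h => h.1, fun h => ⟨h, g.2⟩⟩

variable {K : Type*} [Field K] [Fintype K] [CharP K 3] {m : ℕ}

theorem mem_B1_iff (hK : Fintype.card K = 3 ^ (2 * m + 1)) (g : ↥(twistedG2 K (3 ^ m))) :
    g ∈ B1 K m ↔ ∃ (t u v : K) (c : Kˣ), g = gU K m t u v * gT hK c := by
  rw [mem_B1]
  constructor
  · exact borel_form hK g
  · rintro ⟨t, u, v, c, rfl⟩
    rw [Subgroup.coe_mul]
    exact mul_mem (gU_mem_borel t u v) (gT_mem_borel hK c)

theorem gU_mem_B1 (t u v : K) : gU K m t u v ∈ B1 K m := (mem_B1 _).2 (gU_mem_borel t u v)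

theorem gT_mem_B1 (hK : Fintype.card K = 3 ^ (2 * m + 1)) (c : Kˣ) : gT hK c ∈ B1 K m :=
  (mem_B1 _).2 (gT_mem_borel hK c)

theorem card_B1 (hK : Fintype.card K = 3 ^ (2 * m + 1)) :
    Nat.card ↥(B1 K m) = (3 ^ (2 * m + 1)) ^ 3 * (3 ^ (2 * m + 1) - 1) := by
  have e : (K × K × K) × Kˣ ≃ ↥(B1 K m) := by
    refine Equiv.ofBijective (fun p => ⟨gU K m p.1.1 p.1.2.1 p.1.2.2 * gT hK p.2,
      (mem_B1_iff hK _).2 ⟨_, _, _, _, rfl⟩⟩) ⟨?_, ?_⟩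
    · rintro ⟨⟨t, u, v⟩, c⟩ ⟨⟨t', u', v'⟩, c'⟩ h
      have h' : gU K m t u v * gT hK c = gU K m t' u' v' * gT hK c' := congrArg Subtype.val h
      obtain ⟨rfl, rfl, rfl, rfl⟩ := borel_unique hK h'
      rfl
    · rintro ⟨g, hg⟩
      obtain ⟨t, u, v, c, rfl⟩ := (mem_B1_iff hK g).1 hg
      exact ⟨⟨⟨t, u, v⟩, c⟩, rfl⟩
  rw [← Nat.card_congr e, Nat.card_prod, Nat.card_prod, Nat.card_prod, Nat.card_units,
    Nat.card_eq_fintype_card, hK]
  ring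

/-- the double coset decomposition `G = B ∪ B n B` -/
theorem double_coset (hK : Fintype.card K = 3 ^ (2 * m + 1)) (g : ↥(twistedG2 K (3 ^ m))) (hg : g ∉ B1 K m) :
    ∃ b ∈ B1 K m, ∃ b' ∈ B1 K m, g = b * gN K m * b' := by
  rcases bruhat_cases hK g with ⟨t, u, v, c, rfl⟩ | ⟨t, u, v, c, t', u', v', rfl⟩
  · exact absurd ((mem_B1_iff hK _).2 ⟨t, u, v, c, rfl⟩) hg
  · exact ⟨_, (mem_B1_iff hK _).2 ⟨t, u, v, c, rfl⟩, _, gU_mem_B1 t' u' v', rfl⟩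

/-- the points of `G ⧸ B¹` in coordinates -/
noncomputable def pt (K : Type*) [Field K] [CharP K 3] (m : ℕ) :
    Option (K × K × K) → ↥(twistedG2 K (3 ^ m)) ⧸ B1 K m
  | none => ((1 : ↥(twistedG2 K (3 ^ m))) : ↥(twistedG2 K (3 ^ m)) ⧸ B1 K m)
  | some p => ((gU K m p.1 p.2.1 p.2.2 * gN K m : ↥(twistedG2 K (3 ^ m))) : ↥(twistedG2 K (3 ^ m)) ⧸ B1 K m)

theorem gU_gN_not_mem (hK : Fintype.card K = 3 ^ (2 * m + 1)) (t u v : K) :
    gU K m t u v * gN K m ∉ B1 K m := by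
  intro h
  obtain ⟨t', u', v', c', e⟩ := (mem_B1_iff hK _).1 h
  apply bigcell_ne_borel hK (t := t) (u := u) (v := v) (c := 1) (a := 0) (b := 0) (d := 0)
    (t' := t') (u' := u') (v' := v') (c' := c')
  rw [map_one, mul_one, gU_zero, mul_one]
  exact e

theorem pt_injective (hK : Fintype.card K = 3 ^ (2 * m + 1)) : Function.Injective (pt K m) := by
  rintro (_ | ⟨t, u, v⟩) (_ | ⟨t', u', v'⟩) h
  · rfl
  · exfalso
    have h' : ((1 : ↥(twistedG2 K (3 ^ m))) : ↥(twistedG2 K (3 ^ m)) ⧸ B1 K m) =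
        ((gU K m t' u' v' * gN K m : ↥(twistedG2 K (3 ^ m))) : ↥(twistedG2 K (3 ^ m)) ⧸ B1 K m) := h
    rw [QuotientGroup.eq, inv_one, one_mul] at h'
    exact gU_gN_not_mem hK _ _ _ h'
  · exfalso
    have h' : ((gU K m t u v * gN K m : ↥(twistedG2 K (3 ^ m))) : ↥(twistedG2 K (3 ^ m)) ⧸ B1 K m) =
        ((1 : ↥(twistedG2 K (3 ^ m))) : ↥(twistedG2 K (3 ^ m)) ⧸ B1 K m) := h
    rw [eq_comm, QuotientGroup.eq, inv_one, one_mul] at h'
    exact gU_gN_not_mem hK _ _ _ h'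
  · have h' : ((gU K m t u v * gN K m : ↥(twistedG2 K (3 ^ m))) : ↥(twistedG2 K (3 ^ m)) ⧸ B1 K m) =
        ((gU K m t' u' v' * gN K m : ↥(twistedG2 K (3 ^ m))) : ↥(twistedG2 K (3 ^ m)) ⧸ B1 K m) := h
    rw [QuotientGroup.eq] at h'
    obtain ⟨a, b, d, c, e⟩ := (mem_B1_iff hK _).1 h'
    have e2 : gU K m t' u' v' * gT hK c * gN K m * gU K m 0 0 0 =
        gU K m t u v * gT hK 1 * gN K m * gU K m a b d := by
      have e3 : gU K m t' u' v' * gN K m = gU K m t u v * gN K m * (gU K m a b d * gT hK c) := by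
        rw [← e]; group
      rw [gU_zero, mul_one, map_one, mul_one, mul_assoc (gU K m t' u' v'), gT_mul_gN hK, ← mul_assoc, e3]
      rw [mul_assoc, mul_assoc, mul_assoc, ← map_mul, mul_inv_cancel, map_one, mul_one, mul_assoc]
    obtain ⟨rfl, rfl, rfl, -⟩ := bigcell_unique' hK e2
    rfl

theorem pt_surjective (hK : Fintype.card K = 3 ^ (2 * m + 1)) : Function.Surjective (pt K m) := by
  intro x
  obtain ⟨g, rfl⟩ := QuotientGroup.mk_surjective x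
  rcases bruhat_cases hK g with ⟨t, u, v, c, rfl⟩ | ⟨t, u, v, c, t', u', v', rfl⟩
  · refine ⟨none, ?_⟩
    show ((1 : ↥(twistedG2 K (3 ^ m))) : ↥(twistedG2 K (3 ^ m)) ⧸ B1 K m) = _
    rw [QuotientGroup.eq, inv_one, one_mul]
    exact (mem_B1_iff hK _).2 ⟨t, u, v, c, rfl⟩
  · refine ⟨some (t, u, v), ?_⟩
    show ((gU K m t u v * gN K m : ↥(twistedG2 K (3 ^ m))) : ↥(twistedG2 K (3 ^ m)) ⧸ B1 K m) = _
    rw [QuotientGroup.eq]
    have e : (gU K m t u v * gN K m)⁻¹ * (gU K m t u v * gT hK c * gN K m * gU K m t' u' v') =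
        gT hK c⁻¹ * gU K m t' u' v' := by
      rw [mul_assoc (gU K m t u v) (gT hK c), gT_mul_gN hK]
      group
    rw [e]
    exact mul_mem (gT_mem_B1 hK _) (gU_mem_B1 _ _ _)

/-- the number of points -/
theorem card_points (hK : Fintype.card K = 3 ^ (2 * m + 1)) :
    Nat.card (↥(twistedG2 K (3 ^ m)) ⧸ B1 K m) = (3 ^ (2 * m + 1)) ^ 3 + 1 := by
  rw [← Nat.card_congr (Equiv.ofBijective (pt K m) ⟨pt_injective hK, pt_surjective hK⟩),
    Nat.card_eq_fintype_card, Fintype.card_option, Fintype.card_prod, Fintype.card_prod, hK]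
  ring

/-- the torus acts on the points -/
theorem gT_smul_pt (hK : Fintype.card K = 3 ^ (2 * m + 1)) (c : Kˣ) (t u v : K) :
    gT hK c • pt K m (some (t, u, v)) =
      pt K m (some ((c : K) * t, (c : K) ^ (3 * 3 ^ m + 1) * u, (c : K) ^ (3 * 3 ^ m + 2) * v)) := by
  show gT hK c • ((gU K m t u v * gN K m : ↥(twistedG2 K (3 ^ m))) : ↥(twistedG2 K (3 ^ m)) ⧸ B1 K m) =
    ((gU K m ((c : K) * t) ((c : K) ^ (3 * 3 ^ m + 1) * u) ((c : K) ^ (3 * 3 ^ m + 2) * v) * gN K m :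
      ↥(twistedG2 K (3 ^ m))) : ↥(twistedG2 K (3 ^ m)) ⧸ B1 K m)
  rw [MulAction.Quotient.smul_mk, QuotientGroup.eq, smul_eq_mul]
  have key : gT hK c * (gU K m t u v * gN K m) =
      gU K m ((c : K) * t) ((c : K) ^ (3 * 3 ^ m + 1) * u) ((c : K) ^ (3 * 3 ^ m + 2) * v) * gN K m *
        gT hK c⁻¹ := by
    rw [← mul_assoc, gT_mul_gU hK, mul_assoc _ (gT hK c), gT_mul_gN hK, mul_assoc]
  rw [key]
  have e : (gU K m ((c : K) * t) ((c : K) ^ (3 * 3 ^ m + 1) * u) ((c : K) ^ (3 * 3 ^ m + 2) * v) *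
      gN K m * gT hK c⁻¹)⁻¹ * (gU K m ((c : K) * t) ((c : K) ^ (3 * 3 ^ m + 1) * u)
        ((c : K) ^ (3 * 3 ^ m + 2) * v) * gN K m) = (gT hK c⁻¹)⁻¹ := by group
  rw [e]
  exact inv_mem (gT_mem_B1 hK _)

theorem gT_smul_pt_none (hK : Fintype.card K = 3 ^ (2 * m + 1)) (c : Kˣ) :
    gT hK c • pt K m none = pt K m none := by
  show gT hK c • ((1 : ↥(twistedG2 K (3 ^ m))) : ↥(twistedG2 K (3 ^ m)) ⧸ B1 K m) =
    ((1 : ↥(twistedG2 K (3 ^ m))) : ↥(twistedG2 K (3 ^ m)) ⧸ B1 K m)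
  rw [MulAction.Quotient.smul_mk, QuotientGroup.eq, smul_eq_mul, mul_one, mul_one]
  exact inv_mem (gT_mem_B1 hK _)

end Cfsg.Agent.Helper9.ReeTor
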