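import Cfsg.Agent.Helper9.ReeTorA

/-!
Helper9 (for S1158): fixed points of involutions of `²G₂(q)` on `G ⧸ B¹` (exactly `q + 1`), elements with at
least three fixed points are involutions, the number of involutions.
-/

set_option autoImplicit false
set_option maxRecDepth 100000

namespace Cfsg.Agent.Helper9.ReeTor

open Cfsg Cfsg.Lie Cfsg.Agent.Helper18 Cfsg.Agent.Helper18.Ree Cfsg.Agent.Helper6.Ree
  Cfsg.Agent.Helper6.ReeC Cfsg.Agent.Helper9.ReeTI Cfsg.Agent.Helper9.ReeStab

variable {K : Type*} [Field K] [Fintype K] [CharP K 3] {m : ℕ}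

/-- the fixed points of the involution `gT (-1)`: parameters -/
theorem gT_neg_one_fix_iff (hK : Fintype.card K = 3 ^ (2 * m + 1)) (o : Option (K × K × K)) :
    gT hK (-1) • pt K m o = pt K m o ↔ o = none ∨ ∃ u : K, o = some (0, u, 0) := by
  rcases o with _ | ⟨t, u, v⟩
  · simp only [gT_smul_pt_none, true_or]
  · rw [gT_smul_pt hK, (pt_injective hK).eq_iff]
    simp only [Units.val_neg, Units.val_one, neg_one_pow_e1, neg_one_pow_e2, one_mul, neg_one_mul,
      Option.some.injEq, Prod.mk.injEq, reduceCtorEq, false_or]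
    constructor
    · rintro ⟨h1, -, h3⟩
      have ht : t = 0 := by
        have : (2 : K) * t = 0 := by linear_combination -h1
        rcases mul_eq_zero.mp this with h | h
        · exact absurd h two_ne_zero_K
        · exact h
      have hv : v = 0 := by
        have : (2 : K) * v = 0 := by linear_combination -h3
        rcases mul_eq_zero.mp this with h | h
        · exact absurd h two_ne_zero_K
        · exact h
      exact ⟨u, ht, rfl, hv⟩
    · rintro ⟨u', rfl, rfl, rfl⟩
      simp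

/-- the involution `gT (-1)` has exactly `q + 1` fixed points -/
theorem card_fixedBy_gT_neg_one (hK : Fintype.card K = 3 ^ (2 * m + 1)) :
    Nat.card (MulAction.fixedBy (↥(twistedG2 K (3 ^ m)) ⧸ B1 K m) (gT hK (-1))) = 3 ^ (2 * m + 1) + 1 := by
  have e : Option K ≃ MulAction.fixedBy (↥(twistedG2 K (3 ^ m)) ⧸ B1 K m) (gT hK (-1)) := by
    refine Equiv.ofBijective (fun o => ⟨pt K m (o.map fun u => ((0 : K), u, (0 : K))), ?_⟩) ⟨?_, ?_⟩
    · rw [MulAction.mem_fixedBy, gT_neg_one_fix_iff hK]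
      rcases o with _ | u
      · left; rfl
      · right; exact ⟨u, rfl⟩
    · intro o o' h
      have h' := pt_injective hK (congrArg Subtype.val h)
      rcases o with _ | u <;> rcases o' with _ | u'
      · rfl
      · simp at h'
      · simp at h'
      · simp only [Option.map_some, Option.some.injEq, Prod.mk.injEq, true_and, and_true] at h'
        rw [h']
    · rintro ⟨x, hx⟩
      obtain ⟨o, rfl⟩ := pt_surjective hK x
      rw [MulAction.mem_fixedBy, gT_neg_one_fix_iff hK] at hx
      rcases hx with rfl | ⟨u, rfl⟩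
      · exact ⟨none, rfl⟩
      · exact ⟨some u, rfl⟩
  rw [← Nat.card_congr e, Nat.card_eq_fintype_card, Fintype.card_option, hK]

/-- the diagonal involution is `gT (-1)` -/
theorem jj_eq_gT (hK : Fintype.card K = 3 ^ (2 * m + 1)) : jj K m = gT hK (-1) := by
  obtain ⟨c, hc⟩ := exists_gT hK (jj K m) Jg_memH
  have h1 : gT hK (c * c) = gT hK 1 := by
    rw [map_mul, ← hc, jj_mul_self hK, map_one]
  have h2 : c * c = 1 := gT_injective hK h1
  have h3 : c ≠ 1 := by
    rintro rfl
    rw [map_one] at hc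
    exact jj_ne_one hc
  have h4 : ((c : K) - 1) * ((c : K) + 1) = 0 := by
    have : (c : K) * (c : K) = 1 := by rw [← Units.val_mul, h2, Units.val_one]
    linear_combination this
  rcases mul_eq_zero.mp h4 with h | h
  · exact absurd (Units.ext (by rw [Units.val_one]; linear_combination h)) h3
  · rw [hc]
    congr 1
    apply Units.ext
    rw [Units.val_neg, Units.val_one]
    linear_combination h

/-- conjugate elements have the same number of fixed points -/
theorem card_fixedBy_conj {G Ω : Type*} [Group G] [MulAction G Ω] (h g : G) :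
    Nat.card (MulAction.fixedBy Ω (h * g * h⁻¹)) = Nat.card (MulAction.fixedBy Ω g) := by
  apply Nat.card_congr
  refine ⟨fun x => ⟨h⁻¹ • x.1, ?_⟩, fun x => ⟨h • x.1, ?_⟩, ?_, ?_⟩
  · have := x.2
    rw [MulAction.mem_fixedBy] at this ⊢
    conv_rhs => rw [← this]
    simp only [smul_smul]
    congr 1
    group
  · have := x.2
    rw [MulAction.mem_fixedBy] at this ⊢
    conv_rhs => rw [← this]
    simp only [smul_smul]
    congr 1
    group
  · intro x
    apply Subtype.ext
    simp
  · intro x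
    apply Subtype.ext
    simp

/-- every involution has exactly `q + 1` fixed points -/
theorem card_fixedBy_involution (hm : 1 ≤ m) (hK : Fintype.card K = 3 ^ (2 * m + 1))
    (t : ↥(twistedG2 K (3 ^ m))) (ht1 : t ≠ 1) (ht2 : t * t = 1) :
    Nat.card (MulAction.fixedBy (↥(twistedG2 K (3 ^ m)) ⧸ B1 K m) t) = 3 ^ (2 * m + 1) + 1 := by
  obtain ⟨g, hg⟩ := involution_conj hm hK t ht1 ht2
  rw [← card_fixedBy_conj g t, hg, jj_eq_gT hK, card_fixedBy_gT_neg_one hK]

/-- an element with at least three fixed points squares to one -/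
theorem sq_eq_one_of_three_fixed (hK : Fintype.card K = 3 ^ (2 * m + 1)) (g : ↥(twistedG2 K (3 ^ m)))
    (h3 : 3 ≤ Nat.card (MulAction.fixedBy (↥(twistedG2 K (3 ^ m)) ⧸ B1 K m) g)) : g * g = 1 := by
  have h3' : 2 < (MulAction.fixedBy (↥(twistedG2 K (3 ^ m)) ⧸ B1 K m) g).ncard := h3
  rw [Set.two_lt_ncard_iff] at h3'
  obtain ⟨x, y, z, hx, hy, hz, hxy, hxz, hyz⟩ := h3'
  have hle := card_stab_le hK x y z hxy hxz hyz
  have hmem : g ∈ MulAction.stabilizer ↥(twistedG2 K (3 ^ m)) x ⊓ MulAction.stabilizer ↥(twistedG2 K (3 ^ m)) y ⊓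
      MulAction.stabilizer ↥(twistedG2 K (3 ^ m)) z :=
    ⟨⟨hx, hy⟩, hz⟩
  set W := MulAction.stabilizer ↥(twistedG2 K (3 ^ m)) x ⊓ MulAction.stabilizer ↥(twistedG2 K (3 ^ m)) y ⊓
      MulAction.stabilizer ↥(twistedG2 K (3 ^ m)) z with hW
  have hpow : (⟨g, hmem⟩ : ↥W) ^ Nat.card ↥W = 1 := pow_card_eq_one'
  have hpos : 0 < Nat.card ↥W := Nat.card_pos
  have hcases : Nat.card ↥W = 1 ∨ Nat.card ↥W = 2 := by omega
  have hpow' : g ^ Nat.card ↥W = 1 := by
    have h1 := congrArg (fun w : ↥W => (w : ↥(twistedG2 K (3 ^ m)))) hpow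
    simp only [SubmonoidClass.coe_pow, OneMemClass.coe_one] at h1
    exact h1
  rcases hcases with h | h
  · rw [h, pow_one] at hpow'
    rw [hpow', mul_one]
  · rw [h, sq] at hpow'
    exact hpow'

/-- the possible numbers of fixed points -/
theorem card_fixedBy_cases (hm : 1 ≤ m) (hK : Fintype.card K = 3 ^ (2 * m + 1)) (g : ↥(twistedG2 K (3 ^ m)))
    (hg : g ≠ 1) :
    Nat.card (MulAction.fixedBy (↥(twistedG2 K (3 ^ m)) ⧸ B1 K m) g) ≤ 2 ∨
      Nat.card (MulAction.fixedBy (↥(twistedG2 K (3 ^ m)) ⧸ B1 K m) g) = 3 ^ (2 * m + 1) + 1 := by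
  by_cases h : Nat.card (MulAction.fixedBy (↥(twistedG2 K (3 ^ m)) ⧸ B1 K m) g) ≤ 2
  · exact Or.inl h
  · right
    exact card_fixedBy_involution hm hK g hg (sq_eq_one_of_three_fixed hK g (by omega))

/-- the class equation for one class -/
theorem card_conj_mul_card_centralizer {G : Type*} [Group G] [Finite G] (a : G) :
    Nat.card {x : G // ∃ g : G, g * a * g⁻¹ = x} * Nat.card ↥(Subgroup.centralizer {a}) = Nat.card G := by
  have hmem : ∀ g h : G, g⁻¹ * h ∈ Subgroup.centralizer {a} ↔ g * a * g⁻¹ = h * a * h⁻¹ := by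
    intro g h
    rw [Subgroup.mem_centralizer_singleton_iff]
    constructor
    · intro e
      calc g * a * g⁻¹ = g * (a * (g⁻¹ * h)) * h⁻¹ := by group
        _ = g * (g⁻¹ * h * a) * h⁻¹ := by rw [e]
        _ = h * a * h⁻¹ := by group
    · intro e
      calc g⁻¹ * h * a = g⁻¹ * (h * a * h⁻¹) * h := by group
        _ = g⁻¹ * (g * a * g⁻¹) * h := by rw [e]
        _ = a * (g⁻¹ * h) := by group
  have e : (G ⧸ Subgroup.centralizer {a}) ≃ {x : G // ∃ g : G, g * a * g⁻¹ = x} := by
    refine Equiv.ofBijective (Quotient.lift (fun g : G => (⟨g * a * g⁻¹, g, rfl⟩ : {x : G // ∃ g : G, g * a * g⁻¹ = x}))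
      ?_) ⟨?_, ?_⟩
    · intro g h hgh
      apply Subtype.ext
      exact (hmem g h).1 (QuotientGroup.leftRel_apply.mp hgh)
    · intro x y
      induction x using Quotient.inductionOn with | _ g => ?_
      induction y using Quotient.inductionOn with | _ h => ?_
      intro hxy
      have h1 : g * a * g⁻¹ = h * a * h⁻¹ := congrArg Subtype.val hxy
      exact Quotient.sound (QuotientGroup.leftRel_apply.mpr ((hmem g h).2 h1))
    · rintro ⟨x, g, rfl⟩
      exact ⟨Quotient.mk _ g, rfl⟩
  rw [← Nat.card_congr e]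
  exact (Subgroup.card_eq_card_quotient_mul_card_subgroup _).symm

/-- the number of involutions of `²G₂(q)` -/
theorem card_involutions (hm : 1 ≤ m) (hK : Fintype.card K = 3 ^ (2 * m + 1)) :
    Nat.card {t : ↥(twistedG2 K (3 ^ m)) // t ≠ 1 ∧ t * t = 1} =
      (3 ^ (2 * m + 1)) ^ 2 * ((3 ^ (2 * m + 1)) ^ 2 - 3 ^ (2 * m + 1) + 1) := by
  obtain ⟨n, hn⟩ : ∃ n, 3 ^ (2 * m + 1) = n + 1 :=
    ⟨3 ^ (2 * m + 1) - 1, (Nat.sub_add_cancel (Nat.one_le_pow _ _ (by norm_num))).symm⟩
  have hn0 : 0 < n := by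
    have : 3 ^ 1 ≤ 3 ^ (2 * m + 1) := Nat.pow_le_pow_right (by norm_num) (by omega)
    omega
  have hset : Nat.card {t : ↥(twistedG2 K (3 ^ m)) // t ≠ 1 ∧ t * t = 1} =
      Nat.card {x : ↥(twistedG2 K (3 ^ m)) // ∃ g : ↥(twistedG2 K (3 ^ m)), g * jj K m * g⁻¹ = x} := by
    apply Nat.card_congr
    apply Equiv.subtypeEquivRight
    intro t
    constructor
    · rintro ⟨h1, h2⟩
      obtain ⟨g, hg⟩ := involution_conj hm hK t h1 h2
      refine ⟨g⁻¹, ?_⟩
      rw [← hg]
      group
    · rintro ⟨g, rfl⟩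
      constructor
      · intro h
        rw [conj_eq_one_iff] at h
        exact jj_ne_one h
      · have : g * jj K m * g⁻¹ * (g * jj K m * g⁻¹) = g * (jj K m * jj K m) * g⁻¹ := by group
        rw [this, jj_mul_self hK]
        group
  have h1 := card_conj_mul_card_centralizer (jj K m)
  rw [card_centralizer_jj hK hn, card_ree_succ hK hn, ← hset] at h1
  rw [hn]
  have hpos : 0 < (n + 1) * n * (n + 2) := by positivity
  apply Nat.eq_of_mul_eq_mul_right hpos
  rw [h1]
  have e1 : (n + 1) ^ 2 - (n + 1) + 1 = (n + 1) * n + 1 := by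
    have : (n + 1) ^ 2 = (n + 1) * n + (n + 1) := by ring
    omega
  rw [e1]
  ring

end Cfsg.Agent.Helper9.ReeTor
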