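import Cfsg.Agent.Helper9.ReeTorB
import Cfsg.Agent.Helper70.ReeFix2
import Cfsg.Agent.Helper89.ReeDC2

/-!
Helper9 (for S1158): the number of elements of `²G₂(q)` without fixed points on `G ⧸ B¹`.
-/

set_option autoImplicit false
set_option maxRecDepth 100000

namespace Cfsg.Agent.Helper9.ReeTor

open Cfsg Cfsg.Lie Cfsg.Agent.Helper18 Cfsg.Agent.Helper18.Ree Cfsg.Agent.Helper6.Ree
  Cfsg.Agent.Helper6.ReeC Cfsg.Agent.Helper9.ReeTI Cfsg.Agent.Helper9.ReeStab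

variable {K : Type*} [Field K] [Fintype K] [CharP K 3] {m : ℕ}

/-- an element has a fixed point iff it is conjugate into `B¹` -/
theorem mem_fixedBy_mk {K : Type*} [Field K] {m : ℕ} (g a : ↥(twistedG2 K (3 ^ m))) :
    ((a : ↥(twistedG2 K (3 ^ m))) : ↥(twistedG2 K (3 ^ m)) ⧸ B1 K m) ∈
        MulAction.fixedBy (↥(twistedG2 K (3 ^ m)) ⧸ B1 K m) g ↔ a⁻¹ * g * a ∈ B1 K m := by
  rw [MulAction.mem_fixedBy, MulAction.Quotient.smul_mk, QuotientGroup.eq, smul_eq_mul]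
  have e : (g * a)⁻¹ * a = (a⁻¹ * g * a)⁻¹ := by group
  rw [e, inv_mem_iff]

/-- without fixed points: not conjugate into `B¹` -/
theorem card_fixedBy_eq_zero_iff (g : ↥(twistedG2 K (3 ^ m))) :
    Nat.card (MulAction.fixedBy (↥(twistedG2 K (3 ^ m)) ⧸ B1 K m) g) = 0 ↔
      ∀ a : ↥(twistedG2 K (3 ^ m)), a⁻¹ * g * a ∉ B1 K m := by
  rw [Nat.card_eq_zero]
  constructor
  · rintro (h | h) a ha
    · exact h.false ⟨_, (mem_fixedBy_mk g a).2 ha⟩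
    · haveI := h
      exact (not_finite ↥(MulAction.fixedBy (↥(twistedG2 K (3 ^ m)) ⧸ B1 K m) g)).elim
  · intro h
    left
    constructor
    rintro ⟨x, hx⟩
    obtain ⟨a, rfl⟩ := QuotientGroup.mk_surjective x
    exact h a ((mem_fixedBy_mk g a).1 hx)

/-- the number of elements without fixed points -/
theorem two_mul_card_fpf (hm : 1 ≤ m) (hK : Fintype.card K = 3 ^ (2 * m + 1)) :
    2 * Nat.card {g : ↥(twistedG2 K (3 ^ m)) // ∀ a : ↥(twistedG2 K (3 ^ m)), a⁻¹ * g * a ∉ B1 K m} =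
      (3 ^ (2 * m + 1)) ^ 3 * (3 ^ (2 * m + 1) - 1) *
        ((3 ^ (2 * m + 1)) ^ 3 - 2 * (3 ^ (2 * m + 1)) ^ 2 - 1) := by
  obtain ⟨n, hn⟩ : ∃ n, 3 ^ (2 * m + 1) = n + 1 :=
    ⟨3 ^ (2 * m + 1) - 1, (Nat.sub_add_cancel (Nat.one_le_pow _ _ (by norm_num))).symm⟩
  have hn26 : 26 ≤ n := by
    have : 3 ^ 3 ≤ 3 ^ (2 * m + 1) := Nat.pow_le_pow_right (by norm_num) (by omega)
    omega
  have hΩ := card_points (m := m) hK
  have h2 := Cfsg.Agent.Helper89.ReeDC2.two_transitive_of_double_coset (B1 K m) (gN K m) (double_coset hK)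
  have hΩ2 : 2 ≤ Nat.card (↥(twistedG2 K (3 ^ m)) ⧸ B1 K m) := by
    rw [hΩ, hn]
    have : 0 < (n + 1) ^ 3 := by positivity
    omega
  have key := Cfsg.Agent.Helper70.ReeCount.two_transitive_count
    (G := ↥(twistedG2 K (3 ^ m))) (Ω := ↥(twistedG2 K (3 ^ m)) ⧸ B1 K m) hΩ2 h2
    (3 ^ (2 * m + 1)) (by rw [hn]; omega) (card_fixedBy_cases hm hK)
  have e1 : Nat.card {g : ↥(twistedG2 K (3 ^ m)) //
      Nat.card (MulAction.fixedBy (↥(twistedG2 K (3 ^ m)) ⧸ B1 K m) g) = 0} =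
      Nat.card {g : ↥(twistedG2 K (3 ^ m)) // ∀ a : ↥(twistedG2 K (3 ^ m)), a⁻¹ * g * a ∉ B1 K m} :=
    Nat.card_congr (Equiv.subtypeEquivRight fun g => card_fixedBy_eq_zero_iff g)
  have e2 : Nat.card {g : ↥(twistedG2 K (3 ^ m)) // g ≠ 1 ∧
      Nat.card (MulAction.fixedBy (↥(twistedG2 K (3 ^ m)) ⧸ B1 K m) g) = 3 ^ (2 * m + 1) + 1} =
      Nat.card {t : ↥(twistedG2 K (3 ^ m)) // t ≠ 1 ∧ t * t = 1} := by
    apply Nat.card_congr
    apply Equiv.subtypeEquivRight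
    intro g
    constructor
    · rintro ⟨h1, h2⟩
      refine ⟨h1, sq_eq_one_of_three_fixed hK g ?_⟩
      rw [h2, hn]
      omega
    · rintro ⟨h1, h2⟩
      exact ⟨h1, card_fixedBy_involution hm hK g h1 h2⟩
  rw [e1, e2, card_involutions hm hK, hΩ, card_ree_succ hK hn] at key
  rw [hn] at key ⊢
  have s1 : (n + 1) ^ 3 + 1 - 1 = (n + 1) ^ 3 := by omega
  have s2 : (n + 1) ^ 3 + 1 - 2 = n * (n ^ 2 + 3 * n + 3) := by
    have : (n + 1) ^ 3 = n * (n ^ 2 + 3 * n + 3) + 1 := by ring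
    omega
  have s3 : n + 1 - 1 = n := by omega
  have s4 : (n + 1) ^ 2 - (n + 1) + 1 = (n + 1) * n + 1 := by
    have : (n + 1) ^ 2 = (n + 1) * n + (n + 1) := by ring
    omega
  obtain ⟨k, rfl⟩ : ∃ k, n = k + 2 := ⟨n - 2, by omega⟩
  have s5 : (k + 2 + 1) ^ 3 - 2 * (k + 2 + 1) ^ 2 - 1 = k ^ 3 + 7 * k ^ 2 + 15 * k + 8 := by
    have : (k + 2 + 1) ^ 3 = k ^ 3 + 7 * k ^ 2 + 15 * k + 8 + 2 * (k + 2 + 1) ^ 2 + 1 := by ring
    omega
  rw [s1, s2, s3, s4] at key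
  rw [s3, s5]
  have key' : 2 * Nat.card {g : ↥(twistedG2 K (3 ^ m)) // ∀ a : ↥(twistedG2 K (3 ^ m)), a⁻¹ * g * a ∉ B1 K m} +
      ((k + 2 + 1) * (k + 2) * ((k + 2 + 1) ^ 2 * ((k + 2 + 1) * (k + 2) + 1)) +
        (k + 2 + 1) ^ 3 * ((k + 2) * ((k + 2) ^ 2 + 3 * (k + 2) + 3))) =
      (k + 2 + 1) ^ 3 * (k + 2) * (k ^ 3 + 7 * k ^ 2 + 15 * k + 8) +
      ((k + 2 + 1) * (k + 2) * ((k + 2 + 1) ^ 2 * ((k + 2 + 1) * (k + 2) + 1)) +
        (k + 2 + 1) ^ 3 * ((k + 2) * ((k + 2) ^ 2 + 3 * (k + 2) + 3))) := by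
    rw [← add_assoc, key]
    ring
  exact Nat.add_right_cancel key'

end Cfsg.Agent.Helper9.ReeTor
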