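import Mathlib

/-!
Helper9 (for S1158): counting the conjugates of a subset with the trivial intersection property
(after helper6's `card_conj_union_mul`).
-/

set_option autoImplicit false

namespace Cfsg.Agent.Helper9.ReeTor

/-- the number of elements conjugate into a subset `D` whose "fusion" is controlled by a subgroup `N` -/
theorem card_conj_set_mul {G : Type*} [Group G] [Finite G] (N : Subgroup G) (D : Set G)
    (hN : ∀ n ∈ N, ∀ x ∈ D, n * x * n⁻¹ ∈ D)
    (hTI : ∀ g : G, ∀ x ∈ D, g * x * g⁻¹ ∈ D → g ∈ N) :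
    Nat.card {x : G // ∃ g : G, g * x * g⁻¹ ∈ D} * Nat.card N = Nat.card G * Nat.card D := by
  classical
  have : Fintype G := Fintype.ofFinite G
  let r : G → G → Prop := fun g x => g * x * g⁻¹ ∈ D
  have key := Finset.sum_card_bipartiteAbove_eq_sum_card_bipartiteBelow (s := (Finset.univ : Finset G))
    (t := (Finset.univ : Finset G)) r
  have hleft : ∀ g : G, (Finset.bipartiteAbove r Finset.univ g).card = Nat.card D := by
    intro g
    rw [Nat.card_eq_fintype_card, ← Fintype.card_coe]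
    apply Fintype.card_congr
    refine ⟨fun x => ⟨g * x.1 * g⁻¹, ?_⟩, fun a => ⟨g⁻¹ * (a.1 : G) * g, ?_⟩, ?_, ?_⟩
    · have := x.2
      rw [Finset.mem_bipartiteAbove] at this
      exact this.2
    · rw [Finset.mem_bipartiteAbove]
      refine ⟨Finset.mem_univ _, ?_⟩
      show g * (g⁻¹ * (a.1 : G) * g) * g⁻¹ ∈ D
      have h' : g * (g⁻¹ * (a.1 : G) * g) * g⁻¹ = (a.1 : G) := by group
      rw [h']
      exact a.2
    · intro x
      apply Subtype.ext
      show g⁻¹ * (g * x.1 * g⁻¹) * g = x.1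
      group
    · intro a
      apply Subtype.ext
      show g * (g⁻¹ * (a.1 : G) * g) * g⁻¹ = (a.1 : G)
      group
  have hright : ∀ x : G, (Finset.bipartiteBelow r Finset.univ x).card =
      if (∃ g : G, g * x * g⁻¹ ∈ D) then Nat.card N else 0 := by
    intro x
    split_ifs with hx
    · obtain ⟨g₀, hg₀⟩ := hx
      rw [Nat.card_eq_fintype_card, ← Fintype.card_coe]
      apply Fintype.card_congr
      refine ⟨fun g => ⟨g.1 * g₀⁻¹, ?_⟩, fun n => ⟨(n.1 : G) * g₀, ?_⟩, ?_, ?_⟩
      · have := g.2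
        rw [Finset.mem_bipartiteBelow] at this
        apply hTI (g.1 * g₀⁻¹) (g₀ * x * g₀⁻¹) hg₀
        have h' : g.1 * g₀⁻¹ * (g₀ * x * g₀⁻¹) * (g.1 * g₀⁻¹)⁻¹ = g.1 * x * g.1⁻¹ := by group
        rw [h']
        exact this.2
      · rw [Finset.mem_bipartiteBelow]
        refine ⟨Finset.mem_univ _, ?_⟩
        show (n.1 : G) * g₀ * x * ((n.1 : G) * g₀)⁻¹ ∈ D
        have h' : (n.1 : G) * g₀ * x * ((n.1 : G) * g₀)⁻¹ = (n.1 : G) * (g₀ * x * g₀⁻¹) * (n.1 : G)⁻¹ := by
          group
        rw [h']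
        exact hN _ n.2 _ hg₀
      · intro g
        apply Subtype.ext
        show g.1 * g₀⁻¹ * g₀ = g.1
        group
      · intro n
        apply Subtype.ext
        show (n.1 : G) * g₀ * g₀⁻¹ = (n.1 : G)
        group
    · rw [Finset.card_eq_zero, Finset.eq_empty_iff_forall_notMem]
      intro g hg
      rw [Finset.mem_bipartiteBelow] at hg
      exact hx ⟨g, hg.2⟩
  simp only [hleft, hright] at key
  rw [Finset.sum_const, Finset.card_univ, smul_eq_mul, ← Finset.sum_filter, Finset.sum_const,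
    smul_eq_mul] at key
  rw [Nat.card_eq_fintype_card (α := G), key]
  congr 1
  rw [Nat.card_eq_fintype_card, Fintype.card_subtype]

/-- counting two disjoint subsets of a set (after helper6) -/
theorem card_subtype_add_le {α : Type*} [Finite α] (P₁ P₂ Q : α → Prop)
    (h1 : ∀ a, P₁ a → Q a) (h2 : ∀ a, P₂ a → Q a) (hd : ∀ a, P₁ a → ¬ P₂ a) :
    Nat.card {a // P₁ a} + Nat.card {a // P₂ a} ≤ Nat.card {a // Q a} := by
  classical
  have : Fintype α := Fintype.ofFinite α
  rw [Nat.card_eq_fintype_card, Nat.card_eq_fintype_card, Nat.card_eq_fintype_card,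
    ← Fintype.card_subtype_or_disjoint P₁ P₂ (by
      rw [Pi.disjoint_iff]
      intro a
      rw [Prop.disjoint_iff]
      exact fun h => hd a h.1 h.2)]
  apply Fintype.card_le_of_injective (fun a : {a // P₁ a ∨ P₂ a} =>
    (⟨a.1, a.2.elim (h1 a.1) (h2 a.1)⟩ : {a // Q a}))
  intro a b h
  have h' : a.1 = b.1 := congrArg (fun c : {a // Q a} => c.1) h
  exact Subtype.ext h'

/-- counting two disjoint subsets covering a set (after helper6) -/
theorem card_subtype_add_eq {α : Type*} [Finite α] (P₁ P₂ Q : α → Prop)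
    (h1 : ∀ a, P₁ a → Q a) (h2 : ∀ a, P₂ a → Q a) (hd : ∀ a, P₁ a → ¬ P₂ a)
    (hc : ∀ a, Q a → P₁ a ∨ P₂ a) :
    Nat.card {a // P₁ a} + Nat.card {a // P₂ a} = Nat.card {a // Q a} := by
  classical
  have : Fintype α := Fintype.ofFinite α
  rw [Nat.card_eq_fintype_card, Nat.card_eq_fintype_card, Nat.card_eq_fintype_card,
    ← Fintype.card_subtype_or_disjoint P₁ P₂ (by
      rw [Pi.disjoint_iff]
      intro a
      rw [Prop.disjoint_iff]
      exact fun h => hd a h.1 h.2)]
  apply Fintype.card_congr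
  exact Equiv.subtypeEquivRight (fun a => ⟨fun h => h.elim (h1 a) (h2 a), hc a⟩)

end Cfsg.Agent.Helper9.ReeTor
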