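import Cfsg.Agent.Helper9.ReeTorC

/-!
Helper9 (for S1158): which elements of `²G₂(q)` have fixed points on `G ⧸ B¹`.
-/

set_option autoImplicit false
set_option maxRecDepth 100000

namespace Cfsg.Agent.Helper9.ReeTor

open Cfsg Cfsg.Lie Cfsg.Agent.Helper18 Cfsg.Agent.Helper18.Ree Cfsg.Agent.Helper6.Ree
  Cfsg.Agent.Helper6.ReeC Cfsg.Agent.Helper9.ReeTI Cfsg.Agent.Helper9.ReeStab

/-- a power of prime order -/
theorem orderOf_pow_div_prime {G : Type*} [Group G] [Finite G] (g : G) {p : ℕ} (hd : p ∣ orderOf g) :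
    orderOf (g ^ (orderOf g / p)) = p :=
  orderOf_pow_orderOf_div (orderOf_pos g).ne' hd

variable {K : Type*} [Field K] [Fintype K] [CharP K 3] {m : ℕ}

/-- elements of order divisible by `3` have a fixed point -/
theorem conj_mem_B1_of_three_dvd (hK : Fintype.card K = 3 ^ (2 * m + 1)) (g : ↥(twistedG2 K (3 ^ m)))
    (h3 : 3 ∣ orderOf g) : ∃ a : ↥(twistedG2 K (3 ^ m)), a⁻¹ * g * a ∈ B1 K m := by
  haveI : Fact (Nat.Prime 3) := ⟨Nat.prime_three⟩
  set u := g ^ (orderOf g / 3) with hu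
  have hou : orderOf u = 3 := orderOf_pow_div_prime g h3
  have hu1 : u ≠ 1 := by
    intro h
    rw [h, orderOf_one] at hou
    omega
  have hup : IsPGroup 3 ↥(Subgroup.zpowers u) := by
    apply IsPGroup.of_card (n := 1)
    rw [Nat.card_zpowers, hou, pow_one]
  obtain ⟨P, hP⟩ := hup.exists_le_sylow
  obtain ⟨P₀, hP₀⟩ := exists_sylow_eq_U1 (m := m) hK
  obtain ⟨x, rfl⟩ := MulAction.exists_smul_eq ↥(twistedG2 K (3 ^ m)) P₀ P
  have hux : x⁻¹ * u * x ∈ U1 K m := by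
    rw [← hP₀]
    exact (sylow_smul_mem_iff P₀ x u).1 (hP (Subgroup.mem_zpowers u))
  have hcomm : g * u = u * g := by
    rw [hu, ← pow_succ', ← pow_succ]
  refine ⟨x, ?_⟩
  rw [mem_B1]
  by_contra hB
  apply hu1
  have e : ((x⁻¹ * u * x : ↥(twistedG2 K (3 ^ m))) : GL chevG2.Idx K) =
      ((x⁻¹ * g * x : ↥(twistedG2 K (3 ^ m))) : GL chevG2.Idx K) *
        ((x⁻¹ * u * x : ↥(twistedG2 K (3 ^ m))) : GL chevG2.Idx K) *
        ((x⁻¹ * g * x : ↥(twistedG2 K (3 ^ m))) : GL chevG2.Idx K)⁻¹ := by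
    rw [← Subgroup.coe_inv, ← Subgroup.coe_mul, ← Subgroup.coe_mul]
    congr 1
    calc x⁻¹ * u * x = x⁻¹ * (g * u * g⁻¹) * x := by rw [hcomm]; group
      _ = _ := by group
  have h1 := eq_one_of_conj hK _ (x⁻¹ * g * x).2 hB _ _ ((mem_U1 _).1 hux) ((mem_U1 _).1 hux) e
  have h2 : x⁻¹ * u * x = 1 := Subtype.ext h1
  calc u = x * (x⁻¹ * u * x) * x⁻¹ := by group
    _ = 1 := by rw [h2]; group

/-- elements whose order is divisible by an odd prime divisor of `q - 1` have a fixed point -/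
theorem conj_mem_B1_of_split_prime (hK : Fintype.card K = 3 ^ (2 * m + 1)) (g : ↥(twistedG2 K (3 ^ m)))
    {p : ℕ} (hp : p.Prime) (hp2 : p ≠ 2) (hpq : p ∣ 3 ^ (2 * m + 1) - 1) (hpg : p ∣ orderOf g) :
    ∃ a : ↥(twistedG2 K (3 ^ m)), a⁻¹ * g * a ∈ B1 K m := by
  haveI : Fact p.Prime := ⟨hp⟩
  obtain ⟨n, hn⟩ : ∃ n, 3 ^ (2 * m + 1) = n + 1 :=
    ⟨3 ^ (2 * m + 1) - 1, (Nat.sub_add_cancel (Nat.one_le_pow _ _ (by norm_num))).symm⟩
  rw [hn, Nat.add_sub_cancel] at hpq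
  set a := g ^ (orderOf g / p) with ha
  have hoa : orderOf a = p := orderOf_pow_div_prime g hpg
  have ha1 : a ≠ 1 := by
    intro h
    rw [h, orderOf_one] at hoa
    exact hp.one_lt.ne hoa
  have hidx : ¬ p ∣ (gT (m := m) hK).range.index := by
    rw [index_gT_range hK hn]
    intro h
    have h2 : ¬ p ∣ 2 := fun h => hp2 ((Nat.prime_dvd_prime_iff_eq hp Nat.prime_two).mp h)
    have h1 : ¬ p ∣ 1 := Nat.Prime.not_dvd_one hp
    rcases (Nat.Prime.dvd_mul hp).mp h with h | h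
    · have := Nat.Prime.dvd_of_dvd_pow hp h
      exact h1 ((Nat.dvd_add_right hpq).mp this)
    · rcases (Nat.Prime.dvd_mul hp).mp h with h | h
      · exact h2 ((Nat.dvd_add_right hpq).mp h)
      · exact h1 ((Nat.dvd_add_right (Dvd.dvd.mul_left hpq (n + 1))).mp h)
  obtain ⟨x, hx⟩ := exists_conj_mem_of_not_dvd_index (gT (m := m) hK).range hidx a
    ⟨1, by rw [pow_one, ← hoa, pow_orderOf_eq_one]⟩
  obtain ⟨c, hc⟩ := hx
  have hcp : c ^ p = 1 := by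
    apply gT_injective (m := m) hK
    rw [map_pow, hc, map_one, conj_pow, ← hoa, pow_orderOf_eq_one]
    group
  have hc2 : (c : K) ^ 2 ≠ 1 := by
    intro h
    have h' : c ^ 2 = 1 := Units.ext (by rw [Units.val_pow_eq_pow_val, h, Units.val_one])
    have h1 : orderOf c ∣ Nat.gcd p 2 := Nat.dvd_gcd (orderOf_dvd_of_pow_eq_one hcp) (orderOf_dvd_of_pow_eq_one h')
    have h2 : Nat.gcd p 2 = 1 := (Nat.coprime_primes hp Nat.prime_two).mpr hp2
    rw [h2, Nat.dvd_one, orderOf_eq_one_iff] at h1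
    apply ha1
    rw [h1, map_one] at hc
    have : a = x⁻¹ * (x * a * x⁻¹) * x := by group
    rw [this, ← hc]
    group
  have hcomm : g * a = a * g := by
    rw [ha, ← pow_succ', ← pow_succ]
  have hcomm' : (x * g * x⁻¹) * gT hK c = gT hK c * (x * g * x⁻¹) := by
    rw [hc]
    calc x * g * x⁻¹ * (x * a * x⁻¹) = x * (g * a) * x⁻¹ := by group
      _ = x * (a * g) * x⁻¹ := by rw [hcomm]
      _ = _ := by group
  obtain ⟨d, hd⟩ := centralizer_gT_single hK c hc2 _ hcomm'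
  refine ⟨x⁻¹, ?_⟩
  rw [inv_inv, hd]
  exact gT_mem_B1 hK d

/-- `2`-elements have a fixed point -/
theorem conj_mem_B1_of_two_pow (hm : 1 ≤ m) (hK : Fintype.card K = 3 ^ (2 * m + 1))
    (g : ↥(twistedG2 K (3 ^ m))) (k : ℕ) (hg : orderOf g = 2 ^ k) :
    ∃ a : ↥(twistedG2 K (3 ^ m)), a⁻¹ * g * a ∈ B1 K m := by
  have h2 : g * g = 1 := sq_eq_one_of_two_element hK g k (by rw [← hg, pow_orderOf_eq_one])
  by_cases h1 : g = 1
  · refine ⟨1, ?_⟩
    rw [h1]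
    simp
  · obtain ⟨x, hx⟩ := involution_conj hm hK g h1 h2
    refine ⟨x⁻¹, ?_⟩
    rw [inv_inv, hx, jj_eq_gT hK]
    exact gT_mem_B1 hK _

/-- an element without fixed points has order divisible by a prime `s ≠ 2, 3` not dividing `q - 1` -/
theorem exists_prime_of_fpf (hm : 1 ≤ m) (hK : Fintype.card K = 3 ^ (2 * m + 1)) (g : ↥(twistedG2 K (3 ^ m)))
    (hg : ∀ a : ↥(twistedG2 K (3 ^ m)), a⁻¹ * g * a ∉ B1 K m) :
    ∃ s : ℕ, s.Prime ∧ s ∣ orderOf g ∧ s ≠ 2 ∧ s ≠ 3 ∧ ¬ s ∣ 3 ^ (2 * m + 1) - 1 := by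
  by_contra hcon
  push Not at hcon
  have h3 : ¬ 3 ∣ orderOf g := by
    intro h
    obtain ⟨a, ha⟩ := conj_mem_B1_of_three_dvd hK g h
    exact hg a ha
  -- all prime divisors are `2`
  have hall : ∀ s : ℕ, s.Prime → s ∣ orderOf g → s = 2 := by
    intro s hs hsd
    by_contra hs2
    have hs3 : s ≠ 3 := by
      rintro rfl
      exact h3 hsd
    have hsq := hcon s hs hsd hs2 hs3
    obtain ⟨a, ha⟩ := conj_mem_B1_of_split_prime hK g hs hs2 hsq hsd
    exact hg a ha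
  have hpow : ∃ k, orderOf g = 2 ^ k := by
    have h0 : orderOf g ≠ 0 := (orderOf_pos g).ne'
    exact ⟨_, Nat.eq_prime_pow_of_unique_prime_dvd h0 (fun {s} hs hsd => hall s hs hsd)⟩
  obtain ⟨k, hk⟩ := hpow
  obtain ⟨a, ha⟩ := conj_mem_B1_of_two_pow hm hK g k hk
  exact hg a ha

/-- an element whose order is divisible by a prime not dividing `|B¹|` has no fixed point -/
theorem fpf_of_prime (hK : Fintype.card K = 3 ^ (2 * m + 1)) (g : ↥(twistedG2 K (3 ^ m)))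
    {s : ℕ} (hs : s.Prime) (hsg : s ∣ orderOf g) (hs3 : s ≠ 3) (hsq : ¬ s ∣ 3 ^ (2 * m + 1) - 1) :
    ∀ a : ↥(twistedG2 K (3 ^ m)), a⁻¹ * g * a ∉ B1 K m := by
  intro a ha
  have h1 : orderOf (a⁻¹ * g * a) = orderOf g := by
    have := (MulAut.conj a⁻¹).orderOf_eq g
    rwa [MulAut.conj_apply, inv_inv] at this
  have h2 : orderOf (a⁻¹ * g * a) ∣ Nat.card ↥(B1 K m) := Subgroup.orderOf_dvd_natCard _ ha
  rw [h1, card_B1 hK] at h2
  have h3 := hsg.trans h2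
  rcases (Nat.Prime.dvd_mul hs).mp h3 with h | h
  · have h4 := hs.dvd_of_dvd_pow (hs.dvd_of_dvd_pow h)
    exact hs3 ((Nat.prime_dvd_prime_iff_eq hs Nat.prime_three).mp h4)
  · exact hsq h

end Cfsg.Agent.Helper9.ReeTor
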