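import Cfsg.Agent.Helper9.ReeTorE
import Cfsg.Agent.Helper9.ReeTorD
import Cfsg.Agent.Helper6.ReeE4

/-!
Helper9 (for S1158): the elements of `²G₂(q)` whose order is divisible by a prime `s ≠ 2, 3` dividing `q + 1`
are the conjugates of the elements `y` with `y² ≠ 1` of one abelian subgroup `T = C(a)` of order `q + 1`;
there are `|G| (q - 3) / (6 (q + 1))` of them.
-/

set_option autoImplicit false
set_option maxRecDepth 100000

namespace Cfsg.Agent.Helper9.ReeTor

open Cfsg Cfsg.Lie Cfsg.Agent.Helper18 Cfsg.Agent.Helper18.Ree Cfsg.Agent.Helper6.Ree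
  Cfsg.Agent.Helper6.ReeC Cfsg.Agent.Helper6.ReeE Cfsg.Agent.Helper9.ReeTI Cfsg.Agent.Helper9.ReeStab

variable {K : Type*} [Field K] [Fintype K] [CharP K 3] {m : ℕ}

section Quarter

variable (hm : 1 ≤ m) (hK : Fintype.card K = 3 ^ (2 * m + 1)) (a : ↥(twistedG2 K (3 ^ m))) {s : ℕ}
  (hs : s.Prime) (hs2 : s ≠ 2) (hs3 : s ≠ 3) (hsq : s ∣ 3 ^ (2 * m + 1) + 1) (ha : orderOf a = s)

/-- the set `D = T ∖ V` -/
def Dset (a : ↥(twistedG2 K (3 ^ m))) : Set ↥(twistedG2 K (3 ^ m)) :=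
  {y | y ∈ Subgroup.centralizer {a} ∧ y * y ≠ 1}

theorem mem_Dset (a y : ↥(twistedG2 K (3 ^ m))) :
    y ∈ Dset a ↔ y ∈ Subgroup.centralizer {a} ∧ y * y ≠ 1 := Iff.rfl

include hm hK hs hs2 hs3 hsq ha in
theorem card_Dset : Nat.card ↥(Dset a) = 3 ^ (2 * m + 1) - 3 := by
  classical
  obtain ⟨hTc, hTcard⟩ := centralizer_of_prime_order_quarter hm hK a hs hs2 hs3 hsq ha
  have hq27 : 3 ^ 3 ≤ 3 ^ (2 * m + 1) := Nat.pow_le_pow_right (by norm_num) (by omega)
  obtain ⟨hq1, hq2, -⟩ := arith_quarter _ (q_mod_eight m) hq27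
  obtain ⟨S, hS3, hS⟩ := Cfsg.Agent.Helper38.ReeInv3.exists_three_involutions (Subgroup.centralizer {a}) hTc
    ((3 ^ (2 * m + 1) + 1) / 4) (Nat.odd_iff.mpr (by omega)) (by rw [hTcard]; exact hq2.trans (mul_comm _ _))
    (fun x _ hx => sq_eq_one_of_two_element hK x 2 (by rw [show (2 : ℕ) ^ 2 = 4 by norm_num]; exact hx))
  -- `T = D ⊔ {1} ⊔ S`
  have hfin : Fintype ↥(twistedG2 K (3 ^ m)) := Fintype.ofFinite _
  have h1 : Nat.card ↥(Subgroup.centralizer {a}) = Nat.card ↥(Dset a) + 4 := by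
    rw [Nat.card_eq_fintype_card, Nat.card_eq_fintype_card]
    have e1 : Fintype.card ↥(Subgroup.centralizer {a}) =
        (Finset.univ.filter (fun y : ↥(twistedG2 K (3 ^ m)) => y ∈ Subgroup.centralizer {a})).card := by
      rw [Fintype.card_subtype]
    have e2 : Fintype.card ↥(Dset a) =
        (Finset.univ.filter (fun y : ↥(twistedG2 K (3 ^ m)) => y ∈ Dset a)).card := by
      rw [Fintype.card_subtype]
    rw [e1, e2]
    have hunion : Finset.univ.filter (fun y : ↥(twistedG2 K (3 ^ m)) => y ∈ Subgroup.centralizer {a}) =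
        Finset.univ.filter (fun y : ↥(twistedG2 K (3 ^ m)) => y ∈ Dset a) ∪ insert 1 S := by
      ext y
      simp only [Finset.mem_filter, Finset.mem_univ, true_and, Finset.mem_union, Finset.mem_insert, hS, mem_Dset]
      constructor
      · intro hy
        by_cases h2 : y * y = 1
        · right
          by_cases h1 : y = 1
          · exact Or.inl h1
          · exact Or.inr ⟨hy, h1, h2⟩
        · exact Or.inl ⟨hy, h2⟩
      · rintro (⟨hy, -⟩ | rfl | ⟨hy, -, -⟩)
        · exact hy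
        · exact one_mem _
        · exact hy
    have hdisj : Disjoint (Finset.univ.filter (fun y : ↥(twistedG2 K (3 ^ m)) => y ∈ Dset a)) (insert 1 S) := by
      rw [Finset.disjoint_left]
      intro y hy hy'
      simp only [Finset.mem_filter, Finset.mem_univ, true_and, mem_Dset] at hy
      simp only [Finset.mem_insert, hS] at hy'
      rcases hy' with rfl | ⟨-, -, h⟩
      · exact hy.2 (mul_one 1)
      · exact hy.2 h
    have h1S : (1 : ↥(twistedG2 K (3 ^ m))) ∉ S := by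
      rw [hS]
      exact fun h => h.2.1 rfl
    rw [hunion, Finset.card_union_of_disjoint hdisj, Finset.card_insert_of_notMem h1S, hS3]
  rw [hTcard] at h1
  omega

include hm hK hs hs2 hs3 hsq ha in
/-- the number of conjugates of elements of `D` -/
theorem card_conj_Dset :
    Nat.card {x : ↥(twistedG2 K (3 ^ m)) // ∃ g : ↥(twistedG2 K (3 ^ m)), g * x * g⁻¹ ∈ Dset a} *
        (6 * (3 ^ (2 * m + 1) + 1)) = Nat.card ↥(twistedG2 K (3 ^ m)) * (3 ^ (2 * m + 1) - 3) := by
  rw [← card_normalizer_quarter hm hK a hs hs2 hs3 hsq ha, ← card_Dset hm hK a hs hs2 hs3 hsq ha]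
  apply card_conj_set_mul
  · rintro n hn x ⟨hx, hx2⟩
    refine ⟨(Subgroup.mem_normalizer_iff.mp hn x).mp hx, ?_⟩
    intro h
    apply hx2
    have : n * x * n⁻¹ * (n * x * n⁻¹) = n * (x * x) * n⁻¹ := by group
    rw [this, conj_eq_one_iff] at h
    exact h
  · rintro g x ⟨hx, hx2⟩ ⟨hgx, hgx2⟩
    have h1 := centralizer_eq_of_sq_ne hm hK a hs hs2 hs3 hsq ha x hx hx2
    have h2 := centralizer_eq_of_sq_ne hm hK a hs hs2 hs3 hsq ha _ hgx hgx2
    rw [centralizer_conj, h1] at h2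
    -- `g T g⁻¹ = T`
    rw [Subgroup.mem_normalizer_iff]
    have hfwd : ∀ z, z ∈ Subgroup.centralizer {a} → g * z * g⁻¹ ∈ Subgroup.centralizer {a} := by
      intro z hz
      rw [← h2]
      exact ⟨z, hz, rfl⟩
    intro z
    refine ⟨hfwd z, ?_⟩
    intro hz
    rw [← h2] at hz
    obtain ⟨w, hw, hwz⟩ := hz
    have : w = z := by
      have h3 : g * w * g⁻¹ = g * z * g⁻¹ := hwz
      exact mul_left_cancel (mul_right_cancel h3)
    rwa [← this]

include hm hK hs hs2 hs3 hsq ha in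
/-- the conjugates of `D`: elements whose order is divisible by a prime `≠ 2, 3` dividing `q + 1` -/
theorem conj_Dset_iff (x : ↥(twistedG2 K (3 ^ m))) :
    (∃ g : ↥(twistedG2 K (3 ^ m)), g * x * g⁻¹ ∈ Dset a) ↔
      ∃ s' : ℕ, s'.Prime ∧ s' ≠ 2 ∧ s' ≠ 3 ∧ s' ∣ 3 ^ (2 * m + 1) + 1 ∧ s' ∣ orderOf x := by
  obtain ⟨hTc, hTcard⟩ := centralizer_of_prime_order_quarter hm hK a hs hs2 hs3 hsq ha
  have hq27 : 3 ^ 3 ≤ 3 ^ (2 * m + 1) := Nat.pow_le_pow_right (by norm_num) (by omega)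
  obtain ⟨hq1, hq2, -⟩ := arith_quarter _ (q_mod_eight m) hq27
  constructor
  · rintro ⟨g, hgT, hg2⟩
    have hord : orderOf (g * x * g⁻¹) = orderOf x := by
      have := (MulAut.conj g).orderOf_eq x
      rwa [MulAut.conj_apply] at this
    have hdvd : orderOf (g * x * g⁻¹) ∣ 3 ^ (2 * m + 1) + 1 := by
      rw [← hTcard]
      exact Subgroup.orderOf_dvd_natCard _ hgT
    by_contra hcon
    push Not at hcon
    -- all prime divisors of the order are `2`
    have hall : ∀ p : ℕ, p.Prime → p ∣ orderOf (g * x * g⁻¹) → p = 2 := by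
      intro p hp hpd
      by_contra hp2
      have hp3 : p ≠ 3 := by
        rintro rfl
        have := hpd.trans hdvd
        have h3 := q_mod_three m
        omega
      exact hcon p hp hp2 hp3 (hpd.trans hdvd) (hord ▸ hpd)
    have h0 : orderOf (g * x * g⁻¹) ≠ 0 := (orderOf_pos _).ne'
    have hk := Nat.eq_prime_pow_of_unique_prime_dvd h0 (fun {p} hp hpd => hall p hp hpd)
    apply hg2
    exact sq_eq_one_of_two_element hK _ _ (by rw [← hk, pow_orderOf_eq_one])
  · rintro ⟨s', hs', hs'2, hs'3, hs'q, hs'x⟩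
    haveI : Fact s'.Prime := ⟨hs'⟩
    set b := x ^ (orderOf x / s') with hb
    have hob : orderOf b = s' := orderOf_pow_div_prime x hs'x
    -- an element of order `s'` in `T`
    obtain ⟨b', hb'⟩ := exists_prime_orderOf_dvd_card' (G := ↥(Subgroup.centralizer {a})) s' (by rw [hTcard]; exact hs'q)
    rw [← Subgroup.orderOf_coe] at hb'
    -- conjugate `⟨b⟩` to `⟨b'⟩`
    have hs'4 : s' ∣ (3 ^ (2 * m + 1) + 1) / 4 := by
      have h1 : s' ∣ (3 ^ (2 * m + 1) + 1) / 4 * 4 := by rw [← hq2]; exact hs'q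
      rcases (Nat.Prime.dvd_mul hs').mp h1 with h | h
      · exact h
      · exfalso
        have : s' ∣ 2 ^ 2 := by norm_num; exact h
        exact hs'2 ((Nat.prime_dvd_prime_iff_eq hs' Nat.prime_two).mp (hs'.dvd_of_dvd_pow this))
    obtain ⟨g, hg⟩ := Cfsg.Agent.Helper6.ReeD.conj_of_card_eq hm hK s' (Or.inr (Or.inl hs'4)) (Subgroup.zpowers b)
      (Subgroup.zpowers (b' : ↥(twistedG2 K (3 ^ m)))) inferInstance inferInstance
      (by rw [Nat.card_zpowers, hob]) (by rw [Nat.card_zpowers, hb'])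
    have hgb : g * b * g⁻¹ ∈ Subgroup.centralizer {a} := by
      have h1 : g * b * g⁻¹ ∈ Subgroup.zpowers (b' : ↥(twistedG2 K (3 ^ m))) := by
        rw [hg]
        exact ⟨b, Subgroup.mem_zpowers b, rfl⟩
      exact (Subgroup.zpowers_le.mpr b'.2) h1
    have hgbo : orderOf (g * b * g⁻¹) = s' := by
      have := (MulAut.conj g).orderOf_eq b
      rw [MulAut.conj_apply] at this
      rw [this, hob]
    have hC := centralizer_eq_of_mem' hm hK a hs hs2 hs3 hsq ha hs' hs'2 hs'3 hs'q _ hgb hgbo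
    refine ⟨g, ?_, ?_⟩
    · rw [← hC, Subgroup.mem_centralizer_singleton_iff]
      have hcomm : x * b = b * x := by rw [hb, ← pow_succ', ← pow_succ]
      calc g * x * g⁻¹ * (g * b * g⁻¹) = g * (x * b) * g⁻¹ := by group
        _ = g * (b * x) * g⁻¹ := by rw [hcomm]
        _ = g * b * g⁻¹ * (g * x * g⁻¹) := by group
    · intro h
      have h1 : g * x * g⁻¹ * (g * x * g⁻¹) = g * (x * x) * g⁻¹ := by group
      rw [h1, conj_eq_one_iff] at h
      have h2 : orderOf x ∣ 2 := orderOf_dvd_of_pow_eq_one (by rw [sq]; exact h)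
      exact hs'2 ((Nat.prime_dvd_prime_iff_eq hs' Nat.prime_two).mp (hs'x.trans h2))

end Quarter

end Cfsg.Agent.Helper9.ReeTor
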