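import Cfsg.Agent.Helper9.ReeTorF
import Cfsg.Agent.Helper6.ReeD2

/-!
Helper9 (for S1158): the fixed-point-free elements of `²G₂(q)` are of two kinds; the number of non-identity
elements of order dividing `q² - q + 1`.
-/

set_option autoImplicit false
set_option maxRecDepth 100000

namespace Cfsg.Agent.Helper9.ReeTor

open Cfsg Cfsg.Lie Cfsg.Agent.Helper18 Cfsg.Agent.Helper18.Ree Cfsg.Agent.Helper6.Ree
  Cfsg.Agent.Helper6.ReeC Cfsg.Agent.Helper6.ReeE Cfsg.Agent.Helper6.ReeD Cfsg.Agent.Helper9.ReeTI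
  Cfsg.Agent.Helper9.ReeStab

variable {K : Type*} [Field K] [Fintype K] [CharP K 3] {m : ℕ}

/-- a prime divisor of `|G|` not dividing `q (q - 1)` divides `q + 1` or `q² - q + 1` -/
theorem prime_dvd_cases (hK : Fintype.card K = 3 ^ (2 * m + 1)) {s : ℕ} (hs : s.Prime)
    (hsG : s ∣ Nat.card ↥(twistedG2 K (3 ^ m))) (hs3 : s ≠ 3) (hsq : ¬ s ∣ 3 ^ (2 * m + 1) - 1) :
    s ∣ 3 ^ (2 * m + 1) + 1 ∨ s ∣ (3 ^ (2 * m + 1)) ^ 2 - 3 ^ (2 * m + 1) + 1 := by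
  obtain ⟨n, hn⟩ : ∃ n, 3 ^ (2 * m + 1) = n + 1 :=
    ⟨3 ^ (2 * m + 1) - 1, (Nat.sub_add_cancel (Nat.one_le_pow _ _ (by norm_num))).symm⟩
  rw [card_ree_succ hK hn] at hsG
  have e1 : (n + 1) ^ 2 - (n + 1) + 1 = (n + 1) * n + 1 := by
    have : (n + 1) ^ 2 = (n + 1) * n + (n + 1) := by ring
    omega
  rw [hn, Nat.add_sub_cancel] at hsq
  rw [hn, e1]
  rcases (Nat.Prime.dvd_mul hs).mp hsG with h | h
  · rcases (Nat.Prime.dvd_mul hs).mp h with h | h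
    · rcases (Nat.Prime.dvd_mul hs).mp h with h | h
      · exfalso
        have h4 := hs.dvd_of_dvd_pow h
        rw [← hn] at h4
        exact hs3 ((Nat.prime_dvd_prime_iff_eq hs Nat.prime_three).mp (hs.dvd_of_dvd_pow h4))
      · exact absurd h hsq
    · exact Or.inl h
  · exact Or.inr h

/-- the elements without fixed points -/
theorem fpf_iff (hm : 1 ≤ m) (hK : Fintype.card K = 3 ^ (2 * m + 1)) (g : ↥(twistedG2 K (3 ^ m))) :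
    (∀ a : ↥(twistedG2 K (3 ^ m)), a⁻¹ * g * a ∉ B1 K m) ↔
      (∃ s' : ℕ, s'.Prime ∧ s' ≠ 2 ∧ s' ≠ 3 ∧ s' ∣ 3 ^ (2 * m + 1) + 1 ∧ s' ∣ orderOf g) ∨
      (g ≠ 1 ∧ orderOf g ∣ (3 ^ (2 * m + 1)) ^ 2 - 3 ^ (2 * m + 1) + 1) := by
  constructor
  · intro hg
    obtain ⟨s, hs, hsg, hs2, hs3, hsq⟩ := exists_prime_of_fpf hm hK g hg
    have hsG : s ∣ Nat.card ↥(twistedG2 K (3 ^ m)) := hsg.trans (orderOf_dvd_natCard g)
    rcases prime_dvd_cases hK hs hsG hs3 hsq with h | h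
    · exact Or.inl ⟨s, hs, hs2, hs3, h, hsg⟩
    · right
      have hg1 : g ≠ 1 := by
        rintro rfl
        rw [orderOf_one] at hsg
        exact hs.one_lt.ne' (Nat.dvd_one.mp hsg)
      refine ⟨hg1, ?_⟩
      set x := g ^ (orderOf g / s) with hx
      have hox : orderOf x = s := orderOf_pow_div_prime g hsg
      have hgx : g ∈ Subgroup.centralizer {x} := by
        rw [Subgroup.mem_centralizer_singleton_iff, hx, ← pow_succ', ← pow_succ]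
      refine dvd_trans ?_ (coxeter_card_dvd hm hK x hs h hox)
      exact Subgroup.orderOf_dvd_natCard _ hgx
  · rintro (⟨s', hs', hs'2, hs'3, hs'q, hs'g⟩ | ⟨hg1, hgP⟩)
    · apply fpf_of_prime hK g hs' hs'g hs'3
      exact (not_dvd_facts hs' hs'2 hs'3 hs'q).2
    · obtain ⟨s, hs, hsg⟩ := Nat.exists_prime_and_dvd (n := orderOf g) (by
        intro h
        exact hg1 (orderOf_eq_one_iff.mp h))
      obtain ⟨-, h3, -, -, hq1, -⟩ := arith_coxeter _ (q_mod_three m) hs (hsg.trans hgP)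
      exact fpf_of_prime hK g hs hsg h3 hq1

/-- the two kinds are disjoint -/
theorem fpf_disjoint (g : ↥(twistedG2 K (3 ^ m)))
    (h1 : ∃ s' : ℕ, s'.Prime ∧ s' ≠ 2 ∧ s' ≠ 3 ∧ s' ∣ 3 ^ (2 * m + 1) + 1 ∧ s' ∣ orderOf g) :
    ¬ (g ≠ 1 ∧ orderOf g ∣ (3 ^ (2 * m + 1)) ^ 2 - 3 ^ (2 * m + 1) + 1) := by
  rintro ⟨-, hgP⟩
  obtain ⟨s', hs', -, -, hs'q, hs'g⟩ := h1
  obtain ⟨-, -, -, -, -, h⟩ := arith_coxeter _ (q_mod_three m) hs' (hs'g.trans hgP)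
  exact h hs'q

/-- an element of prime order `s ∣ (q + 1) / 4` exists -/
theorem exists_quarter_element (hm : 1 ≤ m) (hK : Fintype.card K = 3 ^ (2 * m + 1)) :
    ∃ (s : ℕ) (a : ↥(twistedG2 K (3 ^ m))), s.Prime ∧ s ≠ 2 ∧ s ≠ 3 ∧ s ∣ 3 ^ (2 * m + 1) + 1 ∧ orderOf a = s := by
  have hq27 : 3 ^ 3 ≤ 3 ^ (2 * m + 1) := Nat.pow_le_pow_right (by norm_num) (by omega)
  obtain ⟨hq1, hq2, hq3⟩ := arith_quarter _ (q_mod_eight m) hq27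
  obtain ⟨s, hs, hsd⟩ := Nat.exists_prime_and_dvd (n := (3 ^ (2 * m + 1) + 1) / 4) (by omega)
  obtain ⟨hs2, hs3, hsq⟩ := arith_quarter_prime m hm hs hsd
  haveI : Fact s.Prime := ⟨hs⟩
  obtain ⟨n, hn⟩ : ∃ n, 3 ^ (2 * m + 1) = n + 1 :=
    ⟨3 ^ (2 * m + 1) - 1, (Nat.sub_add_cancel (Nat.one_le_pow _ _ (by norm_num))).symm⟩
  have hsG : s ∣ Nat.card ↥(twistedG2 K (3 ^ m)) := by
    rw [card_ree_succ hK hn]
    rw [hn] at hsq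
    exact Dvd.dvd.mul_right (Dvd.dvd.mul_left hsq _) _
  obtain ⟨a, ha⟩ := exists_prime_orderOf_dvd_card' s hsG
  exact ⟨s, a, hs, hs2, hs3, hsq, ha⟩

/-- the number of non-identity elements of order dividing `q² - q + 1` -/
theorem three_mul_card_coxeter (hm : 1 ≤ m) (hK : Fintype.card K = 3 ^ (2 * m + 1)) :
    3 * Nat.card {g : ↥(twistedG2 K (3 ^ m)) // g ≠ 1 ∧
        orderOf g ∣ (3 ^ (2 * m + 1)) ^ 2 - 3 ^ (2 * m + 1) + 1} =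
      (3 ^ (2 * m + 1)) ^ 4 * (3 ^ (2 * m + 1) - 1) * (3 ^ (2 * m + 1) + 1) * (3 ^ (2 * m + 1) - 2) := by
  obtain ⟨s, a, hs, hs2, hs3, hsq, ha⟩ := exists_quarter_element hm hK
  have hF := two_mul_card_fpf hm hK
  have hA := card_conj_Dset hm hK a hs hs2 hs3 hsq ha
  have hsplit := card_subtype_add_eq
    (fun g : ↥(twistedG2 K (3 ^ m)) => ∃ h : ↥(twistedG2 K (3 ^ m)), h * g * h⁻¹ ∈ Dset a)
    (fun g : ↥(twistedG2 K (3 ^ m)) => g ≠ 1 ∧ orderOf g ∣ (3 ^ (2 * m + 1)) ^ 2 - 3 ^ (2 * m + 1) + 1)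
    (fun g : ↥(twistedG2 K (3 ^ m)) => ∀ b : ↥(twistedG2 K (3 ^ m)), b⁻¹ * g * b ∉ B1 K m)
    (fun g hg => (fpf_iff hm hK g).2 (Or.inl ((conj_Dset_iff hm hK a hs hs2 hs3 hsq ha g).1 hg)))
    (fun g hg => (fpf_iff hm hK g).2 (Or.inr hg))
    (fun g hg => fpf_disjoint g ((conj_Dset_iff hm hK a hs hs2 hs3 hsq ha g).1 hg))
    (fun g hg => ((fpf_iff hm hK g).1 hg).imp (conj_Dset_iff hm hK a hs hs2 hs3 hsq ha g).2 id)
  obtain ⟨n, hn⟩ : ∃ n, 3 ^ (2 * m + 1) = n + 1 :=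
    ⟨3 ^ (2 * m + 1) - 1, (Nat.sub_add_cancel (Nat.one_le_pow _ _ (by norm_num))).symm⟩
  have hn26 : 26 ≤ n := by
    have : 3 ^ 3 ≤ 3 ^ (2 * m + 1) := Nat.pow_le_pow_right (by norm_num) (by omega)
    omega
  rw [card_ree_succ hK hn] at hA
  rw [← hsplit] at hF
  set A := Nat.card {g : ↥(twistedG2 K (3 ^ m)) // ∃ h : ↥(twistedG2 K (3 ^ m)), h * g * h⁻¹ ∈ Dset a} with hAdef
  set B := Nat.card {g : ↥(twistedG2 K (3 ^ m)) // g ≠ 1 ∧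
    orderOf g ∣ (3 ^ (2 * m + 1)) ^ 2 - 3 ^ (2 * m + 1) + 1} with hBdef
  rw [hn] at hF hA ⊢
  obtain ⟨k, rfl⟩ : ∃ k, n = k + 2 := ⟨n - 2, by omega⟩
  have s1 : k + 2 + 1 - 1 = k + 2 := by omega
  have s2 : k + 2 + 1 - 2 = k + 1 := by omega
  have s3 : k + 2 + 1 - 3 = k := by omega
  have s5 : (k + 2 + 1) ^ 3 - 2 * (k + 2 + 1) ^ 2 - 1 = k ^ 3 + 7 * k ^ 2 + 15 * k + 8 := by
    have : (k + 2 + 1) ^ 3 = k ^ 3 + 7 * k ^ 2 + 15 * k + 8 + 2 * (k + 2 + 1) ^ 2 + 1 := by ring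
    omega
  rw [s1, s5] at hF
  rw [s3] at hA
  rw [s1, s2]
  -- `6 (q+1) A = |G| (q - 3)`, `2 (A + B) = ...`
  have h6 : 6 * (k + 2 + 1 + 1) * (3 * B) = 6 * (k + 2 + 1 + 1) *
      ((k + 2 + 1) ^ 4 * (k + 2) * (k + 2 + 1 + 1) * (k + 1)) := by
    have e1 : 6 * (k + 2 + 1 + 1) * (3 * B) + 3 * (A * (6 * (k + 2 + 1 + 1))) =
        9 * (k + 2 + 1 + 1) * (2 * (A + B)) := by ring
    have e2 : 6 * (k + 2 + 1 + 1) * ((k + 2 + 1) ^ 4 * (k + 2) * (k + 2 + 1 + 1) * (k + 1)) +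
        3 * ((k + 2 + 1) ^ 3 * (k + 2) * (k + 2 + 2) * ((k + 2 + 1) * (k + 2) + 1) * k) =
        9 * (k + 2 + 1 + 1) * ((k + 2 + 1) ^ 3 * (k + 2) * (k ^ 3 + 7 * k ^ 2 + 15 * k + 8)) := by ring
    rw [hA, hF, ← e2] at e1
    exact Nat.add_right_cancel e1
  exact Nat.eq_of_mul_eq_mul_left (by positivity) h6

end Cfsg.Agent.Helper9.ReeTor
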