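import Cfsg.Agent.Helper9.ReeTorG
import Cfsg.Agent.Helper6.Tor1

/-!
Helper9 (for S1158): the classes of "Coxeter tori" `C(x)`, `x` of prime order dividing `q² - q + 1`, of `²G₂(q)`:
trivial intersections, the number of elements conjugate into one, classes with a common element coincide,
different classes have coprime orders.
-/

set_option autoImplicit false
set_option maxRecDepth 100000

namespace Cfsg.Agent.Helper9.ReeTor

open Cfsg Cfsg.Lie Cfsg.Agent.Helper18 Cfsg.Agent.Helper18.Ree Cfsg.Agent.Helper6.Ree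
  Cfsg.Agent.Helper6.ReeC Cfsg.Agent.Helper6.ReeE Cfsg.Agent.Helper6.ReeD Cfsg.Agent.Helper9.ReeTI
  Cfsg.Agent.Helper9.ReeStab

/-- a non-identity element conjugate into the subgroup `A` -/
def ConjInto {G : Type*} [Group G] (A : Subgroup G) (x : G) : Prop :=
  x ≠ 1 ∧ ∃ g : G, g * x * g⁻¹ ∈ A

theorem conjInto_of_mem {G : Type*} [Group G] (A : Subgroup G) {x : G} (hx : x ∈ A) (hx1 : x ≠ 1) :
    ConjInto A x := ⟨hx1, 1, by simpa using hx⟩

variable {K : Type*} [Field K] [Fintype K] [CharP K 3] {m : ℕ}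

section Coxeter

variable (hm : 1 ≤ m) (hK : Fintype.card K = 3 ^ (2 * m + 1)) (x : ↥(twistedG2 K (3 ^ m))) {l : ℕ}
  (hl : l.Prime) (hlq : l ∣ (3 ^ (2 * m + 1)) ^ 2 - 3 ^ (2 * m + 1) + 1) (hx : orderOf x = l)

include hm hK hl hlq hx in
/-- conjugating a non-identity element of `C(x)` into `C(x)` conjugates `C(x)` to itself -/
theorem cox_map_eq (g y : ↥(twistedG2 K (3 ^ m))) (hy : y ∈ Subgroup.centralizer {x}) (hy1 : y ≠ 1)
    (hgy : g * y * g⁻¹ ∈ Subgroup.centralizer {x}) :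
    (Subgroup.centralizer {x}).map (MulAut.conj g).toMonoidHom = Subgroup.centralizer {x} := by
  have h1 := coxeter_centralizer_eq hm hK x hl hlq hx y hy hy1
  have h2 := coxeter_centralizer_eq hm hK x hl hlq hx _ hgy (by rwa [Ne, conj_eq_one_iff])
  rw [centralizer_conj, h1] at h2
  exact h2

include hm hK hl hlq hx in
/-- trivial intersection property of `C(x)` -/
theorem cox_TI (g y : ↥(twistedG2 K (3 ^ m))) (hy : y ∈ Subgroup.centralizer {x}) (hy1 : y ≠ 1)
    (hgy : g * y * g⁻¹ ∈ Subgroup.centralizer {x}) :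
    g ∈ Subgroup.normalizer ((Subgroup.centralizer {x} : Subgroup ↥(twistedG2 K (3 ^ m))) :
      Set ↥(twistedG2 K (3 ^ m))) :=
  mem_normalizer_of_map_eq _ g (cox_map_eq hm hK x hl hlq hx g y hy hy1 hgy)

include hm hK hl hlq hx in
/-- the number of elements conjugate into `C(x)` -/
theorem cox_card_conjInto :
    Nat.card {y : ↥(twistedG2 K (3 ^ m)) // ConjInto (Subgroup.centralizer {x}) y} *
        Nat.card ↥(Subgroup.normalizer ((Subgroup.centralizer {x} : Subgroup ↥(twistedG2 K (3 ^ m))) :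
          Set ↥(twistedG2 K (3 ^ m)))) =
      Nat.card ↥(twistedG2 K (3 ^ m)) * (Nat.card ↥(Subgroup.centralizer {x}) - 1) :=
  Cfsg.Agent.Helper6.card_conj_union_mul (Subgroup.centralizer {x})
    (fun g y hy hy1 hgy => cox_TI hm hK x hl hlq hx g y hy hy1 hgy)

include hm hK hl hlq hx in
/-- elements conjugate into `C(x)` have order dividing `q² - q + 1` -/
theorem cox_conjInto_order (y : ↥(twistedG2 K (3 ^ m))) (hy : ConjInto (Subgroup.centralizer {x}) y) :
    y ≠ 1 ∧ orderOf y ∣ (3 ^ (2 * m + 1)) ^ 2 - 3 ^ (2 * m + 1) + 1 := by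
  obtain ⟨hy1, g, hg⟩ := hy
  refine ⟨hy1, ?_⟩
  have h1 : orderOf (g * y * g⁻¹) = orderOf y := by
    have := (MulAut.conj g).orderOf_eq y
    rwa [MulAut.conj_apply] at this
  rw [← h1]
  exact (Subgroup.orderOf_dvd_natCard _ hg).trans (coxeter_card_dvd hm hK x hl hlq hx)

include hx hl in
theorem cox_self_mem : x ∈ Subgroup.centralizer {x} ∧ x ≠ 1 := by
  refine ⟨Subgroup.mem_centralizer_singleton_iff.mpr rfl, ?_⟩
  rintro rfl
  rw [orderOf_one] at hx
  exact hl.one_lt.ne hx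

end Coxeter

/-- `5` does not divide `q² - q + 1` -/
theorem not_five_dvd (m : ℕ) : ¬ 5 ∣ (3 ^ (2 * m + 1)) ^ 2 - 3 ^ (2 * m + 1) + 1 := by
  have h1 : 3 ^ (2 * m + 1) % 5 = 2 ∨ 3 ^ (2 * m + 1) % 5 = 3 := by
    induction m with
    | zero => right; norm_num
    | succ k ih =>
      have e : 3 ^ (2 * (k + 1) + 1) = 9 * 3 ^ (2 * k + 1) := by ring
      rw [e]
      omega
  generalize 3 ^ (2 * m + 1) = q at h1
  have hqq : q ≤ q ^ 2 := by nlinarith [Nat.zero_le q]
  intro h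
  have h2 : (5 : ℤ) ∣ (q : ℤ) ^ 2 - q + 1 := by
    have := Int.natCast_dvd_natCast.mpr h
    rwa [Nat.cast_add, Nat.cast_sub hqq, Nat.cast_pow, Nat.cast_one] at this
  obtain ⟨c, hc⟩ := h2
  obtain ⟨k, hk⟩ : ∃ k : ℤ, (q : ℤ) = 5 * k + 2 ∨ (q : ℤ) = 5 * k + 3 := by
    refine ⟨(q / 5 : ℕ), ?_⟩
    rcases h1 with h | h
    · left; omega
    · right; omega
  rcases hk with hk | hk
  · rw [hk] at hc
    have : (5 : ℤ) * (c - 5 * k ^ 2 - 3 * k) = 3 := by linarith
    omega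
  · rw [hk] at hc
    have : (5 : ℤ) * (c - 5 * k ^ 2 - 5 * k - 1) = 2 := by linarith
    omega

/-- a non-trivial divisor of `q² - q + 1` is at least `7` -/
theorem seven_le_of_dvd (m : ℕ) {a : ℕ} (ha : a ∣ (3 ^ (2 * m + 1)) ^ 2 - 3 ^ (2 * m + 1) + 1) (ha1 : a ≠ 1) :
    7 ≤ a := by
  obtain ⟨p, hp, hpa⟩ := Nat.exists_prime_and_dvd ha1
  obtain ⟨h2, h3, -⟩ := arith_coxeter _ (q_mod_three m) hp (hpa.trans ha)
  have h5 : p ≠ 5 := by
    rintro rfl
    exact not_five_dvd m (hpa.trans ha)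
  have h7 : 7 ≤ p := by
    have h1 := hp.two_le
    by_contra hlt
    have : p = 4 ∨ p = 6 := by omega
    rcases this with rfl | rfl
    · exact absurd hp (by norm_num)
    · exact absurd hp (by norm_num)
  have hpos : 0 < a := by
    rcases Nat.eq_zero_or_pos a with h | h
    · rw [h, zero_dvd_iff] at ha
      have : 0 < (3 ^ (2 * m + 1)) ^ 2 - 3 ^ (2 * m + 1) + 1 := by omega
      omega
    · exact h
  exact h7.trans (Nat.le_of_dvd hpos hpa)

end Cfsg.Agent.Helper9.ReeTor
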