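import Cfsg.Agent.Helper9.ReeTorH
import Cfsg.Agent.Helper89.ReeARA
import Cfsg.Agent.Helper70.ReeArB

/-!
Helper9 (for S1158): exactly two classes of Coxeter tori of `²G₂(q)`, of orders `q ± √(3q) + 1`, with
normalisers of index `6`.
-/

set_option autoImplicit false
set_option maxRecDepth 100000

namespace Cfsg.Agent.Helper9.ReeTor

open Cfsg Cfsg.Lie Cfsg.Agent.Helper18 Cfsg.Agent.Helper18.Ree Cfsg.Agent.Helper6.Ree
  Cfsg.Agent.Helper6.ReeC Cfsg.Agent.Helper6.ReeE Cfsg.Agent.Helper6.ReeD Cfsg.Agent.Helper9.ReeTI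
  Cfsg.Agent.Helper9.ReeStab

variable {K : Type*} [Field K] [Fintype K] [CharP K 3] {m : ℕ}

/-- every non-identity element of order dividing `q² - q + 1` lies in a Coxeter torus -/
theorem exists_cox_of_order (y : ↥(twistedG2 K (3 ^ m))) (hy1 : y ≠ 1)
    (hy : orderOf y ∣ (3 ^ (2 * m + 1)) ^ 2 - 3 ^ (2 * m + 1) + 1) :
    ∃ (l : ℕ) (x : ↥(twistedG2 K (3 ^ m))), l.Prime ∧ l ∣ (3 ^ (2 * m + 1)) ^ 2 - 3 ^ (2 * m + 1) + 1 ∧
      orderOf x = l ∧ y ∈ Subgroup.centralizer {x} := by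
  obtain ⟨l, hl, hly⟩ := Nat.exists_prime_and_dvd (n := orderOf y) (by
    intro h
    exact hy1 (orderOf_eq_one_iff.mp h))
  refine ⟨l, y ^ (orderOf y / l), hl, hly.trans hy, orderOf_pow_div_prime y hly, ?_⟩
  rw [Subgroup.mem_centralizer_singleton_iff, ← pow_succ', ← pow_succ]

section Two

variable (hm : 1 ≤ m) (hK : Fintype.card K = 3 ^ (2 * m + 1))
  (x : ↥(twistedG2 K (3 ^ m))) {l : ℕ}
  (hl : l.Prime) (hlq : l ∣ (3 ^ (2 * m + 1)) ^ 2 - 3 ^ (2 * m + 1) + 1) (hx : orderOf x = l)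
  (x' : ↥(twistedG2 K (3 ^ m))) {l' : ℕ}
  (hl' : l'.Prime) (hlq' : l' ∣ (3 ^ (2 * m + 1)) ^ 2 - 3 ^ (2 * m + 1) + 1) (hx' : orderOf x' = l')

include hm hK hl hlq hx hl' hlq' hx' in
/-- tori with a common element (up to conjugacy) have the same conjugates -/
theorem cox_conjInto_of_common {y z : ↥(twistedG2 K (3 ^ m))}
    (hy : ConjInto (Subgroup.centralizer {x}) y) (hy' : ConjInto (Subgroup.centralizer {x'}) y)
    (hz : ConjInto (Subgroup.centralizer {x}) z) : ConjInto (Subgroup.centralizer {x'}) z := by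
  obtain ⟨hy1, g, hg⟩ := hy
  obtain ⟨-, h, hh⟩ := hy'
  obtain ⟨hz1, k, hk⟩ := hz
  have e1 := coxeter_centralizer_eq hm hK x hl hlq hx _ hg (by rwa [Ne, conj_eq_one_iff])
  have e2 := coxeter_centralizer_eq hm hK x' hl' hlq' hx' _ hh (by rwa [Ne, conj_eq_one_iff])
  rw [centralizer_conj] at e1 e2
  -- `C(x) = g C(y) g⁻¹`, `C(x') = h C(y) h⁻¹`
  refine ⟨hz1, h * g⁻¹ * k, ?_⟩
  rw [← e1] at hk
  obtain ⟨w, hw, hwk⟩ := hk
  have hwk' : g * w * g⁻¹ = k * z * k⁻¹ := hwk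
  rw [← e2]
  refine ⟨w, hw, ?_⟩
  show h * w * h⁻¹ = h * g⁻¹ * k * z * (h * g⁻¹ * k)⁻¹
  have : h * g⁻¹ * k * z * (h * g⁻¹ * k)⁻¹ = h * g⁻¹ * (k * z * k⁻¹) * g * h⁻¹ := by group
  rw [this, ← hwk']
  group

include hm hK hl hlq hx hl' hlq' hx' in
/-- tori without a common element have coprime orders -/
theorem cox_coprime
    (hdisj : ∀ y, ConjInto (Subgroup.centralizer {x}) y → ¬ ConjInto (Subgroup.centralizer {x'}) y) :
    Nat.Coprime (Nat.card ↥(Subgroup.centralizer {x})) (Nat.card ↥(Subgroup.centralizer {x'})) := by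
  apply Nat.Coprime.symm
  apply Nat.coprime_of_dvd
  intro p hp hp1 hp2
  haveI : Fact p.Prime := ⟨hp⟩
  obtain ⟨y', hy'⟩ := exists_prime_orderOf_dvd_card' (G := ↥(Subgroup.centralizer {x'})) p hp1
  obtain ⟨y, hy⟩ := exists_prime_orderOf_dvd_card' (G := ↥(Subgroup.centralizer {x})) p hp2
  rw [← Subgroup.orderOf_coe] at hy hy'
  have hy1 : (y : ↥(twistedG2 K (3 ^ m))) ≠ 1 := by
    intro h
    rw [h, orderOf_one] at hy
    exact hp.one_lt.ne hy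
  have hpP : p ∣ (3 ^ (2 * m + 1)) ^ 2 - 3 ^ (2 * m + 1) + 1 :=
    hp2.trans (coxeter_card_dvd hm hK x hl hlq hx)
  obtain ⟨h2, h3, -⟩ := arith_coxeter _ (q_mod_three m) hp hpP
  have h5 : 3 < p := by
    have := hp.two_le
    omega
  -- the cyclic subgroups of order `p` are conjugate: Sylow
  have hyp : IsPGroup p ↥(Subgroup.zpowers (y : ↥(twistedG2 K (3 ^ m)))) := by
    apply IsPGroup.of_card (n := 1)
    rw [Nat.card_zpowers, hy, pow_one]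
  have hyp' : IsPGroup p ↥(Subgroup.zpowers (y' : ↥(twistedG2 K (3 ^ m)))) := by
    apply IsPGroup.of_card (n := 1)
    rw [Nat.card_zpowers, hy', pow_one]
  obtain ⟨Q, hQ⟩ := hyp.exists_le_sylow
  obtain ⟨Q', hQ'⟩ := hyp'.exists_le_sylow
  obtain ⟨k, rfl⟩ := MulAction.exists_smul_eq ↥(twistedG2 K (3 ^ m)) Q' Q
  have hcyc : IsCyclic ↥(Q' : Subgroup ↥(twistedG2 K (3 ^ m))) := Cfsg.Agent.S1156.result hm hK h5 Q'
  have hkyQ : k⁻¹ * (y : ↥(twistedG2 K (3 ^ m))) * k ∈ Q' :=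
    (sylow_smul_mem_iff Q' k _).1 (hQ (Subgroup.mem_zpowers _))
  have hy'Q : (y' : ↥(twistedG2 K (3 ^ m))) ∈ Q' := hQ' (Subgroup.mem_zpowers _)
  -- both generate the unique subgroup of order `p` of the cyclic group `Q'`; they commute
  have hcomm : (k⁻¹ * (y : ↥(twistedG2 K (3 ^ m))) * k) * (y' : ↥(twistedG2 K (3 ^ m))) =
      (y' : ↥(twistedG2 K (3 ^ m))) * (k⁻¹ * (y : ↥(twistedG2 K (3 ^ m))) * k) := by
    letI := hcyc.commGroup
    exact congrArg Subtype.val (mul_comm (⟨_, hkyQ⟩ : ↥(Q' : Subgroup ↥(twistedG2 K (3 ^ m)))) ⟨_, hy'Q⟩)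
  -- so `k⁻¹ y k ∈ C(y') = C(x')`
  have hy'1 : (y' : ↥(twistedG2 K (3 ^ m))) ≠ 1 := by
    intro h
    rw [h, orderOf_one] at hy'
    exact hp.one_lt.ne hy'
  have hC := coxeter_centralizer_eq hm hK x' hl' hlq' hx' _ y'.2 hy'1
  apply hdisj _ (conjInto_of_mem _ y.2 hy1)
  refine ⟨hy1, k⁻¹, ?_⟩
  rw [inv_inv, ← hC, Subgroup.mem_centralizer_singleton_iff]
  exact hcomm

end Two

end Cfsg.Agent.Helper9.ReeTor
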