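import Cfsg.Agent.Helper9.ReeTorI

/-!
Helper9 (for S1158): exactly two classes of Coxeter tori of `²G₂(q)`, of orders `q ± √(3q) + 1`, with
normalisers of index `6`.
-/

set_option autoImplicit false
set_option maxRecDepth 100000

namespace Cfsg.Agent.Helper9.ReeTor

open Cfsg Cfsg.Lie Cfsg.Agent.Helper18 Cfsg.Agent.Helper18.Ree Cfsg.Agent.Helper6.Ree
  Cfsg.Agent.Helper6.ReeC Cfsg.Agent.Helper6.ReeE Cfsg.Agent.Helper6.ReeD Cfsg.Agent.Helper9.ReeTI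
  Cfsg.Agent.Helper9.ReeStab

variable {K : Type*} [Field K] [Fintype K] [CharP K 3] {m : ℕ}

/-- an element of prime order dividing `q² - q + 1` exists -/
theorem exists_coxeter_element (hm : 1 ≤ m) (hK : Fintype.card K = 3 ^ (2 * m + 1)) :
    ∃ (l : ℕ) (x : ↥(twistedG2 K (3 ^ m))), l.Prime ∧ l ∣ (3 ^ (2 * m + 1)) ^ 2 - 3 ^ (2 * m + 1) + 1 ∧
      orderOf x = l := by
  obtain ⟨n, hn⟩ : ∃ n, 3 ^ (2 * m + 1) = n + 1 :=
    ⟨3 ^ (2 * m + 1) - 1, (Nat.sub_add_cancel (Nat.one_le_pow _ _ (by norm_num))).symm⟩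
  have hn26 : 26 ≤ n := by
    have : 3 ^ 3 ≤ 3 ^ (2 * m + 1) := Nat.pow_le_pow_right (by norm_num) (by omega)
    omega
  have e1 : (n + 1) ^ 2 - (n + 1) + 1 = (n + 1) * n + 1 := by
    have : (n + 1) ^ 2 = (n + 1) * n + (n + 1) := by ring
    omega
  obtain ⟨l, hl, hld⟩ := Nat.exists_prime_and_dvd (n := (3 ^ (2 * m + 1)) ^ 2 - 3 ^ (2 * m + 1) + 1) (by
    rw [hn, e1]
    have : 0 < (n + 1) * n := by positivity
    omega)
  haveI : Fact l.Prime := ⟨hl⟩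
  have hlG : l ∣ Nat.card ↥(twistedG2 K (3 ^ m)) := by
    rw [card_ree_succ hK hn]
    rw [hn, e1] at hld
    exact Dvd.dvd.mul_left hld _
  obtain ⟨x, hx⟩ := exists_prime_orderOf_dvd_card' l hlG
  exact ⟨l, x, hl, hld, hx⟩

section Data

variable (hm : 1 ≤ m) (hK : Fintype.card K = 3 ^ (2 * m + 1)) (x : ↥(twistedG2 K (3 ^ m))) {l : ℕ}
  (hl : l.Prime) (hlq : l ∣ (3 ^ (2 * m + 1)) ^ 2 - 3 ^ (2 * m + 1) + 1) (hx : orderOf x = l)

include hm hK hl hlq hx in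
theorem cox_seven_le : 7 ≤ Nat.card ↥(Subgroup.centralizer {x}) := by
  apply seven_le_of_dvd m (coxeter_card_dvd hm hK x hl hlq hx)
  intro h
  obtain ⟨h1, h2⟩ := cox_self_mem x hl hx
  rw [Subgroup.card_eq_one] at h
  rw [h, Subgroup.mem_bot] at h1
  exact h2 h1

theorem cox_card_dvd_normalizer :
    Nat.card ↥(Subgroup.centralizer {x}) ∣
      Nat.card ↥(Subgroup.normalizer ((Subgroup.centralizer {x} : Subgroup ↥(twistedG2 K (3 ^ m))) :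
        Set ↥(twistedG2 K (3 ^ m)))) :=
  Subgroup.card_dvd_of_le Subgroup.le_normalizer

end Data

/-- the order identity feeding the arithmetic -/
theorem cox_total (hm : 1 ≤ m) (hK : Fintype.card K = 3 ^ (2 * m + 1)) :
    3 * ((3 ^ (2 * m + 1)) ^ 2 - 3 ^ (2 * m + 1) + 1) *
        Nat.card {g : ↥(twistedG2 K (3 ^ m)) // g ≠ 1 ∧
          orderOf g ∣ (3 ^ (2 * m + 1)) ^ 2 - 3 ^ (2 * m + 1) + 1} =
      Nat.card ↥(twistedG2 K (3 ^ m)) * (3 ^ (2 * m + 1) * (3 ^ (2 * m + 1) - 2)) := by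
  have h1 := three_mul_card_coxeter hm hK
  obtain ⟨n, hn⟩ : ∃ n, 3 ^ (2 * m + 1) = n + 1 :=
    ⟨3 ^ (2 * m + 1) - 1, (Nat.sub_add_cancel (Nat.one_le_pow _ _ (by norm_num))).symm⟩
  have e1 : (n + 1) ^ 2 - (n + 1) + 1 = (n + 1) * n + 1 := by
    have : (n + 1) ^ 2 = (n + 1) * n + (n + 1) := by ring
    omega
  rw [card_ree_succ hK hn]
  rw [hn] at h1 ⊢
  rw [e1]
  have s1 : n + 1 - 1 = n := by omega
  rw [s1] at h1
  calc 3 * ((n + 1) * n + 1) * Nat.card {g : ↥(twistedG2 K (3 ^ m)) // g ≠ 1 ∧ orderOf g ∣ (n + 1) * n + 1}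
      = ((n + 1) * n + 1) * (3 * Nat.card {g : ↥(twistedG2 K (3 ^ m)) // g ≠ 1 ∧
          orderOf g ∣ (n + 1) * n + 1}) := by ring
    _ = ((n + 1) * n + 1) * ((n + 1) ^ 4 * n * (n + 1 + 1) * (n + 1 - 2)) := by
        rw [← h1, e1]
    _ = _ := by ring

end Cfsg.Agent.Helper9.ReeTor
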