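import Cfsg.Agent.Helper9.ReeTorJ

/-!
Helper9 (for S1158): exactly two classes of Coxeter tori of `²G₂(q)`, of orders `q ± √(3q) + 1`, with
normalisers of index `6`.
-/

set_option autoImplicit false
set_option maxRecDepth 100000

namespace Cfsg.Agent.Helper9.ReeTor

open Cfsg Cfsg.Lie Cfsg.Agent.Helper18 Cfsg.Agent.Helper18.Ree Cfsg.Agent.Helper6.Ree
  Cfsg.Agent.Helper6.ReeC Cfsg.Agent.Helper6.ReeE Cfsg.Agent.Helper6.ReeD Cfsg.Agent.Helper9.ReeTI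
  Cfsg.Agent.Helper9.ReeStab

variable {K : Type*} [Field K] [Fintype K] [CharP K 3] {m : ℕ}

/-- the two classes of Coxeter tori, unordered -/
theorem ree_tori_unordered (hm : 1 ≤ m) (hK : Fintype.card K = 3 ^ (2 * m + 1)) :
    ∃ (l₁ l₂ : ℕ) (x₁ x₂ : ↥(twistedG2 K (3 ^ m))),
      l₁.Prime ∧ l₁ ∣ (3 ^ (2 * m + 1)) ^ 2 - 3 ^ (2 * m + 1) + 1 ∧ orderOf x₁ = l₁ ∧
      l₂.Prime ∧ l₂ ∣ (3 ^ (2 * m + 1)) ^ 2 - 3 ^ (2 * m + 1) + 1 ∧ orderOf x₂ = l₂ ∧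
      Nat.card ↥(Subgroup.centralizer {x₁}) + Nat.card ↥(Subgroup.centralizer {x₂}) =
        2 * 3 ^ (2 * m + 1) + 2 ∧
      Nat.card ↥(Subgroup.centralizer {x₁}) * Nat.card ↥(Subgroup.centralizer {x₂}) =
        (3 ^ (2 * m + 1)) ^ 2 - 3 ^ (2 * m + 1) + 1 ∧
      Nat.card ↥(Subgroup.normalizer ((Subgroup.centralizer {x₁} : Subgroup ↥(twistedG2 K (3 ^ m))) :
        Set ↥(twistedG2 K (3 ^ m)))) = 6 * Nat.card ↥(Subgroup.centralizer {x₁}) ∧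
      Nat.card ↥(Subgroup.normalizer ((Subgroup.centralizer {x₂} : Subgroup ↥(twistedG2 K (3 ^ m))) :
        Set ↥(twistedG2 K (3 ^ m)))) = 6 * Nat.card ↥(Subgroup.centralizer {x₂}) ∧
      (∀ y : ↥(twistedG2 K (3 ^ m)), y ≠ 1 → orderOf y ∣ (3 ^ (2 * m + 1)) ^ 2 - 3 ^ (2 * m + 1) + 1 →
        ConjInto (Subgroup.centralizer {x₁}) y ∨ ConjInto (Subgroup.centralizer {x₂}) y) ∧
      (∀ y, ConjInto (Subgroup.centralizer {x₁}) y → ¬ ConjInto (Subgroup.centralizer {x₂}) y) := by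
  classical
  have hq27 : 27 ≤ 3 ^ (2 * m + 1) := by
    have : 3 ^ 3 ≤ 3 ^ (2 * m + 1) := Nat.pow_le_pow_right (by norm_num) (by omega)
    omega
  have hq3 : 3 ∣ 3 ^ (2 * m + 1) := dvd_pow_self 3 (by omega)
  have hGd : 0 < Nat.card ↥(twistedG2 K (3 ^ m)) := Nat.card_pos
  have hN := cox_total hm hK
  set IsB : ↥(twistedG2 K (3 ^ m)) → Prop :=
    fun g => g ≠ 1 ∧ orderOf g ∣ (3 ^ (2 * m + 1)) ^ 2 - 3 ^ (2 * m + 1) + 1 with hIsB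
  obtain ⟨l₁, x₁, hl₁, hq₁, hx₁⟩ := exists_coxeter_element hm hK
  have hc₁ := cox_card_conjInto hm hK x₁ hl₁ hq₁ hx₁
  have ha₁ := cox_seven_le hm hK x₁ hl₁ hq₁ hx₁
  have hd₁ := coxeter_card_dvd hm hK x₁ hl₁ hq₁ hx₁
  have hN₁ := coxeter_card_normalizer_dvd hm hK x₁ hl₁ hq₁ hx₁
  have haN₁ := cox_card_dvd_normalizer x₁
  -- a second class
  have hex : ∃ y₂, IsB y₂ ∧ ¬ ConjInto (Subgroup.centralizer {x₁}) y₂ := by
    by_contra hcon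
    push Not at hcon
    have heq : Nat.card {y // ConjInto (Subgroup.centralizer {x₁}) y} = Nat.card {y // IsB y} :=
      Nat.card_congr (Equiv.subtypeEquivRight
        (fun y => ⟨cox_conjInto_order hm hK x₁ hl₁ hq₁ hx₁ y, hcon y⟩))
    rw [heq] at hc₁
    exact Cfsg.Agent.Helper89.ReeARA.ree_arith_one _ _ _ _ _ hq27 hq3 hGd ha₁ hd₁ haN₁ hN₁ hc₁ hN
  obtain ⟨y₂, hy₂f, hy₂n⟩ := hex
  obtain ⟨l₂, x₂, hl₂, hq₂, hx₂, hy₂⟩ := exists_cox_of_order y₂ hy₂f.1 hy₂f.2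
  have hc₂ := cox_card_conjInto hm hK x₂ hl₂ hq₂ hx₂
  have ha₂ := cox_seven_le hm hK x₂ hl₂ hq₂ hx₂
  have hd₂ := coxeter_card_dvd hm hK x₂ hl₂ hq₂ hx₂
  have hN₂ := coxeter_card_normalizer_dvd hm hK x₂ hl₂ hq₂ hx₂
  have haN₂ := cox_card_dvd_normalizer x₂
  have hy₂c : ConjInto (Subgroup.centralizer {x₂}) y₂ := conjInto_of_mem _ hy₂ hy₂f.1
  have hdisj : ∀ z, ConjInto (Subgroup.centralizer {x₁}) z →
      ¬ ConjInto (Subgroup.centralizer {x₂}) z := by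
    intro z hz1 hz2
    exact hy₂n (cox_conjInto_of_common hm hK x₂ hl₂ hq₂ hx₂ x₁ hl₁ hq₁ hx₁ hz2 hz1 hy₂c)
  -- no third class
  have hcover : ∀ y, IsB y →
      ConjInto (Subgroup.centralizer {x₁}) y ∨ ConjInto (Subgroup.centralizer {x₂}) y := by
    intro y₃ hy₃f
    by_contra hcon
    push Not at hcon
    obtain ⟨l₃, x₃, hl₃, hq₃, hx₃, hy₃⟩ := exists_cox_of_order y₃ hy₃f.1 hy₃f.2
    have hc₃ := cox_card_conjInto hm hK x₃ hl₃ hq₃ hx₃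
    have ha₃ := cox_seven_le hm hK x₃ hl₃ hq₃ hx₃
    have hN₃ := coxeter_card_normalizer_dvd hm hK x₃ hl₃ hq₃ hx₃
    have hy₃c : ConjInto (Subgroup.centralizer {x₃}) y₃ := conjInto_of_mem _ hy₃ hy₃f.1
    have hdisj13 : ∀ z, ConjInto (Subgroup.centralizer {x₁}) z →
        ¬ ConjInto (Subgroup.centralizer {x₃}) z := by
      intro z hz1 hz3
      exact hcon.1 (cox_conjInto_of_common hm hK x₃ hl₃ hq₃ hx₃ x₁ hl₁ hq₁ hx₁ hz3 hz1 hy₃c)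
    have hdisj23 : ∀ z, ConjInto (Subgroup.centralizer {x₂}) z →
        ¬ ConjInto (Subgroup.centralizer {x₃}) z := by
      intro z hz2 hz3
      exact hcon.2 (cox_conjInto_of_common hm hK x₃ hl₃ hq₃ hx₃ x₂ hl₂ hq₂ hx₂ hz3 hz2 hy₃c)
    have h12 := card_subtype_add_eq
      (ConjInto (Subgroup.centralizer {x₁}))
      (ConjInto (Subgroup.centralizer {x₂}))
      (fun z => ConjInto (Subgroup.centralizer {x₁}) z ∨ ConjInto (Subgroup.centralizer {x₂}) z)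
      (fun _ h => Or.inl h) (fun _ h => Or.inr h) hdisj (fun _ h => h)
    have hle := card_subtype_add_le
      (fun z => ConjInto (Subgroup.centralizer {x₁}) z ∨ ConjInto (Subgroup.centralizer {x₂}) z)
      (ConjInto (Subgroup.centralizer {x₃})) IsB
      (fun z h => h.elim (cox_conjInto_order hm hK x₁ hl₁ hq₁ hx₁ z)
        (cox_conjInto_order hm hK x₂ hl₂ hq₂ hx₂ z))
      (fun z h => cox_conjInto_order hm hK x₃ hl₃ hq₃ hx₃ z h)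
      (fun z h h3 => h.elim (fun h1 => hdisj13 z h1 h3) (fun h2 => hdisj23 z h2 h3))
    have hpos : ∀ x : ↥(twistedG2 K (3 ^ m)), 0 < Nat.card ↥(Subgroup.normalizer
        ((Subgroup.centralizer {x} : Subgroup ↥(twistedG2 K (3 ^ m))) : Set ↥(twistedG2 K (3 ^ m)))) :=
      fun x => Nat.card_pos
    have f1 := Cfsg.Agent.Helper89.ReeARA.ree_arith_seventh _ _ _ _ ha₁ hN₁ (hpos x₁) hc₁
    have f2 := Cfsg.Agent.Helper89.ReeARA.ree_arith_seventh _ _ _ _ ha₂ hN₂ (hpos x₂) hc₂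
    have f3 := Cfsg.Agent.Helper89.ReeARA.ree_arith_seventh _ _ _ _ ha₃ hN₃ (hpos x₃) hc₃
    apply Cfsg.Agent.Helper89.ReeARA.ree_arith_three (3 ^ (2 * m + 1)) _ _ _ _ (Nat.card {y // IsB y})
      hq27 hGd f1 f2 f3 _ hN
    omega
  have hsum := card_subtype_add_eq
    (ConjInto (Subgroup.centralizer {x₁}))
    (ConjInto (Subgroup.centralizer {x₂})) IsB
    (fun z h => cox_conjInto_order hm hK x₁ hl₁ hq₁ hx₁ z h)
    (fun z h => cox_conjInto_order hm hK x₂ hl₂ hq₂ hx₂ z h) hdisj hcover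
  have hcop := cox_coprime hm hK x₁ hl₁ hq₁ hx₁ x₂ hl₂ hq₂ hx₂ hdisj
  obtain ⟨e1, e2, hsum', hprod⟩ := Cfsg.Agent.Helper70.ReeCount.ree_arith_two (3 ^ (2 * m + 1)) _ _ _ _ _ _ _
    hq27 hq3 hGd ha₁ ha₂ hd₁ hd₂ hcop haN₁ hN₁ haN₂ hN₂ hc₁ hc₂ (by rw [hsum]; exact hN)
  exact ⟨l₁, l₂, x₁, x₂, hl₁, hq₁, hx₁, hl₂, hq₂, hx₂, hsum', hprod, e1, e2,
    fun y hy1 hy => hcover y ⟨hy1, hy⟩, hdisj⟩

end Cfsg.Agent.Helper9.ReeTor
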