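import Cfsg.Agent.Helper9.Wielandt

namespace Cfsg.Agent.Helper9

open Subgroup Pointwise

universe u
variable {G : Type u} [Group G]

theorem conj_smul_eq_self_of_mem_normalizer' {g : G} {H : Subgroup G}
    (hg : g ∈ normalizer (H : Set G)) : MulAut.conj g • H = H :=
  mem_normalizer_iff_map_conj_eq.mp hg

theorem mem_normalizer_of_conj_smul_eq_self' {g : G} {H : Subgroup G}
    (hg : MulAut.conj g • H = H) : g ∈ normalizer (H : Set G) :=
  mem_normalizer_iff_map_conj_eq.mpr hg

/-- A subnormal, non-normal subgroup has a conjugate different from it that normalizes it. -/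
theorem exists_conj_ne_le_normalizer_aux {K : Subgroup G} (hK : K.IsSubnormal) :
    ∀ J : Subgroup G, J ≤ K → (J.subgroupOf K).Normal →
      J.Normal ∨ ∃ g : G, MulAut.conj g • J ≠ J ∧ MulAut.conj g • J ≤ normalizer (J : Set G) := by
  induction hK with
  | top =>
    intro J _ hJ
    left
    rw [Subgroup.normal_subgroupOf_iff_le_normalizer le_top, top_le_iff,
      Subgroup.normalizer_eq_top_iff] at hJ
    exact hJ
  | step K L hKL hL hKnL ih =>
    intro J hJK hJ
    by_cases hJL : (J.subgroupOf L).Normal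
    · exact ih J (le_trans hJK hKL) hJL
    · right
      rw [Subgroup.normal_subgroupOf_iff_le_normalizer (le_trans hJK hKL)] at hJL
      obtain ⟨g, hgL, hgN⟩ := SetLike.not_le_iff_exists.mp hJL
      refine ⟨g, fun h => hgN (mem_normalizer_of_conj_smul_eq_self' h), ?_⟩
      have h1 : MulAut.conj g • J ≤ MulAut.conj g • K :=
        Subgroup.pointwise_smul_le_pointwise_smul_iff.mpr hJK
      have h2 : MulAut.conj g • K = K :=
        conj_smul_eq_self_of_mem_normalizer'
          ((Subgroup.normal_subgroupOf_iff_le_normalizer hKL).mp hKnL hgL)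
      rw [h2] at h1
      exact le_trans h1 ((Subgroup.normal_subgroupOf_iff_le_normalizer hJK).mp hJ)

theorem exists_conj_ne_le_normalizer {J : Subgroup G} (hJ : J.IsSubnormal) :
    J.Normal ∨ ∃ g : G, MulAut.conj g • J ≠ J ∧ MulAut.conj g • J ≤ normalizer (J : Set G) := by
  apply exists_conj_ne_le_normalizer_aux hJ J le_rfl
  rw [Subgroup.subgroupOf_self]
  infer_instance

theorem exists_mem_not_mem_le_normalizer_sSup [Finite G] (S S₀ : Set (Subgroup G))
    (hS : ∀ U ∈ S, U.IsSubnormal) (hconj : ∀ U ∈ S, ∀ g : G, MulAut.conj g • U ∈ S)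
    (h₀ : S₀ ⊂ S) :
    ∃ X ∈ S, X ∉ S₀ ∧ X ≤ Subgroup.normalizer ((sSup S₀ : Subgroup G) : Set G) := by
  set J : Subgroup G := sSup S₀ with hJ
  have hJsub : J.IsSubnormal := isSubnormal_sSup S₀ fun U hU => hS U (h₀.subset hU)
  obtain ⟨X₀, hX₀S, hX₀⟩ := Set.exists_of_ssubset h₀
  by_cases hA : ∃ X ∈ S, X ∉ S₀ ∧ X ≤ J
  · obtain ⟨X, hXS, hX, hXJ⟩ := hA
    exact ⟨X, hXS, hX, le_trans hXJ Subgroup.le_normalizer⟩
  · push Not at hA
    rcases exists_conj_ne_le_normalizer hJsub with hn | ⟨g, hgne, hgle⟩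
    · refine ⟨X₀, hX₀S, hX₀, ?_⟩
      rw [Subgroup.normalizer_eq_top_iff.mpr hn]
      exact le_top
    · have hnle : ¬ (MulAut.conj g • J ≤ J) := by
        intro hle
        apply hgne
        apply Subgroup.eq_of_le_of_card_ge hle
        exact le_of_eq (Nat.card_congr (Subgroup.equivSMul (MulAut.conj g) J).toEquiv)
      have : ∃ U ∈ S₀, ¬ (MulAut.conj g • U ≤ J) := by
        by_contra hall
        push Not at hall
        apply hnle
        rw [Subgroup.pointwise_smul_subset_iff]
        apply sSup_le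
        intro U hU
        rw [← Subgroup.pointwise_smul_subset_iff]
        exact hall U hU
      obtain ⟨U, hU, hUJ⟩ := this
      refine ⟨MulAut.conj g • U, hconj U (h₀.subset hU) g, ?_, ?_⟩
      · intro hmem
        exact hUJ (le_sSup hmem)
      · refine le_trans ?_ hgle
        exact Subgroup.pointwise_smul_le_pointwise_smul_iff.mpr (le_sSup hU)

end Cfsg.Agent.Helper9
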