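import Cfsg.Agent.Helper9.Supersolvable2

namespace Cfsg.Agent.Helper9

open Subgroup

universe u v
variable {G : Type u} [Group G]

/-- In a group of order `q * p` with primes `q < p`, embedded as a normal subgroup `M` of `G`,
there is a subgroup of order `p` that is normal in `G`. -/
theorem exists_normal_card_eq_of_card_eq_mul [Finite G] (M : Subgroup G) [M.Normal] (p q : ℕ)
    (hp : p.Prime) (hq : q.Prime) (hqp : q < p) (hM : Nat.card M = q * p) :
    ∃ N : Subgroup G, N.Normal ∧ Nat.card N = p := by
  have : Fact p.Prime := ⟨hp⟩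
  let P : Sylow p M := default
  have hPcard : Nat.card P = p := by
    rw [Sylow.card_eq_multiplicity, hM, Nat.factorization_mul hq.ne_zero hp.ne_zero]
    simp only [Finsupp.coe_add, Pi.add_apply]
    rw [hp.factorization_self, Nat.factorization_eq_zero_of_not_dvd, zero_add, pow_one]
    intro h
    have := (Nat.prime_dvd_prime_iff_eq hp hq).mp h
    omega
  have hPidx : (P : Subgroup M).index = q := by
    have := Subgroup.card_mul_index (P : Subgroup M)
    rw [hPcard, hM, mul_comm] at this
    exact Nat.eq_of_mul_eq_mul_right hp.pos this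
  have h1 : Nat.card (Sylow p M) ∣ q := by
    rw [← hPidx]; exact P.card_dvd_index
  have h2 : Nat.card (Sylow p M) ≡ 1 [MOD p] := card_sylow_modEq_one p M
  have h3 : Nat.card (Sylow p M) = 1 := by
    have hle : Nat.card (Sylow p M) ≤ q := Nat.le_of_dvd hq.pos h1
    have hlt : Nat.card (Sylow p M) < p := lt_of_le_of_lt hle hqp
    have := h2
    unfold Nat.ModEq at this
    rw [Nat.mod_eq_of_lt hlt, Nat.mod_eq_of_lt hp.one_lt] at this
    exact this
  have : Subsingleton (Sylow p M) := (Nat.card_eq_one_iff_unique.mp h3).1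
  have : (P : Subgroup M).Normal := Sylow.normal_of_subsingleton P
  have : (P : Subgroup M).Characteristic := Sylow.characteristic_of_normal P inferInstance
  refine ⟨(P : Subgroup M).map M.subtype, inferInstance, ?_⟩
  refine Eq.trans ?_ hPcard
  exact Nat.card_congr
    (Subgroup.equivMapOfInjective (P : Subgroup M) M.subtype M.subtype_injective).symm.toEquiv

theorem exists_normal_card_eq_largest_prime [Finite G] (hG : Cfsg.IsSupersolvable G) :
    ∀ p : ℕ, p.Prime → p ∣ Nat.card G → (∀ q : ℕ, q.Prime → q ∣ Nat.card G → q ≤ p) →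
      ∃ N : Subgroup G, N.Normal ∧ Nat.card N = p := by
  refine supersolvable_induction
    (P := fun G _ => ∀ p : ℕ, p.Prime → p ∣ Nat.card G →
      (∀ q : ℕ, q.Prime → q ∣ Nat.card G → q ≤ p) →
      ∃ N : Subgroup G, N.Normal ∧ Nat.card N = p) ?_ ?_ G hG
  · intro G _ _ p hp hpd _
    rw [Nat.card_unique, Nat.dvd_one] at hpd
    exact absurd (hpd ▸ hp) Nat.not_prime_one
  · intro G _ _ _ N _ hq hG hQ ih p hp hpd hmax
    have hcard : Nat.card G = Nat.card (G ⧸ N) * Nat.card N :=
      Subgroup.card_eq_card_quotient_mul_card_subgroup N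
    have hlt := card_quotient_lt_of_prime N hq
    set q := Nat.card N with hqdef
    by_cases hqp : q = p
    · exact ⟨N, inferInstance, hqp⟩
    · have hqle : q ≤ p := hmax q hq (by rw [hcard]; exact dvd_mul_left _ _)
      have hqlt : q < p := lt_of_le_of_ne hqle hqp
      have hpQ : p ∣ Nat.card (G ⧸ N) := by
        rw [hcard] at hpd
        rcases (Nat.Prime.dvd_mul hp).mp hpd with h | h
        · exact h
        · exact absurd ((Nat.prime_dvd_prime_iff_eq hp hq).mp h).symm hqp
      have hmaxQ : ∀ r : ℕ, r.Prime → r ∣ Nat.card (G ⧸ N) → r ≤ p := by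
        intro r hr hrd
        exact hmax r hr (by rw [hcard]; exact dvd_mul_of_dvd_left hrd _)
      obtain ⟨M', hM'n, hM'c⟩ := ih (G ⧸ N) hQ hlt p hp hpQ hmaxQ
      have : (M'.comap (QuotientGroup.mk' N)).Normal := hM'n.comap _
      exact exists_normal_card_eq_of_card_eq_mul (M'.comap (QuotientGroup.mk' N)) p q hp hq hqlt
        (by rw [card_comap_mk', hM'c])

end Cfsg.Agent.Helper9
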