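import Cfsg.Agent.Helper9.ComplementSystem

namespace Cfsg.Agent.Helper9

open Subgroup Pointwise

universe u v
variable {G : Type u} [Group G]

/-- No prime `r` divides the order of the `r`-th member of a complement system. -/
theorem cs_not_dvd_card [Finite G] {K : Nat.Primes → Subgroup G}
    (hK : Cfsg.IsComplementSystem K) (r : Nat.Primes) : ¬ (r : ℕ) ∣ Nat.card (K r) := by
  intro hdvd
  by_cases hr : (r : ℕ) ∣ Nat.card G
  · have hcop := cs_coprime hK r
    have he : (Nat.card G).factorization r ≠ 0 := by
      have := (r.2.dvd_iff_one_le_factorization Nat.card_pos.ne').mp hr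
      omega
    have h1 : (r : ℕ) ∣ (r : ℕ) ^ (Nat.card G).factorization r := dvd_pow_self _ he
    have := Nat.eq_one_of_dvd_coprimes hcop hdvd h1
    exact r.2.ne_one this
  · exact hr (dvd_trans hdvd (Subgroup.card_subgroup_dvd_card _))

/-- `D ∩ K_q` has `q`-power index in `D` whenever `D` normalizes `K_q`. -/
theorem cs_relIndex_dvd [Finite G] {K : Nat.Primes → Subgroup G}
    (hK : Cfsg.IsComplementSystem K) (q : Nat.Primes) (D : Subgroup G)
    (hD : D ≤ normalizer (K q : Set G)) :
    (K q).relIndex D ∣ (q : ℕ) ^ (Nat.card G).factorization q := by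
  set N := normalizer (K q : Set G) with hN
  have : ((K q).subgroupOf N).Normal := Subgroup.normal_in_normalizer
  have h1 : ((K q).subgroupOf N).relIndex (D.subgroupOf N) ∣ ((K q).subgroupOf N).index :=
    Subgroup.relIndex_dvd_index_of_normal _ _
  rw [Subgroup.relIndex_subgroupOf hD] at h1
  have h2 : ((K q).subgroupOf N).index ∣ (K q).index :=
    Subgroup.relIndex_dvd_index_of_le Subgroup.le_normalizer
  rw [hK q] at h2
  exact dvd_trans h1 h2

theorem systemNormalizer_le_normalizer (K : Nat.Primes → Subgroup G) (q : Nat.Primes) :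
    Cfsg.systemNormalizer K ≤ normalizer (K q : Set G) :=
  iInf_le _ q

theorem systemNormalizer_isNilpotent [Finite G] {K : Nat.Primes → Subgroup G}
    (hK : Cfsg.IsComplementSystem K) : Group.IsNilpotent (Cfsg.systemNormalizer K) := by
  set D := Cfsg.systemNormalizer K with hD
  have htfae := Group.isNilpotent_of_finite_tfae (G := D)
  apply (htfae.out 0 3).mpr
  intro p hp P
  -- the normal `q`-complements of `D`
  let M : Nat.Primes → Subgroup D := fun q => (K q).subgroupOf D
  have hMn : ∀ q, (M q).Normal := by
    intro q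
    constructor
    intro x hx d
    have hd : (d : G) ∈ normalizer (K q : Set G) := systemNormalizer_le_normalizer K q d.2
    have hx' : (x : G) ∈ K q := hx
    show ((d * x * d⁻¹ : D) : G) ∈ K q
    simp only [Subgroup.coe_mul, Subgroup.coe_inv]
    exact (Subgroup.mem_normalizer_iff.mp hd (x : G)).mp hx'
  have hMidx : ∀ q : Nat.Primes, (M q).index ∣ (q : ℕ) ^ (Nat.card G).factorization q := by
    intro q
    exact cs_relIndex_dvd hK q D (systemNormalizer_le_normalizer K q)
  have hMcard : ∀ q : Nat.Primes, ¬ (q : ℕ) ∣ Nat.card (M q) := by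
    intro q hq
    apply cs_not_dvd_card hK q
    have h1 : Nat.card (M q) = Nat.card ((K q ⊓ D : Subgroup G)) := by
      have := Subgroup.subgroupOf_map_subtype (K q) D
      rw [← this]
      exact Nat.card_congr
        (Subgroup.equivMapOfInjective (M q) D.subtype D.subtype_injective).toEquiv
    rw [h1] at hq
    exact dvd_trans hq (Subgroup.card_dvd_of_le inf_le_left)
  let pp : Nat.Primes := ⟨p, hp.out⟩
  let T : Subgroup D := ⨅ (q : Nat.Primes) (_ : q ≠ pp), M q
  have hTn : T.Normal := by
    apply Subgroup.normal_iInf_normal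
    intro q
    apply Subgroup.normal_iInf_normal
    intro _
    exact hMn q
  have hPT : (P : Subgroup D) ≤ T := by
    apply le_iInf
    intro q
    apply le_iInf
    intro hq
    have := hMn q
    have h1 : (M q).relIndex (P : Subgroup D) ∣ (M q).index :=
      Subgroup.relIndex_dvd_index_of_normal _ _
    have h2 : (M q).relIndex (P : Subgroup D) ∣ Nat.card (P : Subgroup D) :=
      Subgroup.relIndex_dvd_card _ _
    obtain ⟨k, hk⟩ := IsPGroup.iff_card.mp P.isPGroup'
    rw [hk] at h2
    have hcop : Nat.Coprime ((q : ℕ) ^ (Nat.card G).factorization q) (p ^ k) := by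
      apply Nat.Coprime.pow
      rw [Nat.coprime_primes q.2 hp.out]
      intro h
      exact hq (Subtype.ext h)
    have h3 : (M q).relIndex (P : Subgroup D) = 1 :=
      Nat.eq_one_of_dvd_coprimes hcop (dvd_trans h1 (hMidx q)) h2
    exact Subgroup.relIndex_eq_one.mp h3
  have hTp : IsPGroup p T := by
    rw [IsPGroup.iff_card]
    refine ⟨(Nat.card T).primeFactorsList.length, ?_⟩
    apply Nat.eq_prime_pow_of_unique_prime_dvd Nat.card_pos.ne'
    intro r hr hrd
    by_contra hne
    let rr : Nat.Primes := ⟨r, hr⟩
    have hrr : rr ≠ pp := by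
      intro h
      exact hne (congrArg (fun z : Nat.Primes => (z : ℕ)) h)
    have hle : T ≤ M rr := iInf₂_le rr hrr
    exact hMcard rr (dvd_trans hrd (Subgroup.card_dvd_of_le hle))
  have := P.is_maximal' hTp hPT
  rw [← this]
  exact hTn

end Cfsg.Agent.Helper9
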