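import Cfsg.Agent.Helper9.SystemNormalizer
import Cfsg.Agent.Helper9.SubnormalSylow

namespace Cfsg.Agent.Helper9

open Subgroup Pointwise

universe u v
variable {G : Type u} [Group G]

/-- Indices of intersections over a finite set of primes of subgroups of prime-power index. -/
theorem prime_dvd_index_iInf_of_prime_power_index [Finite G] (H : Nat.Primes → Subgroup G)
    (hH : ∀ (p : Nat.Primes) (r : ℕ), r.Prime → r ∣ (H p).index → r = p)
    (I : Finset Nat.Primes) :
    ∀ r : ℕ, r.Prime → r ∣ (⨅ p ∈ I, H p).index → ∃ p ∈ I, r = (p : ℕ) := by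
  classical
  induction I using Finset.induction_on with
  | empty =>
    intro r hr hrd
    simp only [Finset.notMem_empty, iInf_false, iInf_top, Subgroup.index_top, Nat.dvd_one] at hrd
    exact absurd hrd hr.ne_one
  | insert q I hq ih =>
    intro r hr hrd
    rw [Finset.iInf_insert] at hrd
    have hcop : Nat.Coprime (H q).index (⨅ p ∈ I, H p).index := by
      apply Nat.coprime_of_dvd
      intro k hk hk1 hk2
      have h1 := hH q k hk hk1
      obtain ⟨p, hpI, hp⟩ := ih k hk hk2
      have : q = p := Subtype.ext (h1.symm.trans hp)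
      exact hq (this ▸ hpI)
    rw [index_inf_of_coprime_index _ _ hcop] at hrd
    rcases (Nat.Prime.dvd_mul hr).mp hrd with h | h
    · exact ⟨q, Finset.mem_insert_self q I, hH q r hr h⟩
    · obtain ⟨p, hpI, hp⟩ := ih r hr h
      exact ⟨p, Finset.mem_insert_of_mem hpI, hp⟩

theorem cs_prime_dvd_index [Finite G] {K : Nat.Primes → Subgroup G}
    (hK : Cfsg.IsComplementSystem K) (p : Nat.Primes) (r : ℕ) (hr : r.Prime)
    (hrd : r ∣ (K p).index) : r = p := by
  rw [hK p] at hrd
  exact (Nat.prime_dvd_prime_iff_eq hr p.2).mp (hr.dvd_of_dvd_pow hrd)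

theorem map_subtype_conj_smul (H : Subgroup G) (h : H) (A : Subgroup H) :
    (MulAut.conj h • A).map H.subtype = MulAut.conj (h : G) • A.map H.subtype := by
  ext x
  constructor
  · rintro ⟨y, ⟨z, hz, rfl⟩, rfl⟩
    refine ⟨(z : G), ⟨z, hz, rfl⟩, ?_⟩
    simp [MulAut.conj_apply]
  · rintro ⟨y, ⟨z, hz, rfl⟩, rfl⟩
    refine ⟨MulAut.conj h z, ⟨z, hz, rfl⟩, ?_⟩
    simp [MulAut.conj_apply]

/-- Hall conjugacy inside a subgroup. -/
theorem hall_conj_in_subgroup [Finite G] [Group.IsSolvable G] (H A B : Subgroup G) (hA : A ≤ H)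
    (hB : B ≤ H) (m n : ℕ) (hH : Nat.card H = m * n) (hmn : m.Coprime n)
    (hAm : Nat.card A = m) (hBm : Nat.card B = m) : ∃ h ∈ H, MulAut.conj h • A = B := by
  have hA' : Nat.card (A.subgroupOf H) = m := by
    rw [← hAm]; exact Nat.card_congr (Subgroup.subgroupOfEquivOfLe hA).toEquiv
  have hB' : Nat.card (B.subgroupOf H) = m := by
    rw [← hBm]; exact Nat.card_congr (Subgroup.subgroupOfEquivOfLe hB).toEquiv
  obtain ⟨h, hh⟩ := Cfsg.Agent.Lib.hall_conj m n hH hmn (A.subgroupOf H) (B.subgroupOf H) hA' hB'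
  refine ⟨h, h.2, ?_⟩
  have := congrArg (Subgroup.map H.subtype) hh
  rwa [map_subtype_conj_smul, Subgroup.map_subgroupOf_eq_of_le hA,
    Subgroup.map_subgroupOf_eq_of_le hB] at this


theorem card_conj_smul_eq (g : G) (H : Subgroup G) :
    Nat.card (MulAut.conj g • H : Subgroup G) = Nat.card H :=
  (Nat.card_congr (Subgroup.equivSMul (MulAut.conj g) H).toEquiv).symm

theorem conj_smul_sup_eq_of_mem {H : Subgroup G} {n : G} (hn : n ∈ H) :
    MulAut.conj n • H = H :=
  conj_smul_eq_self_of_mem_normalizer (Subgroup.le_normalizer hn)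

/-- Key lifting lemma for system normalizers of quotients. -/
theorem cs_exists_mul_mem_normalizers [Finite G] [Group.IsSolvable G]
    {K : Nat.Primes → Subgroup G} (hK : Cfsg.IsComplementSystem K) (N : Subgroup G) [N.Normal]
    (I : Finset Nat.Primes) :
    ∀ x : G, (∀ p, MulAut.conj x • K p ≤ K p ⊔ N) →
      ∃ n ∈ N, ∀ p ∈ I, MulAut.conj (n * x) • K p = K p := by
  classical
  induction I using Finset.induction_on with
  | empty => exact fun x _ => ⟨1, N.one_mem, fun p hp => absurd hp (Finset.notMem_empty p)⟩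
  | insert q I hq ih =>
    intro x hx
    obtain ⟨n₁, hn₁N, hn₁⟩ := ih x hx
    set x₁ := n₁ * x with hx₁
    -- `K q` and its conjugate are Hall subgroups of `H = K q ⊔ N`
    set H := K q ⊔ N with hH
    have hx₁q : MulAut.conj x₁ • K q ≤ H := by
      rw [hx₁, map_mul, mul_smul]
      have h1 : MulAut.conj n₁ • MulAut.conj x • K q ≤ MulAut.conj n₁ • H :=
        Subgroup.pointwise_smul_le_pointwise_smul_iff.mpr (hx q)
      rwa [conj_smul_sup_eq_of_mem ((le_sup_right : N ≤ H) hn₁N)] at h1
    have hcardH : Nat.card H = Nat.card (K q) * (K q).relIndex H := by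
      have := Subgroup.relIndex_mul_relIndex ⊥ (K q) H bot_le le_sup_left
      rw [Subgroup.relIndex_bot_left, Subgroup.relIndex_bot_left] at this
      exact this.symm
    have hrel : (K q).relIndex H ∣ (q : ℕ) ^ (Nat.card G).factorization q := by
      rw [← hK q]; exact Subgroup.relIndex_dvd_index_of_le le_sup_left
    have hcopH : Nat.Coprime (Nat.card (K q)) ((K q).relIndex H) :=
      Nat.Coprime.coprime_dvd_right hrel (cs_coprime hK q)
    obtain ⟨h, hhH, hh⟩ := hall_conj_in_subgroup H (K q) (MulAut.conj x₁ • K q) le_sup_left hx₁q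
      _ _ hcardH hcopH rfl (card_conj_smul_eq x₁ (K q))
    -- write `h = m * k`
    have hhH' : h ∈ N ⊔ K q := by rw [sup_comm]; exact hhH
    rw [Subgroup.mem_sup_of_normal_left] at hhH'
    obtain ⟨m, hmN, k, hkK, rfl⟩ := hhH'
    have hm : MulAut.conj m • K q = MulAut.conj x₁ • K q := by
      rw [← hh, map_mul, mul_smul, conj_smul_sup_eq_of_mem hkK]
    -- factor `m` inside `N`
    set NI : Subgroup G := ⨅ p ∈ I, normalizer (K p : Set G) with hNI
    set Nq : Subgroup G := normalizer (K q : Set G) with hNq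
    have hcop : Nat.Coprime (NI.subgroupOf N).index (Nq.subgroupOf N).index := by
      apply Nat.coprime_of_dvd
      intro r hr hr1 hr2
      have h2 : r = q := by
        apply cs_prime_dvd_index hK q r hr
        have a1 : Nq.relIndex N ∣ (K q).relIndex N :=
          Subgroup.relIndex_dvd_of_le_left N Subgroup.le_normalizer
        have a2 : (K q).relIndex N ∣ (K q).index := relIndex_dvd_index_of_normal_right _ _
        exact dvd_trans hr2 (dvd_trans a1 a2)
      have h1 : ∃ p ∈ I, r = (p : ℕ) := by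
        apply prime_dvd_index_iInf_of_prime_power_index K (cs_prime_dvd_index hK) I r hr
        have hle : (⨅ p ∈ I, K p) ≤ NI := by
          apply iInf₂_mono
          intro p _
          exact Subgroup.le_normalizer
        have a1 : NI.relIndex N ∣ (⨅ p ∈ I, K p).relIndex N :=
          Subgroup.relIndex_dvd_of_le_left N hle
        have a2 : (⨅ p ∈ I, K p).relIndex N ∣ (⨅ p ∈ I, K p).index :=
          relIndex_dvd_index_of_normal_right _ _
        exact dvd_trans hr1 (dvd_trans a1 a2)
      obtain ⟨p, hpI, hp⟩ := h1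
      have : q = p := Subtype.ext (h2.symm.trans hp)
      exact hq (this ▸ hpI)
    obtain ⟨a, ha, b, hb, hab⟩ := exists_mul_of_coprime_index _ _ hcop (⟨m, hmN⟩ : N)
    have haNI : (a : G) ∈ NI := ha
    have hbNq : (b : G) ∈ Nq := hb
    have hmab : m = (a : G) * (b : G) := by
      have := congrArg Subtype.val hab
      simpa using this
    refine ⟨(a : G)⁻¹ * n₁, N.mul_mem (N.inv_mem a.2) hn₁N, ?_⟩
    intro p hp
    have hassoc : (a : G)⁻¹ * n₁ * x = (a : G)⁻¹ * x₁ := by rw [hx₁, mul_assoc]
    rw [hassoc, map_mul, mul_smul]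
    rcases Finset.mem_insert.mp hp with rfl | hpI
    · rw [← hm, hmab, map_mul, mul_smul, conj_smul_eq_self_of_mem_normalizer hbNq, map_inv,
        inv_smul_smul]
    · rw [hn₁ p hpI]
      have : (a : G)⁻¹ ∈ normalizer (K p : Set G) := by
        apply Subgroup.inv_mem
        have h1 := haNI
        rw [hNI, Subgroup.mem_iInf] at h1
        have h2 := h1 p
        rw [Subgroup.mem_iInf] at h2
        exact h2 hpI
      exact conj_smul_eq_self_of_mem_normalizer this

end Cfsg.Agent.Helper9

namespace Cfsg.Agent.Helper9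

open Subgroup Pointwise

universe u
variable {G : Type u} [Group G]

theorem exists_finset_primes (n : ℕ) (hn : n ≠ 0) :
    ∃ I : Finset Nat.Primes, ∀ p : Nat.Primes, (p : ℕ) ∣ n → p ∈ I := by
  classical
  refine ⟨n.primeFactors.attach.map
      ⟨fun x => ⟨x.1, Nat.prime_of_mem_primeFactors x.2⟩, fun a b h => by
        apply Subtype.ext
        exact congrArg (fun z : Nat.Primes => (z : ℕ)) h⟩, ?_⟩
  intro p hp
  rw [Finset.mem_map]
  exact ⟨⟨p, Nat.mem_primeFactors.mpr ⟨p.2, hp, hn⟩⟩, Finset.mem_attach _ _, rfl⟩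

theorem map_conj_smul {Q : Type*} [Group Q] (f : G →* Q) (x : G) (H : Subgroup G) :
    (MulAut.conj x • H).map f = MulAut.conj (f x) • H.map f := by
  ext y
  constructor
  · rintro ⟨_, ⟨z, hz, rfl⟩, rfl⟩
    exact ⟨f z, ⟨z, hz, rfl⟩, by simp [MulAut.conj_apply]⟩
  · rintro ⟨_, ⟨z, hz, rfl⟩, rfl⟩
    exact ⟨MulAut.conj x z, ⟨z, hz, rfl⟩, by simp [MulAut.conj_apply]⟩

theorem cs_map_mk' [Finite G] {K : Nat.Primes → Subgroup G} (hK : Cfsg.IsComplementSystem K)
    (N : Subgroup G) [N.Normal] :
    Cfsg.IsComplementSystem (fun p => (K p).map (QuotientGroup.mk' N)) := by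
  intro p
  have hsurj := QuotientGroup.mk'_surjective N
  have h1 : ((K p).map (QuotientGroup.mk' N)).index ∣ (K p).index :=
    Subgroup.index_map_dvd (K p) hsurj
  rw [hK p] at h1
  obtain ⟨a, -, ha⟩ := (Nat.dvd_prime_pow p.2).mp h1
  have h2 := Subgroup.card_mul_index ((K p).map (QuotientGroup.mk' N))
  have h3 : ¬ (p : ℕ) ∣ Nat.card ((K p).map (QuotientGroup.mk' N)) := by
    intro h
    exact cs_not_dvd_card hK p (dvd_trans h (Subgroup.card_map_dvd _ _))
  show ((K p).map (QuotientGroup.mk' N)).index = _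
  rw [← h2, ha, Nat.factorization_mul Nat.card_pos.ne' (pow_ne_zero _ p.2.ne_zero)]
  simp only [Finsupp.coe_add, Pi.add_apply]
  rw [Nat.factorization_eq_zero_of_not_dvd h3, zero_add, Nat.Prime.factorization_pow p.2]
  simp

theorem systemNormalizer_map_mk' [Finite G] [Group.IsSolvable G] {K : Nat.Primes → Subgroup G}
    (hK : Cfsg.IsComplementSystem K) (N : Subgroup G) [N.Normal] :
    Cfsg.systemNormalizer (fun p => (K p).map (QuotientGroup.mk' N)) =
      (Cfsg.systemNormalizer K).map (QuotientGroup.mk' N) := by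
  apply le_antisymm
  · intro y hy
    obtain ⟨x, rfl⟩ := QuotientGroup.mk'_surjective N y
    have hx : ∀ p, MulAut.conj x • K p ≤ K p ⊔ N := by
      intro p
      have h1 : (QuotientGroup.mk' N) x ∈ normalizer (((K p).map (QuotientGroup.mk' N) :
          Subgroup (G ⧸ N)) : Set (G ⧸ N)) := by
        have := hy
        unfold Cfsg.systemNormalizer at this
        rw [Subgroup.mem_iInf] at this
        exact this p
      have h2 := conj_smul_eq_self_of_mem_normalizer h1
      rw [← map_conj_smul] at h2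
      have h3 := congrArg (Subgroup.comap (QuotientGroup.mk' N)) h2
      rw [Subgroup.comap_map_eq, Subgroup.comap_map_eq, QuotientGroup.ker_mk'] at h3
      rw [← h3]
      exact le_sup_left
    obtain ⟨I, hI⟩ := exists_finset_primes (Nat.card G) Nat.card_pos.ne'
    obtain ⟨n, hnN, hn⟩ := cs_exists_mul_mem_normalizers hK N I x hx
    refine ⟨n * x, ?_, ?_⟩
    · unfold Cfsg.systemNormalizer
      rw [SetLike.mem_coe, Subgroup.mem_iInf]
      intro p
      by_cases hp : (p : ℕ) ∣ Nat.card G
      · exact mem_normalizer_of_conj_smul_eq_self (hn p (hI p hp))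
      · rw [cs_eq_top_of_not_dvd hK p hp]
        exact Subgroup.le_normalizer_of_normal (H := (⊤ : Subgroup G)) (Subgroup.mem_top _)
    · rw [map_mul]
      have : (QuotientGroup.mk' N) n = 1 := by
        rw [QuotientGroup.mk'_apply, QuotientGroup.eq_one_iff]; exact hnN
      rw [this, one_mul]
  · rintro _ ⟨d, hd, rfl⟩
    unfold Cfsg.systemNormalizer
    rw [Subgroup.mem_iInf]
    intro p
    apply mem_normalizer_of_conj_smul_eq_self
    rw [← map_conj_smul]
    congr 1
    apply conj_smul_eq_self_of_mem_normalizer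
    have := hd
    unfold Cfsg.systemNormalizer at this
    rw [SetLike.mem_coe, Subgroup.mem_iInf] at this
    exact this p

end Cfsg.Agent.Helper9

namespace Cfsg.Agent.Helper9

open Subgroup Pointwise

universe u
variable {G : Type u} [Group G]

theorem systemNormalizer_eq_top_of_comm {A : Type*} [Group A] [hA : IsMulCommutative A]
    (K : Nat.Primes → Subgroup A) : Cfsg.systemNormalizer K = ⊤ := by
  unfold Cfsg.systemNormalizer
  rw [iInf_eq_top]
  intro p
  rw [Subgroup.normalizer_eq_top_iff]
  constructor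
  intro n hn g
  have : g * n = n * g := hA.is_comm.comm g n
  rw [this, mul_assoc, mul_inv_cancel, mul_one]
  exact hn

theorem systemNormalizer_ne_bot [Finite G] [Group.IsSolvable G] [Nontrivial G]
    {K : Nat.Primes → Subgroup G} (hK : Cfsg.IsComplementSystem K) :
    Cfsg.systemNormalizer K ≠ ⊥ := by
  intro hbot
  have h1 := systemNormalizer_map_mk' hK (commutator G)
  rw [hbot, Subgroup.map_bot] at h1
  have : IsMulCommutative (G ⧸ commutator G) :=
    Subgroup.Normal.quotient_commutative_iff_commutator_le.mpr le_rfl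
  rw [systemNormalizer_eq_top_of_comm] at h1
  have hsub : Subsingleton (G ⧸ commutator G) := by
    have : ∀ x : G ⧸ commutator G, x = 1 := by
      intro x
      have hx : x ∈ (⊤ : Subgroup (G ⧸ commutator G)) := Subgroup.mem_top x
      rw [h1] at hx
      exact Subgroup.mem_bot.mp hx
    exact ⟨fun a b => (this a).trans (this b).symm⟩
  have h2 : commutator G = ⊤ := QuotientGroup.subgroup_eq_top_of_subsingleton _ hsub
  exact (Group.IsSolvable.commutator_lt_top_of_nontrivial G).ne h2

theorem normalClosure_systemNormalizer [Finite G] [Group.IsSolvable G]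
    {K : Nat.Primes → Subgroup G} (hK : Cfsg.IsComplementSystem K) :
    Subgroup.normalClosure ((Cfsg.systemNormalizer K : Subgroup G) : Set G) = ⊤ := by
  set M := Subgroup.normalClosure ((Cfsg.systemNormalizer K : Subgroup G) : Set G) with hM
  by_contra hne
  have : Nontrivial (G ⧸ M) := by
    by_contra hnt
    rw [not_nontrivial_iff_subsingleton] at hnt
    exact hne (QuotientGroup.subgroup_eq_top_of_subsingleton M hnt)
  have hK' := cs_map_mk' hK M
  have h1 := systemNormalizer_map_mk' hK M
  have h2 : (Cfsg.systemNormalizer K).map (QuotientGroup.mk' M) = ⊥ := by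
    rw [← le_bot_iff]
    rintro _ ⟨d, hd, rfl⟩
    rw [Subgroup.mem_bot, QuotientGroup.mk'_apply, QuotientGroup.eq_one_iff]
    exact Subgroup.subset_normalClosure hd
  rw [h2] at h1
  exact systemNormalizer_ne_bot hK' h1

end Cfsg.Agent.Helper9
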