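import Mathlib
import Cfsg.Agent.Helper95.TIC.Defs

/-!
# S4064 piece (B3) for helper95: two blocks sharing a non-identity element are equal
-/

set_option autoImplicit false

namespace Cfsg.Agent.Helper9.TICent

open Subgroup Cfsg.Agent.Helper95.TICent

variable {G : Type*} [Group G]

theorem B3_le {M₁ M₂ : Subgroup G} (h₁ : IsBlock M₁) (h₂ : IsBlock M₂) {x : G}
    (hx1 : x ≠ 1) (hx₁ : x ∈ M₁) (hx₂ : x ∈ M₂) : M₂ ≤ M₁ := by
  haveI : Nontrivial M₂ := (Subgroup.nontrivial_iff_ne_bot M₂).mpr h₂.ne_bot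
  haveI := h₂.nil
  have hc : center M₂ ≠ ⊥ := Group.IsNilpotent.center_ne_bot M₂
  obtain ⟨z, hz1⟩ := (Subgroup.ne_bot_iff_exists_ne_one).mp hc
  -- `z : center M₂`
  have hzc : ∀ m : M₂, m * (z : M₂) = (z : M₂) * m := fun m =>
    (Subgroup.mem_center_iff.mp z.2 m)
  have hzG1 : ((z : M₂) : G) ≠ 1 := by
    intro h
    apply hz1
    apply Subtype.ext
    apply Subtype.ext
    exact h
  -- `z` commutes with `x`, so `z ∈ C(x) ≤ M₁`
  have hzx : ((z : M₂) : G) * x = x * ((z : M₂) : G) := by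
    have := hzc ⟨x, hx₂⟩
    have h2 := congrArg (Subtype.val : M₂ → G) this
    simpa using h2.symm
  have hzM₁ : ((z : M₂) : G) ∈ M₁ := h₁.mem_of_commute hx₁ hx1 hzx
  intro m hm
  apply h₁.mem_of_commute hzM₁ hzG1
  have := hzc ⟨m, hm⟩
  have h2 := congrArg (Subtype.val : M₂ → G) this
  simpa using h2

/-- (B3) Two blocks sharing a non-identity element are equal. -/
theorem IsBlock.eq_of_mem {M₁ M₂ : Subgroup G} (h₁ : IsBlock M₁) (h₂ : IsBlock M₂) {x : G}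
    (hx1 : x ≠ 1) (hx₁ : x ∈ M₁) (hx₂ : x ∈ M₂) : M₁ = M₂ :=
  le_antisymm (B3_le h₂ h₁ hx1 hx₂ hx₁) (B3_le h₁ h₂ hx1 hx₁ hx₂)

end Cfsg.Agent.Helper9.TICent
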