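import Mathlib
import Cfsg.Agent.Helper95.TIC.Defs

/-!
# S4064 piece (B4) for helper95: conjugates of blocks are blocks
-/

set_option autoImplicit false

namespace Cfsg.Agent.Helper9.TICent

open Subgroup Cfsg.Agent.Helper95.TICent

variable {G : Type*} [Group G]

/-- (B4) Conjugates of blocks are blocks. -/
theorem IsBlock.conj {M : Subgroup G} (hM : IsBlock M) (g : G) :
    IsBlock (M.map (MulAut.conj g).toMonoidHom) := by
  refine ⟨?_, ?_, ?_⟩
  · intro h
    apply hM.ne_bot
    exact (Subgroup.map_eq_bot_iff_of_injective M (MulAut.conj g).injective).mp h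
  · haveI := hM.nil
    exact nilpotent_of_mulEquiv (M.equivMapOfInjective (MulAut.conj g).toMonoidHom
      (MulAut.conj g).injective)
  · rintro _ ⟨y, hy, rfl⟩ hx1 c hc
    have hy1 : y ≠ 1 := by
      rintro rfl
      apply hx1
      simp
    rw [Subgroup.mem_centralizer_singleton_iff] at hc
    have hc' : c * (g * y * g⁻¹) = g * y * g⁻¹ * c := by
      simpa [MulAut.conj_apply] using hc
    refine ⟨g⁻¹ * c * g, ?_, ?_⟩
    · apply hM.mem_of_commute hy hy1
      calc g⁻¹ * c * g * y = g⁻¹ * (c * (g * y * g⁻¹)) * g := by group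
        _ = g⁻¹ * (g * y * g⁻¹ * c) * g := by rw [hc']
        _ = y * (g⁻¹ * c * g) := by group
    · show MulAut.conj g (g⁻¹ * c * g) = c
      rw [MulAut.conj_apply]
      group

end Cfsg.Agent.Helper9.TICent
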