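import Cfsg.Agent.Helper9.FP3
import Cfsg.Agent.Helper25.GenCharTwo
import Cfsg.Agent.Helper15.IndChar

/-!
# The coherence system of a T.I. subgroup with Frobenius normalizer (helper9)

`K` is a T.I. subgroup of `G` containing the centralizers of its non-identity elements, `N` its
normalizer, of odd order.  Then `(tfS K, indFun N, R)` is a coherence system
(`Cfsg.IsCoherenceSystem`), where `R χ` consists of the two signed irreducible characters of `G`
whose sum is `indFun N (χ - conj χ)`.  This is the standing hypothesis `hS` of Peterfalvi's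
coherence criteria (`S1519`–`S1522`) specialised to induction.
-/

set_option autoImplicit false

namespace Cfsg.Agent.Helper9.FP

open Cfsg Cfsg.Agent.Helper75 Cfsg.Agent.Helper25
open scoped ComplexConjugate

universe u

section

variable {G : Type u} [Group G] [Fintype G] {K : Subgroup G}
  [Fintype ↥(Subgroup.normalizer (K : Set G))]

/-- Members of `zspanOn (tfS K) {1}ᶜ` are class functions vanishing off `K \ {1}`. -/
theorem ti_zspan_props (hC : ∀ k ∈ K, k ≠ 1 → Subgroup.centralizer ({k} : Set G) ≤ K)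
    {α : ↥(Subgroup.normalizer (K : Set G)) → ℂ} (hα : α ∈ zspan (tfS K)) :
    IsClassFunction _ α ∧ (∀ x : ↥(Subgroup.normalizer (K : Set G)), (x : G) ∉ K → α x = 0) ∧
      IsGeneralizedCharacter G (indFun (Subgroup.normalizer (K : Set G)) α) := by
  refine Submodule.span_induction (p := fun α _ => IsClassFunction _ α ∧
    (∀ x : ↥(Subgroup.normalizer (K : Set G)), (x : G) ∉ K → α x = 0) ∧
      IsGeneralizedCharacter G (indFun (Subgroup.normalizer (K : Set G)) α)) ?_ ?_ ?_ ?_ hα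
  · intro χ hχ
    exact ⟨tf_isClassFunction hχ, fun x hx => tf_vanish hC hχ x hx,
      isGenChar_of_isCharacter (Helper15.isCharacter_indFun _ (Helper74.isCharacter_of_isIrr hχ.1))⟩
  · refine ⟨fun _ _ => rfl, fun _ _ => rfl, ?_⟩
    rw [Helper15.indFun_zero]
    exact isGenChar_zero
  · rintro x y _ _ ⟨hx1, hx2, hx3⟩ ⟨hy1, hy2, hy3⟩
    refine ⟨Helper74.isClassFunction_add hx1 hy1, ?_, ?_⟩
    · intro z hz
      rw [Pi.add_apply, hx2 z hz, hy2 z hz, add_zero]
    · rw [Helper15.indFun_add]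
      exact isGenChar_add hx3 hy3
  · rintro n x _ ⟨hx1, hx2, hx3⟩
    refine ⟨?_, ?_, ?_⟩
    · intro g h
      rw [Pi.smul_apply, Pi.smul_apply, hx1 g h]
    · intro z hz
      rw [Pi.smul_apply, hx2 z hz, smul_zero]
    · have h1 : n • x = ((n : ℂ)) • x := (Int.cast_smul_eq_zsmul ℂ n x).symm
      rw [h1, Helper15.indFun_smul, Int.cast_smul_eq_zsmul]
      exact isGenChar_zsmul n hx3

/-- Induction is an isometry on the functions supported on `K \ {1}`. -/
theorem ti_ind_inner (hC : ∀ k ∈ K, k ≠ 1 → Subgroup.centralizer ({k} : Set G) ≤ K)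
    (hTI : ∀ g : G, g ∉ Subgroup.normalizer (K : Set G) → ∀ k ∈ K, g * k * g⁻¹ ∈ K → k = 1)
    {α β : ↥(Subgroup.normalizer (K : Set G)) → ℂ}
    (hα : α ∈ zspanOn (tfS K) ({1}ᶜ : Set ↥(Subgroup.normalizer (K : Set G))))
    (hβ : β ∈ zspanOn (tfS K) ({1}ᶜ : Set ↥(Subgroup.normalizer (K : Set G)))) :
    classInner (indFun (Subgroup.normalizer (K : Set G)) α)
      (indFun (Subgroup.normalizer (K : Set G)) β) = classInner α β := by
  obtain ⟨hαcf, hαvan, hαgen⟩ := ti_zspan_props hC hα.1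
  obtain ⟨hβcf, hβvan, _⟩ := ti_zspan_props hC hβ.1
  rw [Helper15.frobenius_reciprocity' _ β _ (isGenChar_isClassFunction hαgen),
    Helper15.classInner_apply, Helper15.classInner_apply]
  congr 1
  apply Finset.sum_congr rfl
  intro n _
  by_cases hn : (n : G) ∈ K
  · by_cases hn1 : n = 1
    · have : β n = 0 := by
        rw [hn1]
        exact hβ.2 1 (by simp)
      rw [this, map_zero, mul_zero, mul_zero]
    · rw [tf_indFun_apply K _ hTI hαcf hαvan n hn hn1]
  · rw [hβvan n hn, map_zero, mul_zero, mul_zero]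

/-- A non-trivial finite group has a non-principal irreducible character. -/
theorem ti_exists_nonprincipal {X : Type u} [Group X] [Fintype X] [Nontrivial X] :
    ∃ φ : IrrCharacter X, (φ : X → ℂ) ≠ fun _ => 1 := by
  classical
  let _ := Helper74.irrFintype X
  by_contra hcon
  push Not at hcon
  obtain ⟨k, hk⟩ := exists_ne (1 : X)
  have h := tf_sum_degree_mul (N := X) hk
  have : ∀ ζ : IrrCharacter X, (ζ : X → ℂ) 1 * (ζ : X → ℂ) k = 1 := by
    intro ζ
    rw [hcon ζ]
    simp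
  rw [Finset.sum_congr rfl (fun ζ _ => this ζ), Finset.sum_const, Finset.card_univ,
    nsmul_eq_mul, mul_one] at h
  have h2 : Fintype.card (IrrCharacter X) = 0 := by exact_mod_cast h
  have h3 : 0 < Fintype.card (IrrCharacter X) :=
    Fintype.card_pos_iff.mpr ⟨⟨fun _ => 1, Helper79.isIrrCharacter_one⟩⟩
  omega

theorem ti_tfS_nonempty (hC : ∀ k ∈ K, k ≠ 1 → Subgroup.centralizer ({k} : Set G) ≤ K)
    (hK1 : K ≠ ⊥) : (tfS K).Nonempty := by
  classical
  let K' := K.subgroupOf (Subgroup.normalizer (K : Set G))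
  have hle : K ≤ Subgroup.normalizer (K : Set G) := Subgroup.le_normalizer
  let _ : Fintype K' := Fintype.ofFinite K'
  have hnt : Nontrivial K' := by
    obtain ⟨x, hx1⟩ := (Subgroup.ne_bot_iff_exists_ne_one).mp hK1
    refine ⟨⟨⟨⟨x, hle x.2⟩, Subgroup.mem_subgroupOf.mpr x.2⟩, 1, ?_⟩⟩
    intro h
    apply hx1
    apply Subtype.ext
    have := congrArg (fun y : K' => ((y : ↥(Subgroup.normalizer (K : Set G))) : G)) h
    simpa using this
  obtain ⟨φ, hφ1⟩ := ti_exists_nonprincipal (X := K')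
  obtain ⟨hirr, k, hk, hne⟩ := tf_ind_relevant (tf_hC' hC) φ.2 hφ1
  exact ⟨_, hirr, k, Subgroup.mem_subgroupOf.mp hk, hne⟩

omit [Fintype G] in
/-- In odd order, the complex conjugate of a relevant character is a different relevant
character. -/
theorem ti_conj_mem (hoddN : Odd (Nat.card ↥(Subgroup.normalizer (K : Set G))))
    {χ : ↥(Subgroup.normalizer (K : Set G)) → ℂ} (hχ : χ ∈ tfS K) :
    conjFun χ ∈ tfS K ∧ conjFun χ ≠ χ := by
  obtain ⟨hirr, k, hk, hne⟩ := hχ
  refine ⟨⟨(Helper74.irrConj ⟨χ, hirr⟩).2, k, hk, ?_⟩, ?_⟩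
  · intro h
    apply hne
    exact (starRingEnd ℂ).injective h
  · intro h
    have h1 : Helper74.irrConj ⟨χ, hirr⟩ = ⟨χ, hirr⟩ := Subtype.ext h
    rw [Helper74.irrConj_eq_self_iff] at h1
    have h2 := Cfsg.Agent.S0161.result hoddN ⟨χ, hirr⟩ h1
    apply hne
    have h3 : χ = fun _ => 1 := h2
    rw [h3]

/-- Two orthogonal pairs of signed irreducibles, each vanishing in sum at `1`, whose sums are
orthogonal, are disjoint. -/
theorem ti_disjoint_aux {A₁ A₂ B₁ B₂ : G → ℂ} (hA₁ : SignedIrr G A₁) (hA₂ : SignedIrr G A₂)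
    (hB₁ : SignedIrr G B₁) (hB₂ : SignedIrr G B₂) (hA : classInner A₁ A₂ = 0)
    (hB : classInner B₁ B₂ = 0) (hA1 : A₁ 1 + A₂ 1 = 0) (hB1 : B₁ 1 + B₂ 1 = 0)
    (hsum : classInner (A₁ + A₂) (B₁ + B₂) = 0) : classInner A₁ B₁ = 0 := by
  by_contra hne
  rcases hA₁.inner_eq_zero_or hB₁ with h | ⟨t, ht, hBt, hin⟩
  · exact hne h
  have ht0 : t ≠ 0 := by rcases ht with rfl | rfl <;> norm_num
  have h12 : classInner A₁ B₂ = 0 := by
    have h1 := hB
    rw [hBt, Helper15.classInner_smul_left] at h1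
    exact (mul_eq_zero.mp h1).resolve_left ht0
  have h21 : classInner A₂ B₁ = 0 := by
    rw [hBt, Helper15.classInner_smul_right, ← Helper15.classInner_conj_symm, hA, map_zero,
      mul_zero]
  have h22 : classInner A₂ B₂ = -t := by
    rw [Helper15.classInner_add_left, Helper15.classInner_add_right,
      Helper15.classInner_add_right, hin, h12, h21] at hsum
    linear_combination hsum
  rcases hA₂.inner_eq_zero_or hB₂ with h | ⟨t', _, hBt', hin'⟩
  · rw [h22] at h
    exact ht0 (neg_eq_zero.mp h)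
  have htt : t' = -t := by rw [← hin', h22]
  have h1 : B₁ 1 = t * A₁ 1 := by rw [hBt]; rfl
  have h2 : B₂ 1 = -t * A₂ 1 := by rw [hBt', htt]; rfl
  rw [h1, h2] at hB1
  have h3 : t * (A₁ 1 - A₂ 1) = 0 := by linear_combination hB1
  have h4 : A₁ 1 - A₂ 1 = 0 := (mul_eq_zero.mp h3).resolve_left ht0
  have h5 : A₁ 1 = 0 := by linear_combination (1 / 2 : ℂ) * hA1 + (1 / 2 : ℂ) * h4
  exact hA₁.apply_one_ne_zero h5

/-- The two signed irreducible constituents of `indFun N (χ - conj χ)`. -/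
theorem ti_pair (hC : ∀ k ∈ K, k ≠ 1 → Subgroup.centralizer ({k} : Set G) ≤ K)
    (hTI : ∀ g : G, g ∉ Subgroup.normalizer (K : Set G) → ∀ k ∈ K, g * k * g⁻¹ ∈ K → k = 1)
    (hoddN : Odd (Nat.card ↥(Subgroup.normalizer (K : Set G))))
    {χ : ↥(Subgroup.normalizer (K : Set G)) → ℂ} (hχ : χ ∈ tfS K) :
    χ - conjFun χ ∈ zspanOn (tfS K) ({1}ᶜ : Set ↥(Subgroup.normalizer (K : Set G))) ∧
    ∃ α₁ α₂ : G → ℂ, SignedIrr G α₁ ∧ SignedIrr G α₂ ∧ classInner α₁ α₂ = 0 ∧
      indFun (Subgroup.normalizer (K : Set G)) (χ - conjFun χ) = α₁ + α₂ ∧ α₁ 1 + α₂ 1 = 0 := by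
  obtain ⟨hconj, hne⟩ := ti_conj_mem hoddN hχ
  have hmem : χ - conjFun χ ∈ zspanOn (tfS K)
      ({1}ᶜ : Set ↥(Subgroup.normalizer (K : Set G))) := by
    refine ⟨Submodule.sub_mem _ (Submodule.subset_span hχ) (Submodule.subset_span hconj), ?_⟩
    intro x hx
    have hx1 : x = 1 := by simpa using hx
    subst hx1
    rw [Pi.sub_apply]
    show χ 1 - conj (χ 1) = 0
    rw [tf_conj_apply_one (⟨χ, hχ.1⟩ : IrrCharacter _), sub_self]
  refine ⟨hmem, ?_⟩
  have hgen := (ti_zspan_props hC hmem.1).2.2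
  have hnorm : classInner (indFun (Subgroup.normalizer (K : Set G)) (χ - conjFun χ))
      (indFun (Subgroup.normalizer (K : Set G)) (χ - conjFun χ)) = 2 := by
    rw [ti_ind_inner hC hTI hmem hmem, Helper15.classInner_sub_left,
      Helper15.classInner_sub_right, Helper15.classInner_sub_right]
    have h1 : classInner χ χ = 1 := Helper74.irr_inner_self (⟨χ, hχ.1⟩ : IrrCharacter _)
    have h2 : classInner (conjFun χ) (conjFun χ) = 1 :=
      Helper74.irr_inner_self (⟨conjFun χ, hconj.1⟩ : IrrCharacter _)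
    have hne' : (⟨χ, hχ.1⟩ : IrrCharacter ↥(Subgroup.normalizer (K : Set G)))
        ≠ ⟨conjFun χ, hconj.1⟩ := fun h => hne (congrArg Subtype.val h).symm
    have h3' := Helper74.irr_inner_ne hne'
    have h4' := Helper74.irr_inner_ne (Ne.symm hne')
    have h3 : classInner χ (conjFun χ) = 0 := h3'
    have h4 : classInner (conjFun χ) χ = 0 := h4'
    rw [h1, h2, h3, h4]
    norm_num
  obtain ⟨α₁, α₂, h₁, h₂, horth, hsum⟩ := exists_two_signedIrr hgen hnorm
  refine ⟨α₁, α₂, h₁, h₂, horth, hsum, ?_⟩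
  have h5 := congrFun hsum 1
  rw [Helper15.indFun_apply_one, hmem.2 1 (by simp), mul_zero, Pi.add_apply] at h5
  exact h5.symm

omit [Fintype G] in
theorem ti_conjFun_conjFun (χ : ↥(Subgroup.normalizer (K : Set G)) → ℂ) :
    conjFun (conjFun χ) = χ := by
  funext x
  show conj (conj (χ x)) = χ x
  rw [Complex.conj_conj]

/-- **The coherence system of a T.I. subgroup with Frobenius normalizer of odd order.** -/
theorem ti_isCoherenceSystem
    (hC : ∀ k ∈ K, k ≠ 1 → Subgroup.centralizer ({k} : Set G) ≤ K)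
    (hTI : ∀ g : G, g ∉ Subgroup.normalizer (K : Set G) → ∀ k ∈ K, g * k * g⁻¹ ∈ K → k = 1)
    (hoddN : Odd (Nat.card ↥(Subgroup.normalizer (K : Set G)))) (hK1 : K ≠ ⊥) :
    ∃ R : (↥(Subgroup.normalizer (K : Set G)) → ℂ) → Finset (G → ℂ),
      IsCoherenceSystem (tfS K)
        (fun α : ↥(Subgroup.normalizer (K : Set G)) → ℂ =>
          indFun (Subgroup.normalizer (K : Set G)) α) R := by
  classical
  have hpair := fun (χ : ↥(Subgroup.normalizer (K : Set G)) → ℂ) (hχ : χ ∈ tfS K) =>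
    (ti_pair hC hTI hoddN hχ).2
  choose! a₁ a₂ h₁ h₂ horth hsum hone using hpair
  have hne12 : ∀ χ ∈ tfS K, a₁ χ ≠ a₂ χ := by
    intro χ hχ h
    have h3 := horth χ hχ
    rw [← h, signedIrr_inner_self (h₁ χ hχ)] at h3
    exact one_ne_zero h3
  have horth' : ∀ χ ∈ tfS K, classInner (a₂ χ) (a₁ χ) = 0 := by
    intro χ hχ
    rw [← Helper15.classInner_conj_symm, horth χ hχ, map_zero]
  refine ⟨fun χ => {a₁ χ, a₂ χ}, ?_⟩
  refine
    { nonempty := ti_tfS_nonempty hC hK1
      isCharacter := fun χ hχ => Helper74.isCharacter_of_isIrr hχ.1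
      conj_mem := fun χ hχ => (ti_conj_mem hoddN hχ).1
      conj_ne := fun χ hχ => (ti_conj_mem hoddN hχ).2
      isometry := ?_
      map_one := ?_
      orthogonal := ?_
      orthonormal := ?_
      virtual := ?_
      sum_eq := ?_
      disjoint := ?_ }
  · refine ⟨fun α _ β _ => Helper15.indFun_add _ α β, ?_, ?_, ?_⟩
    · intro α _ n
      show indFun _ (n • α) = n • indFun _ α
      have h1 : n • α = ((n : ℂ)) • α := (Int.cast_smul_eq_zsmul ℂ n α).symm
      rw [h1, Helper15.indFun_smul, Int.cast_smul_eq_zsmul]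
    · intro α hα β hβ
      exact ti_ind_inner hC hTI hα hβ
    · intro α hα
      exact (ti_zspan_props hC hα.1).2.2
  · intro α hα
    show indFun _ α 1 = 0
    rw [Helper15.indFun_apply_one, hα.2 1 (by simp), mul_zero]
  · intro χ hχ φ hφ hne
    have hne' : (⟨χ, hχ.1⟩ : IrrCharacter ↥(Subgroup.normalizer (K : Set G))) ≠ ⟨φ, hφ.1⟩ :=
      fun h => hne (congrArg Subtype.val h)
    have h := Helper74.irr_inner_ne hne'
    exact h
  · intro χ hχ α hα β hβ
    rw [Finset.mem_insert, Finset.mem_singleton] at hα hβ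
    rcases hα with rfl | rfl <;> rcases hβ with rfl | rfl
    · rw [if_pos rfl]; exact signedIrr_inner_self (h₁ χ hχ)
    · rw [if_neg (hne12 χ hχ)]; exact horth χ hχ
    · rw [if_neg (Ne.symm (hne12 χ hχ))]; exact horth' χ hχ
    · rw [if_pos rfl]; exact signedIrr_inner_self (h₂ χ hχ)
  · intro χ hχ α hα
    rw [Finset.mem_insert, Finset.mem_singleton] at hα
    rcases hα with rfl | rfl
    · exact (h₁ χ hχ).isGenChar
    · exact (h₂ χ hχ).isGenChar
  · intro χ hχ
    show indFun _ (χ - conjFun χ) = _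
    rw [Finset.sum_pair (hne12 χ hχ)]
    exact hsum χ hχ
  · intro χ hχ φ hφ hφχ hφχc
    -- the sums are orthogonal
    have hmχ := (ti_pair hC hTI hoddN hχ).1
    have hmφ := (ti_pair hC hTI hoddN hφ).1
    have h0 : classInner (a₁ φ + a₂ φ) (a₁ χ + a₂ χ) = 0 := by
      rw [← hsum φ hφ, ← hsum χ hχ, ti_ind_inner hC hTI hmφ hmχ, Helper15.classInner_sub_left,
        Helper15.classInner_sub_right, Helper15.classInner_sub_right, hφχ, hφχc]
      have e1 : classInner (conjFun φ) (conjFun χ) = 0 := by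
        have := Helper74.classInner_conj_conj φ χ
        rw [hφχ, map_zero] at this
        exact this
      have e2 : classInner (conjFun φ) χ = 0 := by
        have := Helper74.classInner_conj_conj φ (conjFun χ)
        rw [hφχc, map_zero] at this
        have e3 : (fun g => conj (conjFun χ g)) = χ := ti_conjFun_conjFun χ
        rw [e3] at this
        exact this
      rw [e1, e2]
      ring
    have h0a : classInner (a₂ φ + a₁ φ) (a₁ χ + a₂ χ) = 0 := by rw [add_comm]; exact h0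
    have h0b : classInner (a₁ φ + a₂ φ) (a₂ χ + a₁ χ) = 0 := by
      rw [add_comm (a₂ χ)]; exact h0
    have h0c : classInner (a₂ φ + a₁ φ) (a₂ χ + a₁ χ) = 0 := by
      rw [add_comm (a₂ φ), add_comm (a₂ χ)]; exact h0
    have hone' : ∀ ψ ∈ tfS K, a₂ ψ 1 + a₁ ψ 1 = 0 := by
      intro ψ hψ
      rw [add_comm]; exact hone ψ hψ
    intro α hα β hβ
    rw [Finset.mem_insert, Finset.mem_singleton] at hα hβ
    rcases hα with rfl | rfl <;> rcases hβ with rfl | rfl
    · exact ti_disjoint_aux (h₁ φ hφ) (h₂ φ hφ) (h₁ χ hχ) (h₂ χ hχ) (horth φ hφ) (horth χ hχ)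
        (hone φ hφ) (hone χ hχ) h0
    · exact ti_disjoint_aux (h₁ φ hφ) (h₂ φ hφ) (h₂ χ hχ) (h₁ χ hχ) (horth φ hφ) (horth' χ hχ)
        (hone φ hφ) (hone' χ hχ) h0b
    · exact ti_disjoint_aux (h₂ φ hφ) (h₁ φ hφ) (h₁ χ hχ) (h₂ χ hχ) (horth' φ hφ) (horth χ hχ)
        (hone' φ hφ) (hone χ hχ) h0a
    · exact ti_disjoint_aux (h₂ φ hφ) (h₁ φ hφ) (h₂ χ hχ) (h₁ χ hχ) (horth' φ hφ) (horth' χ hχ)
        (hone' φ hφ) (hone' χ hχ) h0c

/-- The same, for the set of characters of Peterfalvi (6.8) (`S1524`). -/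
theorem ti_isCoherenceSystem'
    (hC : ∀ k ∈ K, k ≠ 1 → Subgroup.centralizer ({k} : Set G) ≤ K)
    (hTI : ∀ g : G, g ∉ Subgroup.normalizer (K : Set G) → ∀ k ∈ K, g * k * g⁻¹ ∈ K → k = 1)
    (hoddN : Odd (Nat.card ↥(Subgroup.normalizer (K : Set G)))) (hK1 : K ≠ ⊥) :
    ∃ R : (↥(Subgroup.normalizer (K : Set G)) → ℂ) → Finset (G → ℂ),
      IsCoherenceSystem (inducedIrrAbove (K.subgroupOf (Subgroup.normalizer (K : Set G))) ⊥)
        (fun α : ↥(Subgroup.normalizer (K : Set G)) → ℂ =>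
          indFun (Subgroup.normalizer (K : Set G)) α) R := by
  rw [fp_tfS_eq K hC]
  exact ti_isCoherenceSystem hC hTI hoddN hK1

end

end Cfsg.Agent.Helper9.FP
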