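import Cfsg.Agent.Helper9.TwSigma

/-!
Helper9: the double coset condition `n_J b n ∈ B¹ n_J n B¹ ∪ B¹ n B¹` for a subgroup `G¹` of the fixed points of the
graph-field automorphism which contains the twisted elements `X_J(c)`, `X_{-J}(c)`; here `B¹ = B ∩ G¹`,
`n ∈ N ∩ G¹`.
-/

set_option autoImplicit false

namespace Cfsg.Agent.Helper9.Tw

open Cfsg Cfsg.Lie Cfsg.Agent.Helper18 Cfsg.Agent.Helper40.GraphAut Cfsg.Agent.Helper19.Twist
  Cfsg.Agent.Helper19.Poinc

section N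
variable {K : Type*} [Field K]
variable (D : ChevalleyDatum) (hD : D ∈ [chevG2, chevB2, chevD4, chevF4, chevE6, chevE7, chevE8])
include hD

/-- the action of `h n_w` on root elements -/
theorem hn_conj_xGL (h : GL D.Idx K) (hh : h ∈ D.diagonalSubgroup K) (w : List ℕ) (hw : ∀ i ∈ w, i < D.rank)
    (r : ℕ) (hr : r < D.nroots) :
    rho D w r < D.nroots ∧ ∃ κ : K, κ ≠ 0 ∧ ∀ t : K,
      h * nWordsGL D K w * xGL D K r t = xGL D K (rho D w r) (κ * t) * (h * nWordsGL D K w) := by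
  obtain ⟨χ, hχ, -, hc⟩ := diagonalSubgroup_char D hD h hh
  obtain ⟨hlt, η, hη, hn⟩ := nWordsGL_conj_xGL D hD (nConjHyp (F := K) D hD)
    (fun i s hi hs => reflectRoot_lt D hD i s hi hs) w hw r hr
  have hη0 : (η : K) ≠ 0 := by rcases hη with rfl | rfl <;> simp
  refine ⟨hlt, χ (rho D w r) * (η : K), mul_ne_zero (hχ _) hη0, fun t => ?_⟩
  rw [mul_assoc, hn t, ← mul_assoc, hc _ hlt, mul_assoc, mul_assoc]

theorem rho_reverse_cancel' (w : List ℕ) (hw : ∀ i ∈ w, i < D.rank) (s : ℕ) (hs : s < D.nroots) :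
    rho D w.reverse (rho D w s) = s := by
  have := rho_reverse_cancel D hD w.reverse (fun i hi => hw i (List.mem_reverse.mp hi)) s hs
  rwa [List.reverse_reverse] at this

/-- `x_s(t) h n_w = h n_w x_{w⁻¹ s}(κ t)` -/
theorem xGL_mul_hn (h : GL D.Idx K) (hh : h ∈ D.diagonalSubgroup K) (w : List ℕ) (hw : ∀ i ∈ w, i < D.rank)
    (s : ℕ) (hs : s < D.nroots) :
    ∃ κ : K, κ ≠ 0 ∧ ∀ t : K, xGL D K s t * (h * nWordsGL D K w) =
      h * nWordsGL D K w * xGL D K (rho D w.reverse s) (κ * t) := by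
  have hwr : ∀ j ∈ w.reverse, j < D.rank := fun j hj => hw j (List.mem_reverse.mp hj)
  have hq := rho_lt D hD w.reverse hwr s hs
  obtain ⟨-, κ, hκ, hc⟩ := hn_conj_xGL D hD h hh w hw _ hq
  rw [rho_reverse_cancel D hD w hw s hs] at hc
  refine ⟨κ⁻¹, inv_ne_zero hκ, fun t => ?_⟩
  rw [hc, mul_inv_cancel_left₀ hκ]

variable (S : SigData D) (f : K ≃+* K)

/-- the Weyl group element of a `σ`-fixed element of `N` commutes with the symmetry -/
theorem rho_comm_of_fix (h : GL D.Idx K) (hh : h ∈ D.diagonalSubgroup K) (w : List ℕ) (hw : ∀ i ∈ w, i < D.rank)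
    (hfix : sig D S f (h * nWordsGL D K w) = h * nWordsGL D K w) (r : ℕ) (hr : r < D.nroots) :
    rho D w (S.π r) = S.π (rho D w r) := by
  have htri := triOK_of_mem D hD
  obtain ⟨hp1, -⟩ := permsOK_spec S.hp
  obtain ⟨hlt, κ, hκ, hc⟩ := hn_conj_xGL D hD h hh w hw r hr
  have hπr : S.π r < D.nroots := (hp1 r hr).1
  obtain ⟨hlt2, κ', hκ', hc'⟩ := hn_conj_xGL D hD h hh w hw _ hπr
  have e1 := congrArg (sig D S f) (hc 1)
  rw [map_mul (sig D S f) (h * nWordsGL D K w), map_mul (sig D S f) (xGL D K (rho D w r) (κ * 1)), hfix,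
    sig_xGL D hD S f r hr, sig_xGL D hD S f _ hlt, hc'] at e1
  have e2 := mul_right_cancel e1
  have hne : κ' * (((S.ε r : ℤ) : K) * f 1) ≠ 0 := by
    apply mul_ne_zero hκ'
    apply mul_ne_zero
    · rcases (hp1 r hr).2.2.2.2 with e | e <;> rw [e] <;> simp
    · simp
  exact xGL_root_inj D _ htri S.hinj _ _ hlt2 (hp1 _ hlt).1 _ _ hne e2

/-- the same for the inverse -/
theorem rho_reverse_comm_of_fix (h : GL D.Idx K) (hh : h ∈ D.diagonalSubgroup K) (w : List ℕ)
    (hw : ∀ i ∈ w, i < D.rank) (hfix : sig D S f (h * nWordsGL D K w) = h * nWordsGL D K w) (r : ℕ)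
    (hr : r < D.nroots) : rho D w.reverse (S.π r) = S.π (rho D w.reverse r) := by
  obtain ⟨hp1, -⟩ := permsOK_spec S.hp
  have hwr : ∀ j ∈ w.reverse, j < D.rank := fun j hj => hw j (List.mem_reverse.mp hj)
  have hq := rho_lt D hD w.reverse hwr r hr
  have e1 := rho_comm_of_fix D hD S f h hh w hw hfix _ hq
  rw [rho_reverse_cancel D hD w hw r hr] at e1
  rw [← e1, rho_reverse_cancel' D hD w hw _ (hp1 _ hq).1]

end N

section Core
variable {K : Type*} [Field K]
variable (D : ChevalleyDatum) (hD : D ∈ [chevG2, chevB2, chevD4, chevF4, chevE6, chevE7, chevE8])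
variable (S : SigData D) (f : K ≃+* K) (J : List ℕ) (hJ : orthOK D J = true) (hL : levOK D J = true)
  (hO : sigOrbOK S.ρ J = true)
include hD hJ hL hO

omit hJ hO in
/-- case A: `X_J(c) h n_w = h n_w Y` with `Y ∈ U` when `w⁻¹` keeps the `p_i`, `i ∈ J`, positive -/
theorem XJ_mul_hn_pos (h : GL D.Idx K) (hh : h ∈ D.diagonalSubgroup K) (w : List ℕ) (hw : ∀ i ∈ w, i < D.rank)
    (hposall : ∀ i ∈ J, hlfOf D ≤ rho D w.reverse (D.simple i)) (c : ℕ → K) :
    ∃ Y ∈ D.posUnipotent K, XJ D K J c * (h * nWordsGL D K w) = h * nWordsGL D K w * Y := by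
  obtain ⟨-, -, h3, -⟩ := levOK_spec hL
  have hs := simpleOK_of_mem D hD
  have hwr : ∀ j ∈ w.reverse, j < D.rank := fun j hj => hw j (List.mem_reverse.mp hj)
  unfold XJ
  have key : ∀ L : List ℕ, (∀ i ∈ L, i ∈ J) → ∃ Y ∈ D.posUnipotent K,
      (L.map fun i => xGL D K (D.simple i) (c i)).prod * (h * nWordsGL D K w) = h * nWordsGL D K w * Y := by
    intro L
    induction L with
    | nil => intro _; exact ⟨1, one_mem _, by simp⟩
    | cons i L ih =>
      intro hL'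
      obtain ⟨Y, hY, e⟩ := ih (fun j hj => hL' j (List.mem_cons_of_mem _ hj))
      have hi := hL' i List.mem_cons_self
      have hsi := simple_lt D hs i (h3 i hi).1
      obtain ⟨κ, -, hκ⟩ := xGL_mul_hn D hD h hh w hw _ hsi
      refine ⟨xGL D K (rho D w.reverse (D.simple i)) (κ * c i) * Y, mul_mem ?_ hY, ?_⟩
      · exact xGL_mem_posUnipotent D hD _ ⟨hposall i hi, rho_lt D hD w.reverse hwr _ hsi⟩ _
      · simp only [List.map_cons, List.prod_cons]
        rw [mul_assoc, e, ← mul_assoc, hκ, mul_assoc]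
  exact key J (fun i hi => hi)

omit hJ in
/-- the roots `w⁻¹(p_i)`, `i ∈ J`, have the same sign when `h n_w` is fixed by `σ` -/
theorem sign_all (h : GL D.Idx K) (hh : h ∈ D.diagonalSubgroup K) (w : List ℕ) (hw : ∀ i ∈ w, i < D.rank)
    (hfix : sig D S f (h * nWordsGL D K w) = h * nWordsGL D K w) (i j : ℕ) (hi : i ∈ J) (hj : j ∈ J) :
    hlfOf D ≤ rho D w.reverse (D.simple i) ↔ hlfOf D ≤ rho D w.reverse (D.simple j) := by
  obtain ⟨-, -, h3, -⟩ := levOK_spec hL
  obtain ⟨o1, -, o3⟩ := sigOrbOK_spec hO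
  have hs := simpleOK_of_mem D hD
  have hwr : ∀ j ∈ w.reverse, j < D.rank := fun j hj => hw j (List.mem_reverse.mp hj)
  have hne : J ≠ [] := List.ne_nil_of_mem hi
  have h0 : J.headD 0 ∈ J := by
    cases J with
    | nil => exact absurd rfl hne
    | cons a L => simp
  have key : ∀ m : ℕ, S.ρ^[m] (J.headD 0) ∈ J ∧ (hlfOf D ≤ rho D w.reverse (D.simple (S.ρ^[m] (J.headD 0))) ↔
      hlfOf D ≤ rho D w.reverse (D.simple (J.headD 0))) := by
    intro m
    induction m with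
    | zero => exact ⟨h0, Iff.rfl⟩
    | succ m ih =>
      rw [Function.iterate_succ_apply']
      refine ⟨o1 _ ih.1, ?_⟩
      have hlt := (h3 _ ih.1).1
      have hsi := simple_lt D hs _ hlt
      rw [← (sig_simple D hD S _ hlt).1, rho_reverse_comm_of_fix D hD S f h hh w hw hfix _ hsi, ← ih.2]
      exact (twistOK_spec S.htw _ (rho_lt D hD w.reverse hwr _ hsi)).1.symm
  obtain ⟨m, hm⟩ := o3 i hi
  obtain ⟨m', hm'⟩ := o3 j hj
  have h1 := (key m).2
  have h2 := (key m').2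
  rw [hm] at h1
  rw [hm'] at h2
  exact h1.trans h2.symm

variable (G1 : Subgroup (GL D.Idx K)) (hG1 : ∀ g ∈ G1, sig D S f g = g)
  (hXJ : ∀ c : ℕ → K, (∀ i ∈ J, c (S.ρ i) = f (c i)) → XJ D K J c ∈ G1)
  (hXJn : ∀ c : ℕ → K, (∀ i ∈ J, c (S.ρ i) = f (c i)) → XJn D K J c ∈ G1)
include hXJ hXJn

omit hO in
/-- `n_J ∈ G¹` -/
theorem nJ_mem_G1 : nWordsGL D K J ∈ G1 := by
  obtain ⟨-, -, h3, hnd⟩ := levOK_spec hL
  have hs := simpleOK_of_mem D hD
  have hlt : ∀ i ∈ J, i < D.rank := fun i hi => (h3 i hi).1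
  have htw : ∀ i ∈ J, (fun _ : ℕ => (-1 : K)) (S.ρ i) = f ((fun _ : ℕ => (-1 : K)) i) := by
    intro i _
    simp
  have e := XJn_eq D hD J hJ hnd hlt (fun _ => (-1 : K)) (fun i _ => by simp)
  have e1 : HJ D K J (fun _ => - (-1 : K)⁻¹) = 1 := by
    unfold HJ
    apply List.prod_eq_one
    intro x hx
    obtain ⟨i, hi, rfl⟩ := List.mem_map.mp hx
    have : - (-1 : K)⁻¹ = 1 := by rw [inv_neg, inv_one, neg_neg]
    rw [this]
    exact hWordGL_one D hD _ (simple_lt D hs i (hlt i hi))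
  have e2 : (fun _ : ℕ => ((-1 : K))⁻¹) = fun _ => (-1 : K) := by
    funext _
    rw [inv_neg, inv_one]
  rw [e1, mul_one, e2] at e
  have e3 : nWordsGL D K J = (XJ D K J fun _ => (-1 : K))⁻¹ * XJn D K J (fun _ => (-1 : K)) *
      (XJ D K J fun _ => (-1 : K))⁻¹ := by
    rw [e]; group
  rw [e3]
  exact mul_mem (mul_mem (inv_mem (hXJ _ htw)) (hXJn _ htw)) (inv_mem (hXJ _ htw))

include hG1 in
/-- the double coset condition for `n_J X_J(c) n` -/
theorem coreC_tw (c : ℕ → K) (hc : ∀ i ∈ J, c (S.ρ i) = f (c i)) (n' : GL D.Idx K)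
    (hn' : n' ∈ D.monomialSubgroup K) (hn'G : n' ∈ G1) :
    ∃ b1 ∈ D.borelSubgroup K ⊓ G1, ∃ b2 ∈ D.borelSubgroup K ⊓ G1,
      nWordsGL D K J * XJ D K J c * n' = b1 * (nWordsGL D K J * n') * b2 ∨
        nWordsGL D K J * XJ D K J c * n' = b1 * n' * b2 := by
  classical
  obtain ⟨-, -, h3, hnd⟩ := levOK_spec hL
  obtain ⟨o1, -, -⟩ := sigOrbOK_spec hO
  have hs := simpleOK_of_mem D hD
  have htri := triOK_of_mem D hD
  have hlt : ∀ i ∈ J, i < D.rank := fun i hi => (h3 i hi).1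
  have hnJ := nJ_mem_G1 D hD S f J hJ hL G1 hXJ hXJn
  have hUB := posUnipotent_le_borel (F := K) D hD
  have hHB := diagonal_le_borel (F := K) D hD
  obtain ⟨w, hw, h', hh', rfl⟩ := mem_monomial_decomp D hD n' hn'
  have hwr : ∀ j ∈ w.reverse, j < D.rank := fun j hj => hw j (List.mem_reverse.mp hj)
  have hfix := hG1 _ hn'G
  by_cases hcz : ∀ i ∈ J, c i = 0
  · -- `X_J(c) = 1`
    have e : XJ D K J c = 1 := by
      rw [XJ_congr D J c (fun _ => 0) hcz, XJ_zero D hD J]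
    refine ⟨1, one_mem _, 1, one_mem _, Or.inl ?_⟩
    rw [e, mul_one, one_mul, mul_one]
  push Not at hcz
  obtain ⟨i₀, hi₀, hci₀⟩ := hcz
  have hcne : ∀ i ∈ J, c i ≠ 0 := fun i hi => twisted_ne_zero D S f J hO c hc i₀ i hi₀ hi hci₀
  by_cases hsign : hlfOf D ≤ rho D w.reverse (D.simple i₀)
  · -- case A
    have hposall : ∀ i ∈ J, hlfOf D ≤ rho D w.reverse (D.simple i) :=
      fun i hi => (sign_all D hD S f J hL hO h' hh' w hw hfix i₀ i hi₀ hi).mp hsign
    obtain ⟨Y, hYU, e⟩ := XJ_mul_hn_pos D hD J hL h' hh' w hw hposall c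
    have hYG : Y ∈ G1 := by
      have : Y = (h' * nWordsGL D K w)⁻¹ * XJ D K J c * (h' * nWordsGL D K w) := by
        rw [mul_assoc, e]; group
      rw [this]
      exact mul_mem (mul_mem (inv_mem hn'G) (hXJ c hc)) hn'G
    refine ⟨1, one_mem _, Y, ⟨hUB hYU, hYG⟩, Or.inl ?_⟩
    rw [one_mul, mul_assoc, e, ← mul_assoc]
  · -- case B
    have hnegall : ∀ i ∈ J, ¬ hlfOf D ≤ rho D w.reverse (D.simple i) :=
      fun i hi hpos => hsign ((sign_all D hD S f J hL hO h' hh' w hw hfix i₀ i hi₀ hi).mpr hpos)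
    obtain ⟨η, hη, hconj⟩ := nJ_conj_XJ (F := K) D hD J hJ hL
    set d : ℕ → K := fun i => ((η i : ℤ) : K) * c i with hd
    have hη0 : ∀ i, ((η i : ℤ) : K) ≠ 0 := by
      intro i
      rcases hη i with e | e <;> rw [e] <;> simp
    have hdne : ∀ i ∈ J, d i ≠ 0 := fun i hi => mul_ne_zero (hη0 i) (hcne i hi)
    have e1 : nWordsGL D K J * XJ D K J c = XJn D K J d * nWordsGL D K J := hconj c
    have hXnG : XJn D K J d ∈ G1 := by
      have : XJn D K J d = nWordsGL D K J * XJ D K J c * (nWordsGL D K J)⁻¹ := by rw [e1]; group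
      rw [this]
      exact mul_mem (mul_mem hnJ (hXJ c hc)) (inv_mem hnJ)
    have hdtw : ∀ i ∈ J, d (S.ρ i) = f (d i) := XJn_fix_twisted D hD S f J hJ hL hO d (hG1 _ hXnG)
    set d' : ℕ → K := fun i => (d i)⁻¹ with hd'
    have hd'tw : ∀ i ∈ J, d' (S.ρ i) = f (d' i) := by
      intro i hi
      simp only [hd']
      rw [hdtw i hi, map_inv₀]
    have e2 : XJn D K J d = XJ D K J d' * HJ D K J (fun i => - (d i)⁻¹) * nWordsGL D K J * XJ D K J d' :=
      XJn_eq D hD J hJ hnd hlt d hdne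
    have hHG : HJ D K J (fun i => - (d i)⁻¹) ∈ G1 := by
      have : HJ D K J (fun i => - (d i)⁻¹) = (XJ D K J d')⁻¹ * XJn D K J d * (XJ D K J d')⁻¹ *
          (nWordsGL D K J)⁻¹ := by
        rw [e2]; group
      rw [this]
      exact mul_mem (mul_mem (mul_mem (inv_mem (hXJ d' hd'tw)) hXnG) (inv_mem (hXJ d' hd'tw))) (inv_mem hnJ)
    have hHH : HJ D K J (fun i => - (d i)⁻¹) ∈ D.diagonalSubgroup K :=
      HJ_mem D hD J hlt _ (fun i hi => neg_ne_zero.mpr (inv_ne_zero (hdne i hi)))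
    -- the element `n_J h' n_w = h'' n_{J ++ w}`
    have hnJN : nWordsGL D K J ∈ D.monomialSubgroup K := nWordsGL_mem D hD J hlt
    have hh'' : nWordsGL D K J * h' * (nWordsGL D K J)⁻¹ ∈ D.diagonalSubgroup K :=
      (Subgroup.mem_normalizer_iff.mp (monomialSubgroup_le_normalizer D hD hnJN) h').mp hh'
    have hw2 : ∀ j ∈ J ++ w, j < D.rank := by
      intro j hj
      rcases List.mem_append.mp hj with hj | hj
      · exact hlt j hj
      · exact hw j hj
    have en : nWordsGL D K (J ++ w) = nWordsGL D K J * nWordsGL D K w := by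
      simp [nWordsGL]
    have e3 : nWordsGL D K J * (h' * nWordsGL D K w) =
        (nWordsGL D K J * h' * (nWordsGL D K J)⁻¹) * nWordsGL D K (J ++ w) := by
      rw [en]; group
    have hpos2 : ∀ i ∈ J, hlfOf D ≤ rho D (J ++ w).reverse (D.simple i) := by
      intro i hi
      have hsi := simple_lt D hs i (hlt i hi)
      have : rho D (J ++ w).reverse (D.simple i) = rho D w.reverse (rho D J.reverse (D.simple i)) := by
        rw [List.reverse_append]
        unfold rho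
        rw [List.foldr_append]
      rw [this, (h3 i hi).2.2, rho_neg D hD _ hwr _ hsi]
      have hq := rho_lt D hD w.reverse hwr _ hsi
      exact (triOK_spec D _ htri _ hq).2.2.1 (by have := hnegall i hi; omega)
    obtain ⟨Y, hYU, e4⟩ := XJ_mul_hn_pos D hD J hL _ hh'' (J ++ w) hw2 hpos2 d'
    rw [← e3] at e4
    have hn''G : nWordsGL D K J * (h' * nWordsGL D K w) ∈ G1 := mul_mem hnJ hn'G
    have hYG : Y ∈ G1 := by
      have : Y = (nWordsGL D K J * (h' * nWordsGL D K w))⁻¹ * XJ D K J d' *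
          (nWordsGL D K J * (h' * nWordsGL D K w)) := by
        rw [mul_assoc, e4]; group
      rw [this]
      exact mul_mem (mul_mem (inv_mem hn''G) (hXJ d' hd'tw)) hn''G
    have hss := nJ_sq_mem (F := K) D hD J hJ hnd hlt
    refine ⟨XJ D K J d' * HJ D K J (fun i => - (d i)⁻¹) * (nWordsGL D K J * nWordsGL D K J), ⟨?_, ?_⟩, Y,
      ⟨hUB hYU, hYG⟩, Or.inr ?_⟩
    · apply mul_mem (mul_mem ?_ (hHB hHH)) (hHB hss)
      have : XJ D K J d' ∈ D.posUnipotent K := by
        unfold XJ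
        apply Subgroup.list_prod_mem
        intro x hx
        obtain ⟨i, hi, rfl⟩ := List.mem_map.mp hx
        exact xGL_mem_posUnipotent D hD _ ⟨simple_pos D hD i (hlt i hi), simple_lt D hs i (hlt i hi)⟩ _
      exact hUB this
    · exact mul_mem (mul_mem (hXJ d' hd'tw) hHG) (mul_mem hnJ hnJ)
    · calc nWordsGL D K J * XJ D K J c * (h' * nWordsGL D K w)
          = XJn D K J d * (nWordsGL D K J * (h' * nWordsGL D K w)) := by rw [e1, mul_assoc]
        _ = XJ D K J d' * HJ D K J (fun i => - (d i)⁻¹) * nWordsGL D K J *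
              (XJ D K J d' * (nWordsGL D K J * (h' * nWordsGL D K w))) := by
            rw [e2]; simp only [mul_assoc]
        _ = XJ D K J d' * HJ D K J (fun i => - (d i)⁻¹) * nWordsGL D K J *
              (nWordsGL D K J * (h' * nWordsGL D K w) * Y) := by rw [e4]
        _ = XJ D K J d' * HJ D K J (fun i => - (d i)⁻¹) * (nWordsGL D K J * nWordsGL D K J) *
              (h' * nWordsGL D K w) * Y := by simp only [mul_assoc]

include hG1 in
/-- the double coset condition `n_J b n ∈ B¹ n_J n B¹ ∪ B¹ n B¹` -/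
theorem bn_mul_mem_tw (b : GL D.Idx K) (hb : b ∈ D.borelSubgroup K) (hbG : b ∈ G1) (n : GL D.Idx K)
    (hn : n ∈ D.monomialSubgroup K) (hnG : n ∈ G1) :
    ∃ b1 ∈ D.borelSubgroup K ⊓ G1, ∃ b2 ∈ D.borelSubgroup K ⊓ G1,
      nWordsGL D K J * b * n = b1 * (nWordsGL D K J * n) * b2 ∨ nWordsGL D K J * b * n = b1 * n * b2 := by
  obtain ⟨-, -, h3, hnd⟩ := levOK_spec hL
  have hlt : ∀ i ∈ J, i < D.rank := fun i hi => (h3 i hi).1
  have hnJ := nJ_mem_G1 D hD S f J hJ hL G1 hXJ hXJn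
  have hUB := posUnipotent_le_borel (F := K) D hD
  have hHB := diagonal_le_borel (F := K) D hD
  obtain ⟨u', hu', h, hh, c, hc, rfl⟩ := borel_fix_decomp D hD S f J hJ hL hO b hb (hG1 b hbG)
  have hyG : u' * h ∈ G1 := by
    have : u' * h = u' * h * XJ D K J c * (XJ D K J c)⁻¹ := by group
    rw [this]
    exact mul_mem hbG (inv_mem (hXJ c hc))
  have hnJN : nWordsGL D K J ∈ D.monomialSubgroup K := nWordsGL_mem D hD J hlt
  have h1 : nWordsGL D K J * u' * (nWordsGL D K J)⁻¹ ∈ D.borelSubgroup K :=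
    hUB (UJ_le D hD J ((Subgroup.mem_normalizer_iff.mp (nJ_mem_normalizer_UJ D hD J hL) u').mp hu'))
  have h2 : nWordsGL D K J * h * (nWordsGL D K J)⁻¹ ∈ D.borelSubgroup K :=
    hHB ((Subgroup.mem_normalizer_iff.mp (monomialSubgroup_le_normalizer D hD hnJN) h).mp hh)
  have hy : nWordsGL D K J * (u' * h) * (nWordsGL D K J)⁻¹ ∈ D.borelSubgroup K ⊓ G1 := by
    refine Subgroup.mem_inf.mpr ⟨?_, Subgroup.mul_mem _ (Subgroup.mul_mem _ hnJ hyG) (Subgroup.inv_mem _ hnJ)⟩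
    have : nWordsGL D K J * (u' * h) * (nWordsGL D K J)⁻¹ =
        (nWordsGL D K J * u' * (nWordsGL D K J)⁻¹) * (nWordsGL D K J * h * (nWordsGL D K J)⁻¹) := by group
    rw [this]
    exact mul_mem h1 h2
  obtain ⟨b1, hb1, b2, hb2, e | e⟩ := coreC_tw D hD S f J hJ hL hO G1 hG1 hXJ hXJn c hc n hn hnG
  · refine ⟨nWordsGL D K J * (u' * h) * (nWordsGL D K J)⁻¹ * b1, mul_mem hy hb1, b2, hb2, Or.inl ?_⟩
    calc nWordsGL D K J * (u' * h * XJ D K J c) * n
        = nWordsGL D K J * (u' * h) * (nWordsGL D K J)⁻¹ * (nWordsGL D K J * XJ D K J c * n) := by group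
      _ = nWordsGL D K J * (u' * h) * (nWordsGL D K J)⁻¹ * b1 * (nWordsGL D K J * n) * b2 := by
          rw [e]; simp only [mul_assoc]
  · refine ⟨nWordsGL D K J * (u' * h) * (nWordsGL D K J)⁻¹ * b1, mul_mem hy hb1, b2, hb2, Or.inr ?_⟩
    calc nWordsGL D K J * (u' * h * XJ D K J c) * n
        = nWordsGL D K J * (u' * h) * (nWordsGL D K J)⁻¹ * (nWordsGL D K J * XJ D K J c * n) := by group
      _ = nWordsGL D K J * (u' * h) * (nWordsGL D K J)⁻¹ * b1 * n * b2 := by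
          rw [e]; simp only [mul_assoc]

end Core

end Cfsg.Agent.Helper9.Tw
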