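import Cfsg.Agent.Helper9.TwOrb
import Cfsg.Agent.S1036

/-!
Helper9: for a set `J` of pairwise strongly orthogonal fundamental roots: the conjugation of `X_J` by `n_J`,
the decomposition `U = U_J X_J` (`U_J` the unipotent radical of the parabolic subgroup `P_J`), and the
uniqueness of the coefficients of `X_J(c)`.
-/

set_option autoImplicit false

namespace Cfsg.Agent.Helper9.Tw

open Cfsg Cfsg.Lie Cfsg.Agent.Helper18

/-- the set of nodes of a list -/
def JS (J : List ℕ) : Set ℕ := {j | j ∈ J}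

/-- table facts on `J`: the coroot of `p_i` is the `i`-th unit vector; the positive roots in `Φ_J` are the `p_j`;
`w_J` maps `p_i` to `-p_i` (`i ∈ J`). -/
def levOK (D : ChevalleyDatum) (J : List ℕ) : Bool :=
  ((List.range D.rank).all fun j => (List.range D.rank).all fun k =>
    decide ((D.coroot.getD (D.simple j) #[]).getD k 0 = if k = j then 1 else 0)) &&
  ((List.range D.nroots).all fun r => decide (r < hlfOf D) || (decide (r ∈ J.map D.simple) ==
    ((List.range D.rank).all fun i => decide (i ∈ J) || decide ((D.coroot.getD r #[]).getD i 0 = 0)))) &&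
  (J.all fun i => decide (i < D.rank) && decide (rho D J (D.simple i) = D.neg (D.simple i)) &&
    decide (rho D J.reverse (D.simple i) = D.neg (D.simple i))) &&
  decide J.Nodup

theorem levOK_spec {D : ChevalleyDatum} {J : List ℕ} (h : levOK D J = true) :
    (∀ j < D.rank, ∀ k < D.rank, (D.coroot.getD (D.simple j) #[]).getD k 0 = if k = j then 1 else 0) ∧
    (∀ r < D.nroots, hlfOf D ≤ r → (r ∈ J.map D.simple ↔
      ∀ i < D.rank, i ∉ J → (D.coroot.getD r #[]).getD i 0 = 0)) ∧
    (∀ i ∈ J, i < D.rank ∧ rho D J (D.simple i) = D.neg (D.simple i) ∧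
      rho D J.reverse (D.simple i) = D.neg (D.simple i)) ∧ J.Nodup := by
  unfold levOK at h
  simp only [Bool.and_eq_true, List.all_eq_true, List.mem_range, decide_eq_true_eq, Bool.or_eq_true, beq_iff_eq]
    at h
  obtain ⟨⟨⟨h1, h2⟩, h3⟩, h4⟩ := h
  refine ⟨h1, ?_, ?_, h4⟩
  · intro r hr hpos
    have := (h2 r hr).resolve_left (by omega)
    constructor
    · intro hm i hi hiJ
      have h5 : decide (r ∈ J.map D.simple) = true := decide_eq_true hm
      rw [this, List.all_eq_true] at h5
      have h6 := h5 i (List.mem_range.mpr hi)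
      simp only [Bool.or_eq_true, decide_eq_true_eq] at h6
      exact h6.resolve_left hiJ
    · intro hall
      have h5 : ((List.range D.rank).all fun i => decide (i ∈ J) ||
          decide ((D.coroot.getD r #[]).getD i 0 = 0)) = true := by
        rw [List.all_eq_true]
        intro i hi
        by_cases hiJ : i ∈ J
        · simp [hiJ]
        · have h7 := hall i (List.mem_range.mp hi) hiJ
          rw [Bool.or_eq_true, decide_eq_true_eq, decide_eq_true_eq]
          exact Or.inr h7
      rw [← this] at h5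
      exact of_decide_eq_true h5
  · intro i hi
    have := h3 i hi
    exact ⟨this.1.1, this.1.2, this.2⟩

section Lev
variable {F : Type*} [Field F]
variable (D : ChevalleyDatum) (hD : D ∈ [chevG2, chevB2, chevD4, chevF4, chevE6, chevE7, chevE8])
variable (J : List ℕ) (hJ : orthOK D J = true) (hL : levOK D J = true)
include hD hJ hL

omit hJ in
/-- a fundamental root lies in `Φ_S` iff its node is in `S` -/
theorem inRootSub_simple_iff (S : Set ℕ) (j : ℕ) (hj : j < D.rank) : D.InRootSub S (D.simple j) ↔ j ∈ S := by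
  obtain ⟨h1, -, -, -⟩ := levOK_spec hL
  have hs := simple_lt D (simpleOK_of_mem D hD) j hj
  constructor
  · intro h
    by_contra hjS
    have := h.2 j hj hjS
    rw [h1 j hj j hj, if_pos rfl] at this
    exact one_ne_zero this
  · intro hjS
    refine ⟨hs, fun i hi hiS => ?_⟩
    rw [h1 j hj i hi, if_neg]
    rintro rfl
    exact hiS hjS

omit hJ in
/-- the positive roots of `Φ_J` are the `p_j`, `j ∈ J` -/
theorem inRootSub_pos_iff (r : ℕ) (hr : hlfOf D ≤ r ∧ r < D.nroots) :
    D.InRootSub (JS J) r ↔ r ∈ J.map D.simple := by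
  obtain ⟨-, h2, -, -⟩ := levOK_spec hL
  rw [h2 r hr.2 hr.1]
  constructor
  · intro h i hi hiJ
    exact h.2 i hi hiJ
  · intro h
    exact ⟨hr.2, fun i hi hiJ => h i hi hiJ⟩

/-- `n_J X_J(c) n_J⁻¹ = X_{-J}(η c)` -/
theorem nJ_conj_XJ : ∃ η : ℕ → ℤ, (∀ i, η i = 1 ∨ η i = -1) ∧ ∀ c : ℕ → F,
    nWordsGL D F J * XJ D F J c = XJn D F J (fun i => ((η i : ℤ) : F) * c i) * nWordsGL D F J := by
  classical
  obtain ⟨-, -, h3, -⟩ := levOK_spec hL
  have hs := simpleOK_of_mem D hD
  have hlt : ∀ i ∈ J, i < D.rank := fun i hi => (h3 i hi).1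
  have hex : ∀ i, ∃ η : ℤ, (η = 1 ∨ η = -1) ∧ (i ∈ J → ∀ t : F,
      nWordsGL D F J * xGL D F (D.simple i) t = xGL D F (D.neg (D.simple i)) ((η : F) * t) * nWordsGL D F J) := by
    intro i
    by_cases hi : i ∈ J
    · obtain ⟨-, η, hη, h⟩ := nWordsGL_conj_xGL D hD (nConjHyp (F := F) D hD)
        (fun i s hi hs => reflectRoot_lt D hD i s hi hs) J hlt _ (simple_lt D hs i (hlt i hi))
      rw [(h3 i hi).2.1] at h
      exact ⟨η, hη, fun _ => h⟩
    · exact ⟨1, Or.inl rfl, fun h => absurd h hi⟩
  choose η hη hc using hex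
  refine ⟨η, hη, fun c => ?_⟩
  unfold XJ XJn
  have key : ∀ L : List ℕ, (∀ i ∈ L, i ∈ J) →
      nWordsGL D F J * (L.map fun i => xGL D F (D.simple i) (c i)).prod =
        (L.map fun i => xGL D F (D.neg (D.simple i)) (((η i : ℤ) : F) * c i)).prod * nWordsGL D F J := by
    intro L
    induction L with
    | nil => intro _; simp
    | cons i L ih =>
      intro hL'
      have ih' := ih (fun j hj => hL' j (List.mem_cons_of_mem _ hj))
      simp only [List.map_cons, List.prod_cons]
      rw [← mul_assoc, hc i (hL' i List.mem_cons_self), mul_assoc, ih', mul_assoc]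
  exact key J (fun i hi => hi)

/-- `x_{p_i}(t) = X_J(t e_i)` -/
theorem XJ_single (i : ℕ) (hi : i ∈ J) (t : F) :
    XJ D F J (fun j => if j = i then t else 0) = xGL D F (D.simple i) t := by
  obtain ⟨-, -, -, hnd⟩ := levOK_spec hL
  unfold XJ
  have key : ∀ L : List ℕ, L.Nodup → i ∈ L →
      (L.map fun j => xGL D F (D.simple j) (if j = i then t else 0)).prod = xGL D F (D.simple i) t := by
    intro L
    induction L with
    | nil => intro _ h; cases h
    | cons j L ih =>
      intro hnd' hmem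
      rw [List.nodup_cons] at hnd'
      simp only [List.map_cons, List.prod_cons]
      by_cases hji : j = i
      · subst hji
        rw [if_pos rfl]
        have : (L.map fun k => xGL D F (D.simple k) (if k = j then t else 0)).prod = 1 := by
          apply List.prod_eq_one
          intro x hx
          obtain ⟨k, hk, rfl⟩ := List.mem_map.mp hx
          have : k ≠ j := by rintro rfl; exact hnd'.1 hk
          rw [if_neg this]
          exact xGL_zero' D hD _
        rw [this, mul_one]
      · rw [if_neg hji, xGL_zero' D hD, one_mul]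
        rcases List.mem_cons.mp hmem with h | h
        · exact absurd h.symm hji
        · exact ih hnd'.2 h
  exact key J hnd hi

/-- the unipotent radical `U_J` -/
noncomputable abbrev UJ (D : ChevalleyDatum) (F : Type*) [Field F] (J : List ℕ) : Subgroup (GL D.Idx F) :=
  D.unipotentRadical F (JS J)

omit hJ hL in
theorem UJ_le : UJ D F J ≤ D.posUnipotent F := by
  unfold UJ ChevalleyDatum.unipotentRadical ChevalleyDatum.posUnipotent
  apply Subgroup.closure_mono
  rintro g ⟨r, t, hr, -, hg⟩
  exact ⟨r, t, hr, hg⟩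

omit hJ hL in
theorem borel_le_parabolic (S : Set ℕ) : D.borelSubgroup F ≤ D.parabolicSubgroup F S := by
  unfold ChevalleyDatum.parabolicSubgroup
  exact le_sup_left

omit hJ hL in
/-- `B` normalises `U_J` -/
theorem borel_le_normalizer_UJ : D.borelSubgroup F ≤ Subgroup.normalizer (UJ D F J : Set (GL D.Idx F)) :=
  (borel_le_parabolic D hD (JS J)).trans (levi_decomp D hD (commHyp (F := F) D hD) (JS J)).1

omit hJ in
/-- `n_J` normalises `U_J` -/
theorem nJ_mem_normalizer_UJ : nWordsGL D F J ∈ Subgroup.normalizer (UJ D F J : Set (GL D.Idx F)) := by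
  obtain ⟨-, -, h3, -⟩ := levOK_spec hL
  apply (levi_decomp D hD (commHyp (F := F) D hD) (JS J)).1
  unfold nWordsGL
  apply Subgroup.list_prod_mem
  intro x hx
  obtain ⟨i, hi, rfl⟩ := List.mem_map.mp hx
  unfold ChevalleyDatum.parabolicSubgroup
  apply Subgroup.mem_sup_right
  apply Subgroup.subset_closure
  exact ⟨i, hi, (h3 i hi).1, nWordGL_val D hD _ _⟩

/-- `U = U_J X_J` -/
theorem mem_posUnipotent_decompJ (u : GL D.Idx F) (hu : u ∈ D.posUnipotent F) :
    ∃ u' ∈ UJ D F J, ∃ c : ℕ → F, u = u' * XJ D F J c := by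
  classical
  have htri := triOK_of_mem D hD
  have hpos := posOK_of_mem D hD
  obtain ⟨-, -, h3, hnd⟩ := levOK_spec hL
  have hstep : ∀ (r : ℕ) (t : F), D.IsPosRoot r → ∀ u' ∈ UJ D F J, ∀ c : ℕ → F,
      ∃ u'' ∈ UJ D F J, ∃ c' : ℕ → F, xGL D F r t * (u' * XJ D F J c) = u'' * XJ D F J c' := by
    intro r t hr u' hu' c
    have hr' := (isPosRoot_iff D _ hpos r).mp hr
    by_cases hin : D.InRootSub (JS J) r
    · rw [inRootSub_pos_iff D hD J hL r hr'] at hin
      obtain ⟨i, hi, rfl⟩ := List.mem_map.mp hin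
      have hxB : xGL D F (D.simple i) t ∈ D.borelSubgroup F :=
        posUnipotent_le_borel D hD (xGL_mem_posUnipotent D hD _ hr' t)
      have hn := borel_le_normalizer_UJ D hD J hxB
      refine ⟨xGL D F (D.simple i) t * u' * (xGL D F (D.simple i) t)⁻¹,
        (Subgroup.mem_normalizer_iff.mp hn u').mp hu', fun j => (if j = i then t else 0) + c j, ?_⟩
      rw [← XJ_mul D hD J hJ hnd, XJ_single D hD J hJ hL i hi t]
      group
    · refine ⟨xGL D F r t * u', mul_mem ?_ hu', c, by rw [mul_assoc]⟩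
      apply Subgroup.subset_closure
      exact ⟨r, t, hr, hin, xGL_val D _ htri r t⟩
  unfold ChevalleyDatum.posUnipotent at hu
  induction hu using Subgroup.closure_induction_left with
  | one => exact ⟨1, one_mem _, fun _ => 0, by rw [XJ_zero D hD J, mul_one]⟩
  | mul_left x hx y _ ih =>
    obtain ⟨r, t, hr, hxm⟩ := hx
    obtain ⟨u', hu', c, rfl⟩ := ih
    have hxx : x = xGL D F r t := Units.ext (by rw [hxm, xGL_val D _ htri])
    rw [hxx]
    exact hstep r t hr u' hu' c
  | inv_mul_cancel x hx y _ ih =>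
    obtain ⟨r, t, hr, hxm⟩ := hx
    obtain ⟨u', hu', c, rfl⟩ := ih
    have hxx : x = xGL D F r t := Units.ext (by rw [hxm, xGL_val D _ htri])
    rw [hxx, xGL_inv' D hD]
    exact hstep r (-t) hr u' hu' c

omit hJ in
/-- `X_J(c)` lies in the Levi subgroup of `J` -/
theorem XJ_mem_levi (S : Set ℕ) (hS : ∀ i ∈ J, i ∈ S) (c : ℕ → F) : XJ D F J c ∈ D.leviSubgroup F S := by
  have htri := triOK_of_mem D hD
  obtain ⟨-, -, h3, -⟩ := levOK_spec hL
  unfold XJ
  apply Subgroup.list_prod_mem
  intro x hx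
  obtain ⟨i, hi, rfl⟩ := List.mem_map.mp hx
  unfold ChevalleyDatum.leviSubgroup
  apply Subgroup.mem_sup_right
  apply Subgroup.subset_closure
  exact ⟨_, _, (inRootSub_simple_iff D hD J hL S i (h3 i hi).1).mpr (hS i hi), xGL_val D _ htri _ _⟩

/-- the coefficients of `X_J(c)` are unique -/
theorem XJ_eq_one (c : ℕ → F) (h : XJ D F J c = 1) : ∀ i ∈ J, c i = 0 := by
  classical
  have htri := triOK_of_mem D hD
  have hpos := posOK_of_mem D hD
  obtain ⟨-, -, h3, hnd⟩ := levOK_spec hL
  intro i hi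
  have hilt := (h3 i hi).1
  have hs := simple_lt D (simpleOK_of_mem D hD) i hilt
  -- split off the `i`-th factor
  have e1 : XJ D F J c = xGL D F (D.simple i) (c i) * XJ D F J (fun j => if j = i then 0 else c j) := by
    rw [← XJ_single D hD J hJ hL i hi (c i), XJ_mul D hD J hJ hnd]
    apply XJ_congr
    intro j _
    by_cases hji : j = i
    · subst hji; simp
    · simp [hji]
  rw [e1] at h
  set S : Set ℕ := {j | j ∈ J ∧ j ≠ i} with hS
  have hmem1 : xGL D F (D.simple i) (c i) ∈ D.unipotentRadical F S := by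
    apply Subgroup.subset_closure
    refine ⟨_, _, (isPosRoot_iff D _ hpos _).mpr ⟨simple_pos D hD i hilt, hs⟩, ?_, xGL_val D _ htri _ _⟩
    rw [inRootSub_simple_iff D hD J hL S i hilt]
    intro hiS
    exact hiS.2 rfl
  have hmem2 : XJ D F J (fun j => if j = i then 0 else c j) ∈ D.leviSubgroup F S := by
    -- the factors with `j ≠ i` are in the Levi subgroup, the `i`-th factor is trivial
    unfold XJ
    apply Subgroup.list_prod_mem
    intro x hx
    obtain ⟨j, hj, rfl⟩ := List.mem_map.mp hx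
    by_cases hji : j = i
    · dsimp only
      rw [if_pos hji, xGL_zero' D hD]
      exact one_mem _
    · dsimp only
      rw [if_neg hji]
      unfold ChevalleyDatum.leviSubgroup
      apply Subgroup.mem_sup_right
      apply Subgroup.subset_closure
      exact ⟨_, _, (inRootSub_simple_iff D hD J hL S j (h3 j hj).1).mpr ⟨hj, hji⟩, xGL_val D _ htri _ _⟩
  have e2 : xGL D F (D.simple i) (c i) = (XJ D F J (fun j => if j = i then 0 else c j))⁻¹ :=
    eq_inv_of_mul_eq_one_left h
  have hmem3 : xGL D F (D.simple i) (c i) ∈ D.unipotentRadical F S ⊓ D.leviSubgroup F S :=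
    Subgroup.mem_inf.mpr ⟨hmem1, by rw [e2]; exact Subgroup.inv_mem _ hmem2⟩
  rw [(levi_decomp D hD (commHyp (F := F) D hD) S).2.2, Subgroup.mem_bot] at hmem3
  have e3 := congrArg (fun g : GL D.Idx F => (g : Matrix D.Idx D.Idx F)) hmem3
  simp only [xGL_val D _ htri, Units.val_one] at e3
  exact (Cfsg.Agent.S1024.result D hD _ hs _).mp e3

/-- `U_J H ∩ X_J = 1` -/
theorem UJ_H_inf_XJ (u' h : GL D.Idx F) (hu' : u' ∈ UJ D F J) (hh : h ∈ D.diagonalSubgroup F) (c : ℕ → F)
    (he : u' * h = XJ D F J c) : ∀ i ∈ J, c i = 0 := by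
  have hlev : XJ D F J c ∈ D.leviSubgroup F (JS J) := XJ_mem_levi D hD J hL (JS J) (fun i hi => hi) c
  have hhlev : h ∈ D.leviSubgroup F (JS J) := by
    unfold ChevalleyDatum.leviSubgroup
    exact Subgroup.mem_sup_left hh
  have e1 : u' = XJ D F J c * h⁻¹ := by rw [← he]; group
  have hu1 : u' ∈ UJ D F J ⊓ D.leviSubgroup F (JS J) := Subgroup.mem_inf.mpr ⟨hu', by rw [e1]; exact Subgroup.mul_mem _ hlev (Subgroup.inv_mem _ hhlev)⟩
  rw [(levi_decomp D hD (commHyp (F := F) D hD) (JS J)).2.2, Subgroup.mem_bot] at hu1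
  rw [hu1, one_mul] at he
  -- `h = X_J(c) ∈ U ∩ H = 1`
  have hU : XJ D F J c ∈ D.posUnipotent F := by
    obtain ⟨-, -, h3, -⟩ := levOK_spec hL
    unfold XJ
    apply Subgroup.list_prod_mem
    intro x hx
    obtain ⟨i, hi, rfl⟩ := List.mem_map.mp hx
    exact xGL_mem_posUnipotent D hD _ ⟨simple_pos D hD i (h3 i hi).1,
      simple_lt D (simpleOK_of_mem D hD) i (h3 i hi).1⟩ _
  have h1 : XJ D F J c ∈ D.posUnipotent F ⊓ D.diagonalSubgroup F := Subgroup.mem_inf.mpr ⟨hU, by rw [← he]; exact hh⟩
  rw [(Cfsg.Agent.S1036.result D hD).2, Subgroup.mem_bot] at h1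
  exact XJ_eq_one D hD J hJ hL c h1

end Lev

end Cfsg.Agent.Helper9.Tw
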