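import Cfsg.Agent.Helper18.BNPairChev
import Cfsg.Agent.Helper18.Levi
import Cfsg.Agent.S1025

/-!
Helper9: sets `J` of pairwise strongly orthogonal fundamental roots (the orbits of the graph symmetry for the
twisted groups `²E₆`, `³D₄`): the commuting products `X_J(c) = ∏ x_{p_i}(c_i)`, `X_{-J}(c)`, `n_J = ∏ n_{p_i}`,
the rank one identity and the decomposition `U = U_J X_J`.
-/

set_option autoImplicit false

namespace Cfsg.Agent.Helper9.Tw

open Cfsg Cfsg.Lie Cfsg.Agent.Helper18

section Grp
variable {G : Type*} [Group G] {ι : Type*}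

theorem commute_list_prod_map (l : List ι) (a : ι → G) (g : G) (h : ∀ i ∈ l, Commute g (a i)) :
    Commute g (l.map a).prod := by
  apply Commute.list_prod_right
  intro x hx
  obtain ⟨i, hi, rfl⟩ := List.mem_map.mp hx
  exact h i hi

/-- the product of a list of products of two commuting families -/
theorem list_prod_map_mul (l : List ι) (hl : l.Nodup) (a b : ι → G)
    (h : ∀ i ∈ l, ∀ j ∈ l, i ≠ j → Commute (b i) (a j)) :
    (l.map fun i => a i * b i).prod = (l.map a).prod * (l.map b).prod := by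
  induction l with
  | nil => simp
  | cons i l ih =>
    rw [List.nodup_cons] at hl
    have ih' := ih hl.2 (fun i' hi' j hj hne => h i' (List.mem_cons_of_mem _ hi') j (List.mem_cons_of_mem _ hj) hne)
    simp only [List.map_cons, List.prod_cons]
    rw [ih']
    have hc : Commute (b i) (l.map a).prod := by
      apply commute_list_prod_map
      intro j hj
      apply h i List.mem_cons_self j (List.mem_cons_of_mem _ hj)
      rintro rfl
      exact hl.1 hj
    calc a i * b i * ((l.map a).prod * (l.map b).prod)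
        = a i * (b i * (l.map a).prod) * (l.map b).prod := by group
      _ = a i * ((l.map a).prod * b i) * (l.map b).prod := by rw [hc.eq]
      _ = a i * (l.map a).prod * (b i * (l.map b).prod) := by group

theorem list_prod_map_inv_of_commute (l : List ι) (a : ι → G)
    (h : ∀ i ∈ l, ∀ j ∈ l, Commute (a i) (a j)) :
    ((l.map a).prod)⁻¹ = (l.map fun i => (a i)⁻¹).prod := by
  induction l with
  | nil => simp
  | cons i l ih =>
    have ih' := ih (fun i' hi' j hj => h i' (List.mem_cons_of_mem _ hi') j (List.mem_cons_of_mem _ hj))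
    simp only [List.map_cons, List.prod_cons]
    rw [mul_inv_rev, ih']
    have hc : Commute (a i)⁻¹ (l.map fun j => (a j)⁻¹).prod := by
      apply commute_list_prod_map
      intro j hj
      exact ((h i List.mem_cons_self j (List.mem_cons_of_mem _ hj)).inv_left).inv_right
    exact hc.eq.symm

end Grp

/-- the check: the fundamental roots `p_i`, `i ∈ J`, are pairwise strongly orthogonal -/
def orthOK (D : ChevalleyDatum) (J : List ℕ) : Bool :=
  J.all fun i => J.all fun j => (i == j) ||
    ([D.simple i, D.neg (D.simple i)].all fun a => [D.simple j, D.neg (D.simple j)].all fun b =>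
      decide (D.commTerms a b = []) && decide (b ≠ a) && decide (b ≠ D.neg a) && decide (a < D.nroots) &&
        decide (b < D.nroots))

theorem orthOK_spec {D : ChevalleyDatum} {J : List ℕ} (h : orthOK D J = true) (i j : ℕ) (hi : i ∈ J) (hj : j ∈ J)
    (hij : i ≠ j) (a b : ℕ) (ha : a = D.simple i ∨ a = D.neg (D.simple i))
    (hb : b = D.simple j ∨ b = D.neg (D.simple j)) :
    D.commTerms a b = [] ∧ b ≠ a ∧ b ≠ D.neg a ∧ a < D.nroots ∧ b < D.nroots := by
  unfold orthOK at h
  rw [List.all_eq_true] at h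
  have h1 := h i hi
  rw [List.all_eq_true] at h1
  have h2 := h1 j hj
  rw [Bool.or_eq_true, beq_iff_eq] at h2
  have h3 := h2.resolve_left hij
  rw [List.all_eq_true] at h3
  have h4 := h3 a (by simp only [List.mem_cons, List.not_mem_nil, or_false]; exact ha)
  rw [List.all_eq_true] at h4
  have h5 := h4 b (by simp only [List.mem_cons, List.not_mem_nil, or_false]; exact hb)
  simp only [Bool.and_eq_true, decide_eq_true_eq] at h5
  tauto

section Orb
variable {F : Type*} [Field F]
variable (D : ChevalleyDatum) (hD : D ∈ [chevG2, chevB2, chevD4, chevF4, chevE6, chevE7, chevE8])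
include hD

theorem commHyp : CommHyp D F := fun r s hr hs h1 h2 t u => Cfsg.Agent.S1025.result D hD r s hr hs h1 h2 t u

/-- root elements of strongly orthogonal roots commute -/
theorem commute_xGL_of_commTerms_nil (a b : ℕ) (ha : a < D.nroots) (hb : b < D.nroots) (h1 : b ≠ a)
    (h2 : b ≠ D.neg a) (hc : D.commTerms a b = []) (t u : F) : Commute (xGL D F a t) (xGL D F b u) := by
  have h := comm_xGL D hD (commHyp (F := F) D hD) a b ha hb h1 h2 t u
  have e : wordGL D F (D.commWord F a b t u) = 1 := by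
    unfold ChevalleyDatum.commWord
    rw [hc]
    simp [wordGL]
  rw [e, mul_one] at h
  -- h : (x a t)⁻¹ * x b u * x a t = x b u
  unfold Commute SemiconjBy
  calc xGL D F a t * xGL D F b u = xGL D F a t * ((xGL D F a t)⁻¹ * xGL D F b u * xGL D F a t) := by rw [h]
    _ = xGL D F b u * xGL D F a t := by group

/-- the subgroup generated by `X_{p_i}` and `X_{-p_i}` -/
def blk (D : ChevalleyDatum) (F : Type*) [Field F] (i : ℕ) : Subgroup (GL D.Idx F) :=
  Subgroup.closure {g | ∃ t : F, g = xGL D F (D.simple i) t ∨ g = xGL D F (D.neg (D.simple i)) t}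

omit hD in
theorem xGL_mem_blk (i : ℕ) (t : F) : xGL D F (D.simple i) t ∈ blk D F i :=
  Subgroup.subset_closure ⟨t, Or.inl rfl⟩

omit hD in
theorem xGLn_mem_blk (i : ℕ) (t : F) : xGL D F (D.neg (D.simple i)) t ∈ blk D F i :=
  Subgroup.subset_closure ⟨t, Or.inr rfl⟩

omit hD in
theorem nWord_mem_blk (i : ℕ) (t : F) : wordGL D F (D.nWord (D.simple i) t) ∈ blk D F i := by
  rw [wordGL_nWord']
  exact mul_mem (mul_mem (xGL_mem_blk D i _) (xGLn_mem_blk D i _)) (xGL_mem_blk D i _)

omit hD in
theorem hWord_mem_blk (i : ℕ) (t : F) : wordGL D F (D.hWord (D.simple i) t) ∈ blk D F i := by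
  rw [wordGL_hWord]
  exact mul_mem (nWord_mem_blk D i _) (nWord_mem_blk D i _)

variable (J : List ℕ) (hJ : orthOK D J = true)
include hJ

/-- the blocks of different elements of `J` commute -/
theorem blk_commute (i j : ℕ) (hi : i ∈ J) (hj : j ∈ J) (hij : i ≠ j) (g g' : GL D.Idx F) (hg : g ∈ blk D F i)
    (hg' : g' ∈ blk D F j) : Commute g g' := by
  have key : ∀ a b, (a = D.simple i ∨ a = D.neg (D.simple i)) → (b = D.simple j ∨ b = D.neg (D.simple j)) →
      ∀ t u : F, Commute (xGL D F a t) (xGL D F b u) := by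
    intro a b ha hb t u
    obtain ⟨h1, h2, h3, h4, h5⟩ := orthOK_spec hJ i j hi hj hij a b ha hb
    exact commute_xGL_of_commTerms_nil D hD a b h4 h5 h2 h3 h1 t u
  unfold blk at hg hg'
  induction hg using Subgroup.closure_induction with
  | mem x hx =>
    induction hg' using Subgroup.closure_induction with
    | mem y hy =>
      obtain ⟨t, hx⟩ := hx
      obtain ⟨u, hy⟩ := hy
      rcases hx with rfl | rfl <;> rcases hy with rfl | rfl
      · exact key _ _ (Or.inl rfl) (Or.inl rfl) t u
      · exact key _ _ (Or.inl rfl) (Or.inr rfl) t u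
      · exact key _ _ (Or.inr rfl) (Or.inl rfl) t u
      · exact key _ _ (Or.inr rfl) (Or.inr rfl) t u
    | one => exact Commute.one_right _
    | mul a b _ _ ha hb => exact ha.mul_right hb
    | inv a _ ha => exact ha.inv_right
  | one => exact Commute.one_left _
  | mul a b _ _ ha hb => exact ha.mul_left hb
  | inv a _ ha => exact ha.inv_left

omit hJ in
/-- `X_J(c) = ∏ x_{p_i}(c_i)` -/
noncomputable def XJ (D : ChevalleyDatum) (F : Type*) [Field F] (J : List ℕ) (c : ℕ → F) : GL D.Idx F :=
  (J.map fun i => xGL D F (D.simple i) (c i)).prod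

omit hJ in
/-- `X_{-J}(c) = ∏ x_{-p_i}(c_i)` -/
noncomputable def XJn (D : ChevalleyDatum) (F : Type*) [Field F] (J : List ℕ) (c : ℕ → F) : GL D.Idx F :=
  (J.map fun i => xGL D F (D.neg (D.simple i)) (c i)).prod

omit hJ in
/-- `H_J(c) = ∏ h_{p_i}(c_i)` -/
noncomputable def HJ (D : ChevalleyDatum) (F : Type*) [Field F] (J : List ℕ) (c : ℕ → F) : GL D.Idx F :=
  (J.map fun i => wordGL D F (D.hWord (D.simple i) (c i))).prod

omit hD hJ in
theorem XJ_congr (c c' : ℕ → F) (h : ∀ i ∈ J, c i = c' i) : XJ D F J c = XJ D F J c' := by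
  unfold XJ
  congr 1
  apply List.map_congr_left
  intro i hi
  rw [h i hi]

omit hD hJ in
theorem XJn_congr (c c' : ℕ → F) (h : ∀ i ∈ J, c i = c' i) : XJn D F J c = XJn D F J c' := by
  unfold XJn
  congr 1
  apply List.map_congr_left
  intro i hi
  rw [h i hi]

omit hJ in
theorem XJ_zero : XJ D F J (fun _ => 0) = 1 := by
  unfold XJ
  apply List.prod_eq_one
  intro x hx
  obtain ⟨i, -, rfl⟩ := List.mem_map.mp hx
  exact xGL_zero' D hD _

omit hJ in
theorem XJn_zero : XJn D F J (fun _ => 0) = 1 := by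
  unfold XJn
  apply List.prod_eq_one
  intro x hx
  obtain ⟨i, -, rfl⟩ := List.mem_map.mp hx
  exact xGL_zero' D hD _

theorem XJ_mul (hnd : J.Nodup) (c c' : ℕ → F) : XJ D F J c * XJ D F J c' = XJ D F J (fun i => c i + c' i) := by
  unfold XJ
  rw [← list_prod_map_mul J hnd]
  · congr 1
    apply List.map_congr_left
    intro i _
    exact xGL_mul_add D hD _ _ _
  · intro i hi j hj hij
    exact blk_commute D hD J hJ i j hi hj hij _ _ (xGL_mem_blk D i _) (xGL_mem_blk D j _)

theorem XJn_mul (hnd : J.Nodup) (c c' : ℕ → F) :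
    XJn D F J c * XJn D F J c' = XJn D F J (fun i => c i + c' i) := by
  unfold XJn
  rw [← list_prod_map_mul J hnd]
  · congr 1
    apply List.map_congr_left
    intro i _
    exact xGL_mul_add D hD _ _ _
  · intro i hi j hj hij
    exact blk_commute D hD J hJ i j hi hj hij _ _ (xGLn_mem_blk D i _) (xGLn_mem_blk D j _)

theorem XJ_inv (hnd : J.Nodup) (c : ℕ → F) : (XJ D F J c)⁻¹ = XJ D F J (fun i => - c i) := by
  apply inv_eq_of_mul_eq_one_right
  rw [XJ_mul D hD J hJ hnd]
  simp only [add_neg_cancel]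
  exact XJ_zero D hD J

theorem XJn_inv (hnd : J.Nodup) (c : ℕ → F) : (XJn D F J c)⁻¹ = XJn D F J (fun i => - c i) := by
  apply inv_eq_of_mul_eq_one_right
  rw [XJn_mul D hD J hJ hnd]
  simp only [add_neg_cancel]
  exact XJn_zero D hD J

/-- the rank one identity `X_{-J}(c) = X_J(c⁻¹) H_J(-c⁻¹) n_J X_J(c⁻¹)` -/
theorem XJn_eq (hnd : J.Nodup) (hlt : ∀ i ∈ J, i < D.rank) (c : ℕ → F) (hc : ∀ i ∈ J, c i ≠ 0) :
    XJn D F J c = XJ D F J (fun i => (c i)⁻¹) * HJ D F J (fun i => - (c i)⁻¹) * nWordsGL D F J *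
      XJ D F J (fun i => (c i)⁻¹) := by
  have hs := simpleOK_of_mem D hD
  unfold XJ HJ nWordsGL XJn
  rw [← list_prod_map_mul J hnd, ← list_prod_map_mul J hnd, ← list_prod_map_mul J hnd]
  · apply congrArg
    apply List.map_congr_left
    intro i hi
    exact xGL_neg_eq D hD _ (simple_lt D hs i (hlt i hi)) (c i) (hc i hi)
  · intro i hi j hj hij
    exact blk_commute D hD J hJ i j hi hj hij _ _ (xGL_mem_blk D i _)
      (mul_mem (mul_mem (xGL_mem_blk D j _) (hWord_mem_blk D j _)) (nWord_mem_blk D j _))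
  · intro i hi j hj hij
    exact blk_commute D hD J hJ i j hi hj hij _ _ (nWord_mem_blk D i _)
      (mul_mem (xGL_mem_blk D j _) (hWord_mem_blk D j _))
  · intro i hi j hj hij
    exact blk_commute D hD J hJ i j hi hj hij _ _ (hWord_mem_blk D i _) (xGL_mem_blk D j _)

/-- `n_J² ∈ H` -/
theorem nJ_sq_mem (hnd : J.Nodup) (hlt : ∀ i ∈ J, i < D.rank) :
    nWordsGL D F J * nWordsGL D F J ∈ D.diagonalSubgroup F := by
  have hs := simpleOK_of_mem D hD
  unfold nWordsGL
  rw [← list_prod_map_mul J hnd]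
  · apply Subgroup.list_prod_mem
    intro x hx
    obtain ⟨i, hi, rfl⟩ := List.mem_map.mp hx
    exact nGL_sq_mem D hD _ (simple_lt D hs i (hlt i hi))
  · intro i hi j hj hij
    exact blk_commute D hD J hJ i j hi hj hij _ _ (nWord_mem_blk D i _) (nWord_mem_blk D j _)

omit hJ in
/-- `H_J(c) ∈ H` -/
theorem HJ_mem (hlt : ∀ i ∈ J, i < D.rank) (c : ℕ → F) (hc : ∀ i ∈ J, c i ≠ 0) :
    HJ D F J c ∈ D.diagonalSubgroup F := by
  have hs := simpleOK_of_mem D hD
  unfold HJ
  apply Subgroup.list_prod_mem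
  intro x hx
  obtain ⟨i, hi, rfl⟩ := List.mem_map.mp hx
  exact hWordGL_mem_diagonalSubgroup D hD _ (simple_lt D hs i (hlt i hi)) _ (hc i hi)

end Orb

end Cfsg.Agent.Helper9.Tw
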