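import Cfsg.Agent.Helper9.TwBN
import Cfsg.Agent.Helper19.Twist.Assemble
import Cfsg.Agent.S1040
import Cfsg.Agent.S1037
import Cfsg.Agent.S1038
import Cfsg.Prelude.Def_LieExceptional

/-!
Helper9: the (B,N)-pair `(B ∩ G¹, N ∩ G¹)` of a twisted group `G¹` (generated by the twisted elements
`X_J(c)`, `X_{-J}(c)` for the orbits `J` of the symmetry, and fixed by the graph-field automorphism).
-/

set_option autoImplicit false

namespace Cfsg.Agent.Helper9.Tw

open Cfsg Cfsg.Lie Cfsg.Agent.Helper18 Cfsg.Agent.Helper40.GraphAut Cfsg.Agent.Helper19.Twist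
  Cfsg.Agent.Helper19.Poinc Cfsg.Agent.Helper19.Cox

/-- different orbits give different elements of the Weyl group -/
def orbsInjOK (D : ChevalleyDatum) (Jf : ℕ → List ℕ) (n1 : ℕ) : Bool :=
  (List.range n1).all fun a => (List.range n1).all fun b => (a == b) ||
    ((List.range D.nroots).any fun s => rho D (Jf a ++ Jf b) s != s)

section Pair
variable {K : Type*} [Field K]
variable {D D1 : ChevalleyDatum} (hD : D ∈ [chevG2, chevB2, chevD4, chevF4, chevE6, chevE7, chevE8])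
variable (S : SigData D) (f : K ≃+* K)
variable (C : Cert D) (C1 : Cert D1) (Jf : ℕ → List ℕ)
  (hpi : foldPiOK C.tabs D.rank D.nroots (hlfOf D) D1.rank Jf S.π = true)
  (hrel : foldRelOK C1.Mx C.tabs D.rank D.nroots D1.rank Jf = true)
  (horb : foldOrbOK D.rank D1.rank Jf S.π C.alphas = true)
  (horth : foldOrthOK C.tabs D.rank D.nroots D1.rank Jf C.alphas = true)
  (hJ : ∀ a < D1.rank, orthOK D (Jf a) = true) (hL : ∀ a < D1.rank, levOK D (Jf a) = true)
  (hO : ∀ a < D1.rank, sigOrbOK S.ρ (Jf a) = true) (hne : ∀ a < D1.rank, Jf a ≠ [])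
  (hinj : orbsInjOK D Jf D1.rank = true)
variable (G1 : Subgroup (GL D.Idx K)) (hG1 : ∀ g ∈ G1, sig D S f g = g)
  (hXJ : ∀ a < D1.rank, ∀ c : ℕ → K, (∀ i ∈ Jf a, c (S.ρ i) = f (c i)) → XJ D K (Jf a) c ∈ G1)
  (hXJn : ∀ a < D1.rank, ∀ c : ℕ → K, (∀ i ∈ Jf a, c (S.ρ i) = f (c i)) → XJn D K (Jf a) c ∈ G1)
  (hgen : G1 ≤ Subgroup.closure {g | ∃ a < D1.rank, ∃ c : ℕ → K, (∀ i ∈ Jf a, c (S.ρ i) = f (c i)) ∧
    (g = XJ D K (Jf a) c ∨ g = XJn D K (Jf a) c)})

include hD hL in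
omit hD in
theorem Jf_lt (a : ℕ) (ha : a < D1.rank) : ∀ i ∈ Jf a, i < D.rank :=
  fun i hi => ((levOK_spec (hL a ha)).2.2.1 i hi).1

include hD hL in
/-- `X_J(c) ∈ U` -/
theorem XJ_mem_posUnipotent (a : ℕ) (ha : a < D1.rank) (c : ℕ → K) : XJ D K (Jf a) c ∈ D.posUnipotent K := by
  have hs := simpleOK_of_mem D hD
  unfold XJ
  apply Subgroup.list_prod_mem
  intro x hx
  obtain ⟨i, hi, rfl⟩ := List.mem_map.mp hx
  have hlt := Jf_lt (D := D) (D1 := D1) Jf hL a ha i hi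
  exact xGL_mem_posUnipotent D hD _ ⟨simple_pos D hD i hlt, simple_lt D hs i hlt⟩ _

include hD hL in
/-- `X_{-J}(c) ∈ V` -/
theorem XJn_mem_negUnipotent (a : ℕ) (ha : a < D1.rank) (c : ℕ → K) : XJn D K (Jf a) c ∈ D.negUnipotent K := by
  have hs := simpleOK_of_mem D hD
  have htri := triOK_of_mem D hD
  unfold XJn
  apply Subgroup.list_prod_mem
  intro x hx
  obtain ⟨i, hi, rfl⟩ := List.mem_map.mp hx
  have hlt := Jf_lt (D := D) (D1 := D1) Jf hL a ha i hi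
  have hsi := simple_lt D hs i hlt
  obtain ⟨hnp, -, -, h4⟩ := triOK_spec D _ htri _ hsi
  apply Subgroup.subset_closure
  exact ⟨_, _, (isNegRoot_iff D _ (posOK_of_mem D hD) _).mpr ⟨h4 (simple_pos D hD i hlt), hnp⟩, xGL_val D _ htri _ _⟩

include hD hJ hL hO hXJ hXJn in
/-- the generators lie in `(B ∩ G¹) ⊔ (N ∩ G¹)` -/
theorem XJn_mem_sup (a : ℕ) (ha : a < D1.rank) (c : ℕ → K) (hc : ∀ i ∈ Jf a, c (S.ρ i) = f (c i)) :
    XJn D K (Jf a) c ∈ (D.borelSubgroup K ⊓ G1) ⊔ (D.monomialSubgroup K ⊓ G1) := by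
  classical
  obtain ⟨-, -, h3, hnd⟩ := levOK_spec (hL a ha)
  have hlt := Jf_lt (D := D) (D1 := D1) Jf hL a ha
  have hUB := posUnipotent_le_borel (F := K) D hD
  have hHB := diagonal_le_borel (F := K) D hD
  have hnJ := nJ_mem_G1 D hD S f (Jf a) (hJ a ha) (hL a ha) G1 (hXJ a ha) (hXJn a ha)
  by_cases hcz : ∀ i ∈ Jf a, c i = 0
  · rw [XJn_congr D (Jf a) c (fun _ => 0) hcz, XJn_zero D hD]
    exact one_mem _
  push Not at hcz
  obtain ⟨i₀, hi₀, hci₀⟩ := hcz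
  have hcne : ∀ i ∈ Jf a, c i ≠ 0 :=
    fun i hi => twisted_ne_zero D S f (Jf a) (hO a ha) c hc i₀ i hi₀ hi hci₀
  set c' : ℕ → K := fun i => (c i)⁻¹ with hc'
  have hc'tw : ∀ i ∈ Jf a, c' (S.ρ i) = f (c' i) := by
    intro i hi
    simp only [hc']
    rw [hc i hi, map_inv₀]
  have e2 : XJn D K (Jf a) c = XJ D K (Jf a) c' * HJ D K (Jf a) (fun i => - (c i)⁻¹) * nWordsGL D K (Jf a) *
      XJ D K (Jf a) c' := XJn_eq D hD (Jf a) (hJ a ha) hnd hlt c hcne
  have hXG := hXJ a ha c' hc'tw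
  have hHG : HJ D K (Jf a) (fun i => - (c i)⁻¹) ∈ G1 := by
    have : HJ D K (Jf a) (fun i => - (c i)⁻¹) = (XJ D K (Jf a) c')⁻¹ * XJn D K (Jf a) c * (XJ D K (Jf a) c')⁻¹ *
        (nWordsGL D K (Jf a))⁻¹ := by
      rw [e2]; group
    rw [this]
    exact mul_mem (mul_mem (mul_mem (inv_mem hXG) (hXJn a ha c hc)) (inv_mem hXG)) (inv_mem hnJ)
  have hHH : HJ D K (Jf a) (fun i => - (c i)⁻¹) ∈ D.diagonalSubgroup K :=
    HJ_mem D hD (Jf a) hlt _ (fun i hi => neg_ne_zero.mpr (inv_ne_zero (hcne i hi)))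
  have hXB : XJ D K (Jf a) c' ∈ D.borelSubgroup K ⊓ G1 :=
    Subgroup.mem_inf.mpr ⟨hUB (XJ_mem_posUnipotent hD Jf hL a ha c'), hXG⟩
  rw [e2]
  refine mul_mem (mul_mem (mul_mem (Subgroup.mem_sup_left hXB) (Subgroup.mem_sup_left ?_))
    (Subgroup.mem_sup_right ?_)) (Subgroup.mem_sup_left hXB)
  · exact Subgroup.mem_inf.mpr ⟨hHB hHH, hHG⟩
  · exact Subgroup.mem_inf.mpr ⟨nWordsGL_mem D hD _ hlt, hnJ⟩

include hD in
omit hD in
theorem nWordsGL_append (w w' : List ℕ) : nWordsGL D K (w ++ w') = nWordsGL D K w * nWordsGL D K w' := by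
  simp [nWordsGL]

include hD in
/-- the image in the Weyl group of a word in the `n_p` -/
theorem theta_nWordsGL [hn : (HN D K).Normal] (w : List ℕ) (hw : ∀ i ∈ w, i < D.rank) :
    theta D hD C (nConjHyp (F := K) D hD) ⟨nWordsGL D K w, nWordsGL_mem D hD w hw⟩ = gp C.M w := by
  have hs := simpleOK_of_mem D hD
  induction w with
  | nil =>
    have : (⟨nWordsGL D K ([] : List ℕ), nWordsGL_mem D hD [] hw⟩ : ↥(D.monomialSubgroup K)) = 1 := by
      apply Subtype.ext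
      simp [nWordsGL]
    rw [this, map_one, gp_nil]
  | cons i w ih =>
    have hw' : ∀ j ∈ w, j < D.rank := fun j hj => hw j (List.mem_cons_of_mem _ hj)
    have hi := hw i List.mem_cons_self
    have e : (⟨nWordsGL D K (i :: w), nWordsGL_mem D hD _ hw⟩ : ↥(D.monomialSubgroup K)) =
        nN D K (D.simple i) * ⟨nWordsGL D K w, nWordsGL_mem D hD w hw'⟩ := by
      apply Subtype.ext
      rw [Subgroup.coe_mul, nN_val D hD _ (simple_lt D hs i hi)]
      simp [nWordsGL]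
    rw [e, map_mul, ih hw', theta_nN D hD C _ i hi, gp_cons]

include hD hpi hrel horb horth hL hG1 hXJ hXJn hJ in
/-- every element of `N ∩ G¹` is a product of the `n_J` times an element of `H ∩ G¹` -/
theorem mem_closure_nJ [hn : (HN D K).Normal] (n : GL D.Idx K) (hn' : n ∈ D.monomialSubgroup K) (hnG : n ∈ G1) :
    ∃ m ∈ Subgroup.closure {g : GL D.Idx K | ∃ a < D1.rank, g = nWordsGL D K (Jf a)},
      n * m⁻¹ ∈ D.diagonalSubgroup K ∧ m ∈ D.monomialSubgroup K ∧ m ∈ G1 := by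
  have h31 := nConjHyp (F := K) D hD
  have hfixn : IsFix C S.π (theta D hD C h31 ⟨n, hn'⟩) :=
    theta_isFix D hD C h31 S.ρ S.ρ' S.π S.π' S.ε S.hp f S.hall S.hinj ⟨n, hn'⟩ (hG1 n hnG)
  obtain ⟨v, hv⟩ := isFix_le_range hD C C1 Jf S.π hpi hrel horb horth _ hfixn
  obtain ⟨word, hword, rfl⟩ := exists_word C1.M v
  have key : ∀ word : List ℕ, (∀ a ∈ word, a < D1.rank) →
      ∃ m ∈ Subgroup.closure {g : GL D.Idx K | ∃ a < D1.rank, g = nWordsGL D K (Jf a)},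
        m ∈ G1 ∧ ∃ hm : m ∈ D.monomialSubgroup K, theta D hD C h31 ⟨m, hm⟩ = iota C C1 Jf hrel (gp C1.M word) := by
    intro word
    induction word with
    | nil =>
      intro _
      refine ⟨1, one_mem _, one_mem _, one_mem _, ?_⟩
      have : (⟨1, one_mem _⟩ : ↥(D.monomialSubgroup K)) = 1 := rfl
      rw [this, map_one, gp_nil, map_one]
    | cons a word ih =>
      intro hw
      have ha := hw a List.mem_cons_self
      obtain ⟨m, hm1, hm2, hm3, hm4⟩ := ih (fun b hb => hw b (List.mem_cons_of_mem _ hb))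
      have hlt := Jf_lt (D := D) (D1 := D1) Jf hL a ha
      have hnJN := nWordsGL_mem (F := K) D hD (Jf a) hlt
      have hnJG := nJ_mem_G1 D hD S f (Jf a) (hJ a ha) (hL a ha) G1 (hXJ a ha) (hXJn a ha)
      refine ⟨nWordsGL D K (Jf a) * m, mul_mem (Subgroup.subset_closure ⟨a, ha, rfl⟩) hm1,
        mul_mem hnJG hm2, mul_mem hnJN hm3, ?_⟩
      have e : (⟨nWordsGL D K (Jf a) * m, mul_mem hnJN hm3⟩ : ↥(D.monomialSubgroup K)) =
          ⟨nWordsGL D K (Jf a), hnJN⟩ * ⟨m, hm3⟩ := rfl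
      rw [e, map_mul, hm4, theta_nWordsGL hD C (Jf a) hlt, gp_cons, map_mul, iota_sg C C1 Jf hrel a ha]
  obtain ⟨m, hm1, hm2, hm3, hm4⟩ := key word hword
  refine ⟨m, hm1, ?_, hm3, hm2⟩
  have e1 : theta D hD C h31 (⟨n, hn'⟩ * (⟨m, hm3⟩ : ↥(D.monomialSubgroup K))⁻¹) = 1 := by
    rw [map_mul, map_inv, hm4, hv, mul_inv_cancel]
  have := (theta_eq_one_iff D hD C h31 _).mp e1
  simpa using this

include hD hpi hrel horb horth hJ hL hO hne hinj hG1 hXJ hXJn hgen in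
/-- the (B,N)-pair of the twisted group -/
theorem exists_bnPair_tw [hn : (HN D K).Normal] :
    ∃ P : Cfsg.BNPair ↥G1, P.B = (D.borelSubgroup K ⊓ G1).subgroupOf G1 ∧
      P.N = (D.monomialSubgroup K ⊓ G1).subgroupOf G1 := by
  classical
  have htri := triOK_of_mem D hD
  have hs := simpleOK_of_mem D hD
  obtain ⟨-, hBNH⟩ := Cfsg.Agent.S1040.result (F := K) D hD
  obtain ⟨hBV, -⟩ := Cfsg.Agent.S1037.result (F := K) D hD
  have hHN := diagonalSubgroup_le_monomialSubgroup (F := K) D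
  have hHB := diagonal_le_borel (F := K) D hD
  have hUB := posUnipotent_le_borel (F := K) D hD
  have hlt := Jf_lt (D := D) (D1 := D1) Jf hL
  have hnJN : ∀ a < D1.rank, nWordsGL D K (Jf a) ∈ D.monomialSubgroup K :=
    fun a ha => nWordsGL_mem D hD (Jf a) (hlt a ha)
  have hnJG : ∀ a < D1.rank, nWordsGL D K (Jf a) ∈ G1 :=
    fun a ha => nJ_mem_G1 D hD S f (Jf a) (hJ a ha) (hL a ha) G1 (hXJ a ha) (hXJn a ha)
  have hss : ∀ a < D1.rank, nWordsGL D K (Jf a) * nWordsGL D K (Jf a) ∈ D.diagonalSubgroup K :=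
    fun a ha => nJ_sq_mem D hD (Jf a) (hJ a ha) (levOK_spec (hL a ha)).2.2.2 (hlt a ha)
  refine ⟨{
    B := (D.borelSubgroup K ⊓ G1).subgroupOf G1
    N := (D.monomialSubgroup K ⊓ G1).subgroupOf G1
    S := {s : ↥G1 | ∃ a < D1.rank, (s : GL D.Idx K) = nWordsGL D K (Jf a)}
    sup_eq_top := ?_
    conj_mem := ?_
    subset := ?_
    sq_mem := ?_
    inj := ?_
    closure_sup := ?_
    mul_mem_union := ?_
    conj_ne := ?_ }, rfl, rfl⟩
  · -- sup_eq_top
    rw [← Subgroup.subgroupOf_sup inf_le_right inf_le_right, Subgroup.subgroupOf_eq_top]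
    apply hgen.trans
    rw [Subgroup.closure_le]
    rintro g ⟨a, ha, c, hc, rfl | rfl⟩
    · apply Subgroup.mem_sup_left
      exact Subgroup.mem_inf.mpr ⟨hUB (XJ_mem_posUnipotent hD Jf hL a ha c), hXJ a ha c hc⟩
    · exact XJn_mem_sup hD S f Jf hJ hL hO G1 hXJ hXJn a ha c hc
  · -- conj_mem
    intro n hn t ht
    rw [Subgroup.mem_subgroupOf] at hn ⊢
    have ht' : (t : GL D.Idx K) ∈ D.borelSubgroup K ⊓ D.monomialSubgroup K := by
      rw [Subgroup.mem_inf] at ht ⊢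
      exact ⟨(Subgroup.mem_subgroupOf.mp ht.1).1, (Subgroup.mem_subgroupOf.mp ht.2).1⟩
    rw [hBNH] at ht'
    have := (Subgroup.mem_normalizer_iff.mp (monomialSubgroup_le_normalizer D hD hn.1) _).mp ht'
    refine Subgroup.mem_inf.mpr ⟨hHB (by simpa using this), (n * t * n⁻¹).2⟩
  · -- subset
    rintro g ⟨a, ha, hg⟩
    rw [SetLike.mem_coe, Subgroup.mem_subgroupOf, hg]
    exact Subgroup.mem_inf.mpr ⟨hnJN a ha, hnJG a ha⟩
  · -- sq_mem
    rintro g ⟨a, ha, hg⟩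
    rw [Subgroup.mem_subgroupOf, Subgroup.coe_mul, hg]
    exact Subgroup.mem_inf.mpr ⟨hHB (hss a ha), mul_mem (hnJG a ha) (hnJG a ha)⟩
  · -- inj
    rintro g ⟨a, ha, hg⟩ g' ⟨b, hb, hg'⟩ hmem
    have hH : ((g⁻¹ * g' : ↥G1) : GL D.Idx K) ∈ D.borelSubgroup K ⊓ D.monomialSubgroup K := by
      rw [Subgroup.mem_inf]
      refine ⟨(Subgroup.mem_subgroupOf.mp hmem).1, ?_⟩
      rw [Subgroup.coe_mul, Subgroup.coe_inv, hg, hg']
      exact mul_mem (inv_mem (hnJN a ha)) (hnJN b hb)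
    rw [hBNH, Subgroup.coe_mul, Subgroup.coe_inv, hg, hg'] at hH
    have hab : a = b := by
      by_contra hne'
      have hmem2 : nWordsGL D K (Jf a ++ Jf b) ∈ D.diagonalSubgroup K := by
        have e : nWordsGL D K (Jf a ++ Jf b) = (nWordsGL D K (Jf a) * nWordsGL D K (Jf a)) *
            ((nWordsGL D K (Jf a))⁻¹ * nWordsGL D K (Jf b)) := by
          rw [nWordsGL_append]; group
        rw [e]
        exact mul_mem (hss a ha) hH
      have hw : ∀ i ∈ Jf a ++ Jf b, i < D.rank := by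
        intro i hi
        rcases List.mem_append.mp hi with hi | hi
        · exact hlt a ha i hi
        · exact hlt b hb i hi
      have h1 := rho_eq_of_mem_diagonalSubgroup D hD (Jf a ++ Jf b) hw hmem2
      unfold orbsInjOK at hinj
      rw [List.all_eq_true] at hinj
      have h2 := hinj a (List.mem_range.mpr ha)
      rw [List.all_eq_true] at h2
      have h3 := h2 b (List.mem_range.mpr hb)
      rw [Bool.or_eq_true, beq_iff_eq, List.any_eq_true] at h3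
      obtain ⟨s, hs1, hs2⟩ := h3.resolve_left hne'
      rw [bne_iff_ne] at hs2
      exact hs2 (h1 s (List.mem_range.mp hs1))
    apply Subtype.ext
    rw [hg, hg', hab]
  · -- closure_sup
    apply le_antisymm
    · apply sup_le
      · rw [Subgroup.closure_le]
        rintro g ⟨a, ha, hg⟩
        rw [SetLike.mem_coe, Subgroup.mem_subgroupOf, hg]
        exact Subgroup.mem_inf.mpr ⟨hnJN a ha, hnJG a ha⟩
      · exact inf_le_right
    · intro g hg
      rw [Subgroup.mem_subgroupOf] at hg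
      obtain ⟨m, hm1, hm2, hm3, hm4⟩ := mem_closure_nJ hD S f C C1 Jf hpi hrel horb horth hJ hL G1 hG1 hXJ hXJn
        (g : GL D.Idx K) hg.1 hg.2
      -- `m` as an element of the closure inside `G¹`
      have hmc : ∀ m' ∈ Subgroup.closure {g : GL D.Idx K | ∃ a < D1.rank, g = nWordsGL D K (Jf a)},
          ∃ hm' : m' ∈ G1, (⟨m', hm'⟩ : ↥G1) ∈
            Subgroup.closure {s : ↥G1 | ∃ a < D1.rank, (s : GL D.Idx K) = nWordsGL D K (Jf a)} := by
        intro m' hm'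
        induction hm' using Subgroup.closure_induction with
        | mem x hx =>
          obtain ⟨a, ha, rfl⟩ := hx
          exact ⟨hnJG a ha, Subgroup.subset_closure ⟨a, ha, rfl⟩⟩
        | one => exact ⟨one_mem _, one_mem _⟩
        | mul x y _ _ hx hy =>
          obtain ⟨hx1, hx2⟩ := hx
          obtain ⟨hy1, hy2⟩ := hy
          exact ⟨mul_mem hx1 hy1, mul_mem hx2 hy2⟩
        | inv x _ hx =>
          obtain ⟨hx1, hx2⟩ := hx
          exact ⟨inv_mem hx1, inv_mem hx2⟩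
      obtain ⟨hmG, hmcl⟩ := hmc m hm1
      have e' : g = (g * (⟨m, hmG⟩ : ↥G1)⁻¹) * ⟨m, hmG⟩ := by group
      rw [e', sup_comm]
      apply Subgroup.mul_mem_sup _ hmcl
      have hcoe : ((g * (⟨m, hmG⟩ : ↥G1)⁻¹ : ↥G1) : GL D.Idx K) = (g : GL D.Idx K) * m⁻¹ := rfl
      rw [Subgroup.mem_inf, Subgroup.mem_subgroupOf, Subgroup.mem_subgroupOf, hcoe]
      exact ⟨Subgroup.mem_inf.mpr ⟨hHB hm2, mul_mem g.2 (inv_mem hmG)⟩,
        Subgroup.mem_inf.mpr ⟨hHN hm2, mul_mem g.2 (inv_mem hmG)⟩⟩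
  · -- mul_mem_union
    rintro g ⟨a, ha, hg⟩ n hn b hb
    rw [Subgroup.mem_subgroupOf] at hn hb
    obtain ⟨b1, hb1, b2, hb2, e⟩ := bn_mul_mem_tw D hD S f (Jf a) (hJ a ha) (hL a ha) (hO a ha) G1 hG1 (hXJ a ha)
      (hXJn a ha) _ hb.1 hb.2 _ hn.1 hn.2
    rw [← hg] at e
    rcases e with e | e
    · left
      rw [DoubleCoset.mem_doubleCoset]
      refine ⟨⟨b1, hb1.2⟩, Subgroup.mem_subgroupOf.mpr hb1, ⟨b2, hb2.2⟩, Subgroup.mem_subgroupOf.mpr hb2, ?_⟩
      apply Subtype.ext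
      simpa using e
    · right
      rw [DoubleCoset.mem_doubleCoset]
      refine ⟨⟨b1, hb1.2⟩, Subgroup.mem_subgroupOf.mpr hb1, ⟨b2, hb2.2⟩, Subgroup.mem_subgroupOf.mpr hb2, ?_⟩
      apply Subtype.ext
      simpa using e
  · -- conj_ne
    rintro g ⟨a, ha, hg⟩ heq
    have htw1 : ∀ i ∈ Jf a, (fun _ : ℕ => (1 : K)) (S.ρ i) = f ((fun _ : ℕ => (1 : K)) i) := by
      intro i _
      simp
    have hxG := hXJ a ha (fun _ => 1) htw1
    have hxB : XJ D K (Jf a) (fun _ => (1 : K)) ∈ D.borelSubgroup K ⊓ G1 :=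
      Subgroup.mem_inf.mpr ⟨hUB (XJ_mem_posUnipotent hD Jf hL a ha _), hxG⟩
    have hxmem : (⟨XJ D K (Jf a) (fun _ => (1 : K)), hxG⟩ : ↥G1) ∈
        (((D.borelSubgroup K ⊓ G1).subgroupOf G1 : Subgroup ↥G1) : Set ↥G1) := Subgroup.mem_subgroupOf.mpr hxB
    have h1 : g * ⟨XJ D K (Jf a) (fun _ => (1 : K)), hxG⟩ * g ∈
        (((D.borelSubgroup K ⊓ G1).subgroupOf G1 : Subgroup ↥G1) : Set ↥G1) := by
      rw [← heq]
      exact ⟨_, hxmem, rfl⟩
    rw [SetLike.mem_coe, Subgroup.mem_subgroupOf] at h1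
    simp only [Subgroup.coe_mul] at h1
    rw [hg] at h1
    obtain ⟨η, hη, hconj⟩ := nJ_conj_XJ (F := K) D hD (Jf a) (hJ a ha) (hL a ha)
    rw [hconj, mul_assoc] at h1
    have h2 : XJn D K (Jf a) (fun i => ((η i : ℤ) : K) * 1) ∈ D.borelSubgroup K := by
      have := Subgroup.mul_mem _ (Subgroup.mem_inf.mp h1).1 (Subgroup.inv_mem _ (hHB (hss a ha)))
      rwa [mul_inv_cancel_right] at this
    have h3 := XJn_mem_negUnipotent hD Jf hL a ha (fun i => ((η i : ℤ) : K) * 1)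
    have h5 : XJn D K (Jf a) (fun i => ((η i : ℤ) : K) * 1) ∈ D.borelSubgroup K ⊓ D.negUnipotent K :=
      Subgroup.mem_inf.mpr ⟨h2, h3⟩
    rw [hBV, Subgroup.mem_bot] at h5
    have h6 := XJn_eq_one D hD (Jf a) (hJ a ha) (hL a ha) _ h5
    obtain ⟨i, hi⟩ := List.exists_mem_of_ne_nil _ (hne a ha)
    have h7 := h6 i hi
    rcases hη i with e | e <;> rw [e] at h7 <;> simp at h7

end Pair

end Cfsg.Agent.Helper9.Tw
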