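import Cfsg.Agent.Helper9.TwLevi
import Cfsg.Agent.Helper19.Twist.Sigma
import Cfsg.Agent.Helper19.Twist.RootInj
import Cfsg.Agent.Helper19.Poinc.GroupLemmas

/-!
Helper9: the graph-field automorphism `σ` (helper19's `sigmaGL`) and an orbit `J` of the symmetry on the nodes:
`σ` stabilises `U_J`, permutes the factors of `X_J(c)`; an element of `B` fixed by `σ` is
`u' h X_J(c)` with `u' ∈ U_J`, `h ∈ H` and `c` twisted (`c_{ρ i} = f(c_i)`); the Weyl group element of a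
`σ`-fixed element of `N` commutes with the symmetry.
-/

set_option autoImplicit false

namespace Cfsg.Agent.Helper9.Tw

open Cfsg Cfsg.Lie Cfsg.Agent.Helper18 Cfsg.Agent.Helper40.GraphAut Cfsg.Agent.Helper19.Twist
  Cfsg.Agent.Helper19.Poinc

/-- the data of a graph automorphism with its table checks -/
structure SigData (D : ChevalleyDatum) where
  ρ : ℕ → ℕ
  ρ' : ℕ → ℕ
  π : ℕ → ℕ
  π' : ℕ → ℕ
  ε : ℕ → ℤ
  hp : permsOK D ρ ρ' π π' ε = true
  hall : allOK D ρ ρ' π π' ε = true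
  htw : twistOK D π ε (hlfOf D) = true
  hiso : isoOK D π π' = true
  hinj : rootInjOK D = true

/-- the check that `J` is an orbit of the symmetry `ρ` -/
def sigOrbOK (ρ : ℕ → ℕ) (J : List ℕ) : Bool :=
  (J.all fun i => decide (ρ i ∈ J)) && decide ((J.map ρ).Perm J) &&
    J.all fun i => (List.range J.length).any fun m => decide (ρ^[m] (J.headD 0) = i)

theorem sigOrbOK_spec {ρ : ℕ → ℕ} {J : List ℕ} (h : sigOrbOK ρ J = true) :
    (∀ i ∈ J, ρ i ∈ J) ∧ (J.map ρ).Perm J ∧ ∀ i ∈ J, ∃ m, ρ^[m] (J.headD 0) = i := by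
  unfold sigOrbOK at h
  simp only [Bool.and_eq_true, List.all_eq_true, decide_eq_true_eq, List.any_eq_true, List.mem_range] at h
  refine ⟨h.1.1, h.1.2, fun i hi => ?_⟩
  obtain ⟨m, -, hm⟩ := h.2 i hi
  exact ⟨m, hm⟩

section Sig
variable {K : Type*} [Field K]
variable (D : ChevalleyDatum) (hD : D ∈ [chevG2, chevB2, chevD4, chevF4, chevE6, chevE7, chevE8])
variable (S : SigData D) (f : K ≃+* K)

/-- the graph-field automorphism -/
noncomputable abbrev sig : GL D.Idx K ≃* GL D.Idx K := sigmaGL D S.ρ S.ρ' S.π S.π' S.ε S.hp f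

include hD

theorem sig_xGL (r : ℕ) (hr : r < D.nroots) (t : K) :
    sig D S f (xGL D K r t) = xGL D K (S.π r) (((S.ε r : ℤ) : K) * f t) :=
  sigmaGL_xGL D S.ρ S.ρ' S.π S.π' S.ε S.hp f hD S.hall r hr t

/-- facts on the images of the fundamental roots -/
theorem sig_simple (i : ℕ) (hi : i < D.rank) :
    S.π (D.simple i) = D.simple (S.ρ i) ∧ S.ε (D.simple i) = 1 ∧ S.ρ i < D.rank ∧ S.ρ' i < D.rank ∧
      S.ρ' (S.ρ i) = i ∧ S.ρ (S.ρ' i) = i := by
  have h := S.hall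
  unfold allOK at h
  rw [Bool.and_eq_true, Bool.and_eq_true] at h
  obtain ⟨⟨hp, hs⟩, -⟩ := h
  obtain ⟨-, hp2⟩ := permsOK_spec hp
  unfold Cfsg.Agent.Helper40.GraphAut.simpleOK at hs
  rw [List.all_eq_true] at hs
  have hsi := hs i (List.mem_range.mpr hi)
  simp only [Bool.and_eq_true, decide_eq_true_eq] at hsi
  obtain ⟨⟨⟨⟨⟨a1, a2⟩, a3⟩, a4⟩, a5⟩, a6⟩ := hsi
  obtain ⟨b1, b2, b3, b4⟩ := hp2 i hi
  exact ⟨a3, a5, b1, b2, b3, b4⟩

theorem sig_xGL_simple (i : ℕ) (hi : i < D.rank) (t : K) :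
    sig D S f (xGL D K (D.simple i) t) = xGL D K (D.simple (S.ρ i)) (f t) := by
  obtain ⟨h1, h2, -⟩ := sig_simple D hD S i hi
  rw [sig_xGL D hD S f _ (simple_lt D (simpleOK_of_mem D hD) i hi), h1, h2, Int.cast_one, one_mul]

variable (J : List ℕ) (hJ : orthOK D J = true) (hL : levOK D J = true) (hO : sigOrbOK S.ρ J = true)
include hJ hL hO

omit hJ in
/-- `σ` stabilises `U_J` -/
theorem sig_UJ (g : GL D.Idx K) (hg : g ∈ UJ D K J) : sig D S f g ∈ UJ D K J := by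
  have htri := triOK_of_mem D hD
  have hpos := posOK_of_mem D hD
  obtain ⟨hp1, -⟩ := permsOK_spec S.hp
  obtain ⟨-, -, h3, -⟩ := levOK_spec hL
  obtain ⟨o1, o2, -⟩ := sigOrbOK_spec hO
  unfold UJ ChevalleyDatum.unipotentRadical at hg
  induction hg using Subgroup.closure_induction with
  | mem x hx =>
    obtain ⟨r, t, hr, hnr, hx⟩ := hx
    have hr' := (isPosRoot_iff D _ hpos r).mp hr
    have e : x = xGL D K r t := Units.ext (by rw [hx, xGL_val D _ htri])
    rw [e, sig_xGL D hD S f r hr'.2]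
    have hπpos : hlfOf D ≤ S.π r ∧ S.π r < D.nroots :=
      ⟨(twistOK_spec S.htw r hr'.2).1.mp hr'.1, (hp1 r hr'.2).1⟩
    apply Subgroup.subset_closure
    refine ⟨S.π r, _, (isPosRoot_iff D _ hpos _).mpr hπpos, ?_, xGL_val D _ htri _ _⟩
    intro hin
    rw [inRootSub_pos_iff D hD J hL _ hπpos] at hin
    obtain ⟨j, hj, hjr⟩ := List.mem_map.mp hin
    have hj' : j ∈ J.map S.ρ := o2.mem_iff.mpr hj
    obtain ⟨i, hi, rfl⟩ := List.mem_map.mp hj'
    have hilt := (h3 i hi).1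
    rw [← (sig_simple D hD S i hilt).1] at hjr
    have e2 : D.simple i = r := by
      have := congrArg S.π' hjr
      rwa [(hp1 _ (simple_lt D (simpleOK_of_mem D hD) i hilt)).2.2.1, (hp1 r hr'.2).2.2.1] at this
    apply hnr
    rw [inRootSub_pos_iff D hD J hL _ hr', ← e2]
    exact List.mem_map.mpr ⟨i, hi, rfl⟩
  | one => rw [map_one]; exact Subgroup.one_mem _
  | mul a b _ _ ha hb => rw [map_mul]; exact Subgroup.mul_mem _ ha hb
  | inv a _ ha => rw [map_inv]; exact Subgroup.inv_mem _ ha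

/-- `σ(X_J(c)) = X_J(c')` with `c'_j = f(c_{ρ⁻¹ j})` -/
theorem sig_XJ (c : ℕ → K) : sig D S f (XJ D K J c) = XJ D K J (fun j => f (c (S.ρ' j))) := by
  obtain ⟨-, -, h3, hnd⟩ := levOK_spec hL
  obtain ⟨o1, o2, -⟩ := sigOrbOK_spec hO
  unfold XJ
  rw [map_list_prod, List.map_map]
  have e1 : (J.map (⇑(sig D S f) ∘ fun i => xGL D K (D.simple i) (c i))) =
      (J.map S.ρ).map (fun j => xGL D K (D.simple j) (f (c (S.ρ' j)))) := by
    rw [List.map_map]
    apply List.map_congr_left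
    intro i hi
    simp only [Function.comp_apply]
    rw [sig_xGL_simple D hD S f i (h3 i hi).1, (sig_simple D hD S i (h3 i hi).1).2.2.2.2.1]
  rw [e1]
  apply List.Perm.prod_eq' (o2.map _)
  rw [List.pairwise_map]
  have hnd' : (J.map S.ρ).Nodup := o2.nodup_iff.mpr hnd
  apply List.Pairwise.imp_of_mem _ hnd'
  intro a b ha hb hab
  exact blk_commute D hD J hJ a b (o2.mem_iff.mp ha) (o2.mem_iff.mp hb) hab _ _ (xGL_mem_blk D a _)
    (xGL_mem_blk D b _)

omit hJ hL hO in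
/-- `h X_J(c) = X_J(χ c) h` -/
theorem diag_mul_XJ (h : GL D.Idx K) (hh : h ∈ D.diagonalSubgroup K) (hlt : ∀ i ∈ J, i < D.rank) :
    ∃ χ : ℕ → K, (∀ i, χ i ≠ 0) ∧ ∀ c : ℕ → K, h * XJ D K J c = XJ D K J (fun i => χ i * c i) * h := by
  obtain ⟨χ, hχ, -, hc⟩ := diagonalSubgroup_char D hD h hh
  refine ⟨fun i => χ (D.simple i), fun i => hχ _, fun c => ?_⟩
  unfold XJ
  have key : ∀ L : List ℕ, (∀ i ∈ L, i < D.rank) →
      h * (L.map fun i => xGL D K (D.simple i) (c i)).prod =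
        (L.map fun i => xGL D K (D.simple i) (χ (D.simple i) * c i)).prod * h := by
    intro L
    induction L with
    | nil => intro _; simp
    | cons i L ih =>
      intro hL'
      have ih' := ih (fun j hj => hL' j (List.mem_cons_of_mem _ hj))
      simp only [List.map_cons, List.prod_cons]
      rw [← mul_assoc, hc _ (simple_lt D (simpleOK_of_mem D hD) i (hL' i List.mem_cons_self)), mul_assoc, ih',
        mul_assoc]
  exact key J hlt

/-- an element of `B` fixed by `σ` is `u' h X_J(c)` with `c` twisted -/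
theorem borel_fix_decomp (b : GL D.Idx K) (hb : b ∈ D.borelSubgroup K) (hfix : sig D S f b = b) :
    ∃ u' ∈ UJ D K J, ∃ h ∈ D.diagonalSubgroup K, ∃ c : ℕ → K, (∀ i ∈ J, c (S.ρ i) = f (c i)) ∧
      b = u' * h * XJ D K J c := by
  obtain ⟨-, -, h3, hnd⟩ := levOK_spec hL
  obtain ⟨o1, o2, -⟩ := sigOrbOK_spec hO
  have hlt : ∀ i ∈ J, i < D.rank := fun i hi => (h3 i hi).1
  unfold ChevalleyDatum.borelSubgroup at hb
  obtain ⟨u, hu, h, hh, rfl⟩ := exists_mul_of_mem_sup (Cfsg.Agent.S1036.result D hD).1 hb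
  obtain ⟨u', hu', c₀, rfl⟩ := mem_posUnipotent_decompJ D hD J hJ hL u hu
  obtain ⟨χ, hχ, hχc⟩ := diag_mul_XJ D hD J h hh hlt
  set c : ℕ → K := fun i => (χ i)⁻¹ * c₀ i with hc
  have e1 : XJ D K J c₀ * h = h * XJ D K J c := by
    rw [hχc c]
    congr 1
    apply XJ_congr
    intro i _
    rw [hc]
    simp only
    rw [mul_inv_cancel_left₀ (hχ i)]
  have e2 : u' * XJ D K J c₀ * h = u' * h * XJ D K J c := by rw [mul_assoc, e1, mul_assoc]
  rw [e2] at hfix ⊢
  refine ⟨u', hu', h, hh, c, ?_, rfl⟩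
  rw [map_mul, map_mul, sig_XJ D hD S f J hJ hL hO] at hfix
  set c' : ℕ → K := fun j => f (c (S.ρ' j)) with hc'
  have hσu := sig_UJ D hD S f J hL hO u' hu'
  have hσh := sigmaGL_diagonalSubgroup D S.ρ S.ρ' S.π S.π' S.ε S.hp f hD S.hiso h hh
  -- `(u' h)⁻¹ σ(u') σ(h) = X_J(c - c')`
  have hHn : D.diagonalSubgroup K ≤ Subgroup.normalizer (UJ D K J : Set (GL D.Idx K)) :=
    (diagonal_le_borel D hD).trans (borel_le_normalizer_UJ D hD J)
  have e3 : (h⁻¹ * (u'⁻¹ * sig D S f u') * h⁻¹⁻¹) * (h⁻¹ * sig D S f h) =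
      XJ D K J (fun i => c i + - c' i) := by
    rw [← XJ_mul D hD J hJ hnd, ← XJ_inv D hD J hJ hnd]
    have e4 : XJ D K J c = h⁻¹ * u'⁻¹ * (sig D S f u' * sig D S f h * XJ D K J c') := by
      rw [hfix]; group
    rw [e4]
    group
  have hmem1 : h⁻¹ * (u'⁻¹ * sig D S f u') * h⁻¹⁻¹ ∈ UJ D K J :=
    (Subgroup.mem_normalizer_iff.mp (hHn (Subgroup.inv_mem _ hh)) _).mp
      (Subgroup.mul_mem _ (Subgroup.inv_mem _ hu') hσu)
  have hmem2 : h⁻¹ * sig D S f h ∈ D.diagonalSubgroup K := Subgroup.mul_mem _ (Subgroup.inv_mem _ hh) hσh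
  have hz := UJ_H_inf_XJ D hD J hJ hL _ _ hmem1 hmem2 _ e3
  intro i hi
  have := hz (S.ρ i) (o1 i hi)
  simp only [hc'] at this
  rw [(sig_simple D hD S i (hlt i hi)).2.2.2.2.1] at this
  linear_combination this

/-- `σ(X_{-J}(c)) = X_{-J}(c')` with `c'_j = f(c_{ρ⁻¹ j})` -/
theorem sig_XJn (c : ℕ → K) : sig D S f (XJn D K J c) = XJn D K J (fun j => f (c (S.ρ' j))) := by
  obtain ⟨-, -, h3, hnd⟩ := levOK_spec hL
  obtain ⟨o1, o2, -⟩ := sigOrbOK_spec hO
  have hs := simpleOK_of_mem D hD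
  have htri := triOK_of_mem D hD
  unfold XJn
  rw [map_list_prod, List.map_map]
  have e1 : (J.map (⇑(sig D S f) ∘ fun i => xGL D K (D.neg (D.simple i)) (c i))) =
      (J.map S.ρ).map (fun j => xGL D K (D.neg (D.simple j)) (f (c (S.ρ' j)))) := by
    rw [List.map_map]
    apply List.map_congr_left
    intro i hi
    simp only [Function.comp_apply]
    have hsi := simple_lt D hs i (h3 i hi).1
    obtain ⟨-, t2, t3⟩ := twistOK_spec S.htw _ hsi
    obtain ⟨a1, a2, -, -, a5, -⟩ := sig_simple D hD S i (h3 i hi).1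
    rw [sig_xGL D hD S f _ (triOK_spec D _ htri _ hsi).1, t2, t3, a1, a2, a5, Int.cast_one, one_mul]
  rw [e1]
  apply List.Perm.prod_eq' (o2.map _)
  rw [List.pairwise_map]
  have hnd' : (J.map S.ρ).Nodup := o2.nodup_iff.mpr hnd
  apply List.Pairwise.imp_of_mem _ hnd'
  intro a b ha hb hab
  exact blk_commute D hD J hJ a b (o2.mem_iff.mp ha) (o2.mem_iff.mp hb) hab _ _ (xGLn_mem_blk D a _)
    (xGLn_mem_blk D b _)

omit hO in
/-- the coefficients of `X_{-J}(c)` are unique -/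
theorem XJn_eq_one (c : ℕ → K) (h : XJn D K J c = 1) : ∀ i ∈ J, c i = 0 := by
  obtain ⟨η, hη, hconj⟩ := nJ_conj_XJ (F := K) D hD J hJ hL
  have hηη : ∀ i, ((η i : ℤ) : K) * ((η i : ℤ) : K) = 1 := by
    intro i
    rcases hη i with e | e <;> rw [e] <;> simp
  have e1 := hconj (fun i => ((η i : ℤ) : K) * c i)
  have e2 : XJn D K J (fun i => ((η i : ℤ) : K) * (((η i : ℤ) : K) * c i)) = XJn D K J c := by
    apply XJn_congr
    intro i _
    rw [← mul_assoc, hηη, one_mul]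
  rw [e2, h, one_mul] at e1
  have e3 : XJ D K J (fun i => ((η i : ℤ) : K) * c i) = 1 := by
    have := mul_left_cancel (a := nWordsGL D K J) (b := XJ D K J (fun i => ((η i : ℤ) : K) * c i)) (c := 1)
      (by rw [e1, mul_one])
    exact this
  intro i hi
  have := XJ_eq_one D hD J hJ hL _ e3 i hi
  have h0 : ((η i : ℤ) : K) ≠ 0 := by
    rcases hη i with e | e <;> rw [e] <;> simp
  exact (mul_eq_zero.mp this).resolve_left h0

/-- a `σ`-fixed `X_{-J}(c)` has twisted coefficients -/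
theorem XJn_fix_twisted (c : ℕ → K) (hfix : sig D S f (XJn D K J c) = XJn D K J c) :
    ∀ i ∈ J, c (S.ρ i) = f (c i) := by
  obtain ⟨-, -, h3, hnd⟩ := levOK_spec hL
  obtain ⟨o1, o2, -⟩ := sigOrbOK_spec hO
  rw [sig_XJn D hD S f J hJ hL hO] at hfix
  have e : XJn D K J (fun i => c i + - f (c (S.ρ' i))) = 1 := by
    rw [← XJn_mul D hD J hJ hnd, ← XJn_inv D hD J hJ hnd, hfix, mul_inv_cancel]
  have hz := XJn_eq_one D hD J hJ hL _ e
  intro i hi
  have := hz (S.ρ i) (o1 i hi)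
  rw [(sig_simple D hD S i (h3 i hi).1).2.2.2.2.1] at this
  linear_combination this

omit hD hJ hL in
/-- a twisted family vanishing nowhere or everywhere on `J` -/
theorem twisted_ne_zero (c : ℕ → K) (hc : ∀ i ∈ J, c (S.ρ i) = f (c i)) (i j : ℕ) (hi : i ∈ J) (hj : j ∈ J)
    (hci : c i ≠ 0) : c j ≠ 0 := by
  obtain ⟨o1, -, o3⟩ := sigOrbOK_spec hO
  have hne : J ≠ [] := List.ne_nil_of_mem hi
  have h0 : J.headD 0 ∈ J := by
    cases J with
    | nil => exact absurd rfl hne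
    | cons a L => simp
  have key : ∀ m : ℕ, S.ρ^[m] (J.headD 0) ∈ J ∧ (c (S.ρ^[m] (J.headD 0)) ≠ 0 ↔ c (J.headD 0) ≠ 0) := by
    intro m
    induction m with
    | zero => exact ⟨h0, Iff.rfl⟩
    | succ m ih =>
      rw [Function.iterate_succ_apply']
      refine ⟨o1 _ ih.1, ?_⟩
      rw [hc _ ih.1, ← ih.2]
      simp
  obtain ⟨m, hm⟩ := o3 i hi
  obtain ⟨m', hm'⟩ := o3 j hj
  have h1 := (key m).2
  have h2 := (key m').2
  rw [hm] at h1
  rw [hm'] at h2
  exact h2.mpr (h1.mp hci)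

end Sig

end Cfsg.Agent.Helper9.Tw
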