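import Cfsg.Agent.Helper9.Supersolvable3

namespace Cfsg.Agent.Helper9

open Subgroup

universe u v
variable {G : Type u} [Group G]

/-- A finite `p`-group has a central element of order `p`. -/
theorem exists_central_orderOf_eq_prime [Finite G] [Nontrivial G] (p : ℕ) [hp : Fact p.Prime]
    (hG : IsPGroup p G) : ∃ z : G, orderOf z = p ∧ ∀ g : G, g * z = z * g := by
  have := hG.center_nontrivial
  have hZ : IsPGroup p (center G) := hG.to_subgroup _
  obtain ⟨k, hk⟩ := IsPGroup.iff_card.mp hZ
  have hk0 : k ≠ 0 := by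
    rintro rfl
    rw [pow_zero] at hk
    have : 1 < Nat.card (center G) := Finite.one_lt_card
    omega
  have hdvd : p ∣ Nat.card (center G) := by rw [hk]; exact dvd_pow_self p hk0
  obtain ⟨z, hz⟩ := exists_prime_orderOf_dvd_card' p hdvd
  refine ⟨z, by rw [Subgroup.orderOf_coe]; exact hz, ?_⟩
  exact Subgroup.mem_center_iff.mp z.2

theorem zpowers_normal_of_central (z : G) (hz : ∀ g : G, g * z = z * g) : (zpowers z).Normal := by
  constructor
  intro n hn g
  rw [Subgroup.mem_zpowers_iff] at hn
  obtain ⟨k, rfl⟩ := hn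
  have : g * z ^ k * g⁻¹ = z ^ k := by
    have h1 : Commute g z := hz g
    have h2 : Commute g (z ^ k) := h1.zpow_right k
    rw [h2.eq, mul_assoc, mul_inv_cancel, mul_one]
  rw [this]
  exact Subgroup.zpow_mem_zpowers z k

theorem isSupersolvable_of_isPGroup_aux (p : ℕ) [hp : Fact p.Prime] (n : ℕ) :
    ∀ (G : Type u) [Group G] [Finite G], Nat.card G = n → IsPGroup p G →
      Cfsg.IsSupersolvable G := by
  induction n using Nat.strong_induction_on with
  | _ n ih =>
    intro G _ _ hn hG
    rcases subsingleton_or_nontrivial G with hs | hnt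
    · exact isSupersolvable_of_subsingleton
    obtain ⟨z, hzo, hzc⟩ := exists_central_orderOf_eq_prime p hG
    have : (zpowers z).Normal := zpowers_normal_of_central z hzc
    have hcard : (Nat.card (zpowers z)).Prime := by
      rw [Nat.card_zpowers, hzo]; exact hp.out
    have hlt := card_quotient_lt_of_prime (zpowers z) hcard
    have hQ : Cfsg.IsSupersolvable (G ⧸ zpowers z) :=
      ih _ (hn ▸ hlt) _ rfl (hG.to_quotient _)
    exact isSupersolvable_of_cyclic_normal (zpowers z) hQ

theorem isSupersolvable_of_isPGroup [Finite G] (p : ℕ) [Fact p.Prime] (hG : IsPGroup p G) :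
    Cfsg.IsSupersolvable G :=
  isSupersolvable_of_isPGroup_aux p (Nat.card G) G rfl hG

/-- A subgroup containing a subgroup of index 2 and an element outside it is everything. -/
theorem eq_top_of_index_two_of_mem (P H : Subgroup G) (hidx : P.index = 2) (hPH : P ≤ H)
    {t : G} (htH : t ∈ H) (htP : t ∉ P) : H = ⊤ := by
  have h1 := Subgroup.relIndex_mul_index hPH
  rw [hidx] at h1
  have h2 : H.index ∣ 2 := ⟨_, by rw [← h1, mul_comm]⟩
  rcases (Nat.dvd_prime Nat.prime_two).mp h2 with h3 | h3
  · exact Subgroup.index_eq_one.mp h3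
  · exfalso
    rw [h3] at h1
    have h4 : P.relIndex H = 1 := by omega
    exact htP (Subgroup.relIndex_eq_one.mp h4 htH)

theorem zpowers_normal_of_index_two (P : Subgroup G) (hidx : P.index = 2) (t : G) (htP : t ∉ P)
    (ht2 : t * t = 1) (u : G) (hcomm : ∀ h ∈ P, h * u = u * h)
    (htu : t * u * t⁻¹ = u ∨ t * u * t⁻¹ = u⁻¹) : (zpowers u).Normal := by
  rw [← Subgroup.normalizer_eq_top_iff]
  have htinv : t⁻¹ = t := inv_eq_of_mul_eq_one_left ht2
  have hconj : ∀ k : ℤ, t * u ^ k * t⁻¹ ∈ zpowers u := by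
    intro k
    rw [← conj_zpow]
    rcases htu with h | h
    · rw [h]; exact Subgroup.zpow_mem_zpowers u k
    · rw [h]; exact Subgroup.zpow_mem (zpowers u) (Subgroup.inv_mem _ (Subgroup.mem_zpowers u)) k
  apply eq_top_of_index_two_of_mem P _ hidx ?_ ?_ htP
  · intro h hh
    rw [Subgroup.mem_normalizer_iff]
    intro x
    have hc : Commute h u := hcomm h hh
    constructor
    · intro hx
      rw [Subgroup.mem_zpowers_iff] at hx
      obtain ⟨k, rfl⟩ := hx
      have h2 : Commute h (u ^ k) := hc.zpow_right k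
      rw [h2.eq, mul_assoc, mul_inv_cancel, mul_one]
      exact Subgroup.zpow_mem_zpowers u k
    · intro hx
      rw [Subgroup.mem_zpowers_iff] at hx
      obtain ⟨k, hk⟩ := hx
      have h2 : Commute h (u ^ k) := hc.zpow_right k
      have h3 : x = u ^ k := by
        have : x = h⁻¹ * (h * x * h⁻¹) * h := by group
        rw [this, ← hk, mul_assoc, ← h2.eq, ← mul_assoc, inv_mul_cancel, one_mul]
      rw [h3]; exact Subgroup.zpow_mem_zpowers u k
  · rw [Subgroup.mem_normalizer_iff]
    intro x
    constructor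
    · intro hx
      rw [Subgroup.mem_zpowers_iff] at hx
      obtain ⟨k, rfl⟩ := hx
      exact hconj k
    · intro hx
      rw [Subgroup.mem_zpowers_iff] at hx
      obtain ⟨k, hk⟩ := hx
      have h3 : x = t * u ^ k * t⁻¹ := by
        rw [hk]
        have h4 : t * (t * x * t⁻¹) * t⁻¹ = (t * t) * x * (t * t)⁻¹ := by group
        rw [h4, ht2]; simp
      rw [h3]; exact hconj k


theorem exists_normal_card_prime_of_index_two [Finite G] (p : ℕ) [hp : Fact p.Prime] (hp2 : p ≠ 2)
    (P : Subgroup G) (hP : IsPGroup p P) (hidx : P.index = 2) (hne : P ≠ ⊥) :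
    ∃ N : Subgroup G, N.Normal ∧ Nat.card N = p := by
  have hPn : P.Normal := Subgroup.normal_of_index_eq_two hidx
  have : Nontrivial P := (Subgroup.nontrivial_iff_ne_bot P).mpr hne
  obtain ⟨z, hzo, hzc⟩ := exists_central_orderOf_eq_prime p hP
  set y : G := (z : G) with hy
  have hyo : orderOf y = p := by rw [hy, Subgroup.orderOf_coe]; exact hzo
  have hyP : y ∈ P := z.2
  have hyc : ∀ h ∈ P, h * y = y * h := by
    intro h hh
    have := hzc ⟨h, hh⟩
    exact congrArg Subtype.val this
  -- an involution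
  have h2card : 2 ∣ Nat.card G := by
    rw [← Subgroup.index_mul_card P, hidx]; exact dvd_mul_right _ _
  have : Fact (Nat.Prime 2) := ⟨Nat.prime_two⟩
  obtain ⟨t, hto⟩ := exists_prime_orderOf_dvd_card' 2 h2card
  have ht2 : t * t = 1 := by
    rw [← pow_two, ← hto]; exact pow_orderOf_eq_one t
  have htP : t ∉ P := by
    intro htP
    have h1 : orderOf (⟨t, htP⟩ : P) = 2 := by rw [Subgroup.orderOf_mk]; exact hto
    obtain ⟨k, hk⟩ := hP ⟨t, htP⟩
    have h2 : orderOf (⟨t, htP⟩ : P) ∣ p ^ k := orderOf_dvd_of_pow_eq_one hk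
    rw [h1] at h2
    have h3 : 2 ∣ p := Nat.Prime.dvd_of_dvd_pow Nat.prime_two h2
    exact hp2 ((Nat.prime_dvd_prime_iff_eq Nat.prime_two hp.out).mp h3).symm
  have htinv : t⁻¹ = t := inv_eq_of_mul_eq_one_left ht2
  set y' : G := t * y * t⁻¹ with hy'
  have hy'P : y' ∈ P := hPn.conj_mem y hyP t
  have hy'c : ∀ h ∈ P, h * y' = y' * h := by
    intro h hh
    have h1 : t⁻¹ * h * t ∈ P := by
      have := hPn.conj_mem h hh t⁻¹
      simpa using this
    have h2 := hyc _ h1
    calc h * y' = t * ((t⁻¹ * h * t) * y) * t⁻¹ := by rw [hy']; group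
      _ = t * (y * (t⁻¹ * h * t)) * t⁻¹ := by rw [h2]
      _ = y' * h := by rw [hy']; group
  have hyy' : Commute y y' := hy'c y hyP
  have hty' : t * y' * t⁻¹ = y := by
    rw [hy']
    have : t * (t * y * t⁻¹) * t⁻¹ = (t * t) * y * (t * t)⁻¹ := by group
    rw [this, ht2]; simp
  by_cases hw : y * y' = 1
  · -- `t` inverts `y`
    have hinv : t * y * t⁻¹ = y⁻¹ := by
      rw [← hy']; exact (eq_inv_of_mul_eq_one_right hw)
    refine ⟨zpowers y, zpowers_normal_of_index_two P hidx t htP ht2 y hyc (Or.inr hinv), ?_⟩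
    rw [Nat.card_zpowers, hyo]
  · -- `t` centralizes `w = y * y'`
    set w := y * y' with hwdef
    have hwc : ∀ h ∈ P, h * w = w * h := by
      intro h hh
      rw [hwdef, ← mul_assoc, hyc h hh, mul_assoc, hy'c h hh, ← mul_assoc]
    have htw : t * w * t⁻¹ = w := by
      rw [hwdef]
      have : t * (y * y') * t⁻¹ = (t * y * t⁻¹) * (t * y' * t⁻¹) := by group
      rw [this, hty', ← hy']
      exact hyy'.eq.symm
    have hwo : orderOf w = p := by
      apply orderOf_eq_prime
      · rw [hwdef, hyy'.mul_pow]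
        have h1 : y ^ p = 1 := by rw [← hyo]; exact pow_orderOf_eq_one y
        have h2 : y' ^ p = 1 := by
          rw [hy', conj_pow, h1]; simp
        rw [h1, h2, mul_one]
      · exact hw
    refine ⟨zpowers w, zpowers_normal_of_index_two P hidx t htP ht2 w hwc (Or.inl htw), ?_⟩
    rw [Nat.card_zpowers, hwo]

theorem isSupersolvable_of_card_two_mul_prime_pow_aux (p : ℕ) (hp : p.Prime) (n : ℕ) :
    ∀ (G : Type u) [Group G] [Finite G], Nat.card G = 2 * p ^ n → Cfsg.IsSupersolvable G := by
  have : Fact p.Prime := ⟨hp⟩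
  have : Fact (Nat.Prime 2) := ⟨Nat.prime_two⟩
  induction n with
  | zero =>
    intro G _ _ hG
    rw [pow_zero, mul_one] at hG
    exact isSupersolvable_of_isPGroup 2 (IsPGroup.of_card (n := 1) (by rw [hG, pow_one]))
  | succ m ih =>
    intro G _ _ hG
    by_cases hp2 : p = 2
    · subst hp2
      exact isSupersolvable_of_isPGroup 2 (IsPGroup.of_card (n := m + 2) (by rw [hG]; ring))
    · let PS : Sylow p G := default
      have hPcard : Nat.card PS = p ^ (m + 1) := by
        rw [Sylow.card_eq_multiplicity, hG,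
          Nat.factorization_mul (by norm_num) (pow_ne_zero _ hp.ne_zero)]
        simp only [Finsupp.coe_add, Pi.add_apply]
        rw [Nat.Prime.factorization_pow hp, Nat.factorization_eq_zero_of_not_dvd, zero_add]
        · simp
        · intro h
          exact hp2 ((Nat.prime_dvd_prime_iff_eq hp Nat.prime_two).mp h)
      have hPidx : (PS : Subgroup G).index = 2 := by
        have := Subgroup.card_mul_index (PS : Subgroup G)
        rw [hPcard, hG, mul_comm] at this
        exact Nat.eq_of_mul_eq_mul_right (pow_pos hp.pos _) this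
      have hPne : (PS : Subgroup G) ≠ ⊥ := by
        intro h
        have : Nat.card PS = 1 := by rw [h]; exact Subgroup.card_bot
        rw [hPcard] at this
        have h1 : 1 < p ^ (m + 1) := Nat.one_lt_pow (by omega) hp.one_lt
        omega
      obtain ⟨N, hNn, hNc⟩ :=
        exists_normal_card_prime_of_index_two p hp2 (PS : Subgroup G) PS.isPGroup' hPidx hPne
      have : Fact (Nat.card N).Prime := ⟨hNc ▸ hp⟩
      have : IsCyclic N := isCyclic_of_prime_card rfl
      have hQcard : Nat.card (G ⧸ N) = 2 * p ^ m := by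
        have := Subgroup.card_eq_card_quotient_mul_card_subgroup N
        rw [hG, hNc, pow_succ, ← mul_assoc] at this
        exact (Nat.eq_of_mul_eq_mul_right hp.pos this).symm
      exact isSupersolvable_of_cyclic_normal N (ih (G ⧸ N) hQcard)

end Cfsg.Agent.Helper9
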