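import Mathlib

/-!
# Char-2 Weil representation, part A: the anisotropic plane and character sums (helper9, S3452)
-/

set_option autoImplicit false

namespace Cfsg.Agent.Helper9.Weil

open Finset

variable {F : Type*} [Field F]

/-- The quadratic form `x² - δ y²` on the plane `F × F`. -/
def Qf (δ : F) (z : F × F) : F := z.1 ^ 2 - δ * z.2 ^ 2

/-- Its polar form. -/
def Bf (δ : F) (z w : F × F) : F := 2 * (z.1 * w.1 - δ * z.2 * w.2)

theorem Qf_add (δ : F) (z w : F × F) : Qf δ (z + w) = Qf δ z + Qf δ w + Bf δ z w := by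
  simp only [Qf, Bf, Prod.fst_add, Prod.snd_add]; ring

theorem Qf_smul (δ a : F) (z : F × F) : Qf δ (a • z) = a ^ 2 * Qf δ z := by
  simp only [Qf, Prod.smul_fst, Prod.smul_snd, smul_eq_mul]; ring

theorem Qf_neg (δ : F) (z : F × F) : Qf δ (-z) = Qf δ z := by
  simp only [Qf, Prod.fst_neg, Prod.snd_neg]; ring

theorem Qf_zero (δ : F) : Qf δ (0 : F × F) = 0 := by simp [Qf]

theorem Qf_sub (δ : F) (z w : F × F) : Qf δ (z - w) = Qf δ z + Qf δ w - Bf δ z w := by
  simp only [Qf, Bf, Prod.fst_sub, Prod.snd_sub]; ring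

theorem Bf_comm (δ : F) (z w : F × F) : Bf δ z w = Bf δ w z := by
  simp only [Bf]; ring

theorem Bf_smul_left (δ a : F) (z w : F × F) : Bf δ (a • z) w = a * Bf δ z w := by
  simp only [Bf, Prod.smul_fst, Prod.smul_snd, smul_eq_mul]; ring

theorem Bf_smul_right (δ a : F) (z w : F × F) : Bf δ z (a • w) = a * Bf δ z w := by
  simp only [Bf, Prod.smul_fst, Prod.smul_snd, smul_eq_mul]; ring

theorem Bf_add_right (δ : F) (z w w' : F × F) : Bf δ z (w + w') = Bf δ z w + Bf δ z w' := by
  simp only [Bf, Prod.fst_add, Prod.snd_add]; ring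

theorem Bf_add_left (δ : F) (z z' w : F × F) : Bf δ (z + z') w = Bf δ z w + Bf δ z' w := by
  simp only [Bf, Prod.fst_add, Prod.snd_add]; ring

theorem Bf_neg_right (δ : F) (z w : F × F) : Bf δ z (-w) = -Bf δ z w := by
  simp only [Bf, Prod.fst_neg, Prod.snd_neg]; ring

theorem Bf_neg_left (δ : F) (z w : F × F) : Bf δ (-z) w = -Bf δ z w := by
  simp only [Bf, Prod.fst_neg, Prod.snd_neg]; ring

theorem Bf_self (δ : F) (z : F × F) : Bf δ z z = 2 * Qf δ z := by
  simp only [Bf, Qf]; ring

theorem Bf_zero_right (δ : F) (z : F × F) : Bf δ z 0 = 0 := by simp [Bf]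

theorem Bf_zero_left (δ : F) (z : F × F) : Bf δ 0 z = 0 := by simp [Bf]

/-- The form is anisotropic when `δ` is a non-square. -/
theorem Qf_eq_zero_iff {δ : F} (hδ : ¬ IsSquare δ) (z : F × F) : Qf δ z = 0 ↔ z = 0 := by
  constructor
  · intro h
    have h2 : z.2 = 0 := by
      by_contra h2
      apply hδ
      refine ⟨z.1 / z.2, ?_⟩
      simp only [Qf] at h
      field_simp
      linear_combination -h
    have h1 : z.1 = 0 := by
      simp only [Qf, h2] at h
      simpa using h
    exact Prod.ext h1 h2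
  · rintro rfl
    exact Qf_zero δ

theorem ne_zero_of_not_isSquare {δ : F} (hδ : ¬ IsSquare δ) : δ ≠ 0 := by
  rintro rfl
  exact hδ ⟨0, by ring⟩

section Sums

variable [Fintype F] [DecidableEq F] {K : Type*} [Field K]

theorem two_ne_zero_of_odd (hodd : Fintype.card F % 2 = 1) : (2 : F) ≠ 0 := by
  intro h2
  have hc : ringChar F = 2 := by
    have : ((2 : ℕ) : F) = 0 := by exact_mod_cast h2
    have hdvd := (ringChar.spec F 2).mp this
    have hp : (ringChar F).Prime := by
      rcases CharP.char_is_prime_or_zero F (ringChar F) with hp | hp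
      · exact hp
      · rw [hp] at hdvd; simp at hdvd
    exact (Nat.prime_dvd_prime_iff_eq hp Nat.prime_two).mp hdvd
  have := FiniteField.even_card_of_char_two hc
  omega

theorem card_cast_eq_one [CharP K 2] (hodd : Fintype.card F % 2 = 1) :
    ((Fintype.card F : ℕ) : K) = 1 := by
  have h : Fintype.card F = 2 * (Fintype.card F / 2) + 1 := by omega
  rw [h]
  push_cast
  rw [CharTwo.two_eq_zero]
  simp

theorem sum_psi_mul [CharP K 2] (ψ : AddChar F K) (hψ : ψ.IsPrimitive)
    (hodd : Fintype.card F % 2 = 1) (b : F) :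
    ∑ x : F, ψ (x * b) = if b = 0 then 1 else 0 := by
  rw [AddChar.sum_mulShift b hψ]
  split_ifs
  · exact card_cast_eq_one hodd
  · simp

theorem sum_psi_Bf [CharP K 2] (ψ : AddChar F K) (hψ : ψ.IsPrimitive)
    (hodd : Fintype.card F % 2 = 1) {δ : F} (hδ : δ ≠ 0) (w : F × F) :
    ∑ y : F × F, ψ (Bf δ y w) = if w = 0 then 1 else 0 := by
  have h2 := two_ne_zero_of_odd hodd
  rw [Fintype.sum_prod_type]
  have e : ∀ x y : F, ψ (Bf δ (x, y) w) = ψ (x * (2 * w.1)) * ψ (y * (-(2 * δ * w.2))) := by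
    intro x y
    rw [← AddChar.map_add_eq_mul]
    congr 1
    simp only [Bf]; ring
  simp_rw [e, ← Finset.mul_sum, ← Finset.sum_mul, sum_psi_mul ψ hψ hodd]
  by_cases hw : w = 0
  · subst hw; simp
  · rw [if_neg hw]
    by_cases h1 : w.1 = 0
    · have h2' : w.2 ≠ 0 := fun h => hw (Prod.ext h1 h)
      have : -(2 * δ * w.2) ≠ 0 := neg_ne_zero.mpr (mul_ne_zero (mul_ne_zero h2 hδ) h2')
      rw [if_neg this, mul_zero]
    · have : 2 * w.1 ≠ 0 := mul_ne_zero h2 h1
      rw [if_neg this, zero_mul]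

/-- In characteristic two, the sum of an even function over a group without 2-torsion is its
value at `0`. -/
theorem sum_even_eq [CharP K 2] (hodd : Fintype.card F % 2 = 1) (g : F × F → K)
    (hg : ∀ y, g (-y) = g y) : ∑ y : F × F, g y = g 0 := by
  classical
  have h2 := two_ne_zero_of_odd hodd
  rw [← Finset.add_sum_erase Finset.univ g (Finset.mem_univ (0 : F × F))]
  have : ∑ y ∈ Finset.univ.erase (0 : F × F), g y = 0 := by
    apply Finset.sum_involution (fun y _ => -y)
    · intro y _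
      rw [hg]
      exact CharTwo.add_self_eq_zero _
    · intro y hy _ h
      have hy0 : y ≠ 0 := Finset.ne_of_mem_erase hy
      apply hy0
      have h1 : (2 : F) • y = 0 := by
        rw [two_smul]
        nth_rewrite 1 [← h]
        exact neg_add_cancel y
      rcases smul_eq_zero.mp h1 with h | h
      · exact absurd h h2
      · exact h
    · intro y _
      exact neg_neg y
    · intro y hy
      have hy0 : y ≠ 0 := Finset.ne_of_mem_erase hy
      exact Finset.mem_erase.mpr ⟨neg_ne_zero.mpr hy0, Finset.mem_univ _⟩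
  rw [this, add_zero]

/-- The Gauss sum of the plane is `1` in characteristic two. -/
theorem sum_psi_Qf [CharP K 2] (ψ : AddChar F K) (hodd : Fintype.card F % 2 = 1) (δ κ : F) :
    ∑ y : F × F, ψ (κ * Qf δ y) = 1 := by
  rw [sum_even_eq hodd (fun y => ψ (κ * Qf δ y)) (fun y => by simp only [Qf_neg])]
  simp [Qf_zero]

/-- Completing the square. -/
theorem sum_psi_quad [CharP K 2] (ψ : AddChar F K) (hodd : Fintype.card F % 2 = 1) (δ : F)
    {κ : F} (hκ : κ ≠ 0) (w : F × F) :
    ∑ y : F × F, ψ (κ * Qf δ y - Bf δ y w) = ψ (-(Qf δ w / κ)) := by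
  have e : ∀ y : F × F, ψ (κ * Qf δ y - Bf δ y w) =
      ψ (-(Qf δ w / κ)) * ψ (κ * Qf δ (y - κ⁻¹ • w)) := by
    intro y
    rw [← AddChar.map_add_eq_mul]
    congr 1
    rw [Qf_sub, Qf_smul, Bf_smul_right]
    field_simp
    ring
  simp_rw [e, ← Finset.mul_sum]
  rw [Fintype.sum_equiv (Equiv.subRight (κ⁻¹ • w)) (fun y => ψ (κ * Qf δ (y - κ⁻¹ • w)))
    (fun y => ψ (κ * Qf δ y)) (fun y => rfl), sum_psi_Qf ψ hodd, mul_one]

end Sums

end Cfsg.Agent.Helper9.Weil
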