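import Cfsg.Agent.Helper9.WeilA

/-!
# Char-2 Weil representation, part B: the operators and their multiplicativity (helper9, S3452)
-/

set_option autoImplicit false

namespace Cfsg.Agent.Helper9.Weil

open Finset

variable {F : Type*} [Field F] [Fintype F] [DecidableEq F] {K : Type*} [Field K]

/-- The Weil operator attached to the matrix `!![a, b; c, d]`. -/
noncomputable def wOp (ψ : AddChar F K) (δ : F) (a b c d : F) (f : F × F → K) : F × F → K :=
  if c = 0 then fun z => ψ (a * b * Qf δ z) * f (a • z)
  else fun z => ∑ y : F × F, ψ ((a * Qf δ z - Bf δ z y + d * Qf δ y) / c) * f y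

theorem wOp_of_eq (ψ : AddChar F K) (δ : F) (a b : F) {c : F} (d : F) (hc : c = 0)
    (f : F × F → K) (z : F × F) :
    wOp ψ δ a b c d f z = ψ (a * b * Qf δ z) * f (a • z) := by
  rw [wOp, if_pos hc]

theorem wOp_of_ne (ψ : AddChar F K) (δ : F) (a b : F) {c : F} (d : F) (hc : c ≠ 0)
    (f : F × F → K) (z : F × F) :
    wOp ψ δ a b c d f z =
      ∑ y : F × F, ψ ((a * Qf δ z - Bf δ z y + d * Qf δ y) / c) * f y := by
  rw [wOp, if_neg hc]

theorem sum_psi_gauss [CharP K 2] (ψ : AddChar F K) (hodd : Fintype.card F % 2 = 1) (δ : F)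
    (A : F) {κ : F} (hκ : κ ≠ 0) (w : F × F) :
    ∑ y : F × F, ψ (A + κ * Qf δ y - Bf δ y w) = ψ (A - Qf δ w / κ) := by
  have e : ∀ y : F × F, ψ (A + κ * Qf δ y - Bf δ y w) = ψ A * ψ (κ * Qf δ y - Bf δ y w) := by
    intro y
    rw [← AddChar.map_add_eq_mul]; congr 1; ring
  simp_rw [e, ← Finset.mul_sum]
  rw [sum_psi_quad ψ hodd δ hκ, ← AddChar.map_add_eq_mul]
  congr 1; ring

theorem sum_psi_delta [CharP K 2] (ψ : AddChar F K) (hψ : ψ.IsPrimitive)
    (hodd : Fintype.card F % 2 = 1) {δ : F} (hδ : δ ≠ 0) (A : F) (w : F × F) :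
    ∑ y : F × F, ψ (A - Bf δ y w) = if w = 0 then ψ A else 0 := by
  have e : ∀ y : F × F, ψ (A - Bf δ y w) = ψ A * ψ (Bf δ y (-w)) := by
    intro y
    rw [← AddChar.map_add_eq_mul, Bf_neg_right]; congr 1; ring
  simp_rw [e, ← Finset.mul_sum]
  rw [sum_psi_Bf ψ hψ hodd hδ]
  by_cases hw : w = 0
  · subst hw; simp
  · rw [if_neg hw, if_neg (neg_ne_zero.mpr hw), mul_zero]

/-- Multiplicativity of the Weil operators. -/
theorem wOp_mul [CharP K 2] (ψ : AddChar F K) (hψ : ψ.IsPrimitive)
    (hodd : Fintype.card F % 2 = 1) {δ : F} (hδ : δ ≠ 0)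
    (a b c d a' b' c' d' : F) (h : a * d - b * c = 1) (h' : a' * d' - b' * c' = 1)
    (f : F × F → K) :
    wOp ψ δ (a * a' + b * c') (a * b' + b * d') (c * a' + d * c') (c * b' + d * d') f =
      wOp ψ δ a b c d (wOp ψ δ a' b' c' d' f) := by
  funext z
  by_cases hc : c = 0
  · -- upper triangular on the left
    subst hc
    have had : a * d = 1 := by linear_combination h
    have ha : a ≠ 0 := left_ne_zero_of_mul_eq_one had
    have hd : d ≠ 0 := right_ne_zero_of_mul_eq_one had
    rw [wOp_of_eq ψ δ a b d rfl]
    by_cases hc' : c' = 0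
    · subst hc'
      have had' : a' * d' = 1 := by linear_combination h'
      rw [wOp_of_eq ψ δ _ _ _ (by ring), wOp_of_eq ψ δ a' b' d' rfl, ← mul_assoc,
        ← AddChar.map_add_eq_mul, Qf_smul, smul_smul]
      congr 2
      · linear_combination (a * b * Qf δ z) * had'
      · ring_nf
    · have hc'' : 0 * a' + d * c' ≠ 0 := by
        rw [zero_mul, zero_add]; exact mul_ne_zero hd hc'
      rw [wOp_of_ne ψ δ _ _ _ hc'', wOp_of_ne ψ δ a' b' d' hc', Finset.mul_sum]
      apply Finset.sum_congr rfl
      intro y _
      rw [← mul_assoc, ← AddChar.map_add_eq_mul, Qf_smul, Bf_smul_left]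
      congr 2
      have hd' : d = a⁻¹ := by
        field_simp; linear_combination had
      subst hd'
      simp only [zero_mul, zero_add]
      field_simp
      ring
  · by_cases hc' : c' = 0
    · subst hc'
      have had' : a' * d' = 1 := by linear_combination h'
      have ha' : a' ≠ 0 := left_ne_zero_of_mul_eq_one had'
      have hc'' : c * a' + d * 0 ≠ 0 := by
        rw [mul_zero, add_zero]; exact mul_ne_zero hc ha'
      rw [wOp_of_ne ψ δ _ _ _ hc'', wOp_of_ne ψ δ a b d hc]
      symm
      refine Fintype.sum_equiv (Equiv.smulRight (α := F) ha') _ _ ?_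
      intro y
      rw [wOp_of_eq ψ δ a' b' d' rfl, ← mul_assoc, ← AddChar.map_add_eq_mul]
      simp only [Equiv.smulRight_apply]
      rw [Qf_smul, Bf_smul_right]
      congr 2
      have hd' : d' = a'⁻¹ := by
        field_simp; linear_combination had'
      subst hd'
      simp only [mul_zero, add_zero]
      field_simp
      ring
    · -- both lower-left entries nonzero
      have hb : b = (a * d - 1) / c := by
        field_simp; linear_combination -h
      have hb' : b' = (a' * d' - 1) / c' := by
        field_simp; linear_combination -h'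
      rw [wOp_of_ne ψ δ a b d hc]
      have e1 : ∀ y : F × F,
          ψ ((a * Qf δ z - Bf δ z y + d * Qf δ y) / c) * wOp ψ δ a' b' c' d' f y =
            ∑ x : F × F, ψ ((a * Qf δ z / c + d' * Qf δ x / c') +
              ((c * a' + d * c') / (c * c')) * Qf δ y - Bf δ y (c⁻¹ • z + c'⁻¹ • x)) * f x := by
        intro y
        rw [wOp_of_ne ψ δ a' b' d' hc', Finset.mul_sum]
        apply Finset.sum_congr rfl
        intro x _
        rw [← mul_assoc, ← AddChar.map_add_eq_mul, Bf_add_right, Bf_smul_right, Bf_smul_right,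
          Bf_comm δ y z]
        congr 2
        field_simp
        ring
      simp_rw [e1]
      rw [Finset.sum_comm]
      simp_rw [← Finset.sum_mul]
      by_cases hc'' : c * a' + d * c' = 0
      · -- the product is upper triangular
        rw [wOp_of_eq ψ δ _ _ _ hc'']
        have e2 : ∀ x : F × F,
            ∑ y : F × F, ψ ((a * Qf δ z / c + d' * Qf δ x / c') +
              ((c * a' + d * c') / (c * c')) * Qf δ y - Bf δ y (c⁻¹ • z + c'⁻¹ • x)) =
            if c⁻¹ • z + c'⁻¹ • x = 0 then ψ (a * Qf δ z / c + d' * Qf δ x / c') else 0 := by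
          intro x
          rw [← sum_psi_delta ψ hψ hodd hδ]
          apply Finset.sum_congr rfl
          intro y _
          rw [hc'']; congr 1; ring
        simp_rw [e2]
        have hx0 : ∀ x : F × F, c⁻¹ • z + c'⁻¹ • x = 0 ↔ x = (-(c' / c)) • z := by
          intro x
          constructor
          · intro hx
            have : c'⁻¹ • x = -(c⁻¹ • z) := by
              rw [eq_neg_iff_add_eq_zero, add_comm]; exact hx
            calc x = c' • (c'⁻¹ • x) := by rw [smul_smul, mul_inv_cancel₀ hc', one_smul]
              _ = (-(c' / c)) • z := by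
                rw [this, smul_neg, smul_smul, neg_smul, div_eq_mul_inv]
          · rintro rfl
            rw [smul_smul, ← add_smul]
            have : c⁻¹ + c'⁻¹ * -(c' / c) = 0 := by field_simp; ring
            rw [this, zero_smul]
        rw [Finset.sum_eq_single ((-(c' / c)) • z)]
        · rw [if_pos ((hx0 _).mpr rfl)]
          have ha'' : a * a' + b * c' = -(c' / c) := by
            have ha'e : a' = -(d * c') / c := by
              field_simp; linear_combination hc''
            rw [hb, ha'e]; field_simp; ring
          rw [ha'']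
          congr 2
          rw [Qf_smul]
          have ha'e : a' = -(d * c') / c := by
            field_simp; linear_combination hc''
          rw [hb, hb', ha'e]
          field_simp
          ring
        · intro x _ hx
          rw [if_neg (fun h0 => hx ((hx0 x).mp h0)), zero_mul]
        · intro hx; exact absurd (Finset.mem_univ _) hx
      · rw [wOp_of_ne ψ δ _ _ _ hc'']
        apply Finset.sum_congr rfl
        intro x _
        have hκ : (c * a' + d * c') / (c * c') ≠ 0 :=
          div_ne_zero hc'' (mul_ne_zero hc hc')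
        rw [sum_psi_gauss ψ hodd δ _ hκ, Qf_add, Qf_smul, Qf_smul, Bf_smul_left, Bf_smul_right]
        congr 2
        generalize hee : c * a' + d * c' = e at hc'' ⊢
        rw [hb, hb']
        field_simp
        subst hee
        ring

end Cfsg.Agent.Helper9.Weil
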