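import Cfsg.Agent.Helper9.WeilB
import Cfsg.Agent.Helper41.PSL2Orders
import Cfsg.Agent.Helper39.SpecA10.Aff

/-!
# Char-2 Weil representation, part C: the module of even functions and the `PSL₂`-action
(helper9, S3452)
-/

set_option autoImplicit false
set_option linter.unusedSectionVars false

namespace Cfsg.Agent.Helper9.Weil

open Finset

variable {F : Type*} [Field F] [Fintype F] [DecidableEq F] {K : Type*} [Field K]

/-- The data needed to define the characteristic-two Weil representation. -/
structure WeilData (F K : Type*) [Field F] [Fintype F] [Field K] where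
  ψ : AddChar F K
  δ : F
  prim : ψ.IsPrimitive
  nsq : ¬ IsSquare δ
  odd : Fintype.card F % 2 = 1

abbrev SL2 (F : Type*) [Field F] := Matrix.SpecialLinearGroup (Fin 2) F
abbrev PSL2 (F : Type*) [Field F] [Fintype F] := Matrix.ProjectiveSpecialLinearGroup (Fin 2) F

/-- The Weil operator of an element of `SL₂(F)`. -/
noncomputable def wSL (D : WeilData F K) (g : SL2 F) (f : F × F → K) : F × F → K :=
  wOp D.ψ D.δ (g 0 0) (g 0 1) (g 1 0) (g 1 1) f

theorem sl2_det_entries (g : SL2 F) : g 0 0 * g 1 1 - g 0 1 * g 1 0 = 1 := by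
  have := g.det_coe
  rw [Matrix.det_fin_two] at this
  exact this

theorem wSL_mul [CharP K 2] (D : WeilData F K) (g h : SL2 F) (f : F × F → K) :
    wSL D (g * h) f = wSL D g (wSL D h f) := by
  have e := wOp_mul D.ψ D.prim D.odd (ne_zero_of_not_isSquare D.nsq)
    (g 0 0) (g 0 1) (g 1 0) (g 1 1) (h 0 0) (h 0 1) (h 1 0) (h 1 1)
    (sl2_det_entries g) (sl2_det_entries h) f
  simp only [wSL]
  rw [← e]
  simp only [Matrix.SpecialLinearGroup.coe_mul, Matrix.mul_apply, Fin.sum_univ_two]

theorem wSL_one (D : WeilData F K) (f : F × F → K) : wSL D 1 f = f := by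
  funext z
  simp only [wSL]
  rw [wOp_of_eq _ _ _ _ _ (by simp)]
  simp

theorem wSL_add (D : WeilData F K) (g : SL2 F) (f f' : F × F → K) :
    wSL D g (f + f') = wSL D g f + wSL D g f' := by
  funext z
  simp only [wSL, Pi.add_apply]
  by_cases hc : g 1 0 = 0
  · rw [wOp_of_eq _ _ _ _ _ hc, wOp_of_eq _ _ _ _ _ hc, wOp_of_eq _ _ _ _ _ hc]
    simp only [Pi.add_apply]; ring
  · rw [wOp_of_ne _ _ _ _ _ hc, wOp_of_ne _ _ _ _ _ hc, wOp_of_ne _ _ _ _ _ hc,
      ← Finset.sum_add_distrib]
    apply Finset.sum_congr rfl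
    intro y _
    simp only [Pi.add_apply]; ring

theorem wSL_zero (D : WeilData F K) (g : SL2 F) : wSL D g (0 : F × F → K) = 0 := by
  funext z
  simp only [wSL, Pi.zero_apply]
  by_cases hc : g 1 0 = 0
  · rw [wOp_of_eq _ _ _ _ _ hc]; simp
  · rw [wOp_of_ne _ _ _ _ _ hc]; simp

/-- Even functions vanishing at the origin. -/
def evenSub (F K : Type*) [Field F] [Field K] : AddSubgroup (F × F → K) where
  carrier := {f | f 0 = 0 ∧ ∀ z, f (-z) = f z}
  zero_mem' := ⟨rfl, fun _ => rfl⟩
  add_mem' := by
    rintro f g ⟨hf0, hf⟩ ⟨hg0, hg⟩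
    exact ⟨by simp [hf0, hg0], fun z => by simp [hf z, hg z]⟩
  neg_mem' := by
    rintro f ⟨hf0, hf⟩
    exact ⟨by simp [hf0], fun z => by simp [hf z]⟩

theorem wSL_mem [CharP K 2] (D : WeilData F K) (g : SL2 F) {f : F × F → K}
    (hf : f ∈ evenSub F K) : wSL D g f ∈ evenSub F K := by
  obtain ⟨hf0, hfe⟩ := hf
  constructor
  · simp only [wSL]
    by_cases hc : g 1 0 = 0
    · rw [wOp_of_eq _ _ _ _ _ hc]; simp [hf0]
    · rw [wOp_of_ne _ _ _ _ _ hc]
      rw [sum_even_eq D.odd]
      · simp [hf0]
      · intro y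
        simp only [Qf_neg, Bf_zero_left, hfe]
  · intro z
    simp only [wSL]
    by_cases hc : g 1 0 = 0
    · rw [wOp_of_eq _ _ _ _ _ hc, wOp_of_eq _ _ _ _ _ hc, Qf_neg, smul_neg, hfe]
    · rw [wOp_of_ne _ _ _ _ _ hc, wOp_of_ne _ _ _ _ _ hc]
      refine Fintype.sum_equiv (Equiv.neg (F × F)) _ _ ?_
      intro y
      simp only [Equiv.neg_apply, Qf_neg, Bf_neg_left, Bf_neg_right, neg_neg, hfe]

/-- The Weil module: even functions vanishing at the origin, tagged by the data. -/
def WMod (_D : WeilData F K) : Type _ := evenSub F K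

instance (D : WeilData F K) : AddCommGroup (WMod D) :=
  inferInstanceAs (AddCommGroup (evenSub F K))

/-- The value of a vector at a point. -/
def WMod.val {D : WeilData F K} (v : WMod D) : F × F → K := (v : evenSub F K).1

theorem WMod.ext {D : WeilData F K} {v w : WMod D} (h : ∀ z, v.val z = w.val z) : v = w :=
  Subtype.ext (funext h)

@[simp] theorem WMod.val_add {D : WeilData F K} (v w : WMod D) (z : F × F) :
    (v + w).val z = v.val z + w.val z := rfl

@[simp] theorem WMod.val_zero {D : WeilData F K} (z : F × F) : (0 : WMod D).val z = 0 := rfl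

theorem WMod.val_neg_arg {D : WeilData F K} (v : WMod D) (z : F × F) : v.val (-z) = v.val z :=
  (v : evenSub F K).2.2 z

theorem WMod.val_origin {D : WeilData F K} (v : WMod D) : v.val 0 = 0 :=
  (v : evenSub F K).2.1

theorem WMod.add_self [CharP K 2] {D : WeilData F K} (v : WMod D) : v + v = 0 := by
  apply WMod.ext
  intro z
  simp [CharTwo.add_self_eq_zero]

/-- The action of `SL₂(F)` on the Weil module, as additive endomorphisms. -/
noncomputable def rhoSL [CharP K 2] (D : WeilData F K) : SL2 F →* AddMonoid.End (WMod D) where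
  toFun g :=
    { toFun := fun v => ⟨wSL D g v.val, wSL_mem D g v.2⟩
      map_zero' := Subtype.ext (wSL_zero D g)
      map_add' := fun v w => Subtype.ext (wSL_add D g v.val w.val) }
  map_one' := by
    ext v
    exact Subtype.ext (wSL_one D v.val)
  map_mul' g h := by
    ext v
    exact Subtype.ext (wSL_mul D g h v.val)

theorem rhoSL_val [CharP K 2] (D : WeilData F K) (g : SL2 F) (v : WMod D) :
    (rhoSL D g v).val = wSL D g v.val := rfl

theorem center_le_ker [CharP K 2] (D : WeilData F K) :
    Subgroup.center (SL2 F) ≤ (rhoSL D).ker := by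
  intro g hg
  rw [Cfsg.Agent.Helper41.sl2_mem_center_iff] at hg
  obtain ⟨r, hr, hgr⟩ := hg
  rw [MonoidHom.mem_ker]
  ext v
  apply WMod.ext
  intro z
  rw [rhoSL_val]
  have h10 : g 1 0 = 0 := by
    have := congr_fun (congr_fun hgr 1) 0
    simpa [Matrix.scalar_apply] using this
  have h00 : g 0 0 = r := by
    have := congr_fun (congr_fun hgr 0) 0
    simpa [Matrix.scalar_apply] using this
  have h01 : g 0 1 = 0 := by
    have := congr_fun (congr_fun hgr 0) 1
    simpa [Matrix.scalar_apply] using this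
  simp only [wSL]
  rw [wOp_of_eq _ _ _ _ _ h10, h00, h01]
  have hr' : r = 1 ∨ r = -1 := by
    have : (r - 1) * (r + 1) = 0 := by linear_combination hr
    rcases mul_eq_zero.mp this with h | h
    · left; linear_combination h
    · right; linear_combination h
  rcases hr' with rfl | rfl
  · simp
  · simp [WMod.val_neg_arg]

/-- The action of `PSL₂(F)` on the Weil module. -/
noncomputable def rhoPSL [CharP K 2] (D : WeilData F K) : PSL2 F →* AddMonoid.End (WMod D) :=
  QuotientGroup.lift (Subgroup.center (SL2 F)) (rhoSL D) (center_le_ker D)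

noncomputable instance instDMA [CharP K 2] (D : WeilData F K) :
    DistribMulAction (PSL2 F) (WMod D) :=
  DistribMulAction.compHom (WMod D) (rhoPSL D)

theorem smul_mk_val [CharP K 2] (D : WeilData F K) (g : SL2 F) (v : WMod D) :
    (((QuotientGroup.mk g : PSL2 F)) • v).val = wSL D g v.val := rfl

end Cfsg.Agent.Helper9.Weil
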