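import Cfsg.Agent.Helper9.WeilC

/-!
# Char-2 Weil representation, part D: the group `V ⋊ PSL₂(F)` and the upper bound on its
spectrum (helper9, S3452)
-/

set_option autoImplicit false
set_option linter.unusedSectionVars false

namespace Cfsg.Agent.Helper9.Weil

open Finset Cfsg.Agent.Helper41 Cfsg.Agent.Helper39.SpecA10

variable {F : Type*} [Field F] [Fintype F] [DecidableEq F] {K : Type*} [Field K] [CharP K 2]

/-- The group `V ⋊ PSL₂(F)`. -/
abbrev WGrp (D : WeilData F K) := Aff (PSL2 F) (WMod D)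

theorem wSL_upper (D : WeilData F K) (g : SL2 F) (hc : g 1 0 = 0) (f : F × F → K) (z : F × F) :
    wSL D g f z = D.ψ (g 0 0 * g 0 1 * Qf D.δ z) * f (g 0 0 • z) := by
  simp only [wSL]; rw [wOp_of_eq _ _ _ _ _ hc]

theorem wSL_lower (D : WeilData F K) (g : SL2 F) (hc : g 1 0 ≠ 0) (f : F × F → K) (z : F × F) :
    wSL D g f z = ∑ y : F × F,
      D.ψ ((g 0 0 * Qf D.δ z - Bf D.δ z y + g 1 1 * Qf D.δ y) / g 1 0) * f y := by
  simp only [wSL]; rw [wOp_of_ne _ _ _ _ _ hc]

/-- A generic fact about `Aff`: the norm vector is fixed. -/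
theorem smul_nrm {G V : Type*} [Group G] [AddCommGroup V] [DistribMulAction G V] (g : G) (v : V) :
    g • Aff.nrm g v = Aff.nrm g v := by
  unfold Aff.nrm
  rw [Finset.smul_sum]
  have h1 : ∑ i ∈ Finset.range (orderOf g), g • (g ^ i) • v =
      ∑ i ∈ Finset.range (orderOf g), (g ^ (i + 1)) • v := by
    apply Finset.sum_congr rfl
    intro i _
    rw [smul_smul, pow_succ']
  rw [h1]
  have h2 := Finset.sum_range_succ' (fun i => (g ^ i) • v) (orderOf g)
  have h3 := Finset.sum_range_succ (fun i => (g ^ i) • v) (orderOf g)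
  rw [h3] at h2
  simp only [pow_orderOf_eq_one, pow_zero] at h2
  exact (add_right_cancel h2).symm

theorem eq_zero_of_fixed_upper (D : WeilData F K) (hker : ∀ t : F, D.ψ t = 1 → t = 0)
    (g : SL2 F) (hc : g 1 0 = 0) (ha : g 0 0 = 1 ∨ g 0 0 = -1) (hb : g 0 1 ≠ 0)
    (w : WMod D) (hw : (QuotientGroup.mk g : PSL2 F) • w = w) : w = 0 := by
  apply WMod.ext
  intro z
  rw [WMod.val_zero]
  by_cases hz : z = 0
  · rw [hz]; exact w.val_origin
  · have h1 := congrArg (fun v : WMod D => v.val z) hw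
    simp only [smul_mk_val] at h1
    rw [wSL_upper D g hc] at h1
    have h2 : w.val (g 0 0 • z) = w.val z := by
      rcases ha with ha | ha
      · rw [ha, one_smul]
      · rw [ha, neg_smul, one_smul, WMod.val_neg_arg]
    rw [h2] at h1
    have h3 : (D.ψ (g 0 0 * g 0 1 * Qf D.δ z) - 1) * w.val z = 0 := by
      rw [sub_mul, h1, one_mul, sub_self]
    rcases mul_eq_zero.mp h3 with h4 | h4
    · exfalso
      have h5 := hker _ (sub_eq_zero.mp h4)
      have ha0 : g 0 0 ≠ 0 := by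
        rcases ha with ha | ha <;> rw [ha] <;> simp
      have hQ : Qf D.δ z ≠ 0 := fun h => hz ((Qf_eq_zero_iff D.nsq z).mp h)
      exact mul_ne_zero (mul_ne_zero ha0 hb) hQ h5
    · exact h4

theorem exists_conj_upper (g : SL2 F) (ε : F) (hε : ε ^ 2 = 1) (htr : g 0 0 + g 1 1 = 2 * ε) :
    ∃ k : SL2 F, (k⁻¹ * g * k) 1 0 = 0 ∧ (k⁻¹ * g * k) 0 0 = ε := by
  have hdet := sl2_det_entries g
  by_cases hc : g 1 0 = 0
  · refine ⟨1, by simpa using hc, ?_⟩
    simp only [inv_one, one_mul, mul_one]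
    have h1 : (g 0 0 - ε) ^ 2 = 0 := by
      rw [hc] at hdet
      linear_combination (-1 : F) * hdet + hε + (g 0 0) * htr
    have := pow_eq_zero_iff (two_ne_zero) |>.mp h1
    linear_combination this
  · obtain ⟨k, hk⟩ : ∃ k : SL2 F,
        (k : Matrix (Fin 2) (Fin 2) F) = !![ε - g 1 1, -(g 1 0)⁻¹; g 1 0, 0] :=
      ⟨⟨!![ε - g 1 1, -(g 1 0)⁻¹; g 1 0, 0], by rw [Matrix.det_fin_two]; simp [hc]⟩, rfl⟩
    have hg : (g : Matrix (Fin 2) (Fin 2) F) = !![g 0 0, g 0 1; g 1 0, g 1 1] := by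
      ext i j; fin_cases i <;> fin_cases j <;> rfl
    have hkey : ((k⁻¹ * g * k : SL2 F) : Matrix (Fin 2) (Fin 2) F) =
        (!![ε - g 1 1, -(g 1 0)⁻¹; g 1 0, 0] : Matrix (Fin 2) (Fin 2) F).adjugate *
          !![g 0 0, g 0 1; g 1 0, g 1 1] * !![ε - g 1 1, -(g 1 0)⁻¹; g 1 0, 0] := by
      rw [Matrix.SpecialLinearGroup.coe_mul, Matrix.SpecialLinearGroup.coe_mul,
        Matrix.SpecialLinearGroup.coe_inv, hk, ← hg]
    refine ⟨k, ?_, ?_⟩
    · show ((k⁻¹ * g * k : SL2 F) : Matrix (Fin 2) (Fin 2) F) 1 0 = 0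
      rw [hkey, Matrix.adjugate_fin_two]
      simp [Matrix.mul_apply, Fin.sum_univ_two]
      field_simp
      linear_combination (g 1 0) * hdet - (g 1 0 * ε) * htr - (g 1 0) * hε
    · show ((k⁻¹ * g * k : SL2 F) : Matrix (Fin 2) (Fin 2) F) 0 0 = ε
      rw [hkey, Matrix.adjugate_fin_two]
      simp [Matrix.mul_apply, Fin.sum_univ_two]
      field_simp
      ring

section CharPSection

variable (p : ℕ) [Fact p.Prime] [CharP F p]

theorem char_dvd_card : p ∣ Fintype.card F := by
  obtain ⟨⟨f, hfpos⟩, -, hf⟩ := FiniteField.card F p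
  simp only [PNat.mk_coe] at hf
  rw [hf]; exact dvd_pow_self p (by omega)

theorem trace_sq_eq_four_of_orderOf (g : SL2 F)
    (hord : orderOf (QuotientGroup.mk g : PSL2 F) = p) :
    (Matrix.trace (g : Matrix (Fin 2) (Fin 2) F)) ^ 2 = 4 := by
  by_contra ht
  have hpp : p.Prime := Fact.out
  have hq : p ∣ Fintype.card F := char_dvd_card p
  have hq1 : 1 < Fintype.card F := Fintype.one_lt_card
  by_cases hr : ∃ a : F, a ^ 2 - Matrix.trace (g : Matrix (Fin 2) (Fin 2) F) * a + 1 = 0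
  · obtain ⟨a, ha⟩ := hr
    have h1 := sl2_pow_card_eq_self g ht a ha
    have h2 : g ^ (Fintype.card F - 1) = 1 := by
      have : g ^ (Fintype.card F - 1) * g = 1 * g := by
        rw [← pow_succ, Nat.sub_add_cancel (by omega), h1, one_mul]
      exact mul_right_cancel this
    have h3 : (QuotientGroup.mk g : PSL2 F) ^ (Fintype.card F - 1) = 1 := by
      rw [← QuotientGroup.mk_pow, h2]; rfl
    have h4 := orderOf_dvd_of_pow_eq_one h3
    rw [hord] at h4
    have : p ∣ 1 := by
      have := Nat.dvd_sub hq h4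
      rwa [Nat.sub_sub_self (by omega)] at this
    exact hpp.one_lt.ne' (Nat.dvd_one.mp this)
  · push Not at hr
    have h2 := sl2_pow_card_add_one_eq_one p g hr
    have h3 : (QuotientGroup.mk g : PSL2 F) ^ (Fintype.card F + 1) = 1 := by
      rw [← QuotientGroup.mk_pow, h2]; rfl
    have h4 := orderOf_dvd_of_pow_eq_one h3
    rw [hord] at h4
    have : p ∣ 1 := by
      have := Nat.dvd_sub h4 hq
      rwa [Nat.add_sub_cancel_left] at this
    exact hpp.one_lt.ne' (Nat.dvd_one.mp this)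

/-- Elements of order `p` of `PSL₂(F)` have no nonzero fixed vectors on the Weil module
(when the additive character has trivial kernel, e.g. over the prime field). -/
theorem eq_zero_of_fixed_of_orderOf (D : WeilData F K) (hker : ∀ t : F, D.ψ t = 1 → t = 0)
    (gb : PSL2 F) (hord : orderOf gb = p) (w : WMod D) (hw : gb • w = w) : w = 0 := by
  obtain ⟨g, rfl⟩ := QuotientGroup.mk_surjective gb
  have ht := trace_sq_eq_four_of_orderOf p g hord
  rw [Matrix.trace_fin_two] at ht
  obtain ⟨ε, hε, htε⟩ : ∃ ε : F, ε ^ 2 = 1 ∧ g 0 0 + g 1 1 = 2 * ε := by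
    have : (g 0 0 + g 1 1 - 2) * (g 0 0 + g 1 1 + 2) = 0 := by linear_combination ht
    rcases mul_eq_zero.mp this with h | h
    · exact ⟨1, by ring, by linear_combination h⟩
    · exact ⟨-1, by ring, by linear_combination h⟩
  have hε' : ε = 1 ∨ ε = -1 := by
    have : (ε - 1) * (ε + 1) = 0 := by linear_combination hε
    rcases mul_eq_zero.mp this with h | h
    · left; linear_combination h
    · right; linear_combination h
  obtain ⟨k, hk10, hk00⟩ := exists_conj_upper g ε hε htε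
  obtain ⟨g₁, hg₁⟩ : ∃ g₁ : SL2 F, g₁ = k⁻¹ * g * k := ⟨_, rfl⟩
  rw [← hg₁] at hk10 hk00
  have hw' : (QuotientGroup.mk g₁ : PSL2 F) • ((QuotientGroup.mk k⁻¹ : PSL2 F) • w) =
      (QuotientGroup.mk k⁻¹ : PSL2 F) • w := by
    rw [smul_smul, ← QuotientGroup.mk_mul, hg₁]
    have : k⁻¹ * g * k * k⁻¹ = k⁻¹ * g := by group
    rw [this, QuotientGroup.mk_mul, mul_smul, hw]
  have hb : g₁ 0 1 ≠ 0 := by
    intro hb
    have hdet := sl2_det_entries g₁
    rw [hk10, hk00, mul_zero, sub_zero] at hdet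
    have h11 : g₁ 1 1 = ε := by linear_combination ε * hdet - (g₁ 1 1) * hε
    have hcen : g₁ ∈ Subgroup.center (SL2 F) := by
      apply sl2_mem_center_of_eq_scalar g₁ ε hε
      ext i j
      fin_cases i <;> fin_cases j <;> simp [Matrix.scalar_apply, hk10, hk00, hb, h11]
    have h1 : (QuotientGroup.mk g₁ : PSL2 F) = 1 := (QuotientGroup.eq_one_iff _).mpr hcen
    have h2 : (QuotientGroup.mk g : PSL2 F) = 1 := by
      have : g = k * g₁ * k⁻¹ := by rw [hg₁]; group
      rw [this, QuotientGroup.mk_mul, QuotientGroup.mk_mul, h1, mul_one, ← QuotientGroup.mk_mul,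
        mul_inv_cancel]
      rfl
    rw [h2, orderOf_one] at hord
    exact (Fact.out : p.Prime).one_lt.ne hord
  have h0 := eq_zero_of_fixed_upper D hker g₁ hk10 (hk00 ▸ hε') hb _ hw'
  calc w = (QuotientGroup.mk k : PSL2 F) • ((QuotientGroup.mk k⁻¹ : PSL2 F) • w) := by
        rw [smul_smul, ← QuotientGroup.mk_mul, mul_inv_cancel]
        exact (one_smul _ _).symm
    _ = 0 := by rw [h0, smul_zero]

theorem addOrderOf_dvd_two (D : WeilData F K) (w : WMod D) : addOrderOf w ∣ 2 := by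
  apply addOrderOf_dvd_of_nsmul_eq_zero
  rw [two_nsmul]
  exact WMod.add_self w

/-- Upper bound for the spectrum of `V ⋊ PSL₂(F)`. -/
theorem orderOf_mem (D : WeilData F K) (hker : ∀ t : F, D.ψ t = 1 → t = 0) (x : WGrp D) :
    orderOf x ∣ Fintype.card F - 1 ∨ orderOf x ∣ Fintype.card F + 1 ∨ orderOf x = p := by
  have hpp : p.Prime := Fact.out
  have hq1 : 1 < Fintype.card F := Fintype.one_lt_card
  have hodd : Fintype.card F % 2 = 1 := D.odd
  have hd : Nat.gcd 2 (Fintype.card F - 1) = 2 := by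
    have : Fintype.card F - 1 = 2 * (Fintype.card F / 2) := by omega
    rw [this]; simp
  have hdvd := psl2_orderOf_dvd p x.g
  rw [hd] at hdvd
  have hpos : 0 < orderOf x.g := by
    rcases hdvd with h | h | h
    · exact Nat.pos_of_dvd_of_pos h hpp.pos
    · exact Nat.pos_of_dvd_of_pos h (by omega)
    · exact Nat.pos_of_dvd_of_pos h (by omega)
  have hx := Aff.orderOf_eq x hpos
  have h2 := addOrderOf_dvd_two D (Aff.nrm x.g x.v)
  rcases hdvd with h | h | h
  · rcases (Nat.dvd_prime hpp).mp h with h1 | h1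
    · left
      rw [hx, h1, one_mul]
      exact h2.trans ⟨Fintype.card F / 2, by omega⟩
    · right; right
      have hfix : Aff.nrm x.g x.v = 0 :=
        eq_zero_of_fixed_of_orderOf p D hker x.g h1 _ (smul_nrm _ _)
      rw [hx, hfix, addOrderOf_zero, mul_one, h1]
  · left
    rw [hx]
    have : Fintype.card F - 1 = (Fintype.card F - 1) / 2 * 2 := by omega
    rw [this]
    exact Nat.mul_dvd_mul h h2
  · right; left
    rw [hx]
    have : Fintype.card F + 1 = (Fintype.card F + 1) / 2 * 2 := by omega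
    rw [this]
    exact Nat.mul_dvd_mul h h2

end CharPSection

end Cfsg.Agent.Helper9.Weil
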