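import Cfsg.Agent.Helper9.WeilD

/-!
# Char-2 Weil representation, part E: elements of order `p` and `q - 1` in `V ⋊ PSL₂(F)`
(helper9, S3452)
-/

set_option autoImplicit false
set_option linter.unusedSectionVars false

namespace Cfsg.Agent.Helper9.Weil

open Finset Cfsg.Agent.Helper41 Cfsg.Agent.Helper39.SpecA10

variable {F : Type*} [Field F] [Fintype F] [DecidableEq F] {K : Type*} [Field K] [CharP K 2]

/-- The basic vector `δ_{z₀} + δ_{-z₀}`. -/
def fz (D : WeilData F K) (z0 : F × F) (h0 : z0 ≠ 0) : WMod D :=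
  ⟨fun z => if z = z0 ∨ z = -z0 then 1 else 0, by
    constructor
    · show (if (0 : F × F) = z0 ∨ (0 : F × F) = -z0 then (1 : K) else 0) = 0
      rw [if_neg]
      rintro (h | h)
      · exact h0 h.symm
      · exact h0 (neg_eq_zero.mp h.symm)
    · intro z
      show (if -z = z0 ∨ -z = -z0 then (1 : K) else 0) = if z = z0 ∨ z = -z0 then 1 else 0
      have : (-z = z0 ∨ -z = -z0) ↔ (z = z0 ∨ z = -z0) := by
        constructor
        · rintro (h | h)
          · right; rw [← h, neg_neg]
          · left; exact neg_injective h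
        · rintro (h | h)
          · right; rw [h]
          · left; rw [h, neg_neg]
      simp only [this]⟩

theorem fz_val (D : WeilData F K) (z0 : F × F) (h0 : z0 ≠ 0) (z : F × F) :
    (fz D z0 h0).val z = if z = z0 ∨ z = -z0 then 1 else 0 := rfl

/-- Evaluation as an additive map. -/
def WMod.valHom (D : WeilData F K) (z : F × F) : WMod D →+ K where
  toFun v := v.val z
  map_zero' := rfl
  map_add' _ _ := rfl

theorem WMod.val_sum (D : WeilData F K) {ι : Type*} (s : Finset ι) (f : ι → WMod D) (z : F × F) :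
    (∑ i ∈ s, f i).val z = ∑ i ∈ s, (f i).val z :=
  map_sum (WMod.valHom D z) f s

theorem addOrderOf_eq_two (D : WeilData F K) {w : WMod D} (hw : w ≠ 0) : addOrderOf w = 2 := by
  have h2 := addOrderOf_dvd_two D w
  rcases (Nat.dvd_prime Nat.prime_two).mp h2 with h | h
  · exact absurd (AddMonoid.addOrderOf_eq_one_iff.mp h) hw
  · exact h

theorem wgrp_orderOf_pos (p : ℕ) [Fact p.Prime] [CharP F p] (D : WeilData F K) (g : PSL2 F) :
    0 < orderOf g := by
  have hpp : p.Prime := Fact.out
  have hq1 : 1 < Fintype.card F := Fintype.one_lt_card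
  have hodd : Fintype.card F % 2 = 1 := D.odd
  have hd : Nat.gcd 2 (Fintype.card F - 1) = 2 := by
    have : Fintype.card F - 1 = 2 * (Fintype.card F / 2) := by omega
    rw [this]; simp
  have hdvd := psl2_orderOf_dvd p g
  rw [hd] at hdvd
  rcases hdvd with h | h | h
  · exact Nat.pos_of_dvd_of_pos h hpp.pos
  · exact Nat.pos_of_dvd_of_pos h (by omega)
  · exact Nat.pos_of_dvd_of_pos h (by omega)

/-- An element of order `p`. -/
theorem exists_orderOf_eq_char (p : ℕ) [Fact p.Prime] [CharP F p] (D : WeilData F K) :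
    ∃ x : WGrp D, orderOf x = p := by
  obtain ⟨g, hg⟩ := psl2_exists_orderOf_eq_char (F := F) p
  refine ⟨⟨0, g⟩, ?_⟩
  rw [Aff.orderOf_eq _ (wgrp_orderOf_pos p D g)]
  have : Aff.nrm g (0 : WMod D) = 0 := by
    unfold Aff.nrm
    simp
  show orderOf g * addOrderOf (Aff.nrm g (0 : WMod D)) = p
  rw [this, addOrderOf_zero, mul_one, hg]

theorem orderOf_mk_sl2Diag (a : Fˣ) :
    orderOf (QuotientGroup.mk (sl2Diag a) : PSL2 F) = orderOf (a ^ 2) := by
  rw [orderOf_eq_orderOf_iff]
  intro n
  rw [← QuotientGroup.mk_pow, QuotientGroup.eq_one_iff, sl2Diag_pow, sl2Diag_mem_center_iff,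
    ← pow_mul, ← pow_mul, mul_comm]

theorem mk_sl2Diag_pow_smul_val (D : WeilData F K) (a : Fˣ) (i : ℕ) (v : WMod D) (z : F × F) :
    (((QuotientGroup.mk (sl2Diag a) : PSL2 F) ^ i) • v).val z = v.val (((a ^ i : Fˣ) : F) • z) := by
  rw [← QuotientGroup.mk_pow, sl2Diag_pow, smul_mk_val, wSL_upper D _ (by simp [sl2Diag])]
  simp [sl2Diag]

/-- An element of order `q - 1`. -/
theorem exists_orderOf_eq_card_sub_one (p : ℕ) [Fact p.Prime] [CharP F p] (D : WeilData F K) :
    ∃ x : WGrp D, orderOf x = Fintype.card F - 1 := by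
  classical
  have hq1 : 1 < Fintype.card F := Fintype.one_lt_card
  have hodd : Fintype.card F % 2 = 1 := D.odd
  obtain ⟨a, ha⟩ := IsCyclic.exists_ofOrder_eq_natCard (α := Fˣ)
  rw [Nat.card_eq_fintype_card, Fintype.card_units] at ha
  set g : PSL2 F := QuotientGroup.mk (sl2Diag a) with hg
  have hn : orderOf g = (Fintype.card F - 1) / 2 := by
    rw [hg, orderOf_mk_sl2Diag, orderOf_pow, ha]
    congr 1
    have : Fintype.card F - 1 = (Fintype.card F / 2) * 2 := by omega
    rw [this]; simp
  have hz0 : ((1 : F), (0 : F)) ≠ 0 := by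
    intro h; have := congrArg Prod.fst h; simp at this
  refine ⟨⟨fz D (1, 0) hz0, g⟩, ?_⟩
  rw [Aff.orderOf_eq _ (wgrp_orderOf_pos p D g)]
  show orderOf g * addOrderOf (Aff.nrm g (fz D (1, 0) hz0)) = _
  have hne : Aff.nrm g (fz D (1, 0) hz0) ≠ 0 := by
    intro h0
    have h1 := congrArg (fun v : WMod D => v.val (1, 0)) h0
    simp only [WMod.val_zero] at h1
    unfold Aff.nrm at h1
    rw [WMod.val_sum] at h1
    have hpos : 0 < orderOf g := wgrp_orderOf_pos p D g
    rw [Finset.sum_eq_single_of_mem 0 (Finset.mem_range.mpr hpos)] at h1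
    · rw [hg, mk_sl2Diag_pow_smul_val, fz_val] at h1
      simp at h1
    · intro i hi hi0
      rw [hg, mk_sl2Diag_pow_smul_val, fz_val, if_neg]
      rintro (h | h)
      · have h' := congrArg Prod.fst h
        simp only [Prod.smul_fst, smul_eq_mul, mul_one] at h'
        have : (a ^ 2) ^ i = 1 := by
          apply Units.ext
          rw [← pow_mul, mul_comm, pow_mul]
          push_cast at h' ⊢
          rw [h']; simp
        have := orderOf_dvd_of_pow_eq_one this
        rw [← orderOf_mk_sl2Diag, ← hg] at this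
        have := Nat.le_of_dvd (Nat.pos_of_ne_zero hi0) this
        have := Finset.mem_range.mp hi
        omega
      · have h' := congrArg Prod.fst h
        simp only [Prod.smul_fst, smul_eq_mul, mul_one, Prod.fst_neg] at h'
        have : (a ^ 2) ^ i = 1 := by
          apply Units.ext
          rw [← pow_mul, mul_comm, pow_mul]
          push_cast at h' ⊢
          rw [h']; simp
        have := orderOf_dvd_of_pow_eq_one this
        rw [← orderOf_mk_sl2Diag, ← hg] at this
        have := Nat.le_of_dvd (Nat.pos_of_ne_zero hi0) this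
        have := Finset.mem_range.mp hi
        omega
  rw [addOrderOf_eq_two D hne, hn]
  omega

end Cfsg.Agent.Helper9.Weil
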