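import Cfsg.Agent.Helper9.WeilE

/-!
# Char-2 Weil representation, part F: the non-split torus and an element of order `q + 1`
(helper9, S3452)
-/

set_option autoImplicit false
set_option linter.unusedSectionVars false

namespace Cfsg.Agent.Helper9.Weil

open Finset Cfsg.Agent.Helper41 Cfsg.Agent.Helper39.SpecA10

variable {F : Type*} [Field F] [Fintype F] [DecidableEq F]

/-- Entrywise form of `x * t = t * x` in `SL₂`. -/
theorem comm_entries (x t : SL2 F) (h : x * t = t * x) :
    x 0 1 * t 1 0 = t 0 1 * x 1 0 ∧ (x 1 1 - x 0 0) * t 1 0 = x 1 0 * (t 1 1 - t 0 0) := by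
  have h00 := congrArg (fun M : SL2 F => (M : Matrix (Fin 2) (Fin 2) F) 0 0) h
  have h10 := congrArg (fun M : SL2 F => (M : Matrix (Fin 2) (Fin 2) F) 1 0) h
  simp only [Matrix.SpecialLinearGroup.coe_mul, Matrix.mul_apply, Fin.sum_univ_two] at h00 h10
  constructor
  · linear_combination h00
  · linear_combination h10

/-- The two hyperbola coordinates of a torus element. -/
noncomputable def muT (t x : SL2 F) : F := (x 0 0 - 1) * t 1 0 / x 1 0 + (t 1 1 - t 0 0) / 2

noncomputable def nuT (t x : SL2 F) : F := (x 0 0 + 1) * t 1 0 / x 1 0 + (t 1 1 - t 0 0) / 2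

noncomputable def discT (t : SL2 F) : F := ((t 0 0 + t 1 1) ^ 2 - 4) / 4

theorem muT_mul_nuT (h2 : (2 : F) ≠ 0) (t x : SL2 F) (h : x * t = t * x) (hx : x 1 0 ≠ 0)
    (hc : t 1 0 ≠ 0) : muT t x * nuT t x = discT t := by
  obtain ⟨h01, h11⟩ := comm_entries x t h
  have hdx := sl2_det_entries x
  have hdt := sl2_det_entries t
  have e01 : x 0 1 = t 0 1 * x 1 0 / t 1 0 := by field_simp; linear_combination h01
  have e11 : x 1 1 = x 0 0 + x 1 0 * (t 1 1 - t 0 0) / t 1 0 := by
    field_simp; linear_combination h11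
  have et01 : t 0 1 = (t 0 0 * t 1 1 - 1) / t 1 0 := by field_simp; linear_combination -hdt
  rw [e01, e11, et01] at hdx
  simp only [muT, nuT, discT]
  have h4 : (4 : F) ≠ 0 := by
    have : (4 : F) = 2 * 2 := by norm_num
    rw [this]; exact mul_ne_zero h2 h2
  field_simp at hdx ⊢
  linear_combination 16 * hdx

theorem phase_eq (h2 : (2 : F) ≠ 0) (t x : SL2 F) (h : x * t = t * x) (hx : x 1 0 ≠ 0)
    (hc : t 1 0 ≠ 0) (qz qy r : F) :
    (x 0 0 * qz - r + x 1 1 * qy) / x 1 0 =
      ((qz + qy + r) / 2 * muT t x + (qz + qy - r) / 2 * nuT t x +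
        (t 1 1 - t 0 0) * (qy - qz) / 2) / t 1 0 := by
  obtain ⟨-, h11⟩ := comm_entries x t h
  have e11 : x 1 1 = x 0 0 + x 1 0 * (t 1 1 - t 0 0) / t 1 0 := by
    field_simp; linear_combination h11
  rw [e11]
  simp only [muT, nuT]
  field_simp
  ring

theorem torus_ext (h2 : (2 : F) ≠ 0) (t x x' : SL2 F) (h : x * t = t * x) (h' : x' * t = t * x')
    (hx : x 1 0 ≠ 0) (hx' : x' 1 0 ≠ 0) (hc : t 1 0 ≠ 0) (hd : discT t ≠ 0)
    (hmu : muT t x = muT t x') : x = x' := by
  have hn := muT_mul_nuT h2 t x h hx hc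
  have hn' := muT_mul_nuT h2 t x' h' hx' hc
  have hmu0 : muT t x ≠ 0 := fun h0 => hd (by rw [← hn, h0, zero_mul])
  have hnu : nuT t x = nuT t x' := by
    have : muT t x * nuT t x = muT t x * nuT t x' := by rw [hn, hmu, hn']
    exact mul_left_cancel₀ hmu0 this
  have e10 : x 1 0 = x' 1 0 := by
    have hd1 : nuT t x - muT t x = 2 * t 1 0 / x 1 0 := by
      simp only [muT, nuT]; field_simp; ring
    have hd2 : nuT t x' - muT t x' = 2 * t 1 0 / x' 1 0 := by
      simp only [muT, nuT]; field_simp; ring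
    rw [hnu, hmu, hd2] at hd1
    field_simp at hd1
    exact hd1
  have e00 : x 0 0 = x' 0 0 := by
    have hm := hmu
    simp only [muT] at hm
    rw [← e10] at hm
    field_simp at hm
    have h3 : 2 * (t 1 0 * (x 0 0 - x' 0 0)) = 0 := by linear_combination hm
    rcases mul_eq_zero.mp h3 with h4 | h4
    · exact absurd h4 h2
    · rcases mul_eq_zero.mp h4 with h5 | h5
      · exact absurd h5 hc
      · exact sub_eq_zero.mp h5
  obtain ⟨h01, h11⟩ := comm_entries x t h
  obtain ⟨h01', h11'⟩ := comm_entries x' t h'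
  have e01 : x 0 1 = x' 0 1 := by
    have : (x 0 1 - x' 0 1) * t 1 0 = 0 := by
      rw [← e10] at h01'; linear_combination h01 - h01'
    rcases mul_eq_zero.mp this with h4 | h4
    · exact sub_eq_zero.mp h4
    · exact absurd h4 hc
  have e11 : x 1 1 = x' 1 1 := by
    have : (x 1 1 - x' 1 1) * t 1 0 = 0 := by
      rw [← e10, ← e00] at h11'; linear_combination h11 - h11'
    rcases mul_eq_zero.mp this with h4 | h4
    · exact sub_eq_zero.mp h4
    · exact absurd h4 hc
  apply Subtype.ext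
  ext i j
  fin_cases i <;> fin_cases j
  · exact e00
  · exact e01
  · exact e10
  · exact e11

end Cfsg.Agent.Helper9.Weil
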