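import Cfsg.Agent.Helper9.WeilF
import Cfsg.Agent.Helper41.SL2Torus

/-!
# Char-2 Weil representation, part G: a generator of the non-split torus of `SL₂(F)`
(helper9, S3452)
-/

set_option autoImplicit false
set_option linter.unusedSectionVars false

namespace Cfsg.Agent.Helper9.Weil

open Finset Cfsg.Agent.Helper41 Cfsg.Agent.Helper39.SpecA10

variable {F : Type*} [Field F] [Fintype F] [DecidableEq F]

/-- An element of order `q + 1` in `SL₂(F)`. -/
theorem exists_sl2_orderOf (p : ℕ) [Fact p.Prime] [CharP F p] :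
    ∃ t : SL2 F, orderOf t = Fintype.card F + 1 := by
  classical
  have hq1 : 1 < Fintype.card F := Fintype.one_lt_card
  let K := FiniteField.Extension F p 2
  have hfin : Module.finrank F K = 2 := FiniteField.finrank_extension F p 2
  let b : Module.Basis (Fin 2) F K := Module.finBasisOfFinrankEq F K hfin
  have : Fintype K := Fintype.ofFinite K
  have hcardK : Nat.card K = Fintype.card F ^ 2 := by
    rw [FiniteField.natCard_extension F p 2, Nat.card_eq_fintype_card]
  obtain ⟨ζ, hζ⟩ := IsCyclic.exists_ofOrder_eq_natCard (α := Kˣ)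
  rw [Nat.card_units, hcardK] at hζ
  have hfac : Fintype.card F ^ 2 - 1 = (Fintype.card F - 1) * (Fintype.card F + 1) := by
    obtain ⟨k, hk⟩ : ∃ k, Fintype.card F = k + 1 := ⟨Fintype.card F - 1, by omega⟩
    rw [hk]
    have : (k + 1) ^ 2 = k * (k + 2) + 1 := by ring
    rw [this]; simp
  set μ : Kˣ := ζ ^ (Fintype.card F - 1) with hμdef
  have hμ : orderOf μ = Fintype.card F + 1 := by
    rw [hμdef, orderOf_pow, hζ, hfac, Nat.gcd_mul_right_left,
      Nat.mul_div_cancel_left _ (by omega : 0 < Fintype.card F - 1)]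
  let M := Algebra.leftMulMatrix b (μ : K)
  have hdet : M.det = 1 := by
    rw [← Algebra.norm_eq_matrix_det b]
    apply (algebraMap F K).injective
    rw [FiniteField.algebraMap_norm_eq_pow, map_one, hcardK, Nat.card_eq_fintype_card, hfac,
      Nat.mul_div_cancel_left _ (by omega : 0 < Fintype.card F - 1)]
    rw [← hμ, ← Units.val_pow_eq_pow_val, pow_orderOf_eq_one]; rfl
  let A : Matrix.SpecialLinearGroup (Fin 2) F := ⟨M, hdet⟩
  refine ⟨A, ?_⟩
  have hApow : ∀ n : ℕ, ((A ^ n : Matrix.SpecialLinearGroup (Fin 2) F) : Matrix (Fin 2) (Fin 2) F) =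
      Algebra.leftMulMatrix b (((μ ^ n : Kˣ) : K)) := by
    intro n
    rw [Matrix.SpecialLinearGroup.coe_pow, Units.val_pow_eq_pow_val, map_pow]
  rw [← hμ, orderOf_eq_orderOf_iff]
  intro n
  constructor
  · intro h
    have h1 := congrArg (fun x : SL2 F => (x : Matrix (Fin 2) (Fin 2) F)) h
    simp only [hApow, Matrix.SpecialLinearGroup.coe_one] at h1
    rw [← map_one (Algebra.leftMulMatrix b)] at h1
    have h2 := Algebra.leftMulMatrix_injective b h1
    exact Units.ext h2
  · intro h
    apply Subtype.ext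
    rw [hApow, h, Units.val_one, map_one, Matrix.SpecialLinearGroup.coe_one]

theorem sq_eq_one_of_mem_center (x : SL2 F) (hx : x ∈ Subgroup.center (SL2 F)) : x ^ 2 = 1 := by
  rw [sl2_mem_center_iff] at hx
  obtain ⟨r, hr, hxr⟩ := hx
  apply Subtype.ext
  rw [Matrix.SpecialLinearGroup.coe_pow, hxr, ← map_pow, hr, map_one,
    Matrix.SpecialLinearGroup.coe_one]

/-- The discriminant of a generator of the non-split torus is not a square. -/
theorem discT_not_isSquare (p : ℕ) [Fact p.Prime] [CharP F p] (h2 : (2 : F) ≠ 0) (t : SL2 F)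
    (ht : orderOf t = Fintype.card F + 1) : ¬ IsSquare (discT t) := by
  rintro ⟨e, he⟩
  have hpp : p.Prime := Fact.out
  have hq1 : 1 < Fintype.card F := Fintype.one_lt_card
  have h4 : (4 : F) ≠ 0 := by
    have : (4 : F) = 2 * 2 := by norm_num
    rw [this]; exact mul_ne_zero h2 h2
  have htr : Matrix.trace (t : Matrix (Fin 2) (Fin 2) F) = t 0 0 + t 1 1 := Matrix.trace_fin_two _
  have he' : (t 0 0 + t 1 1) ^ 2 - 4 = 4 * (e * e) := by
    rw [← he, discT]; field_simp
  by_cases h : (Matrix.trace (t : Matrix (Fin 2) (Fin 2) F)) ^ 2 = 4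
  · have hc := sl2_pow_char_mem_center p t h
    have h1 := sq_eq_one_of_mem_center _ hc
    rw [← pow_mul] at h1
    have hdvd := orderOf_dvd_of_pow_eq_one h1
    rw [ht] at hdvd
    have hpq : p ∣ Fintype.card F := char_dvd_card p
    have hcop : Nat.Coprime (Fintype.card F + 1) p := by
      rw [Nat.coprime_comm]
      rw [Nat.Prime.coprime_iff_not_dvd hpp]
      intro hd
      have : p ∣ 1 := (Nat.dvd_add_right hpq).mp hd
      exact hpp.one_lt.ne' (Nat.dvd_one.mp this)
    have := hcop.dvd_of_dvd_mul_left hdvd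
    have := Nat.le_of_dvd (by norm_num) this
    omega
  · have ha : ((t 0 0 + t 1 1) / 2 + e) ^ 2 -
        Matrix.trace (t : Matrix (Fin 2) (Fin 2) F) * ((t 0 0 + t 1 1) / 2 + e) + 1 = 0 := by
      rw [htr]
      field_simp
      linear_combination -he'
    have h1 := sl2_pow_card_eq_self t h _ ha
    have h3 : t ^ (Fintype.card F - 1) = 1 := by
      have : t ^ (Fintype.card F - 1) * t = 1 * t := by
        rw [← pow_succ, one_mul]
        have : Fintype.card F - 1 + 1 = Fintype.card F := by omega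
        rw [this, h1]
      exact mul_right_cancel this
    have hdvd := orderOf_dvd_of_pow_eq_one h3
    rw [ht] at hdvd
    have := Nat.le_of_dvd (by omega) hdvd
    omega

theorem lower_ne_zero_of_discT (h2 : (2 : F) ≠ 0) (t : SL2 F) (hd : ¬ IsSquare (discT t)) :
    t 1 0 ≠ 0 := by
  intro hc
  apply hd
  have hdet := sl2_det_entries t
  rw [hc, mul_zero, sub_zero] at hdet
  have h4 : (4 : F) ≠ 0 := by
    have : (4 : F) = 2 * 2 := by norm_num
    rw [this]; exact mul_ne_zero h2 h2
  refine ⟨(t 0 0 - t 1 1) / 2, ?_⟩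
  rw [discT]
  field_simp
  linear_combination 16 * hdet

/-- Elements commuting with `t` and having lower-left entry zero are `±1`. -/
theorem diag_of_comm_of_lower_zero (t x : SL2 F) (hc : t 1 0 ≠ 0) (h : x * t = t * x)
    (hx : x 1 0 = 0) : x 0 1 = 0 ∧ x 1 1 = x 0 0 ∧ (x 0 0 = 1 ∨ x 0 0 = -1) := by
  obtain ⟨h01, h11⟩ := comm_entries x t h
  rw [hx, mul_zero] at h01
  rw [hx, zero_mul] at h11
  have e01 : x 0 1 = 0 := by
    rcases mul_eq_zero.mp h01 with h | h
    · exact h
    · exact absurd h hc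
  have e11 : x 1 1 = x 0 0 := by
    rcases mul_eq_zero.mp h11 with h | h
    · exact sub_eq_zero.mp h
    · exact absurd h hc
  refine ⟨e01, e11, ?_⟩
  have hdet := sl2_det_entries x
  rw [e01, e11, zero_mul, sub_zero] at hdet
  have : (x 0 0 - 1) * (x 0 0 + 1) = 0 := by linear_combination hdet
  rcases mul_eq_zero.mp this with h | h
  · left; exact sub_eq_zero.mp h
  · right; exact eq_neg_of_add_eq_zero_left h

theorem sq_eq_one_of_comm_of_lower_zero (t x : SL2 F) (hc : t 1 0 ≠ 0) (h : x * t = t * x)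
    (hx : x 1 0 = 0) : x ^ 2 = 1 := by
  obtain ⟨e01, e11, e00⟩ := diag_of_comm_of_lower_zero t x hc h hx
  have hdet := sl2_det_entries x
  rw [e01, e11, zero_mul, sub_zero] at hdet
  apply Subtype.ext
  rw [pow_two, Matrix.SpecialLinearGroup.coe_mul, Matrix.SpecialLinearGroup.coe_one]
  ext i j
  fin_cases i <;> fin_cases j <;>
    simp [Matrix.mul_apply, Fin.sum_univ_two, hx, e01, e11, hdet]

end Cfsg.Agent.Helper9.Weil
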