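import Cfsg.Agent.Helper9.WeilG

/-!
# Char-2 Weil representation, part H: character-sum lemmas for the element of order `q + 1`
(helper9, S3452)
-/

set_option autoImplicit false
set_option linter.unusedSectionVars false

namespace Cfsg.Agent.Helper9.Weil

open Finset Cfsg.Agent.Helper41 Cfsg.Agent.Helper39.SpecA10

variable {F : Type*} [Field F] [Fintype F] [DecidableEq F] {K : Type*} [Field K] [CharP K 2]

/-- The delta function at `y0`. -/
def dlt (y0 : F × F) : F × F → K := fun y => if y = y0 then 1 else 0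

theorem fz_val_eq (D : WeilData F K) (h2 : (2 : F) ≠ 0) (y0 : F × F) (h0 : y0 ≠ 0) :
    (fz D y0 h0).val = dlt y0 + dlt (-y0) := by
  funext z
  rw [fz_val]
  simp only [dlt, Pi.add_apply]
  by_cases h1 : z = y0
  · have h3 : z ≠ -y0 := by
      rw [h1]
      intro h
      apply h0
      have h4 : (2 : F) • y0 = 0 := by
        rw [two_smul]
        nth_rewrite 1 [h]
        exact neg_add_cancel y0
      rcases smul_eq_zero.mp h4 with h5 | h5
      · exact absurd h5 h2
      · exact h5
    rw [if_pos (Or.inl h1), if_pos h1, if_neg h3, add_zero]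
  · by_cases h3 : z = -y0
    · rw [if_pos (Or.inr h3), if_neg h1, if_pos h3, zero_add]
    · rw [if_neg (by tauto), if_neg h1, if_neg h3, add_zero]

theorem wSL_negOne_dlt (D : WeilData F K) (y0 : F × F) :
    wSL D sl2NegOne (dlt y0) = (dlt (-y0) : F × F → K) := by
  funext z
  rw [wSL_upper D _ (by simp [sl2NegOne, Matrix.scalar_apply])]
  have h00 : (sl2NegOne : SL2 F) 0 0 = -1 := by simp [sl2NegOne, Matrix.scalar_apply]
  have h01 : (sl2NegOne : SL2 F) 0 1 = 0 := by simp [sl2NegOne, Matrix.scalar_apply]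
  rw [h00, h01]
  simp only [dlt, mul_zero, zero_mul, AddChar.map_zero_eq_one, one_mul, neg_smul, one_smul]
  by_cases h : z = -y0
  · rw [if_pos h, if_pos (by rw [h, neg_neg])]
  · rw [if_neg h, if_neg]
    intro h'
    exact h (by rw [← h', neg_neg])

theorem wSL_dlt_lower (D : WeilData F K) (x : SL2 F) (hx : x 1 0 ≠ 0) (y0 zz : F × F) :
    wSL D x (dlt y0) zz =
      D.ψ ((x 0 0 * Qf D.δ zz - Bf D.δ zz y0 + x 1 1 * Qf D.δ y0) / x 1 0) := by
  rw [wSL_lower D x hx]
  rw [Finset.sum_eq_single y0]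
  · simp [dlt]
  · intro y _ hy
    simp [dlt, hy]
  · intro h
    exact absurd (Finset.mem_univ _) h

theorem wSL_dlt_upper (D : WeilData F K) (x : SL2 F) (hx : x 1 0 = 0)
    (h00 : x 0 0 = 1 ∨ x 0 0 = -1) (y0 zz : F × F) (h1 : zz ≠ y0) (h2 : -zz ≠ y0) :
    wSL D x (dlt y0) zz = 0 := by
  rw [wSL_upper D x hx]
  rcases h00 with h | h
  · rw [h, one_smul]
    simp [dlt, h1]
  · rw [h, neg_smul, one_smul]
    simp [dlt, h2]

/-- The Kloosterman-type sum in characteristic two collapses to its two fixed points. -/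
theorem sum_kloosterman (ψ : AddChar F K) (h2 : (2 : F) ≠ 0) (Δ c : F) (hΔ : Δ ≠ 0)
    (hc : c ≠ 0) :
    ∑ u ∈ univ.filter (fun u : F => u ≠ 0), ψ ((u + Δ ^ 2 / u) / (2 * c)) =
      ψ (Δ / c) + ψ (-(Δ / c)) := by
  have hne : Δ ≠ -Δ := by
    intro h
    have : (2 : F) * Δ = 0 := by linear_combination h
    rcases mul_eq_zero.mp this with h' | h'
    · exact h2 h'
    · exact hΔ h'
  have hmemΔ : Δ ∈ univ.filter (fun u : F => u ≠ 0) := by simp [hΔ]
  have hmemN : -Δ ∈ (univ.filter (fun u : F => u ≠ 0)).erase Δ := by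
    simp [hΔ, hne.symm]
  rw [← Finset.add_sum_erase _ _ hmemΔ, ← Finset.add_sum_erase _ _ hmemN]
  have hrest : ∑ u ∈ ((univ.filter (fun u : F => u ≠ 0)).erase Δ).erase (-Δ),
      ψ ((u + Δ ^ 2 / u) / (2 * c)) = 0 := by
    apply Finset.sum_involution (fun u _ => Δ ^ 2 / u)
    · intro u hu
      simp only [Finset.mem_erase, Finset.mem_filter, Finset.mem_univ, true_and] at hu
      obtain ⟨-, -, hu0⟩ := hu
      have : Δ ^ 2 / u + Δ ^ 2 / (Δ ^ 2 / u) = u + Δ ^ 2 / u := by
        field_simp
        ring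
      rw [this]
      exact CharTwo.add_self_eq_zero _
    · intro u hu _ hfix
      simp only [Finset.mem_erase, Finset.mem_filter, Finset.mem_univ, true_and] at hu
      obtain ⟨hu1, hu2, hu0⟩ := hu
      have : (u - Δ) * (u + Δ) = 0 := by
        field_simp at hfix
        linear_combination -hfix
      rcases mul_eq_zero.mp this with h | h
      · exact hu2 (sub_eq_zero.mp h)
      · exact hu1 (eq_neg_of_add_eq_zero_left h)
    · intro u hu
      simp only [Finset.mem_erase, Finset.mem_filter, Finset.mem_univ, true_and] at hu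
      obtain ⟨-, -, hu0⟩ := hu
      field_simp
    · intro u hu
      simp only [Finset.mem_erase, Finset.mem_filter, Finset.mem_univ, true_and] at hu ⊢
      obtain ⟨hu1, hu2, hu0⟩ := hu
      refine ⟨?_, ?_, ?_⟩
      · intro h
        apply hu1
        field_simp at h
        linear_combination h
      · intro h
        apply hu2
        field_simp at h
        linear_combination -h
      · exact div_ne_zero (pow_ne_zero 2 hΔ) hu0
  rw [hrest, add_zero]
  congr 2
  · field_simp
    ring
  · field_simp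
    ring

theorem psi_add_psi_neg_ne_zero (ψ : AddChar F K) (hker : ∀ t : F, ψ t = 1 → t = 0)
    (h2 : (2 : F) ≠ 0) (a : F) (ha : a ≠ 0) : ψ a + ψ (-a) ≠ 0 := by
  intro h
  have h1 : ψ a = ψ (-a) := by
    have := eq_neg_of_add_eq_zero_left h
    rw [CharTwo.neg_eq] at this
    exact this
  have h3 : ψ (a + a) = 1 := by
    rw [AddChar.map_add_eq_mul]
    nth_rewrite 2 [h1]
    rw [← AddChar.map_add_eq_mul, add_neg_cancel, AddChar.map_zero_eq_one]
  have h4 := hker _ h3
  have : (2 : F) * a = 0 := by linear_combination h4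
  rcases mul_eq_zero.mp this with h' | h'
  · exact h2 h'
  · exact ha h'

end Cfsg.Agent.Helper9.Weil
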