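import Cfsg.Agent.Helper9.WeilH

/-!
# Char-2 Weil representation, part I: an element of order `q + 1` in `V ⋊ PSL₂(F)`
(helper9, S3452)
-/

set_option autoImplicit false
set_option linter.unusedSectionVars false

namespace Cfsg.Agent.Helper9.Weil

open Finset Cfsg.Agent.Helper41 Cfsg.Agent.Helper39.SpecA10

variable {F : Type*} [Field F] [Fintype F] [DecidableEq F] {K : Type*} [Field K] [CharP K 2]

theorem pow_lower_ne_zero (t : SL2 F) (m : ℕ) (hord : orderOf t = 2 * m)
    (hc : t 1 0 ≠ 0) {i : ℕ} (hi : i < 2 * m) (hi0 : i ≠ 0) (him : i ≠ m) : (t ^ i) 1 0 ≠ 0 := by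
  intro h
  have h1 := sq_eq_one_of_comm_of_lower_zero t (t ^ i) hc (pow_mul_comm' t i) h
  rw [← pow_mul] at h1
  have hdvd := orderOf_dvd_of_pow_eq_one h1
  rw [hord] at hdvd
  have hm : m ∣ i := by
    have : 2 * m ∣ 2 * i := by rwa [mul_comm i 2] at hdvd
    exact (Nat.mul_dvd_mul_iff_left (by norm_num)).mp this
  obtain ⟨k, rfl⟩ := hm
  have hmpos : 0 < m := by
    rcases Nat.eq_zero_or_pos m with h0 | h0
    · subst h0; simp at hi0
    · exact h0
  have hk : k < 2 := by
    have : m * k < m * 2 := by rw [mul_comm m 2]; exact hi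
    exact Nat.lt_of_mul_lt_mul_left this
  interval_cases k
  · simp at hi0
  · simp at him

theorem pow_half_eq_negOne (h2 : (2 : F) ≠ 0) (t : SL2 F) (m : ℕ) (hm : 0 < m)
    (hord : orderOf t = 2 * m) : t ^ m = sl2NegOne := by
  have h1 : (t ^ m) ^ 2 = 1 := by
    rw [← pow_mul, mul_comm, ← hord, pow_orderOf_eq_one]
  rcases (sl2_sq_eq_one_iff h2 _).mp h1 with h | h
  · exfalso
    have hdvd := orderOf_dvd_of_pow_eq_one h
    rw [hord] at hdvd
    have := Nat.le_of_dvd hm hdvd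
    omega
  · exact h

theorem orderOf_mk_torus (h2 : (2 : F) ≠ 0) (t : SL2 F) (m : ℕ) (hm : 0 < m)
    (hord : orderOf t = 2 * m) : orderOf (QuotientGroup.mk t : PSL2 F) = m := by
  have h1 : orderOf (QuotientGroup.mk t : PSL2 F) = orderOf (t ^ 2) := by
    rw [orderOf_eq_orderOf_iff]
    intro n
    rw [← QuotientGroup.mk_pow, QuotientGroup.eq_one_iff, ← pow_mul, mul_comm, pow_mul]
    constructor
    · exact sq_eq_one_of_mem_center _
    · exact sl2_mem_center_of_sq_eq_one h2 _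
  rw [h1, orderOf_pow, hord, Nat.gcd_eq_right (dvd_mul_right 2 m),
    Nat.mul_div_cancel_left m (by norm_num)]

/-- The value of the norm vector as a sum over the torus. -/
theorem nrm_val_eq (D : WeilData F K) (h2 : (2 : F) ≠ 0) (t : SL2 F) (m : ℕ) (hm : 0 < m)
    (hord : orderOf t = 2 * m) (hc : t 1 0 ≠ 0) (y0 zz : F × F) (h0 : y0 ≠ 0) (h1 : zz ≠ y0)
    (h1' : -zz ≠ y0) :
    (Aff.nrm (QuotientGroup.mk t : PSL2 F) (fz D y0 h0)).val zz =
      ∑ i ∈ ((range (2 * m)).erase 0).erase m, wSL D (t ^ i) (dlt y0) zz := by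
  have htm := pow_half_eq_negOne h2 t m hm hord
  unfold Aff.nrm
  rw [orderOf_mk_torus h2 t m hm hord, WMod.val_sum]
  have hterm : ∀ i ∈ range m, (((QuotientGroup.mk t : PSL2 F) ^ i) • fz D y0 h0).val zz =
      wSL D (t ^ i) (dlt y0) zz + wSL D (t ^ (m + i)) (dlt y0) zz := by
    intro i _
    rw [← QuotientGroup.mk_pow, smul_mk_val, fz_val_eq D h2, wSL_add, Pi.add_apply,
      ← wSL_negOne_dlt, ← htm, ← wSL_mul, ← pow_add, add_comm i m]
  rw [Finset.sum_congr rfl hterm, Finset.sum_add_distrib, ← Finset.sum_range_add, ← two_mul]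
  have hAm : wSL D (t ^ m) (dlt y0) zz = 0 := by
    rw [htm]
    exact wSL_dlt_upper D _ (by simp [sl2NegOne, Matrix.scalar_apply])
      (Or.inr (by simp [sl2NegOne, Matrix.scalar_apply])) y0 zz h1 h1'
  have hA0 : wSL D (t ^ 0) (dlt y0) zz = 0 := by
    rw [pow_zero]
    exact wSL_dlt_upper D _ (by simp) (Or.inl (by simp)) y0 zz h1 h1'
  rw [Finset.sum_erase (f := fun i => wSL D (t ^ i) (dlt y0) zz) _ hAm,
    Finset.sum_erase (f := fun i => wSL D (t ^ i) (dlt y0) zz) _ hA0]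

/-- The phase of a single term. -/
theorem term_eq (D : WeilData F K) (h2 : (2 : F) ≠ 0) (t x : SL2 F) (hcomm : x * t = t * x)
    (hx : x 1 0 ≠ 0) (hc : t 1 0 ≠ 0) (hd : discT t ≠ 0) (y0 zz : F × F)
    (hplus : Qf D.δ (zz + y0) = 1) (hminus : Qf D.δ (zz - y0) = discT t) :
    wSL D x (dlt y0) zz =
      D.ψ ((t 1 1 - t 0 0) * (Qf D.δ y0 - Qf D.δ zz) / 2 / t 1 0) *
        D.ψ ((muT t x + (discT t) ^ 2 / muT t x) / (2 * t 1 0)) := by
  rw [wSL_dlt_lower D x hx, phase_eq h2 t x hcomm hx hc, ← AddChar.map_add_eq_mul]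
  congr 1
  have hμν := muT_mul_nuT h2 t x hcomm hx hc
  have hμ0 : muT t x ≠ 0 := fun h0 => hd (by rw [← hμν, h0, zero_mul])
  have hν : nuT t x = discT t / muT t x := by
    field_simp
    linear_combination hμν
  have hp : Qf D.δ zz + Qf D.δ y0 + Bf D.δ zz y0 = 1 := by rw [← Qf_add]; exact hplus
  have hm : Qf D.δ zz + Qf D.δ y0 - Bf D.δ zz y0 = discT t := by rw [← Qf_sub]; exact hminus
  rw [hp, hm, hν]
  field_simp
  ring

theorem sum_torus_eq (h2 : (2 : F) ≠ 0) (t : SL2 F) (m : ℕ) (hm : 0 < m)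
    (hord : orderOf t = 2 * m) (hcard : Fintype.card F + 1 = 2 * m) (hc : t 1 0 ≠ 0)
    (hd : discT t ≠ 0) (E : F → K) :
    ∑ i ∈ ((range (2 * m)).erase 0).erase m, E (muT t (t ^ i)) =
      ∑ u ∈ univ.filter (fun u : F => u ≠ 0), E u := by
  set J := ((range (2 * m)).erase 0).erase m with hJdef
  have hJ : ∀ i ∈ J, i < 2 * m ∧ (t ^ i) 1 0 ≠ 0 := by
    intro i hi
    simp only [hJdef, Finset.mem_erase, Finset.mem_range] at hi
    exact ⟨hi.2.2, pow_lower_ne_zero t m hord hc hi.2.2 hi.2.1 hi.1⟩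
  have hinj : Set.InjOn (fun i => muT t (t ^ i)) (J : Set ℕ) := by
    intro i hi j hj hij
    have hi' := hJ i hi
    have hj' := hJ j hj
    have := torus_ext h2 t (t ^ i) (t ^ j) (pow_mul_comm' t i) (pow_mul_comm' t j) hi'.2 hj'.2
      hc hd hij
    exact pow_injOn_Iio_orderOf (by rw [Set.mem_Iio, hord]; exact hi'.1)
      (by rw [Set.mem_Iio, hord]; exact hj'.1) this
  have himg : J.image (fun i => muT t (t ^ i)) = univ.filter (fun u : F => u ≠ 0) := by
    apply Finset.eq_of_subset_of_card_le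
    · intro u hu
      obtain ⟨i, hi, rfl⟩ := Finset.mem_image.mp hu
      simp only [Finset.mem_filter, Finset.mem_univ, true_and]
      intro h0
      have := muT_mul_nuT h2 t (t ^ i) (pow_mul_comm' t i) (hJ i hi).2 hc
      rw [h0, zero_mul] at this
      exact hd this.symm
    · rw [Finset.card_image_of_injOn hinj, Finset.filter_ne', Finset.card_erase_of_mem
        (Finset.mem_univ _), Finset.card_univ, hJdef, Finset.card_erase_of_mem,
        Finset.card_erase_of_mem, Finset.card_range]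
      · omega
      · rw [Finset.mem_range]; omega
      · rw [Finset.mem_erase, Finset.mem_range]; omega
  rw [← himg, Finset.sum_image hinj]

/-- An element of order `q + 1`. -/
theorem exists_orderOf_eq_card_add_one (p : ℕ) [Fact p.Prime] [CharP F p] (D : WeilData F K)
    (hker : ∀ t : F, D.ψ t = 1 → t = 0) : ∃ x : WGrp D, orderOf x = Fintype.card F + 1 := by
  classical
  have hodd := D.odd
  have h2 : (2 : F) ≠ 0 := two_ne_zero_of_odd hodd
  obtain ⟨t, ht⟩ := exists_sl2_orderOf (F := F) p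
  have hdns := discT_not_isSquare p h2 t ht
  have hc := lower_ne_zero_of_discT h2 t hdns
  have hd : discT t ≠ 0 := by
    intro h; apply hdns; rw [h]; exact ⟨0, by ring⟩
  obtain ⟨m, hm⟩ : ∃ m, Fintype.card F + 1 = 2 * m := ⟨(Fintype.card F + 1) / 2, by omega⟩
  have hmpos : 0 < m := by omega
  have hord : orderOf t = 2 * m := by rw [ht, hm]
  obtain ⟨a, b, hab⟩ := exists_quadratic_sol hodd 1 0 (-(discT t)) (-D.δ) one_ne_zero
    (neg_ne_zero.mpr (ne_zero_of_not_isSquare D.nsq))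
  have hw1 : Qf D.δ (a, b) = discT t := by simp only [Qf]; linear_combination hab
  set zz : F × F := ((1 + a) / 2, b / 2) with hzz
  set y0 : F × F := ((1 - a) / 2, -b / 2) with hy0
  have hsum : zz + y0 = (1, 0) := by
    rw [hzz, hy0]
    ext
    · simp only [Prod.fst_add]; field_simp; ring
    · simp only [Prod.snd_add]; field_simp; ring
  have hdiff : zz - y0 = (a, b) := by
    rw [hzz, hy0]
    ext
    · simp only [Prod.fst_sub]; field_simp; ring
    · simp only [Prod.snd_sub]; field_simp; ring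
  have hplus : Qf D.δ (zz + y0) = 1 := by rw [hsum]; simp [Qf]
  have hminus : Qf D.δ (zz - y0) = discT t := by rw [hdiff, hw1]
  have h0 : y0 ≠ 0 := by
    intro h
    have : (a, b) = ((1 : F), (0 : F)) := by rw [← hdiff, ← hsum, h]; simp
    apply hdns
    rw [← hw1, this]
    exact ⟨1, by simp [Qf]⟩
  have h1 : zz ≠ y0 := by
    intro h
    have : (a, b) = (0 : F × F) := by rw [← hdiff, h, sub_self]
    apply hd
    rw [← hw1, this, Qf_zero]
  have h1' : -zz ≠ y0 := by
    intro h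
    have h3 : ((1 : F), (0 : F)) = 0 := by rw [← hsum, ← h]; simp
    have := congrArg Prod.fst h3
    simp at this
  set g : PSL2 F := QuotientGroup.mk t with hgdef
  have hg : orderOf g = m := orderOf_mk_torus h2 t m hmpos hord
  refine ⟨⟨fz D y0 h0, g⟩, ?_⟩
  rw [Aff.orderOf_eq _ (by show 0 < orderOf g; rw [hg]; exact hmpos)]
  show orderOf g * addOrderOf (Aff.nrm g (fz D y0 h0)) = _
  have hne : Aff.nrm g (fz D y0 h0) ≠ 0 := by
    intro hz
    have hv := congrArg (fun v : WMod D => v.val zz) hz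
    simp only [WMod.val_zero] at hv
    rw [hgdef, nrm_val_eq D h2 t m hmpos hord hc y0 zz h0 h1 h1'] at hv
    have hterm : ∀ i ∈ ((range (2 * m)).erase 0).erase m, wSL D (t ^ i) (dlt y0) zz =
        D.ψ ((t 1 1 - t 0 0) * (Qf D.δ y0 - Qf D.δ zz) / 2 / t 1 0) *
          D.ψ ((muT t (t ^ i) + (discT t) ^ 2 / muT t (t ^ i)) / (2 * t 1 0)) := by
      intro i hi
      simp only [Finset.mem_erase, Finset.mem_range] at hi
      exact term_eq D h2 t (t ^ i) (pow_mul_comm' t i)
        (pow_lower_ne_zero t m hord hc hi.2.2 hi.2.1 hi.1) hc hd y0 zz hplus hminus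
    rw [Finset.sum_congr rfl hterm, ← Finset.mul_sum,
      sum_torus_eq h2 t m hmpos hord hm hc hd
        (fun u => D.ψ ((u + (discT t) ^ 2 / u) / (2 * t 1 0))),
      sum_kloosterman D.ψ h2 _ _ hd hc] at hv
    rcases mul_eq_zero.mp hv with h | h
    · have h3 := AddChar.map_add_eq_mul D.ψ
        ((t 1 1 - t 0 0) * (Qf D.δ y0 - Qf D.δ zz) / 2 / t 1 0)
        (-((t 1 1 - t 0 0) * (Qf D.δ y0 - Qf D.δ zz) / 2 / t 1 0))
      rw [add_neg_cancel, AddChar.map_zero_eq_one, h, zero_mul] at h3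
      exact one_ne_zero h3
    · exact psi_add_psi_neg_ne_zero D.ψ hker h2 _ (div_ne_zero hd hc) h
  rw [addOrderOf_eq_two D hne, hg, hm, mul_comm]

end Cfsg.Agent.Helper9.Weil
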