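import Cfsg.Agent.Helper9.WeilI

/-!
# Char-2 Weil representation, part J: the group `V ⋊ PSL₂(p)` and its spectrum
(helper9, S3452)
-/

set_option autoImplicit false
set_option linter.unusedSectionVars false

namespace Cfsg.Agent.Helper9.Weil

open Finset Polynomial Cfsg.Agent.Helper41 Cfsg.Agent.Helper39.SpecA10

universe u

theorem exists_orderOf_eq_of_dvd {G : Type*} [Group G] (x : G) (hx : 0 < orderOf x) {n : ℕ}
    (hn : n ∣ orderOf x) : ∃ y : G, orderOf y = n := by
  obtain ⟨k, hk⟩ := hn
  have hk0 : k ≠ 0 := by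
    rintro rfl
    rw [mul_zero] at hk
    omega
  have hn0 : 0 < n := by
    rcases Nat.eq_zero_or_pos n with h | h
    · rw [h, zero_mul] at hk; omega
    · exact h
  refine ⟨x ^ k, ?_⟩
  rw [orderOf_pow_of_dvd hk0 ⟨n, by rw [hk, mul_comm]⟩, hk, Nat.mul_div_cancel _ (Nat.pos_of_ne_zero hk0)]

section

variable {F : Type u} [Field F] [Fintype F] [DecidableEq F] {K : Type} [Field K] [CharP K 2]

instance instFiniteWGrp [Finite K] (D : WeilData F K) : Finite (WGrp D) := by
  haveI : Finite (WMod D) := inferInstanceAs (Finite (evenSub F K))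
  exact Finite.of_injective (fun x : WGrp D => (x.v, x.g)) (by
    intro x y h
    cases x; cases y
    simp only [Prod.mk.injEq] at h
    obtain ⟨h1, h2⟩ := h
    subst h1; subst h2; rfl)

theorem ker_proj_comm (D : WeilData F K) (a b : (Aff.proj : WGrp D →* PSL2 F).ker) :
    a * b = b * a := by
  obtain ⟨a, ha⟩ := a
  obtain ⟨b, hb⟩ := b
  apply Subtype.ext
  have ha' : a.g = 1 := ha
  have hb' : b.g = 1 := hb
  apply Aff.ext'
  · show a.v + a.g • b.v = b.v + b.g • a.v
    rw [ha', hb', one_smul, one_smul, add_comm]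
  · show a.g * b.g = b.g * a.g
    rw [ha', hb']

theorem ker_proj_ne_bot (D : WeilData F K) : (Aff.proj : WGrp D →* PSL2 F).ker ≠ ⊥ := by
  have hz0 : ((1 : F), (0 : F)) ≠ 0 := by
    intro h; have := congrArg Prod.fst h; simp at this
  intro hbot
  have hmem : (⟨fz D (1, 0) hz0, 1⟩ : WGrp D) ∈ (Aff.proj : WGrp D →* PSL2 F).ker := by
    rw [MonoidHom.mem_ker]; rfl
  rw [hbot, Subgroup.mem_bot] at hmem
  have h1 := congrArg (fun x : WGrp D => x.v.val (1, 0)) hmem
  simp only [Aff.one_v, WMod.val_zero, fz_val] at h1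
  simp at h1

/-- The spectrum of `V ⋊ PSL₂(F)`. -/
theorem range_orderOf_wgrp (p : ℕ) [Fact p.Prime] [CharP F p] (D : WeilData F K)
    (hker : ∀ t : F, D.ψ t = 1 → t = 0) :
    Set.range (orderOf : WGrp D → ℕ) =
      {n | n ∣ Fintype.card F - 1 ∨ n ∣ Fintype.card F + 1 ∨ n = p} := by
  have hpp : p.Prime := Fact.out
  have hq1 : 1 < Fintype.card F := Fintype.one_lt_card
  ext n
  simp only [Set.mem_range, Set.mem_ofPred_eq]
  constructor
  · rintro ⟨x, rfl⟩
    exact orderOf_mem p D hker x
  · rintro (h | h | h)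
    · obtain ⟨x, hx⟩ := exists_orderOf_eq_card_sub_one p D
      exact exists_orderOf_eq_of_dvd x (by rw [hx]; omega) (by rw [hx]; exact h)
    · obtain ⟨x, hx⟩ := exists_orderOf_eq_card_add_one p D hker
      exact exists_orderOf_eq_of_dvd x (by rw [hx]; omega) (by rw [hx]; exact h)
    · obtain ⟨x, hx⟩ := exists_orderOf_eq_char p D
      exact ⟨x, by rw [hx, h]⟩

end

/-- For a field with an odd prime number `p` of elements there is a finite group with a
non-trivial abelian normal subgroup and the same spectrum as `PGL₂(p)`. -/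
theorem exists_weil_group {F : Type u} [Field F] [Fintype F] (hp : (Fintype.card F).Prime)
    (hodd : Fintype.card F % 2 = 1) :
    ∃ (G : Type u) (_ : Group G) (_ : Finite G) (N : Subgroup G), N.Normal ∧ N ≠ ⊥ ∧
      Group.IsSolvable N ∧ Set.range (orderOf : G → ℕ) =
        {n | n ∣ Fintype.card F - 1 ∨ n ∣ Fintype.card F + 1 ∨ n = ringChar F} := by
  classical
  -- the characteristic
  have hchar : ringChar F = Fintype.card F := by
    obtain ⟨n, hprime, hcard⟩ := FiniteField.card F (ringChar F)
    exact ((Nat.Prime.pow_eq_iff hp).mp hcard.symm).1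
  haveI : Fact (Fintype.card F).Prime := ⟨hp⟩
  haveI : CharP F (Fintype.card F) := hchar ▸ ringChar.charP F
  have hne2 : ringChar F ≠ 2 := by rw [hchar]; intro h; omega
  -- the character
  have hch : ringChar (ZMod 2) ≠ ringChar F := by
    rw [ZMod.ringChar_zmod_n]; exact hne2.symm
  let χ := AddChar.FiniteField.primitiveChar F (ZMod 2) hch
  let K := CyclotomicField χ.n (ZMod 2)
  haveI : CharP K 2 :=
    charP_of_injective_algebraMap (algebraMap (ZMod 2) (CyclotomicField χ.n (ZMod 2))).injective 2
  haveI : Finite K := by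
    have : FiniteDimensional (ZMod 2) (CyclotomicField χ.n (ZMod 2)) :=
      inferInstanceAs (FiniteDimensional (ZMod 2) (cyclotomic (χ.n : ℕ) (ZMod 2)).SplittingField)
    exact Module.finite_of_finite (ZMod 2)
  obtain ⟨δ, hδ⟩ := FiniteField.exists_nonsquare hne2
  let D : WeilData F K := ⟨χ.char, δ, χ.prim, hδ, hodd⟩
  have hker : ∀ t : F, D.ψ t = 1 → t = 0 := by
    intro t ht
    by_contra ht0
    have hone : χ.char = 1 := by
      ext s
      -- `s = k • t`
      let e := ZMod.ringEquivOfPrime F hp rfl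
      obtain ⟨z, hz⟩ := e.surjective (s / t)
      have hz' : s / t = ((z.val : ℕ) : F) := by
        rw [← hz]
        conv_lhs => rw [← ZMod.natCast_zmod_val z]
        rw [map_natCast]
      have hs : s = z.val • t := by
        rw [nsmul_eq_mul, ← hz']
        field_simp
      rw [hs, AddChar.map_nsmul_eq_pow]
      have : χ.char t = 1 := ht
      rw [this, one_pow]
      rfl
    have hprim := χ.prim
    have := hprim (a := 1) one_ne_zero
    rw [AddChar.mulShift_one] at this
    exact this hone
  refine ⟨WGrp D, inferInstance, inferInstance, (Aff.proj : WGrp D →* PSL2 F).ker,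
    inferInstance, ker_proj_ne_bot D, Group.isSolvable_of_comm (ker_proj_comm D), ?_⟩
  rw [range_orderOf_wgrp (Fintype.card F) D hker, hchar]

end Cfsg.Agent.Helper9.Weil
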