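import Cfsg.Agent.Helper9.SubnormalFamily

namespace Cfsg.Agent.Helper9

open Subgroup Pointwise

universe u
variable {G : Type u} [Group G]

theorem map_subtype_conj_smul' (H : Subgroup G) (h : H) (A : Subgroup H) :
    (MulAut.conj h • A).map H.subtype = MulAut.conj (h : G) • A.map H.subtype := by
  ext x
  constructor
  · rintro ⟨y, ⟨z, hz, rfl⟩, rfl⟩
    refine ⟨(z : G), ⟨z, hz, rfl⟩, ?_⟩
    simp [MulAut.conj_apply]
  · rintro ⟨y, ⟨z, hz, rfl⟩, rfl⟩
    refine ⟨MulAut.conj h z, ⟨z, hz, rfl⟩, ?_⟩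
    simp [MulAut.conj_apply]

theorem conj_smul_le_of_mem {V : Subgroup G} {v : G} (hv : v ∈ V) {B : Subgroup G} (hB : B ≤ V) :
    MulAut.conj v • B ≤ V := by
  have h1 : MulAut.conj v • B ≤ MulAut.conj v • V :=
    Subgroup.pointwise_smul_le_pointwise_smul_iff.mpr hB
  rwa [conj_smul_eq_self_of_mem_normalizer' (Subgroup.le_normalizer hv)] at h1

theorem subgroupOf_conj_smul (V : Subgroup G) (v : V) (B : Subgroup G) (hB : B ≤ V) :
    (MulAut.conj (v : G) • B).subgroupOf V = MulAut.conj v • B.subgroupOf V := by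
  have h1 : MulAut.conj (v : G) • B ≤ V := conj_smul_le_of_mem v.2 hB
  apply Subgroup.map_injective V.subtype_injective
  rw [Subgroup.map_subgroupOf_eq_of_le h1, map_subtype_conj_smul',
    Subgroup.map_subgroupOf_eq_of_le hB]

theorem map_sSup_image_subgroupOf (V : Subgroup G) (T₀ : Set (Subgroup G))
    (hle : ∀ B ∈ T₀, B ≤ V) :
    (sSup ((fun B : Subgroup G => B.subgroupOf V) '' T₀)).map V.subtype = sSup T₀ := by
  apply le_antisymm
  · rw [Subgroup.map_le_iff_le_comap]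
    apply sSup_le
    rintro _ ⟨B, hB, rfl⟩
    exact Subgroup.comap_mono (le_sSup hB)
  · apply sSup_le
    intro B hB
    rw [← Subgroup.map_subgroupOf_eq_of_le (hle B hB)]
    exact Subgroup.map_mono (le_sSup ⟨B, hB, rfl⟩)

/-- A subgroup normalizes the join of a family closed under conjugation by it. -/
theorem le_normalizer_sSup_of_conj_closed [Finite G] (V : Subgroup G) (T : Set (Subgroup G))
    (hconj : ∀ B ∈ T, ∀ v ∈ V, MulAut.conj v • B ∈ T) :
    V ≤ normalizer ((sSup T : Subgroup G) : Set G) := by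
  intro v hv
  apply mem_normalizer_of_conj_smul_eq_self'
  apply Subgroup.eq_of_le_of_card_ge
  · rw [Subgroup.pointwise_smul_subset_iff]
    apply sSup_le
    intro B hB
    rw [← Subgroup.pointwise_smul_subset_iff]
    exact le_sSup (hconj B hB v hv)
  · exact le_of_eq (Nat.card_congr (Subgroup.equivSMul (MulAut.conj v) (sSup T)).toEquiv)

/-- Relative form of the statement about conjugation-closed families of subnormal subgroups. -/
theorem exists_mem_not_mem_le_normalizer_sSup_rel [Finite G] (V : Subgroup G)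
    (T T₀ : Set (Subgroup G)) (hle : ∀ B ∈ T, B ≤ V)
    (hsub : ∀ B ∈ T, (B.subgroupOf V).IsSubnormal)
    (hconj : ∀ B ∈ T, ∀ v ∈ V, MulAut.conj v • B ∈ T) (h₀ : T₀ ⊂ T) :
    ∃ X ∈ T, X ∉ T₀ ∧ X ≤ normalizer ((sSup T₀ : Subgroup G) : Set G) := by
  let φ : Subgroup G → Subgroup V := fun B => B.subgroupOf V
  have hinj : ∀ B ∈ T, ∀ C ∈ T, φ B = φ C → B = C := by
    intro B hB C hC h
    have := congrArg (Subgroup.map V.subtype) h
    rwa [Subgroup.map_subgroupOf_eq_of_le (hle B hB),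
      Subgroup.map_subgroupOf_eq_of_le (hle C hC)] at this
  have hss : φ '' T₀ ⊂ φ '' T := by
    rw [Set.ssubset_iff_subset_ne]
    refine ⟨Set.image_mono h₀.subset, ?_⟩
    intro heq
    obtain ⟨X₀, hX₀, hX₀'⟩ := Set.exists_of_ssubset h₀
    have : φ X₀ ∈ φ '' T₀ := by rw [heq]; exact ⟨X₀, hX₀, rfl⟩
    obtain ⟨B, hB, hBX⟩ := this
    have := hinj B (h₀.subset hB) X₀ hX₀ hBX
    exact hX₀' (this ▸ hB)
  obtain ⟨X', hX'S, hX'0, hX'n⟩ := exists_mem_not_mem_le_normalizer_sSup (φ '' T) (φ '' T₀)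
    (by rintro _ ⟨B, hB, rfl⟩; exact hsub B hB)
    (by
      rintro _ ⟨B, hB, rfl⟩ v
      refine ⟨MulAut.conj (v : G) • B, hconj B hB v v.2, ?_⟩
      exact subgroupOf_conj_smul V v B (hle B hB))
    hss
  obtain ⟨X, hXS, rfl⟩ := hX'S
  refine ⟨X, hXS, fun h => hX'0 ⟨X, h, rfl⟩, ?_⟩
  intro x hx
  have hxV : x ∈ V := hle X hXS hx
  have h1 : (⟨x, hxV⟩ : V) ∈ φ X := hx
  have h2 := conj_smul_eq_self_of_mem_normalizer' (hX'n h1)
  have h3 := congrArg (Subgroup.map V.subtype) h2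
  rw [map_subtype_conj_smul', map_sSup_image_subgroupOf V T₀ (fun B hB => hle B (h₀.subset hB))]
    at h3
  exact mem_normalizer_of_conj_smul_eq_self' h3

end Cfsg.Agent.Helper9

namespace Cfsg.Agent.Helper9

open Subgroup Pointwise

universe u
variable {G : Type u} [Group G]

theorem zipper_unique_maximal [Finite G] (A : Subgroup G) (U : Set (Subgroup G)) (hU : U.Nonempty)
    (S : Subgroup G → Set (Subgroup G))
    (hS : ∀ V B : Subgroup G, B ∈ S V ↔
      (∃ g : G, B = MulAut.conj g • A) ∧ B ≤ V ∧ (B.subgroupOf V).IsSubnormal)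
    (h2 : ∀ V ∈ U, ∀ W ∈ U, ∀ B ∈ S W, B ≤ V → B ∈ S V)
    (h3 : ∀ V ∈ U, ∀ W ∈ U, ∃ X ∈ U,
      Subgroup.normalizer ((sSup (S V ∩ S W) : Subgroup G) : Set G) ≤ X) :
    ∃ M ∈ U, ∀ V ∈ U, V ≤ M := by
  classical
  have hSle : ∀ V B, B ∈ S V → B ≤ V := fun V B h => ((hS V B).mp h).2.1
  have hSsub : ∀ V B, B ∈ S V → (B.subgroupOf V).IsSubnormal := fun V B h => ((hS V B).mp h).2.2
  have hSconj : ∀ V, ∀ B ∈ S V, ∀ v ∈ V, MulAut.conj v • B ∈ S V := by
    intro V B hB v hv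
    rw [hS] at hB ⊢
    obtain ⟨⟨g, rfl⟩, hle, hsub⟩ := hB
    refine ⟨⟨v * g, by rw [map_mul, mul_smul]⟩, conj_smul_le_of_mem hv hle, ?_⟩
    rw [subgroupOf_conj_smul V ⟨v, hv⟩ _ hle]
    exact hsub.smul _
  have hfinS : ∀ V, (S V).Finite := fun V => Set.toFinite _
  -- the key step
  have key : ∀ V W : Subgroup G, Maximal (· ∈ U) V → Maximal (· ∈ U) W → V ≠ W →
      (∀ V' W' : Subgroup G, Maximal (· ∈ U) V' → Maximal (· ∈ U) W' → V' ≠ W' →
        (S V' ∩ S W').ncard ≤ (S V ∩ S W).ncard) →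
      ∀ T : Subgroup G, Maximal (· ∈ U) T →
        normalizer ((sSup (S V ∩ S W) : Subgroup G) : Set G) ≤ T → V = T := by
    intro V W hV hW hVW hmax T hT hNT
    by_contra hVT
    have hcard := hmax V T hV hT hVT
    set T₀ := S V ∩ S W with hT₀
    have hT₀T : ∀ B ∈ T₀, B ∈ S T := by
      intro B hB
      have hBT : B ≤ T := le_trans (le_trans (le_sSup hB) Subgroup.le_normalizer) hNT
      exact h2 T hT.prop V hV.prop B hB.1 hBT
    by_cases heq : T₀ = S V
    · have h4 : V ≤ T := by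
        refine le_trans ?_ hNT
        rw [heq]
        exact le_normalizer_sSup_of_conj_closed V (S V) (hSconj V)
      exact hVT (le_antisymm h4 (hV.le_of_ge hT.prop h4))
    · have hss : T₀ ⊂ S V := by
        rw [Set.ssubset_iff_subset_ne]
        exact ⟨Set.inter_subset_left, heq⟩
      obtain ⟨X, hXV, hX0, hXn⟩ := exists_mem_not_mem_le_normalizer_sSup_rel V (S V) T₀
        (hSle V) (hSsub V) (hSconj V) hss
      have hXT : X ∈ S T := h2 T hT.prop V hV.prop X hXV (le_trans hXn hNT)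
      have hsub : insert X T₀ ⊆ S V ∩ S T := by
        intro B hB
        rcases Set.mem_insert_iff.mp hB with rfl | hB
        · exact ⟨hXV, hXT⟩
        · exact ⟨hB.1, hT₀T B hB⟩
      have h5 : (insert X T₀).ncard ≤ (S V ∩ S T).ncard :=
        Set.ncard_le_ncard hsub (Set.toFinite _)
      rw [Set.ncard_insert_of_notMem hX0 (Set.toFinite _)] at h5
      omega
  obtain ⟨V₀, hV₀⟩ := hU
  obtain ⟨M, -, hM⟩ := Set.Finite.exists_le_maximal (Set.toFinite U) hV₀
  have huniq : ∀ M' : Subgroup G, Maximal (· ∈ U) M' → M' = M := by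
    by_contra hne
    push Not at hne
    obtain ⟨M', hM', hM'M⟩ := hne
    let P : Set (Subgroup G × Subgroup G) :=
      {p | Maximal (· ∈ U) p.1 ∧ Maximal (· ∈ U) p.2 ∧ p.1 ≠ p.2}
    have hPne : P.Nonempty := ⟨(M', M), hM', hM, hM'M⟩
    obtain ⟨⟨V, W⟩, ⟨hV, hW, hVW⟩, hmax⟩ :=
      Set.exists_max_image P (fun p => (S p.1 ∩ S p.2).ncard) (Set.toFinite P) hPne
    have hmax1 : ∀ V' W' : Subgroup G, Maximal (· ∈ U) V' → Maximal (· ∈ U) W' → V' ≠ W' →
        (S V' ∩ S W').ncard ≤ (S V ∩ S W).ncard :=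
      fun V' W' hV' hW' hne => hmax (V', W') ⟨hV', hW', hne⟩
    have hmax2 : ∀ V' W' : Subgroup G, Maximal (· ∈ U) V' → Maximal (· ∈ U) W' → V' ≠ W' →
        (S V' ∩ S W').ncard ≤ (S W ∩ S V).ncard := by
      intro V' W' hV' hW' hne
      rw [Set.inter_comm (S W)]
      exact hmax1 V' W' hV' hW' hne
    obtain ⟨X, hXU, hX⟩ := h3 V hV.prop W hW.prop
    obtain ⟨T, hXT, hT⟩ := Set.Finite.exists_le_maximal (Set.toFinite U) hXU
    have e1 : V = T := key V W hV hW hVW hmax1 T hT (le_trans hX hXT)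
    have e2 : W = T := by
      apply key W V hW hV hVW.symm hmax2 T hT
      rw [Set.inter_comm]
      exact le_trans hX hXT
    exact hVW (e1.trans e2.symm)
  refine ⟨M, hM.prop, fun V hV => ?_⟩
  obtain ⟨T, hVT, hT⟩ := Set.Finite.exists_le_maximal (Set.toFinite U) hV
  rw [← huniq T hT]
  exact hVT

end Cfsg.Agent.Helper9
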